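import Cfsg.Agent.Lib.Block.GroupAlg
import Mathlib.GroupTheory.Nilpotent
import Mathlib.Algebra.CharP.Lemmas
import Mathlib.Algebra.CharP.Algebra

/-!
# The kernel of `kG → k[G/Q]`, `Q` a normal `p`-subgroup, consists of nilpotent elements
-/

open Finset MonoidAlgebra

set_option linter.unusedSectionVars false

namespace CfsgLib.Block

variable {k : Type*} [Field k] {G : Type*} [Group G] [Fintype G] [DecidableEq G]

/-- The ascending series of right fixed points of `Q` on the group algebra. -/
noncomputable def fixSeries (Q : Subgroup G) : ℕ → Submodule k (MonoidAlgebra k G)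
  | 0 => ⊥
  | i + 1 => ⨅ q ∈ Q, (fixSeries Q i).comap
      (LinearMap.mulRight k (single q (1 : k)) - LinearMap.id)

theorem mem_fixSeries_succ {Q : Subgroup G} {i : ℕ} {w : MonoidAlgebra k G} :
    w ∈ fixSeries Q (i + 1) ↔ ∀ q ∈ Q, w * single q 1 - w ∈ fixSeries Q i := by
  simp [fixSeries]

theorem fixSeries_mul_single {Q : Subgroup G} [hQ : Q.Normal] (i : ℕ) :
    ∀ {w : MonoidAlgebra k G}, w ∈ fixSeries Q i → ∀ g : G, w * single g 1 ∈ fixSeries Q i := by
  induction i with
  | zero =>
    intro w hw g
    simp only [fixSeries, Submodule.mem_bot] at hw ⊢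
    rw [hw, zero_mul]
  | succ i ih =>
    intro w hw g
    rw [mem_fixSeries_succ] at hw ⊢
    intro q hq
    have h := ih (hw (g * q * g⁻¹) (hQ.conj_mem q hq g)) g
    rw [sub_mul, mul_assoc, MonoidAlgebra.single_mul_single, inv_mul_cancel_right, mul_one] at h
    rw [mul_assoc, MonoidAlgebra.single_mul_single, mul_one]
    exact h

theorem fixSeries_le_succ {Q : Subgroup G} (i : ℕ) :
    fixSeries (k := k) Q i ≤ fixSeries Q (i + 1) := by
  induction i with
  | zero => exact bot_le
  | succ i ih =>
    intro w hw
    rw [mem_fixSeries_succ] at hw ⊢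
    exact fun q hq => ih (hw q hq)

theorem fixSeries_exists_top {p : ℕ} [Fact p.Prime] [CharP k p] {Q : Subgroup G} [Q.Normal]
    (hQ : IsPGroup p Q) : ∃ n, fixSeries (k := k) Q n = ⊤ := by
  have : Module.Finite k (MonoidAlgebra k G) := inferInstance
  obtain ⟨n, hn⟩ := monotone_stabilizes_iff_noetherian.mpr (inferInstance :
    IsNoetherian k (MonoidAlgebra k G)) ⟨fixSeries Q, monotone_nat_of_le_succ fixSeries_le_succ⟩
  refine ⟨n, ?_⟩
  by_contra htop
  have hstab : fixSeries (k := k) Q (n + 1) = fixSeries Q n := (hn (n + 1) (Nat.le_succ n)).symm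
  set S := fixSeries (k := k) Q n with hS
  let F : Set (Subgroup Q) := {K | ∃ v, v ∉ S ∧ ∀ q ∈ K, v * single (q : G) 1 - v ∈ S}
  have hne : F.Nonempty := by
    obtain ⟨v, hv⟩ : ∃ v, v ∉ S := by
      by_contra h
      push Not at h
      exact htop (eq_top_iff.mpr fun v _ => h v)
    exact ⟨⊥, v, hv, fun q hq => by
      rw [Subgroup.mem_bot.mp hq, OneMemClass.coe_one, ← MonoidAlgebra.one_def, mul_one, sub_self]
      exact S.zero_mem⟩
  obtain ⟨K, hK⟩ := (Set.toFinite F).exists_maximal hne
  obtain ⟨v, hvS, hv⟩ := hK.1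
  by_cases hKtop : K = ⊤
  · apply hvS
    rw [← hstab, mem_fixSeries_succ]
    exact fun q hq => hv ⟨q, hq⟩ (hKtop ▸ Subgroup.mem_top _)
  · haveI : Group.IsNilpotent Q := hQ.isNilpotent
    have hlt := normalizerCondition_of_isNilpotent K (lt_top_iff_ne_top.mpr hKtop)
    obtain ⟨q, hqN, hqK⟩ := SetLike.exists_of_lt hlt
    let T : MonoidAlgebra k G → MonoidAlgebra k G := fun w => w * single (q : G) 1 - w
    -- `T` preserves being fixed by `K` modulo `S`
    have hT : ∀ w : MonoidAlgebra k G, (∀ c ∈ K, w * single (c : G) 1 - w ∈ S) →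
        ∀ c ∈ K, T w * single (c : G) 1 - T w ∈ S := by
      intro w hw c hc
      have hc' : q * c * q⁻¹ ∈ K := (Subgroup.mem_normalizer_iff.mp hqN c).mp hc
      have h1 := fixSeries_mul_single n (hw _ hc') (q : G)
      rw [sub_mul, mul_assoc, MonoidAlgebra.single_mul_single, mul_one, Subgroup.coe_mul,
        Subgroup.coe_mul, InvMemClass.coe_inv, inv_mul_cancel_right] at h1
      have h2 := S.sub_mem h1 (hw c hc)
      convert h2 using 1
      simp only [T, sub_mul, mul_assoc, MonoidAlgebra.single_mul_single, mul_one]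
      abel
    obtain ⟨m, hm⟩ := hQ q
    have hTm : ∀ i, T^[i] v = v * (single (q : G) 1 - 1) ^ i := by
      intro i
      induction i with
      | zero => simp
      | succ i ih =>
        rw [Function.iterate_succ_apply', ih, pow_succ, ← mul_assoc]
        simp only [T, mul_sub, mul_one]
    have hzero : T^[p ^ m] v ∈ S := by
      have : CharP (MonoidAlgebra k G) p := charP_of_injective_algebraMap (algebraMap k _).injective p
      rw [hTm, sub_pow_char_pow_of_commute _ _ (Commute.one_right _), MonoidAlgebra.single_pow,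
        one_pow, one_pow, ← Subgroup.coe_pow, hm, OneMemClass.coe_one, ← MonoidAlgebra.one_def,
        sub_self, mul_zero]
      exact S.zero_mem
    classical
    have hex : ∃ i, T^[i] v ∈ S := ⟨_, hzero⟩
    have hpos : Nat.find hex ≠ 0 := fun h0 => hvS (by simpa [h0] using Nat.find_spec hex)
    let i := Nat.find hex - 1
    have hi : T^[i] v ∉ S := Nat.find_min hex (by omega)
    have hfix : ∀ j, ∀ c ∈ K, T^[j] v * single (c : G) 1 - T^[j] v ∈ S := by
      intro j
      induction j with
      | zero => simpa using hv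
      | succ j ih => rw [Function.iterate_succ_apply']; exact hT _ ih
    let K' : Subgroup Q :=
      { carrier := {c | T^[i] v * single (c : G) 1 - T^[i] v ∈ S}
        one_mem' := by simp [← MonoidAlgebra.one_def]
        mul_mem' := fun {a b} ha hb => by
          have := S.add_mem (fixSeries_mul_single n ha (b : G)) hb
          rw [sub_mul, sub_add_sub_cancel, mul_assoc, MonoidAlgebra.single_mul_single, mul_one] at this
          exact this
        inv_mem' := fun {a} ha => by
          have := S.neg_mem (fixSeries_mul_single n ha (a : G)⁻¹)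
          rw [sub_mul, neg_sub, mul_assoc, MonoidAlgebra.single_mul_single, mul_inv_cancel, mul_one,
            ← MonoidAlgebra.one_def, mul_one] at this
          exact this }
    have hK' : K' ∈ F := ⟨_, hi, fun c hc => hc⟩
    have hle : K ≤ K' := fun c hc => hfix i c hc
    have hqK' : q ∈ K' := by
      show T (T^[i] v) ∈ S
      have e : T (T^[i] v) = T^[Nat.find hex] v := by
        rw [← Function.iterate_succ_apply' (f := T), show i.succ = Nat.find hex by omega]
      rw [e]
      exact Nat.find_spec hex
    exact hqK (hK.2 hK' hle hqK')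

/-- An element with vanishing coset sums is nilpotent. -/
theorem exists_pow_eq_zero_of_cosetSums {p : ℕ} [Fact p.Prime] [CharP k p] {Q : Subgroup G}
    [Q.Normal] [Fintype Q] (hQ : IsPGroup p Q) {x : MonoidAlgebra k G}
    (hx : ∀ g, ∑ q : Q, x.coeff (g * q) = 0) : ∃ n, x ^ n = 0 := by
  classical
  obtain ⟨n, hn⟩ := fixSeries_exists_top (k := k) hQ
  have hxsum : x = ∑ g, x.coeff g • single g (1 : k) := ga_ext fun g => by
    rw [coeff_sum_apply, Finset.sum_eq_single g] <;> simp +contextual
  have hstep : ∀ (i : ℕ) (w : MonoidAlgebra k G), w ∈ fixSeries Q (i + 1) →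
      w * x ∈ fixSeries Q i := by
    intro i w hw
    let r : G → G := fun g => (QuotientGroup.mk g : G ⧸ Q).out
    have hr : ∀ g, ∃ q ∈ Q, g = r g * q := fun g =>
      ⟨(r g)⁻¹ * g, QuotientGroup.eq.mp (QuotientGroup.out_eq' _), by group⟩
    have h0 : ∑ g, x.coeff g • (w * single (r g) (1 : k)) = 0 := by
      rw [← Finset.sum_fiberwise Finset.univ (fun g => (QuotientGroup.mk g : G ⧸ Q))]
      refine Finset.sum_eq_zero fun C _ => ?_
      rw [Finset.sum_congr rfl (g := fun g => x.coeff g • (w * single C.out (1 : k))) (fun g hg => by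
        rw [Finset.mem_filter] at hg
        simp only [r, hg.2]), ← Finset.sum_smul]
      have : ∑ g ∈ Finset.univ.filter (fun g => (QuotientGroup.mk g : G ⧸ Q) = C), x.coeff g =
          ∑ q : Q, x.coeff (C.out * q) := by
        symm
        refine Finset.sum_bij (fun q _ => C.out * (q : G)) (fun q _ => ?_) (fun a _ b _ h =>
          Subtype.ext (mul_left_cancel h)) (fun g hg => ?_) (fun _ _ => rfl)
        · simp [QuotientGroup.mk_mul_of_mem C.out q.2]
        · rw [Finset.mem_filter] at hg
          exact ⟨⟨C.out⁻¹ * g, QuotientGroup.eq.mp (by rw [QuotientGroup.out_eq', hg.2])⟩,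
            Finset.mem_univ _, by simp⟩
      rw [this, hx, zero_smul]
    have heq : w * x = ∑ g, x.coeff g • (w * single g (1 : k)) := by
      conv_lhs => rw [hxsum]
      rw [Finset.mul_sum]
      exact Finset.sum_congr rfl fun g _ => Algebra.mul_smul_comm _ _ _
    rw [heq, ← sub_zero (∑ g, x.coeff g • (w * single g (1 : k))), ← h0, ← Finset.sum_sub_distrib]
    refine Submodule.sum_mem _ fun g _ => ?_
    rw [← smul_sub]
    refine Submodule.smul_mem _ _ ?_
    obtain ⟨q, hq, hgq⟩ := hr g
    have h := mem_fixSeries_succ.mp (fixSeries_mul_single (i + 1) hw (r g)) q hq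
    rwa [mul_assoc, MonoidAlgebra.single_mul_single, mul_one, ← hgq] at h
  have hall : ∀ i, i ≤ n → x ^ i ∈ fixSeries Q (n - i) := by
    intro i
    induction i with
    | zero => intro _; rw [Nat.sub_zero, hn]; exact Submodule.mem_top
    | succ i ih =>
      intro hi
      rw [pow_succ]
      refine hstep _ _ ?_
      rw [show n - (i + 1) + 1 = n - i by omega]
      exact ih (by omega)
  exact ⟨n, by simpa [fixSeries] using hall n le_rfl⟩

end CfsgLib.Block
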