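import Cfsg.Agent.Lib.Block.RegularIndicator
import Cfsg.Agent.Lib.Block.Nilpotent
import Mathlib.GroupTheory.Sylow

/-!
# Defect classes and defect groups

`IsSylowCent` (Sylow subgroup of a centralizer, inside `G`), `exists_defectClass`,
`brauer_blockIdem_eq_zero`, `sylowCent_le_conj_*` (min-max), `defectGroup_card`,
`coeff_ne_zero_le_defect`, `normal_le_defectGroup`.
-/

open Finset MonoidAlgebra
open scoped ComplexConjugate

set_option linter.unusedSectionVars false

namespace CfsgLib.Block

open Cfsg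

universe u

variable {p : ℕ} {M : Ideal AlgInt} [M.IsMaximal] {G : Type u} [Group G]

/-! ### Subgroups up to conjugation -/

/-- `P` is conjugate to a subgroup of `Q`. -/
def ConjLE (P Q : Subgroup G) : Prop := ∃ x : G, P.map (MulAut.conj x).toMonoidHom ≤ Q

theorem conj_mem_map {P : Subgroup G} {x u : G} (hu : u ∈ P) :
    x * u * x⁻¹ ∈ P.map (MulAut.conj x).toMonoidHom := ⟨u, hu, rfl⟩

theorem conjLE_iff {P Q : Subgroup G} : ConjLE P Q ↔ ∃ x : G, ∀ u ∈ P, x * u * x⁻¹ ∈ Q := by
  refine exists_congr fun x => ⟨fun h u hu => h (conj_mem_map hu), ?_⟩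
  rintro h _ ⟨u, hu, rfl⟩
  exact h u hu

theorem ConjLE.trans {P Q R : Subgroup G} (h : ConjLE P Q) (h' : ConjLE Q R) : ConjLE P R := by
  rw [conjLE_iff] at h h' ⊢
  obtain ⟨x, hx⟩ := h
  obtain ⟨y, hy⟩ := h'
  exact ⟨y * x, fun u hu => by simpa [mul_assoc] using hy _ (hx u hu)⟩

theorem conjLE_of_le {P Q : Subgroup G} (h : P ≤ Q) : ConjLE P Q :=
  conjLE_iff.mpr ⟨1, fun u hu => by simpa using h hu⟩

theorem ConjLE.card_le [Finite G] {P Q : Subgroup G} (h : ConjLE P Q) : Nat.card P ≤ Nat.card Q := by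
  obtain ⟨x, hx⟩ := h
  rw [← Subgroup.card_map_of_injective (K := P) (f := (MulAut.conj x).toMonoidHom) (MulAut.conj x).injective]
  exact Nat.card_le_card_of_injective _ (Subgroup.inclusion_injective hx)

theorem ConjLE.exists_eq [Finite G] {P Q : Subgroup G} (h : ConjLE P Q)
    (hc : Nat.card Q ≤ Nat.card P) : ∃ x : G, P.map (MulAut.conj x).toMonoidHom = Q := by
  obtain ⟨x, hx⟩ := h
  exact ⟨x, Subgroup.eq_of_le_of_card_ge hx
    (by rwa [Subgroup.card_map_of_injective (K := P) (f := (MulAut.conj x).toMonoidHom) (MulAut.conj x).injective])⟩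

/-! ### Sylow subgroups of centralizers -/

/-- `D` is a Sylow `p`-subgroup of the centralizer of `g`. -/
structure IsSylowCent (p : ℕ) (g : G) (D : Subgroup G) : Prop where
  commute : ∀ u ∈ D, Commute u g
  card_eq : Nat.card D = p ^ (Nat.card (Subgroup.centralizer ({g} : Set G))).factorization p

theorem IsSylowCent.le {g : G} {D : Subgroup G} (h : IsSylowCent p g D) :
    D ≤ Subgroup.centralizer ({g} : Set G) :=
  fun u hu => Subgroup.mem_centralizer_singleton_iff.mpr (h.commute u hu).eq

theorem IsSylowCent.isPGroup [Fact p.Prime] {g : G} {D : Subgroup G} (h : IsSylowCent p g D) :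
    IsPGroup p D :=
  IsPGroup.of_card h.card_eq

variable [Finite G]

theorem isSylowCent_map [Fact p.Prime] {g : G}
    (P : Sylow p (Subgroup.centralizer ({g} : Set G))) :
    IsSylowCent p g ((P : Subgroup (Subgroup.centralizer ({g} : Set G))).map
      (Subgroup.centralizer ({g} : Set G)).subtype) where
  commute := by
    rintro _ ⟨c, -, rfl⟩
    exact Subgroup.mem_centralizer_singleton_iff.mp c.2
  card_eq := by
    rw [Subgroup.card_map_of_injective (Subgroup.subtype_injective _), P.card_eq_multiplicity]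

theorem IsSylowCent.exists_sylow [Fact p.Prime] {g : G} {D : Subgroup G} (h : IsSylowCent p g D) :
    ∃ P : Sylow p (Subgroup.centralizer ({g} : Set G)),
      D = (P : Subgroup (Subgroup.centralizer ({g} : Set G))).map
        (Subgroup.centralizer ({g} : Set G)).subtype := by
  refine ⟨Sylow.ofCard (D.subgroupOf _) ?_, ?_⟩
  · rw [← Subgroup.card_map_of_injective (Subgroup.subtype_injective _),
      Subgroup.map_subgroupOf_eq_of_le h.le, h.card_eq]
  · rw [Sylow.coe_ofCard, Subgroup.map_subgroupOf_eq_of_le h.le]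

variable (p) in
theorem exists_isSylowCent [Fact p.Prime] (g : G) : ∃ D : Subgroup G, IsSylowCent p g D := by
  obtain ⟨P⟩ : Nonempty (Sylow p (Subgroup.centralizer ({g} : Set G))) := inferInstance
  exact ⟨_, isSylowCent_map P⟩

/-- A `p`-group centralizing `g` is conjugate into a Sylow subgroup of the centralizer. -/
theorem IsSylowCent.conjLE [Fact p.Prime] {g : G} {D P : Subgroup G} (h : IsSylowCent p g D)
    (hP : IsPGroup p P) (hPg : ∀ u ∈ P, Commute u g) : ConjLE P D := by
  obtain ⟨S, rfl⟩ := h.exists_sylow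
  have hle : P ≤ Subgroup.centralizer ({g} : Set G) :=
    fun u hu => Subgroup.mem_centralizer_singleton_iff.mpr (hPg u hu).eq
  obtain ⟨T, hT⟩ := (hP.of_equiv (Subgroup.subgroupOfEquivOfLe hle).symm).exists_le_sylow
  obtain ⟨c, rfl⟩ := MulAction.exists_smul_eq (Subgroup.centralizer ({g} : Set G)) T S
  refine conjLE_iff.mpr ⟨c, fun u hu => ⟨c * ⟨u, hle hu⟩ * c⁻¹, ?_, rfl⟩⟩
  rw [Sylow.coe_subgroup_smul]
  exact ⟨⟨u, hle hu⟩, hT hu, rfl⟩

/-- A `p`-group centralizing a conjugate of `g` is conjugate into a Sylow subgroup of the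
centralizer of `g`. -/
theorem IsSylowCent.conjLE_of_isConj [Fact p.Prime] {g c : G} {D P : Subgroup G}
    (h : IsSylowCent p g D) (hP : IsPGroup p P) (hgc : IsConj g c)
    (hPc : ∀ u ∈ P, Commute u c) : ConjLE P D := by
  obtain ⟨x, rfl⟩ := isConj_iff.mp hgc
  refine ConjLE.trans ⟨x⁻¹, le_refl _⟩ (h.conjLE (hP.map _) ?_)
  rintro _ ⟨u, hu, rfl⟩
  have := (hPc u hu).map (MulAut.conj x⁻¹).toMonoidHom
  simpa [mul_assoc] using this

/-! ### Valuations -/

theorem div_mul_mem_ideal (hM : IsPModular p M) {a b : ℕ} (ha : a ≠ 0) (hb : b ≠ 0)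
    (hab : b.factorization p < a.factorization p) {z : ℂ} (hz : z ∈ locRing M) :
    MemLocalIdeal M ((a : ℂ) / b * z) := by
  obtain ⟨t, ht⟩ : p ^ a.factorization p ∣ a := Nat.ordProj_dvd a p
  generalize hea : a.factorization p = ea at ht hab
  have hnd : ¬ p ∣ ordCompl[p] b := Nat.not_dvd_ordCompl hM.1 hb
  have hb' : (b : ℂ) = (p : ℂ) ^ b.factorization p * (ordCompl[p] b : ℕ) := by
    exact_mod_cast (Nat.ordProj_mul_ordCompl_eq_self b p).symm
  obtain ⟨e, rfl⟩ := Nat.exists_eq_add_of_lt hab
  have hp0 : (p : ℂ) ≠ 0 := Nat.cast_ne_zero.mpr hM.1.ne_zero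
  have hm0 : ((ordCompl[p] b : ℕ) : ℂ) ≠ 0 := Nat.cast_ne_zero.mpr fun h => hnd (h ▸ dvd_zero p)
  have heq : (a : ℂ) / b * z = ((((p : locRing M) * ((p : locRing M) ^ e * (t : locRing M) *
      invNat hM hnd * ⟨z, hz⟩) : locRing M)) : ℂ) := by
    have hmul : (a : ℂ) = (p : ℂ) ^ (b.factorization p + e + 1) * t := by exact_mod_cast ht
    rw [hmul, hb']
    simp only [invNat, Subring.coe_mul, Subring.coe_pow, SubringClass.coe_natCast]
    field_simp
    ring
  rw [heq, memLocalIdeal_coe, map_mul, res_natCast]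
  have := charP_resField hM
  rw [CharP.cast_eq_zero, zero_mul]

variable (p) in
/-- Degree exponent of an irreducible character. -/
noncomputable def degVal (χ : IrrCharacter G) : ℕ := (charDegree (χ : G → ℂ)).factorization p

theorem charDegree_eq (χ : IrrCharacter G) :
    (χ : G → ℂ) 1 = (charDegree (χ : G → ℂ) : ℂ) ∧ charDegree (χ : G → ℂ) ≠ 0 := by
  obtain ⟨d, hd0, hd⟩ := Char.isIrrCharacter_degree χ.2
  have : charDegree (χ : G → ℂ) = d := by simp [charDegree, hd]
  rw [this]
  exact ⟨hd, hd0.ne'⟩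

section

variable [Fintype G] [DecidableEq G]

theorem memLocalRing_iff_mem {z : ℂ} : MemLocalRing M z ↔ z ∈ locRing M := Iff.rfl

theorem centralRes_eq_zero_iff (χ : IrrCharacter G) (g : G) :
    centralRes M χ g = 0 ↔ MemLocalIdeal M (centralChar (χ : G → ℂ) g) :=
  (memLocalIdeal_coe (M := M) ⟨_, centralChar_mem χ g⟩).symm

/-- If the central character is non-zero mod `M`, the degree is divisible by the `p`-part of the
class size. -/
theorem factorization_index_le (hM : IsPModular p M) {χ : IrrCharacter G} {g : G}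
    (h : centralRes M χ g ≠ 0) :
    (Subgroup.centralizer ({g} : Set G)).index.factorization p ≤ degVal p χ := by
  by_contra hlt
  apply h
  rw [centralRes_eq_zero_iff, centralChar, (charDegree_eq χ).1, mul_div_right_comm]
  exact div_mul_mem_ideal hM Subgroup.index_ne_zero_of_finite (charDegree_eq χ).2 (not_le.mp hlt)
    (irr_mem_locRing M χ g)

/-- A character with value prime to `M` at `g` has degree exponent at most that of the class
size. -/
theorem degVal_le_index (hM : IsPModular p M) {χ : IrrCharacter G} {g : G}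
    (h : res M (irrLoc M χ g) ≠ 0) :
    degVal p χ ≤ (Subgroup.centralizer ({g} : Set G)).index.factorization p := by
  by_contra hlt
  apply h
  rw [← memLocalIdeal_coe, coe_irrLoc]
  have h0 : ((Subgroup.centralizer ({g} : Set G)).index : ℂ) ≠ 0 :=
    Nat.cast_ne_zero.mpr Subgroup.index_ne_zero_of_finite
  have h1 : (χ : G → ℂ) 1 ≠ 0 := Char.irr_one_ne_zero χ
  have : (χ : G → ℂ) g = (charDegree (χ : G → ℂ) : ℂ) /
      ((Subgroup.centralizer ({g} : Set G)).index : ℂ) * centralChar (χ : G → ℂ) g := by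
    rw [centralChar, ← (charDegree_eq χ).1]
    field_simp
  rw [this]
  exact div_mul_mem_ideal hM (charDegree_eq χ).2 Subgroup.index_ne_zero_of_finite (not_le.mp hlt)
    (centralChar_mem χ g)

/-! ### Coefficients of block idempotents -/

variable (M) in
/-- The residue of a block idempotent coefficient. -/
noncomputable def coeffRes (S : Set (IrrCharacter G)) (g : G) : ResField M :=
  res M ((blockIdem M S : MonoidAlgebra (locRing M) G).coeff g)

theorem coeffRes_eq_zero_iff (hM : IsPModular p M) {S : Set (IrrCharacter G)}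
    (hS : IsBlockUnion M S) (g : G) : coeffRes M S g = 0 ↔ MemLocalIdeal M (blockCoeff S g) := by
  rw [coeffRes, ← memLocalIdeal_coe, coe_coeff_blockIdem hM hS]

theorem coeffRes_conj (S : Set (IrrCharacter G)) (g h : G) :
    coeffRes M S (h * g * h⁻¹) = coeffRes M S g :=
  congrArg (res M) (mem_center_iff_isClassElt.mp (blockIdem M S).2 g h)

theorem coeffRes_isConj (S : Set (IrrCharacter G)) {g h : G} (e : IsConj g h) :
    coeffRes M S g = coeffRes M S h :=
  congrArg (res M) ((mem_center_iff_isClassElt.mp (blockIdem M S).2).apply_eq_of_isConj e)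

/-- Block idempotents are supported on `p`-regular elements. -/
theorem blockCoeff_eq_zero_of_singular (hM : IsPModular p M) {S : Set (IrrCharacter G)}
    (hS : IsBlockUnion M S) {g : G} (hg : p ∣ orderOf g) : blockCoeff S g = 0 := by
  rw [blockCoeff, blockUnion_orthogonal_regular_singular hM hS (g := 1) (by simp [hM.1.ne_one]) hg,
    mul_zero]

theorem regular_of_coeffRes_ne_zero (hM : IsPModular p M) {S : Set (IrrCharacter G)}
    (hS : IsBlockUnion M S) {g : G} (h : coeffRes M S g ≠ 0) : ¬ p ∣ orderOf g := fun hg => h (by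
  rw [coeffRes_eq_zero_iff hM hS, blockCoeff_eq_zero_of_singular hM hS hg]
  exact ⟨0, 1, M.zero_mem, Ideal.IsPrime.one_notMem inferInstance, by simp⟩)

theorem coeffRes_one_eq (hM : IsPModular p M) {B : Set (IrrCharacter G)} (hB : IsPBlock M B)
    [Fintype (ConjClasses G)] {χ : IrrCharacter G} (hχ : χ ∈ B) :
    ∑ C : ConjClasses G, coeffRes M B (rep C) * centralRes M χ (rep C) = 1 := by
  have h := omegaLoc_blockIdem hM (IsBlockUnion.of_isPBlock hB) χ
  rw [if_pos hχ] at h
  have h' : omegaLoc M χ (blockIdem M B) = ∑ C : ConjClasses G,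
      (blockIdem M B : MonoidAlgebra (locRing M) G).coeff (rep C) *
        ⟨_, centralChar_mem χ (rep C)⟩ := by
    apply Subtype.ext
    rw [coe_omegaLoc, omega_toC_eq χ (mem_center_iff_isClassElt.mp (blockIdem M B).2),
      AddSubmonoidClass.coe_finsetSum]
    rfl
  have := congrArg (res M) (h'.symm.trans h)
  rwa [map_sum, map_one, Finset.sum_congr rfl fun C _ => map_mul (res M) _ _] at this

theorem centralRes_eq_of_mem {B : Set (IrrCharacter G)} (hB : IsPBlock M B) {χ ψ : IrrCharacter G}
    (hχ : χ ∈ B) (hψ : ψ ∈ B) (g : G) : centralRes M χ g = centralRes M ψ g :=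
  sameBlock_iff_centralRes.mp ((isPBlock_sameBlock hB hχ).mp hψ) g

theorem isDefectClass_iff (hM : IsPModular p M) {B : Set (IrrCharacter G)} (hB : IsPBlock M B)
    {g : G} : IsDefectClass M B g ↔
      coeffRes M B g ≠ 0 ∧ ∀ χ ∈ B, centralRes M χ g ≠ 0 := by
  simp only [IsDefectClass, Ne, coeffRes_eq_zero_iff hM (IsBlockUnion.of_isPBlock hB),
    centralRes_eq_zero_iff]
  exact ⟨fun h => h.2, fun h => ⟨blockCoeff_mem hM (IsBlockUnion.of_isPBlock hB) g, h⟩⟩

theorem exists_defectClass (hM : IsPModular p M) {B : Set (IrrCharacter G)} (hB : IsPBlock M B) :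
    ∃ g, IsDefectClass M B g := by
  classical
  have := Fintype.ofFinite (ConjClasses G)
  obtain ⟨χ, hχ⟩ := isPBlock_nonempty hB
  obtain ⟨C, -, hC⟩ := Finset.exists_ne_zero_of_sum_ne_zero
    ((coeffRes_one_eq hM hB hχ).trans_ne one_ne_zero)
  refine ⟨rep C, (isDefectClass_iff hM hB).mpr ⟨left_ne_zero_of_mul hC, fun ψ hψ => ?_⟩⟩
  rw [centralRes_eq_of_mem hB hψ hχ]
  exact right_ne_zero_of_mul hC

/-- If no conjugate of `h` centralizes the `p`-group `P` and `ω_B(h) ≢ 0`, then the Brauer map
at `P` kills the idempotent of `B`. -/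
theorem brauer_blockIdem_eq_zero (hM : IsPModular p M) {B : Set (IrrCharacter G)}
    (hB : IsPBlock M B) {P : Subgroup G} (hP : IsPGroup p P) {χ : IrrCharacter G} (hχ : χ ∈ B)
    {h : G} (hω : centralRes M χ h ≠ 0)
    (hno : ∀ c ∈ Subgroup.centralizer (P : Set G), ¬ IsConj h c)
    {x : G} (hx : x ∈ Subgroup.centralizer (P : Set G)) : coeffRes M B x = 0 := by
  classical
  have hpf : Fact p.Prime := ⟨hM.1⟩
  have := charP_resField hM
  have hS := IsBlockUnion.of_isPBlock hB
  let Ch : Subalgebra.center (locRing M) (MonoidAlgebra (locRing M) G) :=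
    ⟨classSum (locRing M) h, classSum_mem_center h⟩
  obtain ⟨c, hc⟩ := res_surjective (M := M) (centralRes M χ h)
  let e := blockIdem M B
  let z := (Ch - algebraMap (locRing M) _ c) * e
  have hz : ∀ ψ, omegaRes M ψ z = 0 := by
    intro ψ
    rw [map_mul, omegaRes_sub, omegaRes_classSum, omegaRes_algebraMap, hc, omegaRes,
      RingHom.comp_apply, omegaLoc_blockIdem hM hS]
    split_ifs with hψ
    · rw [centralRes_eq_of_mem hB hψ hχ, sub_self, zero_mul]
    · rw [map_zero, mul_zero]
  obtain ⟨N, hN⟩ := toK_pow_eq_zero hM hz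
  set a := toK M (Ch : MonoidAlgebra (locRing M) G) with ha
  set ē := toK M (e : MonoidAlgebra (locRing M) G) with hē
  have hae : Commute a ē := (IsClassElt.map _ (mem_center_iff_isClassElt.mp Ch.2)).commute ē
  have hzK : toK M (z : MonoidAlgebra (locRing M) G) = a * ē - res M c • ē := by
    have : (z : MonoidAlgebra (locRing M) G) =
        (Ch : MonoidAlgebra (locRing M) G) * e - c • (e : MonoidAlgebra (locRing M) G) := by
      simp only [z, MulMemClass.coe_mul, AddSubgroupClass.coe_sub, Subalgebra.coe_algebraMap, sub_mul,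
        Algebra.algebraMap_eq_smul_one, Algebra.smul_mul_assoc, one_mul, SetLike.val_smul, OneMemClass.coe_one]
    rw [this, map_sub, map_mul]
    congr 1
    refine ga_ext fun y => ?_
    simp [hē]
  have he2 : ē * ē = ē := by
    rw [hē, ← map_mul]
    exact congrArg (toK M) (congrArg Subtype.val (blockIdem_mul_self hM hS))
  -- every power of `a * ē` is a multiple of `a`, so `ē` is a multiple of `a`
  have hcomm : Commute (a * ē - res M c • ē) (-(res M c • ē)) :=
    (((hae.mul_left (Commute.refl ē)).sub_left ((Commute.refl ē).smul_left _)).smul_right _).neg_right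
  have hdvd : ∃ w, (IsClassElt w) ∧ ((-res M c) ^ (N + 1)) • ē = a * w := by
    refine ⟨-((∑ i ∈ Finset.range (N + 1), (a * ē - res M c • ē) ^ i *
      (-(res M c • ē)) ^ (N + 1 - 1 - i)) * ē), ?_, ?_⟩
    · rw [← mem_center_iff_isClassElt]
      have hmem : ∀ t, IsClassElt (toK M ((t : Subalgebra.center (locRing M)
          (MonoidAlgebra (locRing M) G)) : MonoidAlgebra (locRing M) G)) := fun t =>
        IsClassElt.map _ (mem_center_iff_isClassElt.mp t.2)
      have hēc : ē ∈ Subalgebra.center (ResField M) (MonoidAlgebra (ResField M) G) :=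
        mem_center_iff_isClassElt.mpr (hmem e)
      have hac : a ∈ Subalgebra.center (ResField M) (MonoidAlgebra (ResField M) G) :=
        mem_center_iff_isClassElt.mpr (hmem Ch)
      exact neg_mem (mul_mem (sum_mem fun i _ => mul_mem (pow_mem (sub_mem (mul_mem hac hēc)
        (Subalgebra.smul_mem _ hēc _)) _) (pow_mem (neg_mem (Subalgebra.smul_mem _ hēc _)) _)) hēc)
    · have h0 : (a * ē - res M c • ē) ^ (N + 1) = 0 := by rw [← hzK, pow_succ, hN, zero_mul]
      have hg := hcomm.geom_sum₂_mul (N + 1)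
      rw [h0, sub_neg_eq_add, sub_add_cancel] at hg
      have hpow : (-(res M c • ē)) ^ (N + 1) = ((-res M c) ^ (N + 1)) • ē := by
        rw [← neg_smul, smul_pow, (IsIdempotentElem.pow_succ_eq N he2 : ē ^ (N + 1) = ē)]
      rw [zero_sub, hpow] at hg
      rw [mul_neg]
      have hsc : Commute (∑ i ∈ Finset.range (N + 1), (a * ē - res M c • ē) ^ i *
          (-(res M c • ē)) ^ (N + 1 - 1 - i)) a :=
        ((IsClassElt.map _ (mem_center_iff_isClassElt.mp Ch.2)).commute _).symm
      rw [← neg_neg (((-res M c) ^ (N + 1)) • ē), ← hg, ← mul_assoc, hsc.eq, mul_assoc]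
  obtain ⟨w, hw, hew⟩ := hdvd
  have haw : (a * w).coeff x = 0 := by
    rw [coeff_mul_brauer (p := p) (a := a) hP
      (fun u _ g => IsClassElt.map _ (mem_center_iff_isClassElt.mp Ch.2) g u)
      (fun u _ g => hw g u) hx]
    refine Finset.sum_eq_zero fun y hy => ?_
    have hy' := (Finset.mem_filter.mp hy).2
    rw [ha, coeff_toK]
    simp only [Ch, classSum, coeff_gaOfFun, if_neg (hno y hy'), map_zero, zero_mul]
  have hne : (-res M c) ^ (N + 1) ≠ 0 := pow_ne_zero _ (neg_ne_zero.mpr (hc ▸ hω))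
  rw [← hew, MonoidAlgebra.coeff_smul, Finsupp.smul_apply, smul_eq_mul, mul_eq_zero, hē,
    coeff_toK] at haw
  exact haw.resolve_left hne

/-- Min-max: a class with non-zero idempotent coefficient has smaller defect than a class with
non-zero central character. -/
theorem sylowCent_conjLE (hM : IsPModular p M) {B : Set (IrrCharacter G)} (hB : IsPBlock M B)
    {g h : G} (hg : coeffRes M B g ≠ 0) {χ : IrrCharacter G} (hχ : χ ∈ B)
    (hω : centralRes M χ h ≠ 0) {D E : Subgroup G} (hD : IsSylowCent p g D)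
    (hE : IsSylowCent p h E) : ConjLE D E := by
  have hpf : Fact p.Prime := ⟨hM.1⟩
  by_contra hno
  refine hg (brauer_blockIdem_eq_zero hM hB hD.isPGroup hχ hω (fun c hc hhc => hno ?_) ?_)
  · exact hE.conjLE_of_isConj hD.isPGroup hhc fun u hu => Subgroup.mem_centralizer_iff.mp hc u hu
  · exact Subgroup.mem_centralizer_iff.mpr fun u hu => (hD.commute u hu).eq

theorem exists_isSylowCent_of_isDefectGroup (hM : IsPModular p M) {B : Set (IrrCharacter G)}
    (hB : IsPBlock M B) {D : Subgroup G} (hD : IsDefectGroup p M B D) :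
    ∃ g, IsSylowCent p g D ∧ coeffRes M B g ≠ 0 ∧ ∀ χ ∈ B, centralRes M χ g ≠ 0 := by
  have hpf : Fact p.Prime := ⟨hM.1⟩
  obtain ⟨g, hg, P, rfl⟩ := hD
  exact ⟨g, isSylowCent_map P, (isDefectClass_iff hM hB).mp hg⟩

theorem isDefectGroup_of_isSylowCent (hM : IsPModular p M) {B : Set (IrrCharacter G)}
    {g : G} (hg : IsDefectClass M B g) {D : Subgroup G} (hD : IsSylowCent p g D) :
    IsDefectGroup p M B D := by
  have hpf : Fact p.Prime := ⟨hM.1⟩
  exact ⟨g, hg, hD.exists_sylow⟩

theorem exists_defectGroup (hM : IsPModular p M) {B : Set (IrrCharacter G)} (hB : IsPBlock M B) :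
    ∃ D, IsDefectGroup p M B D := by
  have hpf : Fact p.Prime := ⟨hM.1⟩
  obtain ⟨g, hg⟩ := exists_defectClass hM hB
  obtain ⟨D, hD⟩ := exists_isSylowCent p g
  exact ⟨D, isDefectGroup_of_isSylowCent hM hg hD⟩

theorem isPGroup_defectGroup (hM : IsPModular p M) {B : Set (IrrCharacter G)} (hB : IsPBlock M B)
    {D : Subgroup G} (hD : IsDefectGroup p M B D) : IsPGroup p D := by
  have hpf : Fact p.Prime := ⟨hM.1⟩
  exact (exists_isSylowCent_of_isDefectGroup hM hB hD).choose_spec.1.isPGroup

theorem defectGroup_conj (hM : IsPModular p M) {B : Set (IrrCharacter G)} (hB : IsPBlock M B)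
    {D D' : Subgroup G} (hD : IsDefectGroup p M B D) (hD' : IsDefectGroup p M B D') :
    ∃ x : G, D.map (MulAut.conj x).toMonoidHom = D' := by
  obtain ⟨g, hg, hgc, hgω⟩ := exists_isSylowCent_of_isDefectGroup hM hB hD
  obtain ⟨g', hg', hgc', hgω'⟩ := exists_isSylowCent_of_isDefectGroup hM hB hD'
  obtain ⟨χ, hχ⟩ := isPBlock_nonempty hB
  exact (sylowCent_conjLE hM hB hgc hχ (hgω' χ hχ) hg hg').exists_eq
    (sylowCent_conjLE hM hB hgc' hχ (hgω χ hχ) hg' hg).card_le

/-- A `p`-subgroup whose centralizer meets the support of the reduced idempotent lies in a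
conjugate of the defect group. -/
theorem coeff_ne_zero_le_defect (hM : IsPModular p M) {B : Set (IrrCharacter G)} (hB : IsPBlock M B)
    {D : Subgroup G} (hD : IsDefectGroup p M B D) {P : Subgroup G} (hP : IsPGroup p P) {x : G}
    (hx : coeffRes M B x ≠ 0) (hPx : ∀ u ∈ P, Commute u x) : ConjLE P D := by
  have hpf : Fact p.Prime := ⟨hM.1⟩
  obtain ⟨g, hg, -, hgω⟩ := exists_isSylowCent_of_isDefectGroup hM hB hD
  obtain ⟨χ, hχ⟩ := isPBlock_nonempty hB
  obtain ⟨E, hE⟩ := exists_isSylowCent p x
  exact (hE.conjLE hP hPx).trans (sylowCent_conjLE hM hB hx hχ (hgω χ hχ) hE hg)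

theorem brauer_blockIdem_ne_zero_iff (hM : IsPModular p M) {B : Set (IrrCharacter G)}
    (hB : IsPBlock M B) {D : Subgroup G} (hD : IsDefectGroup p M B D) {P : Subgroup G}
    (hP : IsPGroup p P) :
    (∃ x ∈ Subgroup.centralizer (P : Set G), coeffRes M B x ≠ 0) ↔ ConjLE P D := by
  refine ⟨fun ⟨x, hx, hxc⟩ => coeff_ne_zero_le_defect hM hB hD hP hxc fun u hu =>
    Subgroup.mem_centralizer_iff.mp hx u hu, fun h => ?_⟩
  obtain ⟨g, hg, hgc, -⟩ := exists_isSylowCent_of_isDefectGroup hM hB hD
  obtain ⟨c, hc⟩ := conjLE_iff.mp h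
  refine ⟨c⁻¹ * g * c, Subgroup.mem_centralizer_iff.mpr fun u hu => ?_, ?_⟩
  · have h1 := ((hg.commute _ (hc u hu)).map (MulAut.conj c⁻¹).toMonoidHom).eq
    simpa [mul_assoc] using h1
  · have := coeffRes_conj (M := M) B g c⁻¹
    rw [inv_inv] at this
    rwa [this]

/-- Some character of `B` takes a value prime to `M` at an element of non-zero idempotent
coefficient. -/
theorem exists_res_irr_ne_zero (hM : IsPModular p M) {B : Set (IrrCharacter G)}
    (hB : IsPBlock M B) {g : G} (hg : coeffRes M B g ≠ 0) :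
    ∃ χ ∈ B, res M (irrLoc M χ g⁻¹) ≠ 0 := by
  classical
  have := Fintype.ofFinite (IrrCharacter G)
  have hS := IsBlockUnion.of_isPBlock hB
  by_contra hall
  push Not at hall
  apply hg
  have hreg : ¬ p ∣ orderOf g⁻¹ := by
    rw [orderOf_inv]; exact regular_of_coeffRes_ne_zero hM hS hg
  obtain ⟨b, hb⟩ := exists_regular_expand hM (f := fun y => blockCoeff B y⁻¹)
    (fun y _ => blockCoeff_mem hM hS _) (fun y z _ hyz => by
      obtain ⟨c, rfl⟩ := isConj_iff.mp hyz
      rw [show (c * y * c⁻¹)⁻¹ = c * y⁻¹ * c⁻¹ by group, blockCoeff_conj])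
  let b' : IrrCharacter G → ℂ := fun χ =>
    if χ ∈ B then (Nat.card G : ℂ)⁻¹ * (χ : G → ℂ) 1 else 0
  have hb' : ∀ y, blockCoeff B y⁻¹ = ∑ χ : IrrCharacter G, b' χ * (χ : G → ℂ) y := by
    intro y
    rw [blockCoeff, finsum_mem_eq_toFinset_sum, Finset.mul_sum]
    simp only [b', ite_mul, zero_mul]
    rw [← Finset.sum_filter]
    refine Finset.sum_congr ?_ fun χ _ => by rw [← Char.irr_inv, inv_inv, mul_assoc]
    ext χ; simp
  have key := sum_block_eq_of_eq_regular hM hS (b := fun χ => (b χ : ℂ)) (b' := b')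
    (fun y hy => (hb y hy).symm.trans (hb' y)) hreg
  have h1 : blockCoeff B g = ∑ χ ∈ Finset.univ.filter (· ∈ B), b' χ * (χ : G → ℂ) g⁻¹ := by
    rw [← inv_inv g, hb', inv_inv]
    refine (Finset.sum_subset (Finset.filter_subset _ _) fun χ _ hχ => ?_).symm
    have : χ ∉ B := by simpa using hχ
    simp [b', this]
  rw [← key] at h1
  have h2 : (blockIdem M B : MonoidAlgebra (locRing M) G).coeff g =
      ∑ χ ∈ Finset.univ.filter (· ∈ B), b χ * irrLoc M χ g⁻¹ := by
    apply Subtype.ext
    rw [coe_coeff_blockIdem hM hS, h1, AddSubmonoidClass.coe_finsetSum]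
    rfl
  rw [coeffRes, h2, map_sum]
  exact Finset.sum_eq_zero fun χ hχ => by
    rw [map_mul, hall χ (Finset.mem_filter.mp hχ).2, mul_zero]

/-- The least degree exponent in a block is the exponent of a defect class size. -/
theorem isLeast_degVal (hM : IsPModular p M) {B : Set (IrrCharacter G)} (hB : IsPBlock M B)
    {g : G} (hg : coeffRes M B g ≠ 0) (hω : ∀ χ ∈ B, centralRes M χ g ≠ 0) :
    IsLeast ((fun χ : IrrCharacter G => (charDegree (χ : G → ℂ)).factorization p) '' B)
      ((Subgroup.centralizer ({g} : Set G)).index.factorization p) := by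
  refine ⟨?_, ?_⟩
  · obtain ⟨χ, hχ, hne⟩ := exists_res_irr_ne_zero hM hB hg
    refine ⟨χ, hχ, le_antisymm ?_ (factorization_index_le hM (hω χ hχ))⟩
    refine (degVal_le_index hM hne).trans (le_of_eq ?_)
    congr 2
    have : Subgroup.centralizer ({g⁻¹} : Set G) = Subgroup.centralizer ({g} : Set G) := by
      ext x
      simp only [Subgroup.mem_centralizer_singleton_iff]
      exact ⟨fun h => by simpa using (Commute.inv_right (h : Commute x g⁻¹)).eq,
        fun h => (Commute.inv_right (h : Commute x g)).eq⟩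
    rw [this]
  · rintro _ ⟨χ, hχ, rfl⟩
    exact factorization_index_le hM (hω χ hχ)

theorem defectGroup_card (hM : IsPModular p M) {B : Set (IrrCharacter G)} (hB : IsPBlock M B)
    {D : Subgroup G} (hD : IsDefectGroup p M B D) : Nat.card D = p ^ blockDefect p B := by
  obtain ⟨g, hg, hgc, hgω⟩ := exists_isSylowCent_of_isDefectGroup hM hB hD
  rw [hg.card_eq, blockDefect, (isLeast_degVal hM hB hgc hgω).csInf_eq]
  congr 1
  conv_rhs => rw [← Subgroup.index_mul_card (Subgroup.centralizer ({g} : Set G)),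
    Nat.factorization_mul Subgroup.index_ne_zero_of_finite Nat.card_pos.ne', Finsupp.add_apply]
  omega

/-- A central character vanishes on classes not centralizing a normal `p`-subgroup. -/
theorem centralRes_eq_zero_of_not_centralize (hM : IsPModular p M) (χ : IrrCharacter G)
    {Q : Subgroup G} [Q.Normal] (hQ : IsPGroup p Q) {g : G}
    (hg : g ∉ Subgroup.centralizer (Q : Set G)) : centralRes M χ g = 0 := by
  classical
  have hpf : Fact p.Prime := ⟨hM.1⟩
  have := charP_resField hM
  let Cg : Subalgebra.center (locRing M) (MonoidAlgebra (locRing M) G) :=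
    ⟨classSum (locRing M) g, classSum_mem_center g⟩
  -- the class sum has vanishing coset sums
  have hx : ∀ x, ∑ q : Q, (toK M (Cg : MonoidAlgebra (locRing M) G)).coeff (x * q) = 0 := by
    intro x
    letI : MulAction Q Q := MulAction.compHom Q (MulAut.conj : Q →* MulAut Q)
    -- `Q` acts on the coset `xQ` by conjugation
    let act : Q → Q → Q := fun u q =>
      ⟨x⁻¹ * ((u : G) * (x * q) * (u : G)⁻¹), by
        have : x⁻¹ * ((u : G) * (x * q) * (u : G)⁻¹) = (x⁻¹ * u * x⁻¹⁻¹) * q * (u : G)⁻¹ := by group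
        rw [this]
        exact Q.mul_mem (Q.mul_mem (Subgroup.Normal.conj_mem inferInstance _ u.2 _) q.2)
          (Q.inv_mem u.2)⟩
    letI hact : MulAction Q Q :=
      { smul := act
        one_smul := fun q => Subtype.ext (by show x⁻¹ * _ = _; simp)
        mul_smul := fun a b q => Subtype.ext (by
          show x⁻¹ * _ = x⁻¹ * (_ * (x * (x⁻¹ * _)) * _)
          rw [mul_inv_cancel_left, Subgroup.coe_mul]
          group) }
    rw [sum_eq_sum_fixedPoints (p := p) (X := Q) hQ]
    · refine Finset.sum_eq_zero fun q hq => ?_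
      have hfix := (Finset.mem_filter.mp hq).2
      have : ¬ IsConj g (x * q) := by
        intro hc
        apply hg
        have hxq : x * (q : G) ∈ Subgroup.centralizer (Q : Set G) := by
          rw [Subgroup.mem_centralizer_iff]
          intro u hu
          have h1 : x⁻¹ * (u * (x * q) * u⁻¹) = q := congrArg Subtype.val (hfix ⟨u, hu⟩)
          rwa [inv_mul_eq_iff_eq_mul, mul_inv_eq_iff_eq_mul] at h1
        obtain ⟨c, hc⟩ := isConj_iff.mp hc
        have := Subgroup.Normal.conj_mem (H := Subgroup.centralizer (Q : Set G)) inferInstance _ hxq c⁻¹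
        rw [← hc] at this
        simpa [mul_assoc] using this
      rw [coeff_toK]
      simp only [Cg, classSum, coeff_gaOfFun, if_neg this, map_zero]
    · intro u q
      rw [coeff_toK, coeff_toK]
      congr 1
      show (classSum (locRing M) g).coeff (x * (x⁻¹ * ((u : G) * (x * q) * (u : G)⁻¹))) = _
      rw [mul_inv_cancel_left]
      exact isClassElt_classSum g _ _
  obtain ⟨n, hn⟩ := exists_pow_eq_zero_of_cosetSums hQ hx
  -- a nilpotent central element has central characters zero
  have hzero : ∀ z : Subalgebra.center (locRing M) (MonoidAlgebra (locRing M) G),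
      toK M (z : MonoidAlgebra (locRing M) G) = 0 → omegaRes M χ z = 0 := by
    intro z hz
    have := Fintype.ofFinite (ConjClasses G)
    rw [omegaRes, RingHom.comp_apply, show omegaLoc M χ z = ∑ C : ConjClasses G,
        (z : MonoidAlgebra (locRing M) G).coeff (rep C) * ⟨_, centralChar_mem χ (rep C)⟩ from
      Subtype.ext (by
        rw [coe_omegaLoc, omega_toC_eq χ (mem_center_iff_isClassElt.mp z.2),
          AddSubmonoidClass.coe_finsetSum]
        rfl), map_sum]
    refine Finset.sum_eq_zero fun C _ => ?_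
    rw [map_mul, ← coeff_toK, hz]
    simp
  have h := hzero (Cg ^ n) (by rw [SubmonoidClass.coe_pow, map_pow, hn])
  rw [map_pow] at h
  rw [← omegaRes_classSum]
  exact eq_zero_of_pow_eq_zero h

/-- A normal `p`-subgroup lies in every defect group. -/
theorem normal_le_defectGroup (hM : IsPModular p M) {B : Set (IrrCharacter G)} (hB : IsPBlock M B)
    {D : Subgroup G} (hD : IsDefectGroup p M B D) {Q : Subgroup G} [Q.Normal] (hQ : IsPGroup p Q) :
    Q ≤ D := by
  have hpf : Fact p.Prime := ⟨hM.1⟩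
  obtain ⟨g, hg, -, hgω⟩ := exists_isSylowCent_of_isDefectGroup hM hB hD
  obtain ⟨χ, hχ⟩ := isPBlock_nonempty hB
  have hgC : g ∈ Subgroup.centralizer (Q : Set G) := by
    by_contra h
    exact hgω χ hχ (centralRes_eq_zero_of_not_centralize hM χ hQ h)
  obtain ⟨x, hx⟩ := conjLE_iff.mp (hg.conjLE hQ fun u hu => Subgroup.mem_centralizer_iff.mp hgC u hu)
  intro u hu
  have := hx _ (Subgroup.Normal.conj_mem inferInstance u hu x⁻¹)
  simpa [mul_assoc] using this

end

end CfsgLib.Block
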