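import Cfsg.Agent.Lib.Block.Defect

/-!
# Sections: vanishing off the defect group, non-vanishing of height zero characters
-/

open Finset MonoidAlgebra
open scoped ComplexConjugate

set_option linter.unusedSectionVars false

namespace CfsgLib.Block

open Cfsg

universe u

variable {p : ℕ} {G : Type u} [Group G] [Fintype G] [DecidableEq G]

/-! ### Supports -/

/-- The support lies in a subgroup. -/
def SuppIn {R : Type*} [CommRing R] (H : Subgroup G) (z : MonoidAlgebra R G) : Prop :=
  ∀ g, g ∉ H → z.coeff g = 0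

theorem SuppIn.mul {R : Type*} [CommRing R] {H : Subgroup G} {a b : MonoidAlgebra R G}
    (ha : SuppIn H a) (hb : SuppIn H b) : SuppIn H (a * b) := fun g hg => by
  rw [coeff_mul_sum]
  refine Finset.sum_eq_zero fun h _ => ?_
  by_cases hh : h ∈ H
  · rw [hb _ (fun h' => hg (by simpa using H.mul_mem hh h')), mul_zero]
  · rw [ha h hh, zero_mul]

theorem suppIn_single {R : Type*} [CommRing R] {H : Subgroup G} {g : G} (hg : g ∈ H) (r : R) :
    SuppIn H (single g r) := fun x hx => by
  rw [MonoidAlgebra.coeff_single, Finsupp.single_eq_of_ne]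
  intro e
  exact hx (by rw [e]; exact hg)

theorem SuppIn.smul {R : Type*} [CommRing R] {H : Subgroup G} {a : MonoidAlgebra R G}
    (ha : SuppIn H a) (r : R) : SuppIn H (r • a) := fun g hg => by
  simp [ha g hg]

theorem SuppIn.avgPow {R : Type*} [CommRing R] {H : Subgroup G} {w : MonoidAlgebra R G}
    (hw : SuppIn H w) (r : R) (m : ℕ) : SuppIn H (avgPow r m w) := by
  refine SuppIn.smul (fun g hg => ?_) r
  rw [coeff_sum_apply]
  refine Finset.sum_eq_zero fun j _ => ?_
  suffices h : ∀ n, SuppIn H (w ^ n) from h j g hg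
  intro n
  induction n with
  | zero => rw [pow_zero, MonoidAlgebra.one_def]; exact suppIn_single H.one_mem 1
  | succ n ih => rw [pow_succ]; exact ih.mul hw

variable {M : Ideal AlgInt} [M.IsMaximal]

/-- The orthogonality relation at conjugate `p`-parts, when the reduced idempotent vanishes on
the centralizer of the `p`-part. -/
theorem blockUnion_orthogonal_of_brauer_zero (hM : IsPModular p M) {S : Set (IrrCharacter G)}
    (hS : IsBlockUnion M S) {g h x : G} (hx : IsPPart p g x) (hx' : IsPPart p h x)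
    (hbr : ∀ z, Commute z x → coeffRes M S z = 0) :
    ∑ᶠ χ ∈ S, (χ : G → ℂ) g * (χ : G → ℂ) h⁻¹ = 0 := by
  classical
  have hpf : Fact p.Prime := ⟨hM.1⟩
  have := charP_resField hM
  have := charZero_locRing M
  obtain ⟨y, hgy, hxy, ⟨k, hk⟩, hy⟩ := hx
  obtain ⟨y', hhy, hxy', -, hy'⟩ := hx'
  let m := orderOf y * orderOf y'
  have hm : ¬ p ∣ m := fun h => (hM.1.dvd_mul.mp h).elim hy hy'
  have hm0 : m ≠ 0 := (Nat.mul_pos (orderOf_pos y) (orderOf_pos y')).ne'
  obtain ⟨ζ, hζ⟩ := exists_primitiveRoot_locRing M m hm0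
  obtain ⟨η, hη⟩ := exists_primitiveRoot_locRing M (p ^ k) (pow_ne_zero _ hM.1.ne_zero)
  set e : MonoidAlgebra (locRing M) G :=
    (blockIdem M S : MonoidAlgebra (locRing M) G) with he
  set r := invNat hM hm with hr
  have hr1 : r * (m : locRing M) = 1 := invNat_mul hM hm
  let w : G → ℕ → MonoidAlgebra (locRing M) G := fun z i => ζ ^ i • single z 1
  have hwpow : ∀ {z : G}, z ^ m = 1 → ∀ i, w z i ^ m = 1 := fun hz i => by
    simp only [w, smul_pow, ← pow_mul, MonoidAlgebra.single_pow, one_pow, hz]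
    rw [mul_comm, pow_mul, hζ.pow_eq_one, one_pow, one_smul, MonoidAlgebra.one_def]
  have hym : y ^ m = 1 := orderOf_dvd_iff_pow_eq_one.mp (dvd_mul_right _ _)
  have hym' : y'⁻¹ ^ m = 1 := by
    rw [inv_pow, orderOf_dvd_iff_pow_eq_one.mp (dvd_mul_left (orderOf y') (orderOf y)), inv_one]
  have hsingle : ∀ {z : G}, z ^ m = 1 → single z (1 : locRing M) =
      ∑ i ∈ Finset.range m, ζ ^ ((m - 1) * i) • avgPow r m (w z i) := fun {z} hz =>
    (sum_smul_avgPow hr1 hζ (w := single z (1 : locRing M)) (by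
      simp [MonoidAlgebra.single_pow, hz, MonoidAlgebra.one_def])).symm
  have hec : ∀ b, Commute e b := fun b =>
    (mem_center_iff_isClassElt.mp (blockIdem M S).2).commute b
  have he2 : e * e = e := congrArg Subtype.val (blockIdem_mul_self hM hS)
  have hcomm : ∀ {z t : G}, Commute z t → ∀ i, Commute (single z (1 : locRing M)) (w t i) :=
    fun hzt i => Commute.smul_right (by
      rw [commute_iff_eq, MonoidAlgebra.single_mul_single, MonoidAlgebra.single_mul_single,
        hzt.eq]) _
  have hpk : x ^ p ^ k = 1 := by rw [← hk, pow_orderOf_eq_one]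
  let C : Subgroup G := Subgroup.centralizer ({x} : Set G)
  have hC : ∀ {z : G}, z ∈ C ↔ Commute z x := Subgroup.mem_centralizer_singleton_iff
  have hsupp : ∀ {z : G}, Commute z x → ∀ i, SuppIn C (avgPow r m (w z i)) := fun hz i =>
    ((suppIn_single (hC.mpr hz) _).smul _).avgPow r m
  have hzero : ∀ i j, biTrace (e * avgPow r m (w y i) * single x 1)
      (single x⁻¹ 1 * avgPow r m (w y'⁻¹ j)) = 0 := by
    intro i j
    refine biTrace_eq_zero p (res M) hη ?_ (avgPow_mul_self hr1 (hwpow hym' j)) hpk hpk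
      ((hec _).symm.mul_right (Commute.avgPow (hcomm hxy i)))
      (Commute.avgPow (hcomm (hxy'.inv_right) j)) ?_
    · rw [mul_assoc, ← mul_assoc (avgPow r m (w y i)) e, ← (hec _).eq, ← mul_assoc, ← mul_assoc, he2,
        mul_assoc, avgPow_mul_self hr1 (hwpow hym i)]
    intro y0 v hy0 hv
    have hz : SuppIn C (avgPow r m (w y i) * single v 1 * avgPow r m (w y'⁻¹ j)) :=
      ((hsupp hxy.symm i).mul (suppIn_single (hC.mpr (hv.symm : v * x = x * v)) 1)).mul
        (hsupp hxy'.symm.inv_left j)
    rw [mul_assoc e, mul_assoc e, coeff_mul_sum, map_sum]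
    refine Finset.sum_eq_zero fun t _ => ?_
    by_cases ht : t ∈ C
    · rw [map_mul, show res M (e.coeff t) = 0 from hbr t (hC.mp ht), zero_mul]
    · rw [hz _ fun h' => ht (by
        have := C.mul_mem (hC.mpr (hy0.symm : y0 * x = x * y0)) (C.inv_mem h')
        simpa using this), mul_zero, map_zero]
  have hg : e * single g (1 : locRing M) =
      ∑ i ∈ Finset.range m, ζ ^ ((m - 1) * i) • (e * avgPow r m (w y i) * single x 1) := by
    rw [← hgy, hxy.eq, show single (y * x) (1 : locRing M) = single y 1 * single x 1 by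
      simp [MonoidAlgebra.single_mul_single], hsingle hym, Finset.sum_mul, Finset.mul_sum]
    refine Finset.sum_congr rfl fun i _ => ?_
    rw [Algebra.smul_mul_assoc, Algebra.mul_smul_comm, mul_assoc]
  have hh : single h⁻¹ (1 : locRing M) =
      ∑ j ∈ Finset.range m, ζ ^ ((m - 1) * j) • (single x⁻¹ 1 * avgPow r m (w y'⁻¹ j)) := by
    rw [← hhy, hxy'.eq, mul_inv_rev, show single (x⁻¹ * y'⁻¹) (1 : locRing M) =
      single x⁻¹ 1 * single y'⁻¹ 1 by simp [MonoidAlgebra.single_mul_single], hsingle hym',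
      Finset.mul_sum]
    exact Finset.sum_congr rfl fun j _ => Algebra.mul_smul_comm _ _ _
  rw [← coe_biTrace_blockIdem hM hS, ← he, hg, hh, biTrace_sum_left]
  simp only [biTrace_sum_right, hzero, mul_zero, Finset.sum_const_zero]
  rfl

/-- All members vanish on a section on whose centralizer the reduced idempotent is zero. -/
theorem irr_eq_zero_of_brauer_zero (hM : IsPModular p M) {S : Set (IrrCharacter G)}
    (hS : IsBlockUnion M S) {g x : G} (hx : IsPPart p g x)
    (hbr : ∀ z, Commute z x → coeffRes M S z = 0) {χ : IrrCharacter G} (hχ : χ ∈ S) :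
    (χ : G → ℂ) g = 0 := by
  classical
  have := Fintype.ofFinite (IrrCharacter G)
  have h := blockUnion_orthogonal_of_brauer_zero hM hS hx hx hbr
  simp only [Char.irr_inv, Complex.mul_conj, finsum_mem_eq_toFinset_sum, ← Complex.ofReal_sum,
    Complex.ofReal_eq_zero] at h
  rw [Finset.sum_eq_zero_iff_of_nonneg fun i _ => Complex.normSq_nonneg _] at h
  exact Complex.normSq_eq_zero.mp (h χ (Set.mem_toFinset.mpr hχ))

theorem isDefectGroup_conj (hM : IsPModular p M) {B : Set (IrrCharacter G)} (hB : IsPBlock M B)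
    {D : Subgroup G} (hD : IsDefectGroup p M B D) (c : G) :
    IsDefectGroup p M B (D.map (MulAut.conj c).toMonoidHom) := by
  have hpf : Fact p.Prime := ⟨hM.1⟩
  obtain ⟨g, hg, hgc, hgω⟩ := exists_isSylowCent_of_isDefectGroup hM hB hD
  have hconj : IsConj g (c * g * c⁻¹) := isConj_iff.mpr ⟨c, rfl⟩
  have hidx : (Subgroup.centralizer ({c * g * c⁻¹} : Set G)).index =
      (Subgroup.centralizer ({g} : Set G)).index := by
    rw [← Char.card_isConj, ← Char.card_isConj]
    exact Nat.card_congr (Equiv.subtypeEquivRight fun x =>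
      ⟨fun h => hconj.trans h, fun h => hconj.symm.trans h⟩)
  refine isDefectGroup_of_isSylowCent hM ((isDefectClass_iff hM hB).mpr ⟨?_, fun χ hχ => ?_⟩)
    (g := c * g * c⁻¹) ⟨?_, ?_⟩
  · rwa [coeffRes_conj]
  · have : centralRes M χ (c * g * c⁻¹) = centralRes M χ g := by
      refine congrArg (res M) (Subtype.ext ?_)
      show centralChar _ _ = centralChar _ _
      rw [centralChar, centralChar, hidx, Char.isClassFunction_irr χ g c]
    rw [this]
    exact hgω χ hχ
  · rintro _ ⟨u, hu, rfl⟩
    exact (hg.commute u hu).map (MulAut.conj c).toMonoidHom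
  · rw [Subgroup.card_map_of_injective (f := (MulAut.conj c).toMonoidHom) (MulAut.conj c).injective,
      hg.card_eq]
    congr 1
    have h1 := Subgroup.index_mul_card (Subgroup.centralizer ({c * g * c⁻¹} : Set G))
    rw [hidx, ← Subgroup.index_mul_card (Subgroup.centralizer ({g} : Set G))] at h1
    rw [Nat.eq_of_mul_eq_mul_left (Nat.pos_of_ne_zero Subgroup.index_ne_zero_of_finite) h1]

/-- Characters vanish at elements whose `p`-part is not conjugate into the defect group. -/
theorem irr_eq_zero_of_not_mem_defect (hM : IsPModular p M) {B : Set (IrrCharacter G)}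
    (hB : IsPBlock M B) {D : Subgroup G} (hD : IsDefectGroup p M B D) {g x : G}
    (hx : IsPPart p g x) (hno : ∀ c : G, c * x * c⁻¹ ∉ D) {χ : IrrCharacter G} (hχ : χ ∈ B) :
    (χ : G → ℂ) g = 0 := by
  have hpf : Fact p.Prime := ⟨hM.1⟩
  refine irr_eq_zero_of_brauer_zero hM (.of_isPBlock hB) hx (fun z hz => ?_) hχ
  by_contra hne
  obtain ⟨y, -, -, ⟨k, hk⟩, -⟩ := hx
  have hP : IsPGroup p (Subgroup.zpowers x) := IsPGroup.of_card (by rw [Nat.card_zpowers]; exact hk)
  obtain ⟨c, hc⟩ := conjLE_iff.mp (coeff_ne_zero_le_defect hM hB hD hP hne fun u hu => by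
    obtain ⟨i, rfl⟩ := Subgroup.mem_zpowers_iff.mp hu
    exact hz.symm.zpow_left i)
  exact hno c (hc x (Subgroup.mem_zpowers x))

/-- A character of height zero has value prime to `M` at every element whose `p'`-part is a
defect class representative. -/
theorem res_irr_ne_zero_of_height_zero (hM : IsPModular p M) {B : Set (IrrCharacter G)}
    (hB : IsPBlock M B) {g : G} (hgc : coeffRes M B g ≠ 0) (hgω : ∀ ψ ∈ B, centralRes M ψ g ≠ 0)
    {χ : IrrCharacter G} (hχ : χ ∈ B) (h0 : blockHeight p B (χ : G → ℂ) = 0)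
    {u : G} (hu : Commute u g) {k : ℕ} (huk : u ^ p ^ k = 1) :
    res M (irrLoc M χ (u * g)) ≠ 0 := by
  rw [res_irr_regularPart hM χ hu huk]
  intro h
  apply hgω χ hχ
  have hmin := isLeast_degVal hM hB hgc hgω
  have hle : degVal p χ ≤ (Subgroup.centralizer ({g} : Set G)).index.factorization p := by
    rw [blockHeight, hmin.csInf_eq] at h0
    simp only [degVal]
    omega
  obtain ⟨hd, hd0⟩ := charDegree_eq χ
  set i := (Subgroup.centralizer ({g} : Set G)).index with hi
  set d := charDegree (χ : G → ℂ) with hdd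
  have hloc : (i : ℂ) / (d : ℂ) ∈ locRing M := by
    have e1 : (d : ℂ) = (p : ℂ) ^ d.factorization p * (ordCompl[p] d : ℕ) := by
      exact_mod_cast (Nat.ordProj_mul_ordCompl_eq_self d p).symm
    have e2 : (i : ℂ) = (p : ℂ) ^ i.factorization p * (ordCompl[p] i : ℕ) := by
      exact_mod_cast (Nat.ordProj_mul_ordCompl_eq_self i p).symm
    have hp0 : (p : ℂ) ≠ 0 := Nat.cast_ne_zero.mpr hM.1.ne_zero
    obtain ⟨e, he⟩ := Nat.exists_eq_add_of_le hle
    rw [degVal, ← hdd] at he
    have hnd := Nat.not_dvd_ordCompl hM.1 hd0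
    generalize ordCompl[p] d = d' at e1 hnd
    generalize ordCompl[p] i = i' at e2
    rw [e1, e2, he, pow_add, mul_assoc, mul_div_mul_left _ _ (pow_ne_zero _ hp0), div_eq_mul_inv]
    exact Subring.mul_mem _ (Subring.mul_mem _ (Subring.pow_mem _ (natCast_mem _ _) _)
      (natCast_mem _ _)) (inv_natCast_mem hM hnd)
  rw [centralRes, show (⟨_, centralChar_mem χ g⟩ : locRing M) = ⟨_, hloc⟩ * irrLoc M χ g from
    Subtype.ext (by
      show centralChar (χ : G → ℂ) g = (i : ℂ) / (d : ℂ) * (χ : G → ℂ) g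
      rw [centralChar, ← hi, ← hd, mul_div_right_comm]), map_mul, h, mul_zero]

end CfsgLib.Block
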