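import Cfsg.Agent.Lib.Block.MaxPairs
import Cfsg.Agent.Lib.Block.Sections

/-!
# Blocks of local subgroups attached to a pair, and their defect groups

For a pair `(Q, f)` and a subgroup `T` between `C(Q)` and its stabilizer: the block of `T` with the
idempotent of `f`, its defect groups in terms of the pairs above `(Q, f)`, and conjugacy of such
pairs.
-/

open Finset MonoidAlgebra
open scoped ComplexConjugate

set_option linter.unusedSectionVars false

namespace CfsgLib.Block

open Cfsg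

universe u

open scoped Pair

variable {p : ℕ} {M : Ideal AlgInt} [M.IsMaximal] {G : Type u} [Group G] [Fintype G] [DecidableEq G]
  {Q R P : Subgroup G}

theorem subgroupBlockCoeff_coe {H : Subgroup G} (e : Set (IrrCharacter H)) (h : H) :
    subgroupBlockCoeff H e (h : G) = blockCoeff e h := by
  classical
  rw [subgroupBlockCoeff, dif_pos h.2]

theorem subgroupBlockCoeff_of_notMem {H : Subgroup G} (e : Set (IrrCharacter H)) {g : G}
    (hg : g ∉ H) : subgroupBlockCoeff H e g = 0 := by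
  classical
  rw [subgroupBlockCoeff, dif_neg hg]

theorem subgroupBlockCoeff_mem (hM : IsPModular p M) {H : Subgroup G}
    {e : Set (IrrCharacter H)} (he : IsPBlock M e) (g : G) :
    subgroupBlockCoeff H e g ∈ locRing M := by
  classical
  by_cases hg : g ∈ H
  · rw [show g = ((⟨g, hg⟩ : H) : G) from rfl, subgroupBlockCoeff_coe]
    exact blockCoeff_mem hM (.of_isPBlock he) _
  · rw [subgroupBlockCoeff_of_notMem e hg]
    exact Subring.zero_mem _

theorem gaOfFun_blockCoeff_mul_self {A : Type u} [Group A] [Fintype A] [DecidableEq A]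
    (S : Set (IrrCharacter A)) :
    gaOfFun (blockCoeff S) * gaOfFun (blockCoeff S) = gaOfFun (blockCoeff S) := by
  classical
  have hc : IsClassElt (gaOfFun (blockCoeff S)) := fun g h => by
    simp only [coeff_gaOfFun, blockCoeff_conj]
  have hcm : IsClassElt (gaOfFun (blockCoeff S) * gaOfFun (blockCoeff S)) :=
    mem_center_iff_isClassElt.mp (Subalgebra.mul_mem _ (mem_center_iff_isClassElt.mpr hc)
      (mem_center_iff_isClassElt.mpr hc))
  refine classElt_ext hcm hc fun χ => ?_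
  rw [omega_mul χ.2 hc hc, omega_gaOfFun_blockCoeff]
  split_ifs <;> simp

/-- Conjugation invariance of a sum of two subgroups. -/
theorem cinv_sup {S : Type*} [CommRing S] {A A' : Subgroup G} {y : MonoidAlgebra S G}
    (h : CInv A y) (h' : CInv A' y) : CInv (A ⊔ A') y := by
  let St : Subgroup G :=
    { carrier := {u | cj u y = y}
      one_mem' := cj_one y
      mul_mem' := fun {a b} ha hb => by
        have ha' : cj a y = y := ha
        have hb' : cj b y = y := hb
        show cj (a * b) y = y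
        rw [← cj_cj, hb', ha']
      inv_mem' := fun {a} ha => by
        have ha' : cj a y = y := ha
        show cj a⁻¹ y = y
        conv_lhs => rw [← ha', cj_cj, inv_mul_cancel, cj_one] }
  have hle : A ⊔ A' ≤ St := sup_le (fun u hu => cinv_iff_cj.mp h u hu)
    (fun u hu => cinv_iff_cj.mp h' u hu)
  exact cinv_iff_cj.mpr fun u hu => hle hu

/-! ### The local block -/

variable (M) in
/-- A block of a subgroup between `C(Q)` and `N(Q)` with the idempotent of `f`. -/
structure IsLocalBlock (Q : Subgroup G) (f : Set (IrrCharacter (CQ Q))) (T : Subgroup G)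
    (F : Set (IrrCharacter T)) : Prop where
  le : CQ Q ≤ T
  norm : T ≤ Subgroup.normalizer (Q : Set G)
  block : IsPBlock M F
  eq : eG M F = eG M f

theorem isLocalBlock_self {f : Set (IrrCharacter (CQ Q))} (hf : IsPBlock M f) :
    IsLocalBlock M Q f (CQ Q) f :=
  ⟨le_rfl, centralizer_le_normalizer' Q, hf, rfl⟩

theorem eG_eq_of_blockCoeff (hM : IsPModular p M) {T : Subgroup G}
    {F : Set (IrrCharacter T)} (hF : IsBlockUnion M F) (hCT : CQ Q ≤ T)
    {f : Set (IrrCharacter (CQ Q))} (hf : IsPBlock M f)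
    (h : ∀ t : T, blockCoeff F t = subgroupBlockCoeff (CQ Q) f (t : G)) : eG M F = eG M f := by
  have hres : ∀ {A : Subgroup G} {E : Set (IrrCharacter A)}, IsBlockUnion M E → ∀ a : A,
      coeffRes M E a = res M (toLocOrZero M (blockCoeff E a)) := fun hE a => by
    rw [coeffRes]
    congr 1
  refine ga_ext fun g => ?_
  by_cases hg : g ∈ CQ Q
  · refine (coeff_eG F ⟨g, hCT hg⟩).trans ((Eq.trans ?_ (coeff_eG f ⟨g, hg⟩).symm))
    rw [hres hF, hres (.of_isPBlock hf), h]
    exact congrArg (fun z => res M (toLocOrZero M z)) (subgroupBlockCoeff_coe f ⟨g, hg⟩)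
  · rw [suppIn_eG f g hg]
    by_cases hgT : g ∈ T
    · refine (coeff_eG F ⟨g, hgT⟩).trans ?_
      rw [coeffRes_eq_zero_iff hM hF, h, subgroupBlockCoeff_of_notMem f hg]
      exact ⟨0, 1, M.zero_mem, Ideal.IsPrime.one_notMem inferInstance, by simp⟩
    · rw [suppIn_eG F g hgT]

/-- The idempotent of a block of `T` is supported on `C(Q)`. -/
theorem trC_eG_eq_self (hM : IsPModular p M) (hQ : IsPGroup p Q) {T : Subgroup G} (hQT : Q ≤ T)
    (hTN : T ≤ Subgroup.normalizer (Q : Set G)) {F : Set (IrrCharacter T)} (hF : IsPBlock M F) :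
    trC Q (eG M F) = eG M F := by
  classical
  have hn : (Q.subgroupOf T).Normal := Subgroup.normal_subgroupOf_iff_le_normalizer hQT |>.mpr hTN
  have hc : CInv T (trC Q (eG M F)) := (cinv_eG F).trC hTN
  set z := cenOf M (trC Q (eG M F)) hc with hz
  have hsupp : SuppIn T (trC Q (eG M F)) := fun g hg => by
    by_cases h : g ∈ CQ Q
    · rw [coeff_trC _ h, suppIn_eG F g hg]
    · rw [suppIn_trC _ g h]
  have hemb : trC Q (eG M F) = emb (z : MonoidAlgebra (ResField M) T) :=
    (eq_emb_of_suppIn hsupp).trans (congrArg emb (ga_ext fun k => rfl))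
  have hzz : z * z = z := by
    refine Subtype.ext (ga_ext fun k => ?_)
    have h := trC_mul hM hQ ((cinv_eG F).mono hQT) ((cinv_eG (M := M) F).mono hQT)
    rw [eG_mul_self hM hF, hemb, ← emb_mul] at h
    rw [MulMemClass.coe_mul, ← coeff_emb_coe (H := T) (R := ResField M), ← h, coeff_emb_coe]
  have hom : ∀ χ : IrrCharacter T, omegaBar M χ z = omegaBar M χ (blockBar M F) := fun χ => by
    rw [hz, omG_cenOf, eG, ← omG_emb (G := G) χ (blockBar M F), ← eG, omG, omG]
    refine Finset.sum_congr rfl fun C _ => ?_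
    by_cases h : ((rep C : T) : G) ∈ CQ Q
    · rw [coeff_trC _ h]
    · rw [centralRes_eq_zero_of_not_centralize hM χ (Q := Q.subgroupOf T)
        (hQ.of_equiv (Subgroup.subgroupOfEquivOfLe hQT).symm) ?_, mul_zero, mul_zero]
      intro hC
      refine h (Subgroup.mem_centralizer_iff.mpr fun u hu => ?_)
      exact congrArg Subtype.val (Subgroup.mem_centralizer_iff.mp hC ⟨u, hQT hu⟩ hu)
  have := eq_of_omegaBar_eq_of_idem hM hzz (blockBar_mul_self hM (.of_isPBlock hF)) hom
  rw [hemb, this, eG]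

/-- The block of a group between `C(Q)` and the stabilizer of `f` with the idempotent of `f`. -/
theorem exists_localBlock (hM : IsPModular p M) (hQ : IsPGroup p Q) {T : Subgroup G}
    (hCT : CQ Q ≤ T) (hQT : Q ≤ T) (hTN : T ≤ Subgroup.normalizer (Q : Set G))
    {f : Set (IrrCharacter (CQ Q))} (hf : IsPBlock M f)
    (hst : ∀ t ∈ T, cj t (eG M f) = eG M f) :
    ∃ F : Set (IrrCharacter T), IsLocalBlock M Q f T F ∧
      ∀ t : T, blockCoeff F t = subgroupBlockCoeff (CQ Q) f (t : G) := by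
  classical
  have := Fintype.ofFinite (IrrCharacter T)
  let a : MonoidAlgebra ℂ (CQ Q) := gaOfFun (blockCoeff f)
  let ι := Subgroup.inclusion hCT
  let z : MonoidAlgebra ℂ T := MonoidAlgebra.mapDomainRingHom ℂ ι a
  have hz : ∀ t : T, z.coeff t = subgroupBlockCoeff (CQ Q) f (t : G) := by
    intro t
    by_cases ht : (t : G) ∈ CQ Q
    · obtain ⟨c, rfl⟩ : ∃ c, ι c = t := ⟨⟨(t : G), ht⟩, rfl⟩
      refine Eq.trans ?_ (subgroupBlockCoeff_coe f c).symm
      simp only [z, MonoidAlgebra.mapDomainRingHom_apply, MonoidAlgebra.coeff_mapDomain,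
        Finsupp.mapDomain_apply (Subgroup.inclusion_injective hCT), ι]
      simp [a]
    · rw [subgroupBlockCoeff_of_notMem f ht]
      simp only [z, MonoidAlgebra.mapDomainRingHom_apply, MonoidAlgebra.coeff_mapDomain]
      refine Finsupp.mapDomain_notin_range _ _ ?_
      rintro ⟨c, rfl⟩
      exact ht c.2
  have hzc : IsClassElt z := by
    intro g s
    rw [hz, hz]
    have hsN : (s : G) ∈ Subgroup.normalizer (Q : Set G) := hTN s.2
    have hset : conjSet (s : G) (CQ Q) (CQ Q) f = f :=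
      eG_inj hM (isPBlock_conjN hsN hf) hf ((eG_conjN hsN f).trans (hst _ s.2))
    rw [conjSet_eq_image (cq_conj_iff hsN)] at hset
    by_cases hg : (g : G) ∈ CQ Q
    · have h1 := blockCoeff_image_irrEquiv (cjHom (K := CQ Q) (K' := CQ Q) (cq_conj_iff hsN)) f
        ⟨(g : G), hg⟩
      rw [hset] at h1
      refine Eq.trans ?_ ((h1.trans ?_))
      · exact subgroupBlockCoeff_coe f
          (cjHom (K := CQ Q) (K' := CQ Q) (cq_conj_iff hsN) ⟨(g : G), hg⟩)
      · exact (subgroupBlockCoeff_coe f ⟨(g : G), hg⟩).symm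
    · rw [subgroupBlockCoeff_of_notMem f hg, subgroupBlockCoeff_of_notMem]
      exact fun h => hg ((cq_conj_iff hsN _).mpr (by simpa using h))
  have hzz : z * z = z := by
    simp only [z, ← map_mul, a, gaOfFun_blockCoeff_mul_self]
  have h01 : ∀ χ : IrrCharacter T, omega (χ : T → ℂ) z = 0 ∨ omega (χ : T → ℂ) z = 1 := fun χ => by
    have h := congrArg (omega (χ : T → ℂ)) hzz
    rw [omega_mul χ.2 hzc hzc] at h
    rcases eq_or_ne (omega (χ : T → ℂ) z) 0 with h0 | h0
    · exact Or.inl h0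
    · exact Or.inr (mul_right_cancel₀ h0 (h.trans (one_mul _).symm))
  let S : Set (IrrCharacter T) := {χ | omega (χ : T → ℂ) z = 1}
  have hS : ∀ t : T, blockCoeff S t = subgroupBlockCoeff (CQ Q) f (t : G) := by
    intro t
    have h2 : z = gaOfFun (blockCoeff S) := by
      refine classElt_ext hzc (fun g h => by simp only [coeff_gaOfFun, blockCoeff_conj]) fun χ => ?_
      rw [omega_gaOfFun_blockCoeff]
      by_cases h : χ ∈ S
      · rw [if_pos h]; exact h
      · rw [if_neg h]; exact (h01 χ).resolve_right h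
    rw [← hz, h2, coeff_gaOfFun]
  have hSU : IsBlockUnion M S := isBlockUnion_of_blockCoeff_mem fun t => by
    rw [hS]; exact subgroupBlockCoeff_mem hM hf _
  have heq := eG_eq_of_blockCoeff hM hSU hCT hf hS
  have hne : S.Nonempty := by
    by_contra h
    rw [Set.not_nonempty_iff_eq_empty] at h
    obtain ⟨η, hη⟩ := isPBlock_nonempty hf
    have h1 := omega_gaOfFun_blockCoeff f η
    rw [if_pos hη] at h1
    have h2 : ∀ c : CQ Q, blockCoeff f c = 0 := fun c => by
      refine (subgroupBlockCoeff_coe f c).symm.trans ((hS ⟨(c : G), hCT c.2⟩).symm.trans ?_)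
      rw [h, blockCoeff]
      simp
    simp [omega, h2] at h1
  obtain ⟨χ₀, hχ₀⟩ := hne
  have key : ∀ F₁, IsPBlock M F₁ → F₁ ⊆ S → eG M F₁ = eG M f := by
    intro F₁ hF₁ hsub
    have hy := trC_eG_eq_self hM hQ hQT hTN hF₁
    set y := eG M F₁ with hy'
    have hyS : SuppIn (CQ Q) y := hy ▸ suppIn_trC _
    have hyC : CInv (CQ Q) y := (cinv_eG F₁).mono hCT
    have hyy : y * y = y := eG_mul_self hM hF₁
    have hmul : y * eG M f = y := by
      rw [← heq, hy', eG, eG, ← emb_mul, ← MulMemClass.coe_mul]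
      congr 2
      refine eq_of_omegaBar_eq_of_idem hM ?_ (blockBar_mul_self hM (.of_isPBlock hF₁)) fun χ => ?_
      · rw [mul_mul_mul_comm, blockBar_mul_self hM (.of_isPBlock hF₁), blockBar_mul_self hM hSU]
      · rw [map_mul, omegaBar_blockBar hM (.of_isPBlock hF₁), omegaBar_blockBar hM hSU]
        split_ifs with h1 h2 <;> try simp
        exact h2 (hsub h1)
    obtain ⟨η, hη⟩ := isPBlock_nonempty hf
    set w := cenOf M y hyC with hw
    set c := omG M η y with hcdef
    have hye : y = emb (w : MonoidAlgebra (ResField M) (CQ Q)) :=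
      (eq_emb_of_suppIn hyS).trans (congrArg emb (ga_ext fun k => rfl))
    have hc01 : c * c = c := by
      rw [hcdef, ← omG_mul η hyS hyS hyC hyC, hyy]
    have hww : w * w = w := Subtype.ext (ga_ext fun k => by
      rw [MulMemClass.coe_mul, ← coeff_emb_coe (H := CQ Q) (R := ResField M), emb_mul, ← hye, hyy]
      rfl)
    have h3 : w * blockBar M f = c • blockBar M f := by
      refine eq_of_omegaBar_eq_of_idem hM ?_ ?_ fun θ => ?_
      · rw [mul_mul_mul_comm, hww, blockBar_mul_self hM (.of_isPBlock hf)]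
      · rw [smul_mul_smul_comm, hc01, blockBar_mul_self hM (.of_isPBlock hf)]
      · rw [map_mul, omegaBar_smul, hw, omG_cenOf, omegaBar_blockBar hM (.of_isPBlock hf)]
        split_ifs with hθ
        · rw [omG_congr_block hf hθ hη]
        · simp
    have h4 : y = c • eG M f := by
      conv_lhs => rw [← hmul, hye, eG, ← emb_mul, ← MulMemClass.coe_mul, h3]
      refine ga_ext fun g => ?_
      rw [MonoidAlgebra.coeff_smul, Finsupp.smul_apply]
      by_cases hg : g ∈ CQ Q
      · rw [show g = ((⟨g, hg⟩ : CQ Q) : G) from rfl, coeff_emb_coe, coeff_eG, SetLike.val_smul,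
          MonoidAlgebra.coeff_smul, Finsupp.smul_apply, coeff_blockBar]
      · rw [suppIn_emb _ g hg, suppIn_eG f g hg, smul_zero]
    rcases eq_or_ne c 0 with h0 | h0
    · exfalso
      obtain ⟨χ₁, hχ₁⟩ := isPBlock_nonempty hF₁
      have h5 := omG_eG hM hF₁ χ₁
      rw [if_pos hχ₁, ← hy', h4, h0, zero_smul, omG_zero] at h5
      exact zero_ne_one h5
    · rw [h4, mul_right_cancel₀ h0 (hc01.trans (one_mul _).symm), one_smul]
  have hmem : ∀ χ ∈ S, blockOf M (χ : T → ℂ) ⊆ S := fun χ hχ ψ hψ => hSU χ hχ ψ hψ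
  have hSeq : S = blockOf M (χ₀ : T → ℂ) := by
    refine Set.Subset.antisymm (fun χ hχ => ?_) (hmem χ₀ hχ₀)
    have := eG_inj hM (isPBlock_blockOf χ) (isPBlock_blockOf χ₀)
      ((key _ (isPBlock_blockOf χ) (hmem χ hχ)).trans
        (key _ (isPBlock_blockOf χ₀) (hmem χ₀ hχ₀)).symm)
    exact this ▸ self_mem_blockOf χ
  exact ⟨S, ⟨hCT, hTN, hSeq ▸ isPBlock_blockOf χ₀, heq⟩, hS⟩

/-! ### Defect groups of local blocks -/

theorem cinv_self_eG (f : Set (IrrCharacter (CQ Q))) : CInv Q (eG M f) := by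
  intro u hu g
  by_cases hg : g ∈ CQ Q
  · rw [Subgroup.mem_centralizer_iff.mp hg u hu, mul_inv_cancel_right]
  · have h' : u * g * u⁻¹ ∉ CQ Q := fun h =>
      hg ((cq_conj_iff (Subgroup.le_normalizer hu) g).mpr h)
    rw [suppIn_eG f g hg, suppIn_eG f _ h']

theorem IsLocalBlock.conjLE_iff (hM : IsPModular p M) {f : Set (IrrCharacter (CQ Q))}
    (hf : IsBrauerPair p M Q f) {T : Subgroup G} {F : Set (IrrCharacter T)}
    (hL : IsLocalBlock M Q f T F) {D R : Subgroup T} (hD : IsDefectGroup p M F D)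
    (hR : IsPGroup p R) :
    ConjLE R D ↔ ∃ g, NSub p M Q f (Q ⊔ R.map T.subtype) g := by
  classical
  have hRN : R.map T.subtype ≤ Subgroup.normalizer (Q : Set G) :=
    (Subgroup.map_subtype_le R).trans hL.norm
  have hp : IsPGroup p (Q ⊔ R.map T.subtype : Subgroup G) :=
    hf.1.to_sup_of_normal_left' (hR.map _) hRN
  rw [← brauer_blockIdem_ne_zero_iff hM hL.block hD hR]
  constructor
  · rintro ⟨t, ht, hne⟩
    have hne' : (eG M f).coeff (t : G) ≠ 0 := by rw [← hL.eq, coeff_eG]; exact hne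
    have htC : (t : G) ∈ CQ Q := by
      by_contra h
      exact hne' (suppIn_eG f _ h)
    refine exists_nSub_above hM hf hp le_sup_left (sup_le Subgroup.le_normalizer hRN)
      (cinv_sup (cinv_self_eG f) (hL.eq ▸ (cinv_eG F).mono (Subgroup.map_subtype_le R))) ?_ hne'
    have hle : Q ⊔ R.map T.subtype ≤ Subgroup.centralizer ({(t : G)} : Set G) := by
      refine sup_le (fun u hu => ?_) ?_
      · exact Subgroup.mem_centralizer_singleton_iff.mpr (Subgroup.mem_centralizer_iff.mp htC u hu)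
      · rintro _ ⟨r, hr, rfl⟩
        exact Subgroup.mem_centralizer_singleton_iff.mpr
          (congrArg Subtype.val (Subgroup.mem_centralizer_iff.mp ht r hr))
    exact Subgroup.mem_centralizer_iff.mpr fun u hu =>
      Subgroup.mem_centralizer_singleton_iff.mp (hle hu)
  · rintro ⟨g, hg⟩
    obtain ⟨ξ, hξ⟩ := isPBlock_nonempty hg.pairR.2
    by_contra hall
    push Not at hall
    have h0 := omG_congr (M := M) ξ (y := eG M f) (y' := 0) fun x hx => by
      have hxQ : x ∈ CQ Q := cq_mono le_sup_left hx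
      rw [← hL.eq, show x = ((⟨x, hL.le hxQ⟩ : T) : G) from rfl, coeff_eG]
      refine (hall _ (Subgroup.mem_centralizer_iff.mpr fun r hr => Subtype.ext ?_)).trans (by simp)
      exact Subgroup.mem_centralizer_iff.mp hx (r : G)
        (le_sup_right (a := Q) (Subgroup.mem_map_of_mem _ hr))
    rw [omG_zero, hg.one ξ hξ] at h0
    exact one_ne_zero h0

theorem SubpairLE.exists_nSub_mid (hM : IsPModular p M) {f : Set (IrrCharacter (CQ Q))}
    {e : Set (IrrCharacter (CQ P))} (he : IsBrauerPair p M P e) (hle : SubpairLE p M Q f P e)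
    (hQR : Q ≤ R) (hRP : R ≤ P) (hRN : R ≤ Subgroup.normalizer (Q : Set G)) :
    ∃ g, NSub p M Q f R g ∧ SubpairLE p M R g P e := by
  obtain ⟨g, hg, hgle⟩ := exists_subpairLE hM he R hRP
  obtain ⟨f0, h0⟩ := exists_nSub hM hQR hRN hg
  obtain rfl : f0 = f := SubpairLE.unique hM he ((SubpairLE.step hM h0).trans hgle) hle
  exact ⟨g, h0, hgle⟩

theorem IsLocalBlock.inf_conjLE (hM : IsPModular p M) {f : Set (IrrCharacter (CQ Q))}
    (hf : IsBrauerPair p M Q f) {e : Set (IrrCharacter (CQ P))} (he : IsBrauerPair p M P e)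
    (hle : SubpairLE p M Q f P e) {T : Subgroup G} {F : Set (IrrCharacter T)}
    (hL : IsLocalBlock M Q f T F) {D : Subgroup T} (hD : IsDefectGroup p M F D) :
    ConjLE ((P ⊓ T).subgroupOf T) D := by
  refine (hL.conjLE_iff hM hf hD
    ((he.1.to_le inf_le_left).of_equiv (Subgroup.subgroupOfEquivOfLe inf_le_right).symm)).mpr ?_
  rw [Subgroup.map_subgroupOf_eq_of_le inf_le_right]
  obtain ⟨g, hg, -⟩ := SubpairLE.exists_nSub_mid hM he hle le_sup_left
    (sup_le (SubpairLE.le hle) inf_le_left)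
    (sup_le Subgroup.le_normalizer (inf_le_right.trans hL.norm))
  exact ⟨g, hg⟩

theorem IsLocalBlock.exists_conj_le (hM : IsPModular p M) {B : Set (IrrCharacter G)}
    {f : Set (IrrCharacter (CQ Q))} (hf : IsBrauerPair p M Q f) {e : Set (IrrCharacter (CQ P))}
    (hmax : IsMaximalBrauerPair p M B P e) (hle : SubpairLE p M Q f P e) {T : Subgroup G}
    {F : Set (IrrCharacter T)} (hL : IsLocalBlock M Q f T F) {D : Subgroup T}
    (hD : IsDefectGroup p M F D) :
    ∃ x : G, SubpairLE p M (cjS x Q) (conjBlock Q x f) P e ∧ cjS x (D.map T.subtype) ≤ P := by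
  have hBQ : IsBrauerPairOf p M B Q f := (SubpairLE.isBrauerPairOf_iff hM hle).mp hmax.1
  obtain ⟨g, hg⟩ :=
    (hL.conjLE_iff hM hf hD (isPGroup_defectGroup hM hL.block hD)).mp (conjLE_of_le le_rfl)
  obtain ⟨x, hx⟩ := exists_conj_subpairLE hM hmax ((hg.isBrauerPairOf_iff hM).mpr hBQ)
  exact ⟨x, (SubpairLE.step hM (hg.conj hM x)).trans hx,
    (cjS_mono le_sup_right).trans (SubpairLE.le hx)⟩

theorem card_cjS (n : G) (Q : Subgroup G) : Nat.card (cjS n Q) = Nat.card Q :=
  Subgroup.card_map_of_injective (MulAut.conj n).injective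

theorem IsLocalBlock.isDefectGroup_inf (hM : IsPModular p M) {f : Set (IrrCharacter (CQ Q))}
    (hf : IsBrauerPair p M Q f) {e : Set (IrrCharacter (CQ P))} (he : IsBrauerPair p M P e)
    {T : Subgroup G} {F : Set (IrrCharacter T)} (hL : IsLocalBlock M Q f T F) {D : Subgroup T}
    (hD : IsDefectGroup p M F D) {x : G}
    (hx : SubpairLE p M (cjS x Q) (conjBlock Q x f) P e) (hDx : cjS x (D.map T.subtype) ≤ P)
    {T' : Subgroup G} (hT' : ∀ u, u ∈ T' ↔ x⁻¹ * u * x ∈ T) {F' : Set (IrrCharacter T')}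
    (hL' : IsLocalBlock M (cjS x Q) (conjBlock Q x f) T' F') :
    IsDefectGroup p M F' ((P ⊓ T').subgroupOf T') := by
  classical
  have hf' : IsBrauerPair p M (cjS x Q) (conjBlock Q x f) := isBrauerPair_conj x hf
  obtain ⟨D', hD'⟩ := exists_defectGroup hM hL'.block
  have hpD' := isPGroup_defectGroup hM hL'.block hD'
  obtain ⟨g', hg'⟩ := (hL'.conjLE_iff hM hf' hD' hpD').mp (conjLE_of_le le_rfl)
  have h1 := hg'.conj hM x⁻¹
  have e1 : cjP x⁻¹ (⟨cjS x Q, conjBlock Q x f⟩ : BrauerPairIdx G) = ⟨Q, f⟩ := by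
    show cjP x⁻¹ (cjP x ⟨Q, f⟩) = _
    rw [cjP_cjP hM x⁻¹ x hf.2, inv_mul_cancel, cjP_one hM hf.2]
  have h2 : NSub p M (cjP x⁻¹ (⟨cjS x Q, conjBlock Q x f⟩ : BrauerPairIdx G)).1
      (cjP x⁻¹ (⟨cjS x Q, conjBlock Q x f⟩ : BrauerPairIdx G)).2
      (cjS x⁻¹ (cjS x Q ⊔ D'.map T'.subtype))
      (conjBlock (cjS x Q ⊔ D'.map T'.subtype) x⁻¹ g') := h1
  rw [e1] at h2
  set E := cjS x⁻¹ (D'.map T'.subtype) with hE
  have hET : E ≤ T := fun u hu => by
    have h3 := mem_cjS.mp hu
    rw [inv_inv] at h3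
    have h4 := (hT' _).mp (Subgroup.map_subtype_le D' h3)
    simpa [mul_assoc] using h4
  have hsup : cjS x⁻¹ (cjS x Q ⊔ D'.map T'.subtype) = Q ⊔ (E.subgroupOf T).map T.subtype := by
    rw [Subgroup.map_subgroupOf_eq_of_le hET, hE]
    show Subgroup.map _ _ = _
    rw [Subgroup.map_sup]
    congr 1
    show cjS x⁻¹ (cjS x Q) = Q
    rw [cjS_cjS, inv_mul_cancel, cjS_one]
  have hex : ∃ g, NSub p M Q f (cjS x⁻¹ (cjS x Q ⊔ D'.map T'.subtype)) g := ⟨_, h2⟩
  rw [hsup] at hex
  have hcE : ConjLE (E.subgroupOf T) D :=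
    (hL.conjLE_iff hM hf hD
      (((hpD'.map _).map _).of_equiv (Subgroup.subgroupOfEquivOfLe hET).symm)).mpr hex
  have hsub : cjS x (D.map T.subtype) ≤ P ⊓ T' := le_inf hDx fun u hu =>
    (hT' u).mpr (Subgroup.map_subtype_le D (mem_cjS.mp hu))
  have hcR := hL'.inf_conjLE hM hf' he hx hD'
  have c1 : Nat.card D' ≤ Nat.card D := by
    have h3 := hcE.card_le
    rwa [Nat.card_congr (Subgroup.subgroupOfEquivOfLe hET).toEquiv, hE, card_cjS,
      Subgroup.card_map_of_injective Subtype.val_injective] at h3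
  have c2 : Nat.card D ≤ Nat.card ((P ⊓ T').subgroupOf T') := by
    have h3 := Nat.card_le_card_of_injective _ (Subgroup.inclusion_injective hsub)
    rwa [card_cjS, Subgroup.card_map_of_injective Subtype.val_injective,
      ← Nat.card_congr (Subgroup.subgroupOfEquivOfLe (inf_le_right : P ⊓ T' ≤ T')).toEquiv] at h3
  obtain ⟨c, hc⟩ := hcR.exists_eq (c1.trans c2)
  have hback : cjS c⁻¹ D' = (P ⊓ T').subgroupOf T' := by
    rw [← hc]
    show cjS c⁻¹ (cjS c _) = _
    rw [cjS_cjS, inv_mul_cancel, cjS_one]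
  exact hback ▸ isDefectGroup_conj hM hL'.block hD' c⁻¹

theorem exists_defectGroup_ge_of_conjLE (hM : IsPModular p M) {B : Set (IrrCharacter G)}
    (hB : IsPBlock M B) {D : Subgroup G} (hD : IsDefectGroup p M B D) (h : ConjLE R D) :
    ∃ D', IsDefectGroup p M B D' ∧ R ≤ D' := by
  obtain ⟨c, hc⟩ := h
  refine ⟨cjS c⁻¹ D, isDefectGroup_conj hM hB hD c⁻¹, fun u hu => mem_cjS.mpr ?_⟩
  rw [inv_inv]
  exact hc (conj_mem_cjS.mpr hu)

theorem mem_normalizer_cjS_iff {x u : G} :
    u ∈ Subgroup.normalizer (cjS x Q : Set G) ↔ x⁻¹ * u * x ∈ Subgroup.normalizer (Q : Set G) := by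
  constructor
  · intro h
    refine mem_normalizer_of_cjS_eq ?_
    have h1 := cjS_eq_of_mem_normalizer h
    rw [← cjS_cjS, ← cjS_cjS, h1, cjS_cjS, inv_mul_cancel, cjS_one]
  · intro h
    refine mem_normalizer_of_cjS_eq ?_
    have h1 := cjS_eq_of_mem_normalizer h
    conv_rhs => rw [← h1, cjS_cjS]
    rw [cjS_cjS]
    congr 1
    group

theorem stabilizer_conj_iff (hM : IsPModular p M) {f : Set (IrrCharacter (CQ Q))}
    (hf : IsPBlock M f) {x u : G} :
    (u ∈ Subgroup.normalizer (cjS x Q : Set G) ∧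
      StabilizesBlock (CQ (cjS x Q)) (conjBlock Q x f) u) ↔
    (x⁻¹ * u * x ∈ Subgroup.normalizer (Q : Set G) ∧
      StabilizesBlock (CQ Q) f (x⁻¹ * u * x)) := by
  rw [← mem_normalizer_cjS_iff]
  refine and_congr_right fun hu => ?_
  rw [stabilizesBlock_iff hM hu (isPBlock_conjBlock x hf),
    stabilizesBlock_iff hM (mem_normalizer_cjS_iff.mp hu) hf, eG_conjBlock, cj_cj]
  constructor
  · intro h
    rw [mul_assoc, ← cj_cj, h, cj_cj, inv_mul_cancel, cj_one]
  · intro h
    have h1 := congrArg (cj x) h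
    rw [cj_cj] at h1
    rwa [show x * (x⁻¹ * u * x) = u * x by group] at h1

/-- The block of the stabilizer of `f` in `N(Q)`. -/
theorem exists_stabilizerBlock (hM : IsPModular p M) {f : Set (IrrCharacter (CQ Q))}
    (hf : IsBrauerPair p M Q f) {T : Subgroup G}
    (hT : ∀ y, y ∈ T ↔ y ∈ Subgroup.normalizer (Q : Set G) ∧ StabilizesBlock (CQ Q) f y) :
    ∃ F : Set (IrrCharacter T), IsLocalBlock M Q f T F ∧
      ∀ t : T, blockCoeff F t = subgroupBlockCoeff (CQ Q) f (t : G) := by
  have hN : ∀ {u}, u ∈ Subgroup.normalizer (Q : Set G) → cj u (eG M f) = eG M f → u ∈ T :=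
    fun hu h => (hT _).mpr ⟨hu, (stabilizesBlock_iff hM hu hf.2).mpr h⟩
  exact exists_localBlock hM hf.1
    (fun u hu => hN (centralizer_le_normalizer' Q hu) (cinv_iff_cj.mp (cinv_eG f) u hu))
    (fun u hu => hN (Subgroup.le_normalizer hu) (cinv_iff_cj.mp (cinv_self_eG f) u hu))
    (fun u hu => ((hT u).mp hu).1) hf.2
    (fun u hu => (stabilizesBlock_iff hM ((hT u).mp hu).1 hf.2).mp ((hT u).mp hu).2)

theorem inf_stabilizer_eq (hM : IsPModular p M) {f : Set (IrrCharacter (CQ Q))}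
    {e : Set (IrrCharacter (CQ P))} (he : IsBrauerPair p M P e) (hle : SubpairLE p M Q f P e)
    (hf : IsBrauerPair p M Q f) {T : Subgroup G}
    (hT : ∀ y, y ∈ T ↔ y ∈ Subgroup.normalizer (Q : Set G) ∧ StabilizesBlock (CQ Q) f y) :
    P ⊓ T = P ⊓ Subgroup.normalizer (Q : Set G) := by
  refine le_antisymm (inf_le_inf_left P fun u hu => ((hT u).mp hu).1) (le_inf inf_le_left ?_)
  obtain ⟨g, hg, -⟩ := SubpairLE.exists_nSub_mid hM he hle
    (le_inf (SubpairLE.le hle) Subgroup.le_normalizer) inf_le_left inf_le_right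
  exact fun u hu => (hT u).mpr
    ⟨hu.2, (stabilizesBlock_iff hM hu.2 hf.2).mpr (cinv_iff_cj.mp hg.stab u hu)⟩

/-- Pairs above `(Q, f)` at a defect group of `f` are conjugate in `C(Q)`. -/
theorem exists_conj_of_nSub_defect (hM : IsPModular p M) {f : Set (IrrCharacter (CQ Q))}
    (hPC : P ≤ CQ Q) (hQP : Q ≤ P) (hD : IsDefectGroup p M f (P.subgroupOf (CQ Q)))
    {g g' : Set (IrrCharacter (CQ P))} (hg : NSub p M Q f P g) (hg' : NSub p M Q f P g') :
    ∃ n ∈ CQ Q, n ∈ Subgroup.normalizer (P : Set G) ∧ conjSet n (CQ P) (CQ P) g = g' := by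
  classical
  have hf := hg.pairL.2
  let P' : Subgroup (CQ Q) := P.subgroupOf (CQ Q)
  have hPC' : CQ P ≤ CQ Q := cq_mono hQP
  let ι : CQ P ≃* CQ P' :=
    { toFun := fun c => ⟨⟨(c : G), hPC' c.2⟩, Subgroup.mem_centralizer_iff.mpr fun u hu =>
        Subtype.ext (Subgroup.mem_centralizer_iff.mp c.2 _ hu)⟩
      invFun := fun c => ⟨((c : CQ Q) : G), Subgroup.mem_centralizer_iff.mpr fun u hu =>
        congrArg Subtype.val (Subgroup.mem_centralizer_iff.mp c.2 ⟨u, hPC hu⟩ hu)⟩
      left_inv := fun c => rfl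
      right_inv := fun c => rfl
      map_mul' := fun a b => rfl }
  have hp' : IsPGroup p P' := hg.pairR.1.of_equiv (Subgroup.subgroupOfEquivOfLe hPC).symm
  have hpair : ∀ {e : Set (IrrCharacter (CQ P))}, NSub p M Q f P e →
      IsBrauerPairOf p M f P' (irrEquiv ι '' e) := by
    intro e he
    refine ⟨⟨hp', isPBlock_image_irrEquiv ι he.pairR.2⟩, hf, ?_⟩
    rintro _ ⟨ξ, hξ, rfl⟩
    have h1 := (brauerOmega_sub_iff hM hQP hf ξ).mpr (he.one ξ hξ)
    have heq : brauerOmega P' (blockCoeff f) ((irrEquiv ι ξ : IrrCharacter (CQ P')) : CQ P' → ℂ) =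
        brauerOmega P (subgroupBlockCoeff (CQ Q) f) (ξ : CQ P → ℂ) := by
      simp only [brauerOmega, finsum_eq_sum_of_fintype]
      refine (Fintype.sum_equiv ι.toEquiv _ _ fun c => ?_).symm
      simp only [irrEquiv_apply, MulEquiv.toEquiv_eq_coe, EquivLike.coe_coe,
        MulEquiv.symm_apply_apply, ← map_one ι]
      congr 2
      exact subgroupBlockCoeff_coe f ⟨(c : G), hPC' c.2⟩
    rw [heq]
    exact h1
  have hmax : IsMaximalBrauerPair p M f P' (irrEquiv ι '' g) := by
    refine ⟨hpair hg, fun R h hR hle => ?_⟩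
    obtain ⟨D, d, hd, hRD⟩ := exists_maximal_above hM R h hR
    obtain ⟨c, hc⟩ := defectGroup_conj hM hf hD (isDefectGroup_of_maximal hM hd)
    have hcard : Nat.card D ≤ Nat.card P' := by
      rw [← hc, Subgroup.card_map_of_injective (MulAut.conj c).injective]
    have h1 := SubpairLE.le hle
    exact le_antisymm ((SubpairLE.le hRD).trans
      (Subgroup.eq_of_le_of_card_ge (h1.trans (SubpairLE.le hRD)) hcard).ge) h1
  obtain ⟨n, hn, hne⟩ := exists_conjN_eq hM hmax (hpair hg')
  have hnP : (n : G) ∈ Subgroup.normalizer (P : Set G) := by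
    rw [Subgroup.mem_normalizer_iff]
    intro u
    constructor
    · intro hu
      exact (Subgroup.mem_normalizer_iff.mp hn ⟨u, hPC hu⟩).mp hu
    · intro hu
      have hu' : u ∈ CQ Q := by
        have := mul_mem (mul_mem (inv_mem n.2) (hPC hu)) n.2
        simpa [mul_assoc] using this
      exact (Subgroup.mem_normalizer_iff.mp hn ⟨u, hu'⟩).mpr hu
  refine ⟨(n : G), n.2, hnP, Set.ext fun θ => ?_⟩
  constructor
  · rintro ⟨ξ, hξ, hval⟩
    have h1 : irrEquiv ι θ ∈ conjSet n (CQ P') (CQ P') (irrEquiv ι '' g) := by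
      refine ⟨irrEquiv ι ξ, Set.mem_image_of_mem _ hξ, fun c c' hcc => ?_⟩
      rw [irrEquiv_apply, irrEquiv_apply]
      exact hval _ _ (congrArg Subtype.val hcc)
    rw [hne] at h1
    exact (irrEquiv ι).injective.mem_set_image.mp h1
  · intro hθ
    have h1 : irrEquiv ι θ ∈ irrEquiv ι '' g' := Set.mem_image_of_mem _ hθ
    rw [← hne] at h1
    obtain ⟨_, ⟨ξ, hξ, rfl⟩, hval⟩ := h1
    refine ⟨ξ, hξ, fun c c' hcc => ?_⟩
    have h2 := hval (ι c) (ι c') (Subtype.ext hcc)
    rwa [irrEquiv_apply, irrEquiv_apply, MulEquiv.symm_apply_apply, MulEquiv.symm_apply_apply] at h2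

end CfsgLib.Block
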