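import Cfsg.Agent.Lib.Block.Principal
import Cfsg.Agent.Lib.Fusion.Residual
import Cfsg.Agent.Lib.Char.Integrality
import Cfsg.Prelude.Def_BlockRank

/-!
# The regular rank of a block, principal blocks of rank one
-/

open Finset MonoidAlgebra
open scoped ComplexConjugate

set_option linter.unusedSectionVars false

namespace CfsgLib.Block

open Cfsg

universe u

variable {p : ℕ} {M : Ideal AlgInt} [M.IsMaximal] {G : Type u} [Group G] [Fintype G] [DecidableEq G]
  [Fintype (IrrCharacter G)] [Fintype (ConjClasses G)]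

theorem pRegularPart_eq_regFun (f : G → ℂ) : pRegularPart p f = regFun p f := by
  funext g
  simp only [pRegularPart, regFun, IsPRegular]
  by_cases h : p ∣ orderOf g <;> simp [h]

/-- The regular rank of a union of blocks is the trace of `[χ°, ψ]`. -/
theorem blockRank_eq_sum_regInner (hM : IsPModular p M) {S : Set (IrrCharacter G)}
    [DecidablePred (· ∈ S)] (hS : IsBlockUnion M S) :
    (blockRank p S : ℂ) = ∑ χ ∈ Finset.univ.filter (· ∈ S), regInner p χ χ := by
  classical
  let W : Submodule ℂ (IrrCharacter G → ℂ) :=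
    Submodule.span ℂ ((fun χ : IrrCharacter G => fun ψ => regInner p χ ψ) '' S)
  let Φ : (IrrCharacter G → ℂ) →ₗ[ℂ] (G → ℂ) :=
    Fintype.linearCombination ℂ (fun ψ : IrrCharacter G => (ψ : G → ℂ))
  have hΦ : Function.Injective Φ := fun a b h => Char.linearIndependent_irr.fintypeLinearCombination_injective h
  have hW : Submodule.span ℂ ((fun χ : IrrCharacter G => pRegularPart p (χ : G → ℂ)) '' S) =
      W.map Φ := by
    rw [Submodule.map_span, ← Set.image_comp]
    congr 1
    refine Set.image_congr fun χ _ => funext fun g => ?_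
    rw [pRegularPart_eq_regFun, ← sum_regInner_mul p χ g]
    simp [Φ, Fintype.linearCombination_apply]
  have hrank : blockRank p S = Module.finrank ℂ W := by
    rw [blockRank, hW]
    exact ((Submodule.equivMapOfInjective Φ hΦ W).finrank_eq).symm
  let E : (IrrCharacter G → ℂ) →ₗ[ℂ] (IrrCharacter G → ℂ) :=
    ∑ χ ∈ Finset.univ.filter (· ∈ S), (LinearMap.proj χ).smulRight fun ψ => regInner p χ ψ
  have hE : ∀ v ψ, E v ψ = ∑ χ ∈ Finset.univ.filter (· ∈ S), v χ * regInner p χ ψ := by
    intro v ψ
    simp [E, LinearMap.sum_apply, Finset.sum_apply]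
  have hproj : LinearMap.IsProj W E := by
    refine ⟨fun v => ?_, fun v hv => ?_⟩
    · simp only [E, LinearMap.sum_apply, LinearMap.smulRight_apply]
      exact Submodule.sum_mem _ fun χ hχ => Submodule.smul_mem _ _
        (Submodule.subset_span ⟨χ, (Finset.mem_filter.mp hχ).2, rfl⟩)
    · induction hv using Submodule.span_induction with
      | mem v hv =>
        obtain ⟨χ, hχ, rfl⟩ := hv
        funext θ
        rw [hE]
        refine Eq.trans ?_ (sum_regInner_mul_regInner p χ θ)
        refine Finset.sum_subset (Finset.filter_subset _ _) fun ψ _ hψ => ?_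
        show regInner p χ ψ * _ = 0
        rw [regInner_eq_zero_of_not_mem hM hS hχ (by simpa using hψ), zero_mul]
      | zero => simp
      | add a b _ _ ha hb => rw [map_add, ha, hb]
      | smul c a _ ha => rw [map_smul, ha]
  rw [hrank, ← hproj.trace]
  simp only [E, map_sum, LinearMap.trace_smulRight, LinearMap.proj_apply]

/-- A subgroup of order prime to `p`, normal, with a `p`-group quotient consists of the `p`-regular
elements. -/
theorem mem_pResidual_iff_regular [Fact p.Prime] (h : Cfsg.HasNormalPComplement p G) {g : G} :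
    g ∈ Cfsg.pResidual p G ↔ ¬ p ∣ orderOf g := by
  have hp : p.Prime := Fact.out
  rw [← hp.coprime_iff_not_dvd, Nat.coprime_comm]
  exact ⟨fun hg => CfsgLib.Fusion.hasNormalPComplement_iff_coprime.mp h g hg,
    CfsgLib.Fusion.mem_pResidual⟩

theorem norm_irr_le (χ : IrrCharacter G) (g : G) :
    ‖(χ : G → ℂ) g‖ ≤ ((χ : G → ℂ) 1).re := by
  obtain ⟨n, ρ, -, hχ⟩ := χ.2
  rw [← hχ, Representation.char_one]
  simpa using Char.norm_char_le ρ g

/-- In a group with a normal `p`-complement the characters of the principal block are constant on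
the regular elements. -/
theorem irr_eq_one_of_regular (hM : IsPModular p M) (h : Cfsg.HasNormalPComplement p G)
    {χ : IrrCharacter G} (hχ : χ ∈ principalBlock M G) {g : G} (hg : ¬ p ∣ orderOf g) :
    (χ : G → ℂ) g = (χ : G → ℂ) 1 := by
  classical
  have hpf : Fact p.Prime := ⟨hM.1⟩
  set T := Finset.univ.filter (fun x : G => ¬ p ∣ orderOf x) with hT
  have hmul : ∀ x ∈ T, ∀ y, y ∈ T ↔ x⁻¹ * y ∈ T := by
    intro x hx y
    simp only [hT, Finset.mem_filter, Finset.mem_univ, true_and, ← mem_pResidual_iff_regular h] at hx ⊢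
    exact (Subgroup.mul_mem_cancel_left _ (inv_mem hx)).symm
  let a : MonoidAlgebra ℂ G := gaOfFun fun x => if x ∈ T then 1 else 0
  have ha : IsClassElt a := fun x c => by
    simp [a, hT, orderOf_conj_eq]
  have haa : a * a = (T.card : ℂ) • a := by
    refine ga_ext fun x => ?_
    rw [coeff_mul_sum]
    simp only [a, coeff_gaOfFun, ite_mul, one_mul, zero_mul, MonoidAlgebra.coeff_smul,
      Finsupp.smul_apply, smul_eq_mul]
    rw [Finset.sum_ite_mem, Finset.univ_inter]
    rw [Finset.sum_congr rfl (g := fun _ => if x ∈ T then (1 : ℂ) else 0) fun y hy => by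
      by_cases hx : x ∈ T
      · rw [if_pos hx, if_pos ((hmul y hy x).mp hx)]
      · rw [if_neg hx, if_neg (mt (hmul y hy x).mpr hx)], Finset.sum_const, nsmul_eq_mul]
  set s := ∑ x ∈ T, (χ : G → ℂ) x with hs
  have hω : omega (χ : G → ℂ) a = s / (χ : G → ℂ) 1 := by
    simp only [omega, a, coeff_gaOfFun, ite_mul, one_mul, zero_mul, Finset.sum_ite_mem,
      Finset.univ_inter, hs]
  have hne : s ≠ 0 := by
    intro h0
    apply omegaBar_regBar_ne_zero hM hχ
    obtain ⟨R, hR, hRres⟩ := exists_regN_lift (p := p) (M := M) χ (oneChar G)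
    rw [card_mul_regInner] at hR
    have hR0 : (R : ℂ) * (χ : G → ℂ) 1 = 0 := by
      rw [hR, ← h0, hs]
      refine Finset.sum_congr rfl fun x _ => ?_
      simp [oneChar]
    rw [omegaBar_regBar_eq_regN, ← hRres,
      show R = 0 from Subtype.ext ((mul_eq_zero.mp hR0).resolve_right (Char.irr_one_ne_zero χ)),
      map_zero]
  have h2 := omega_mul χ.2 ha ha
  rw [haa, omega_smul, hω] at h2
  have hsum : s = (T.card : ℂ) * (χ : G → ℂ) 1 := by
    have h1 := Char.irr_one_ne_zero χ
    field_simp at h2
    exact h2.symm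
  have hre : ∑ x ∈ T, (((χ : G → ℂ) 1).re - ((χ : G → ℂ) x).re) = 0 := by
    rw [Finset.sum_sub_distrib, ← Complex.re_sum T (fun x => (χ : G → ℂ) x), ← hs, hsum]
    simp
  have hgT : g ∈ T := by simp [hT, hg]
  have hg0 := (Finset.sum_eq_zero_iff_of_nonneg fun x _ => sub_nonneg.mpr
    ((Complex.re_le_norm _).trans (norm_irr_le χ x))).mp hre g hgT
  obtain ⟨d, -, hd⟩ := Char.isIrrCharacter_degree χ.2
  rw [sub_eq_zero] at hg0
  have hn := norm_irr_le χ g
  rw [hd, Complex.natCast_re] at hg0 hn
  have him : ((χ : G → ℂ) g).im = 0 := by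
    have h3 : ‖(χ : G → ℂ) g‖ = (d : ℝ) :=
      le_antisymm hn (hg0 ▸ Complex.re_le_norm _)
    have h4 := Complex.sq_norm ((χ : G → ℂ) g)
    rw [h3, Complex.normSq_apply, ← hg0] at h4
    nlinarith
  rw [hd]
  exact Complex.ext (by simp [hg0]) (by simp [him])

/-- The principal block has rank one exactly when there is a normal `p`-complement. -/
theorem blockRank_principal_eq_one_iff (hM : IsPModular p M) :
    blockRank p (principalBlock M G) = 1 ↔ Cfsg.HasNormalPComplement p G := by
  classical
  have hpf : Fact p.Prime := ⟨hM.1⟩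
  set W := Submodule.span ℂ ((fun χ : IrrCharacter G => pRegularPart p (χ : G → ℂ)) ''
    principalBlock M G) with hW
  set φ := pRegularPart p ((oneChar G : IrrCharacter G) : G → ℂ) with hφ
  have hφW : φ ∈ W := Submodule.subset_span ⟨oneChar G, one_mem_principalBlock, rfl⟩
  have hφ1 : φ 1 = 1 := by
    simp [hφ, pRegularPart, IsPRegular, oneChar, hM.1.ne_one]
  have hφ0 : φ ≠ 0 := fun h => by simp [h] at hφ1
  constructor
  · intro hl
    have hspan : W = Submodule.span ℂ {φ} := by
      refine (Submodule.eq_of_le_of_finrank_eq ((Submodule.span_singleton_le_iff_mem _ _).mpr hφW) ?_).symm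
      rw [finrank_span_singleton hφ0]
      exact hl.symm
    have hker : ∀ χ ∈ principalBlock M G, ∀ g, ¬ p ∣ orderOf g →
        (χ : G → ℂ) g = (χ : G → ℂ) 1 := by
      intro χ hχ g hg
      have hmem : pRegularPart p (χ : G → ℂ) ∈ Submodule.span ℂ {φ} :=
        hspan ▸ Submodule.subset_span ⟨χ, hχ, rfl⟩
      obtain ⟨c, hc⟩ := Submodule.mem_span_singleton.mp hmem
      have h1 := congrFun hc 1
      have h2 := congrFun hc g
      simp only [hφ, Pi.smul_apply, smul_eq_mul, pRegularPart, IsPRegular, oneChar, hg,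
        hM.1.ne_one, Nat.dvd_one, orderOf_one, not_false_iff, if_true, mul_one] at h1 h2
      rw [← h1, ← h2]
    rw [CfsgLib.Fusion.hasNormalPComplement_iff_coprime]
    intro g hg
    rw [Nat.coprime_comm, hM.1.coprime_iff_not_dvd]
    intro hdvd
    -- every character of the principal block is constant on the residual
    have hK : ∀ χ ∈ principalBlock M G, (χ : G → ℂ) g = (χ : G → ℂ) 1 := by
      intro χ hχ
      obtain ⟨n, ρ, -, hρ⟩ := χ.2
      have hρ1 : ∀ x, ¬ p ∣ orderOf x → ρ x = 1 := by
        intro x hx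
        have := congrFun hρ x
        refine (Char.char_eq_degree_iff ρ x).mp ?_
        rw [hρ, hker χ hχ x hx, ← hρ, Representation.char_one]
      have hle : Cfsg.pResidual p G ≤ ρ.toHomUnits.ker := by
        rw [Cfsg.pResidual, Subgroup.closure_le]
        intro x hx
        rw [SetLike.mem_coe, MonoidHom.mem_ker]
        refine Units.ext ?_
        exact hρ1 x (by rw [← hM.1.coprime_iff_not_dvd, Nat.coprime_comm]; exact hx)
      have h1 : ρ g = 1 := congrArg Units.val (MonoidHom.mem_ker.mp (hle hg))
      simp only [← hρ, Representation.character, h1, map_one]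
    have h0 := blockUnion_orthogonal_regular_singular hM
      (IsBlockUnion.of_isPBlock (isPBlock_principalBlock (M := M) (G := G)))
      (g := 1) (h := g) (by simpa using hM.1.ne_one) hdvd
    rw [finsum_mem_eq_toFinset_sum] at h0
    have h0' : ∑ χ ∈ (principalBlock M G).toFinset, Complex.normSq ((χ : G → ℂ) 1) = 0 := by
      rw [← Complex.ofReal_eq_zero, Complex.ofReal_sum, ← h0]
      refine Finset.sum_congr rfl fun χ hχ => ?_
      rw [hK χ (Set.mem_toFinset.mp hχ), Complex.normSq_eq_conj_mul_self, mul_comm]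
    have := (Finset.sum_eq_zero_iff_of_nonneg fun i _ => Complex.normSq_nonneg _).mp h0' (oneChar G)
      (Set.mem_toFinset.mpr one_mem_principalBlock)
    simp [oneChar] at this
  · intro h
    have hspan : W = Submodule.span ℂ {φ} := by
      refine le_antisymm (Submodule.span_le.mpr ?_) ((Submodule.span_singleton_le_iff_mem _ _).mpr hφW)
      rintro _ ⟨χ, hχ, rfl⟩
      refine Submodule.mem_span_singleton.mpr ⟨(χ : G → ℂ) 1, funext fun x => ?_⟩
      by_cases hx : p ∣ orderOf x
      · simp [hφ, pRegularPart, IsPRegular, hx]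
      · simp [hφ, pRegularPart, IsPRegular, hx, oneChar, irr_eq_one_of_regular hM h hχ hx]
    show Module.finrank ℂ W = 1
    rw [hspan, finrank_span_singleton hφ0]

end CfsgLib.Block
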