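import Cfsg.Agent.Lib.Block.SecondMain
import Cfsg.Agent.Lib.Block.Rank

/-!
# Subsections: orthogonality of block parts of sections
-/

open Finset MonoidAlgebra
open scoped ComplexConjugate

set_option linter.unusedSectionVars false

namespace CfsgLib.Block

open Cfsg

universe u

variable {p : ℕ} {M : Ideal AlgInt} [M.IsMaximal] {G : Type u} [Group G] [Fintype G] [DecidableEq G]
  {C : Subgroup G} [Fintype C]

/-- The section function of `x`. -/
def secFun (x : G) (C : Subgroup G) (χ : IrrCharacter G) : C → ℂ :=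
  fun c => (χ : G → ℂ) (x * (c : G))

theorem isClassFunction_secFun {x : G} (hC : ∀ t : C, Commute (t : G) x) (χ : IrrCharacter G) :
    IsClassFunction C (secFun x C χ) := by
  intro a v
  have hv : Commute x (v : G) := (hC v).symm
  simp only [secFun, Subgroup.coe_mul, InvMemClass.coe_inv]
  rw [show x * ((v : G) * a * (v : G)⁻¹) = (v : G) * (x * a) * (v : G)⁻¹ by
    simp only [← mul_assoc, hv.eq], Char.isClassFunction_irr χ]

/-- The block part as a sum over the block. -/
theorem blockPart_eq {A : Type u} [Group A] [Fintype A] [Fintype (IrrCharacter A)]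
    (b : Set (IrrCharacter A)) [DecidablePred (· ∈ b)] (f : A → ℂ) (y : A) :
    blockPart b f y = ∑ η ∈ Finset.univ.filter (· ∈ b), classInner f (η : A → ℂ) * (η : A → ℂ) y := by
  show ∑ᶠ η ∈ b, @classInner A _ (Fintype.ofFinite A) f (η : A → ℂ) * (η : A → ℂ) y = _
  rw [Subsingleton.elim (Fintype.ofFinite A) ‹Fintype A›, finsum_mem_eq_toFinset_sum]
  exact Finset.sum_congr (by ext; simp) fun _ _ => rfl

theorem isPPart_secElt {x : G} {k : ℕ} (hk : orderOf x = p ^ k) (hC : ∀ t : C, Commute (t : G) x)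
    {y : C} (hy : ¬ p ∣ orderOf y) : IsPPart p (x * (y : G)) x :=
  ⟨(y : G), rfl, (hC y).symm, ⟨k, hk⟩, by rwa [Subgroup.orderOf_coe]⟩

variable [Fintype (IrrCharacter C)]

/-- On regular elements the block part sees only the regular values. -/
theorem blockPart_regular (hM : IsPModular p M) {b : Set (IrrCharacter C)} [DecidablePred (· ∈ b)]
    (hb : IsPBlock M b) {f : C → ℂ} (hf : IsClassFunction C f) {y : C} (hy : ¬ p ∣ orderOf y) :
    blockPart b f y =
      ∑ η ∈ Finset.univ.filter (· ∈ b), classInner (regFun p f) (η : C → ℂ) * (η : C → ℂ) y := by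
  classical
  rw [blockPart_eq]
  refine sum_block_eq_of_eq_regular hM (.of_isPBlock hb) (fun z hz => ?_) hy
  have h1 := congrFun (Char.classFun_expand hf) z
  have h2 := congrFun (Char.classFun_expand (isClassFunction_regFun p hf)) z
  simp only [Finset.sum_apply, Pi.smul_apply, smul_eq_mul, regFun, hz, if_false] at h1 h2
  rw [← h1]
  exact h2

/-- Off its block every character has vanishing block part. -/
theorem blockPart_secFun_eq_zero (hM : IsPModular p M) {x : G} (hxp : ∃ k : ℕ, orderOf x = p ^ k)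
    (hC : ∀ t : G, t ∈ C ↔ Commute t x) {b : Set (IrrCharacter C)} {B : Set (IrrCharacter G)}
    (hb : IsInducedBlock M C b B) {χ : IrrCharacter G} (hχ : χ ∉ B) {y : C}
    (hy : ¬ p ∣ orderOf y) : blockPart b (secFun x C χ) y = 0 := by
  classical
  have hC' : ∀ t : C, Commute (t : G) x := fun t => (hC t).mp t.2
  obtain ⟨k, hk⟩ := hxp
  have hx : x ∈ C := (hC x).mpr (Commute.refl x)
  rw [blockPart_eq_sum b (isClassFunction_secFun hC' χ) y, ← second_main_theorem hM hb
    (h := ⟨x * (y : G), C.mul_mem hx y.2⟩) (isPPart_secElt hk hC' hy) (fun t ht => (hC t).mpr ht) hχ]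
  refine Finset.sum_congr rfl fun t _ => ?_
  simp only [secFun, Subgroup.coe_mul, ← mul_assoc, (hC' t).eq]

theorem exists_induced_centralizer (hM : IsPModular p M) {x : G} (hxp : ∃ k : ℕ, orderOf x = p ^ k)
    (hC : ∀ t : G, t ∈ C ↔ Commute t x) {b : Set (IrrCharacter C)} (hb : IsPBlock M b) :
    ∃ B : Set (IrrCharacter G), IsInducedBlock M C b B := by
  have hpf : Fact p.Prime := ⟨hM.1⟩
  obtain ⟨k, hk⟩ := hxp
  have hP : IsPGroup p (Subgroup.zpowers x) := IsPGroup.of_card (n := k) (by rw [Nat.card_zpowers, hk])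
  have hCP : Subgroup.centralizer (Subgroup.zpowers x : Set G) = C := by
    ext t
    rw [Subgroup.zpowers_eq_closure, Subgroup.centralizer_closure,
      Subgroup.mem_centralizer_singleton_iff, hC]
    exact Iff.rfl
  exact exists_inducedBlock hP hCP.le (hCP ▸ centralizer_le_normalizer' _) hM
    (by rw [Subgroup.zpowers_le, hC]) hb

/-- Conjugacy and centralizers in a section. -/
theorem isConj_secElt_iff (hp : p.Prime) {x : G} (hxp : ∃ k : ℕ, orderOf x = p ^ k)
    (hC : ∀ t : G, t ∈ C ↔ Commute t x) {y z : C} (hy : ¬ p ∣ orderOf y) (hz : ¬ p ∣ orderOf z) :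
    IsConj (x * (y : G)) (x * (z : G)) ↔ IsConj y z := by
  have hC' : ∀ t : C, Commute (t : G) x := fun t => (hC t).mp t.2
  obtain ⟨k, hk⟩ := hxp
  constructor
  · intro h
    obtain ⟨c, hc⟩ := isConj_iff.mp h
    have hxc : c * x * c⁻¹ = x := isPPart_unique hp
      (hc ▸ isPPart_conj (isPPart_secElt hk hC' hy) c) (isPPart_secElt hk hC' hz)
    have hcC : c ∈ C := (hC c).mpr (mul_inv_eq_iff_eq_mul.mp hxc)
    refine isConj_iff.mpr ⟨⟨c, hcC⟩, Subtype.ext (mul_left_cancel (a := x) ?_)⟩
    calc x * (c * (y : G) * c⁻¹) = (c * x * c⁻¹) * (c * (y : G) * c⁻¹) := by rw [hxc]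
      _ = c * (x * (y : G)) * c⁻¹ := by group
      _ = x * (z : G) := hc
  · intro h
    obtain ⟨c, rfl⟩ := isConj_iff.mp h
    refine isConj_iff.mpr ⟨(c : G), ?_⟩
    simp only [Subgroup.coe_mul, InvMemClass.coe_inv, ← mul_assoc, (hC' c).eq]

theorem card_centralizer_secElt (hp : p.Prime) {x : G} (hxp : ∃ k : ℕ, orderOf x = p ^ k)
    (hC : ∀ t : G, t ∈ C ↔ Commute t x) {y : C} (hy : ¬ p ∣ orderOf y) :
    Nat.card (Subgroup.centralizer ({x * (y : G)} : Set G)) =
      Nat.card (Subgroup.centralizer ({y} : Set C)) := by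
  have hC' : ∀ t : C, Commute (t : G) x := fun t => (hC t).mp t.2
  obtain ⟨k, hk⟩ := hxp
  have h : Subgroup.centralizer ({x * (y : G)} : Set G) =
      (Subgroup.centralizer ({y} : Set C)).map C.subtype := by
    ext c
    simp only [Subgroup.mem_centralizer_singleton_iff, Subgroup.mem_map, Subgroup.coe_subtype]
    constructor
    · intro hc
      have hc' : c * (x * (y : G)) * c⁻¹ = x * (y : G) := by rw [hc, mul_inv_cancel_right]
      have hxc : c * x * c⁻¹ = x := isPPart_unique hp
        (hc' ▸ isPPart_conj (isPPart_secElt hk hC' hy) c) (isPPart_secElt hk hC' hy)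
      have hcC : c ∈ C := (hC c).mpr (mul_inv_eq_iff_eq_mul.mp hxc)
      refine ⟨⟨c, hcC⟩, Subtype.ext (mul_left_cancel (a := x) ?_), rfl⟩
      show x * (c * (y : G)) = x * ((y : G) * c)
      rw [← mul_assoc x (y : G), ← hc]
      simp only [← mul_assoc, ((hC c).mp hcC).eq]
    · rintro ⟨d, hd, rfl⟩
      have hd' : (d : G) * (y : G) = (y : G) * d := congrArg Subtype.val hd
      rw [← mul_assoc, (hC' d).eq, mul_assoc, hd', mul_assoc]
  rw [h, Subgroup.card_map_of_injective (Subgroup.subtype_injective _)]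

variable [Fintype (IrrCharacter G)]

/-- The coefficients of the regular values of the sections are orthogonal. -/
theorem sum_secCoeff (hM : IsPModular p M) {x : G} (hxp : ∃ k : ℕ, orderOf x = p ^ k)
    (hC : ∀ t : G, t ∈ C ↔ Commute t x) (η η' : IrrCharacter C) :
    ∑ χ : IrrCharacter G, classInner (regFun p (secFun x C χ)) (η : C → ℂ) *
      conj (classInner (regFun p (secFun x C χ)) (η' : C → ℂ)) = regInner p η' η := by
  classical
  have hne : (Nat.card C : ℂ) ≠ 0 := Nat.cast_ne_zero.mpr Nat.card_pos.ne'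
  have hinner : ∀ y z : C, ¬ p ∣ orderOf y → ¬ p ∣ orderOf z →
      ∑ χ : IrrCharacter G, secFun x C χ y * conj (secFun x C χ z) =
        ∑ θ : IrrCharacter C, (θ : C → ℂ) y * conj ((θ : C → ℂ) z) := by
    intro y z hy hz
    simp only [secFun]
    rw [Char.sum_irr_mul_conj, Char.sum_irr_mul_conj, card_centralizer_secElt hM.1 hxp hC hy]
    by_cases h : IsConj y z
    · rw [if_pos h, if_pos ((isConj_secElt_iff hM.1 hxp hC hy hz).mpr h)]
    · rw [if_neg h, if_neg (mt (isConj_secElt_iff hM.1 hxp hC hy hz).mp h)]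
  have hexp : ∀ χ : IrrCharacter G, classInner (regFun p (secFun x C χ)) (η : C → ℂ) *
      conj (classInner (regFun p (secFun x C χ)) (η' : C → ℂ)) =
      (Nat.card C : ℂ)⁻¹ * (Nat.card C : ℂ)⁻¹ * ∑ y : C, ∑ z : C,
        (if p ∣ orderOf y ∨ p ∣ orderOf z then 0 else secFun x C χ y * conj (secFun x C χ z)) *
          (conj ((η : C → ℂ) y) * (η' : C → ℂ) z) := by
    intro χ
    rw [classInner, classInner, map_mul, map_inv₀, map_natCast, map_sum, mul_mul_mul_comm,
      Finset.sum_mul_sum]
    congr 1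
    refine Finset.sum_congr rfl fun y _ => Finset.sum_congr rfl fun z _ => ?_
    by_cases hy : p ∣ orderOf y
    · simp [regFun, hy]
    by_cases hz : p ∣ orderOf z
    · simp [regFun, hz]
    simp [regFun, hy, hz]
    ring
  have hsame : ∀ θ : IrrCharacter C, classInner (regFun p (θ : C → ℂ)) (η : C → ℂ) *
      conj (classInner (regFun p (θ : C → ℂ)) (η' : C → ℂ)) =
      (Nat.card C : ℂ)⁻¹ * (Nat.card C : ℂ)⁻¹ * ∑ y : C, ∑ z : C,
        (if p ∣ orderOf y ∨ p ∣ orderOf z then 0 else (θ : C → ℂ) y * conj ((θ : C → ℂ) z)) *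
          (conj ((η : C → ℂ) y) * (η' : C → ℂ) z) := by
    intro θ
    rw [classInner, classInner, map_mul, map_inv₀, map_natCast, map_sum, mul_mul_mul_comm,
      Finset.sum_mul_sum]
    congr 1
    refine Finset.sum_congr rfl fun y _ => Finset.sum_congr rfl fun z _ => ?_
    by_cases hy : p ∣ orderOf y
    · simp [regFun, hy]
    by_cases hz : p ∣ orderOf z
    · simp [regFun, hz]
    simp [regFun, hy, hz]
    ring
  have hflip : ∑ θ : IrrCharacter C, classInner (regFun p (θ : C → ℂ)) (η : C → ℂ) *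
      conj (classInner (regFun p (θ : C → ℂ)) (η' : C → ℂ)) = regInner p η' η := by
    rw [← sum_regInner_mul_regInner p η' η]
    refine Finset.sum_congr rfl fun θ _ => ?_
    show regInner p θ η * conj (regInner p θ η') = _
    rw [conj_regInner, mul_comm]
  rw [← hflip, Finset.sum_congr rfl fun χ _ => hexp χ, Finset.sum_congr rfl fun θ _ => hsame θ,
    ← Finset.mul_sum, ← Finset.mul_sum]
  congr 1
  rw [Finset.sum_comm]
  conv_rhs => rw [Finset.sum_comm]
  refine Finset.sum_congr rfl fun y _ => ?_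
  rw [Finset.sum_comm]
  conv_rhs => rw [Finset.sum_comm]
  refine Finset.sum_congr rfl fun z _ => ?_
  rw [← Finset.sum_mul, ← Finset.sum_mul]
  congr 1
  by_cases h : p ∣ orderOf y ∨ p ∣ orderOf z
  · simp [h]
  · simp only [if_neg h]
    push Not at h
    exact hinner y z h.1 h.2

/-- Orthogonality of block parts. -/
theorem sum_blockPart_mul_conj (hM : IsPModular p M) {x : G} (hxp : ∃ k : ℕ, orderOf x = p ^ k)
    (hC : ∀ t : G, t ∈ C ↔ Commute t x) {b b' : Set (IrrCharacter C)}
    [DecidablePred (· ∈ b)] [Decidable (b = b')] (hb : IsPBlock M b) (hb' : IsPBlock M b') {y z : C}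
    (hy : ¬ p ∣ orderOf y) (hz : ¬ p ∣ orderOf z) :
    ∑ χ : IrrCharacter G, blockPart b (secFun x C χ) y * conj (blockPart b' (secFun x C χ) z) =
      if b = b' then ∑ η ∈ Finset.univ.filter (· ∈ b), (η : C → ℂ) y * conj ((η : C → ℂ) z) else 0 := by
  classical
  have hC' : ∀ t : C, Commute (t : G) x := fun t => (hC t).mp t.2
  have h1 : ∀ χ : IrrCharacter G, blockPart b (secFun x C χ) y * conj (blockPart b' (secFun x C χ) z) =
      ∑ η ∈ Finset.univ.filter (· ∈ b), ∑ η' ∈ Finset.univ.filter (· ∈ b'),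
        classInner (regFun p (secFun x C χ)) (η : C → ℂ) *
          conj (classInner (regFun p (secFun x C χ)) (η' : C → ℂ)) *
            ((η : C → ℂ) y * conj ((η' : C → ℂ) z)) := by
    intro χ
    rw [blockPart_regular hM hb (isClassFunction_secFun hC' χ) hy,
      blockPart_regular hM hb' (isClassFunction_secFun hC' χ) hz, map_sum, Finset.sum_mul_sum]
    refine Finset.sum_congr rfl fun η _ => Finset.sum_congr rfl fun η' _ => ?_
    rw [map_mul]
    ring
  rw [Finset.sum_congr rfl fun χ _ => h1 χ, Finset.sum_comm]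
  split_ifs with hbb
  · subst hbb
    refine Finset.sum_congr rfl fun η hη => ?_
    rw [Finset.sum_comm]
    simp only [← Finset.sum_mul, sum_secCoeff hM hxp hC]
    rw [Finset.sum_congr rfl (g := fun η' : IrrCharacter C => (η : C → ℂ) y *
      conj (regInner p η η' * (η' : C → ℂ) z)) fun η' _ => by rw [map_mul, conj_regInner]; ring,
      ← Finset.mul_sum, ← map_sum]
    congr 2
    have h2 := sum_regInner_mul p η z
    simp only [regFun, hz, if_false] at h2
    rw [← h2]
    refine Finset.sum_subset (fun _ _ => Finset.mem_univ _) fun θ _ hθ => ?_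
    have hηb : η ∈ b := by simpa using hη
    have hθb : θ ∉ b := by simpa using hθ
    rw [regInner_eq_zero_of_not_mem hM (.of_isPBlock hb) hηb hθb, zero_mul]
  · refine Finset.sum_eq_zero fun η hη => ?_
    rw [Finset.sum_comm]
    refine Finset.sum_eq_zero fun η' hη' => ?_
    rw [← Finset.sum_mul, sum_secCoeff hM hxp hC, regInner_eq_zero_of_not_mem hM (.of_isPBlock hb')
      (Finset.mem_filter.mp hη').2 fun h => hbb
        (isPBlock_eq_of_mem hb hb' (Finset.mem_filter.mp hη).2 h), zero_mul]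

/-- A character on a section as the sum of its block parts. -/
theorem secFun_eq_sum_blockPart (hM : IsPModular p M) {x : G} (hC : ∀ t : C, Commute (t : G) x)
    (χ : IrrCharacter G) (y : C) (T : Finset (Set (IrrCharacter C)))
    (hT : ∀ b, b ∈ T ↔ IsPBlock M b) :
    secFun x C χ y = ∑ b ∈ T, blockPart b (secFun x C χ) y := by
  classical
  have h := congrFun (Char.classFun_expand (isClassFunction_secFun hC χ)) y
  simp only [Finset.sum_apply, Pi.smul_apply, smul_eq_mul] at h
  rw [h, ← Finset.sum_fiberwise_of_maps_to (t := T) (g := fun η : IrrCharacter C => blockOf M (η : C → ℂ))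
    (fun η _ => (hT _).mpr (isPBlock_blockOf η))]
  refine Finset.sum_congr rfl fun b hb => ?_
  rw [blockPart_eq]
  refine Finset.sum_congr ?_ fun _ _ => rfl
  ext η
  simp only [Finset.mem_filter, Finset.mem_univ, true_and]
  exact ⟨fun e => e ▸ self_mem_blockOf η, fun hη => (isPBlock_eq_blockOf ((hT b).mp hb) hη).symm⟩

/-- Block orthogonality inside a section: only the inducing blocks of the centralizer contribute. -/
theorem sum_mem_block_secFun (hM : IsPModular p M) {x : G} (hxp : ∃ k : ℕ, orderOf x = p ^ k)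
    (hC : ∀ t : G, t ∈ C ↔ Commute t x) {B : Set (IrrCharacter G)} [DecidablePred (· ∈ B)]
    (hB : IsPBlock M B) (T : Finset (Set (IrrCharacter C)))
    (hT : ∀ b, b ∈ T ↔ IsInducedBlock M C b B) {y z : C}
    (hy : ¬ p ∣ orderOf y) (hz : ¬ p ∣ orderOf z) :
    ∑ χ ∈ Finset.univ.filter (· ∈ B), (χ : G → ℂ) (x * (y : G)) * conj ((χ : G → ℂ) (x * (z : G))) =
      ∑ b ∈ T, ∑ᶠ η ∈ b, (η : C → ℂ) y * conj ((η : C → ℂ) z) := by
  classical
  have hC' : ∀ t : C, Commute (t : G) x := fun t => (hC t).mp t.2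
  let U : Finset (Set (IrrCharacter C)) := Finset.univ.filter (fun b => IsPBlock M b)
  have hU : ∀ b, b ∈ U ↔ IsPBlock M b := fun b => by simp [U]
  have hsub : ∀ {w : C}, ¬ p ∣ orderOf w → ∀ χ ∈ Finset.univ.filter (· ∈ B),
      (χ : G → ℂ) (x * (w : G)) = ∑ b ∈ T, blockPart b (secFun x C χ) w := by
    intro w hw χ hχ
    rw [show (χ : G → ℂ) (x * (w : G)) = secFun x C χ w from rfl,
      secFun_eq_sum_blockPart hM hC' χ w U hU]
    refine (Finset.sum_subset (fun b hb => (hU b).mpr ((hT b).mp hb).1) fun b hb hbT => ?_).symm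
    obtain ⟨B', hB'⟩ := exists_induced_centralizer hM hxp hC ((hU b).mp hb)
    refine blockPart_secFun_eq_zero hM hxp hC hB' (fun hmem => hbT ((hT b).mpr ?_)) hw
    rwa [isPBlock_eq_of_mem hB hB'.2.1 (Finset.mem_filter.mp hχ).2 hmem]
  rw [Finset.sum_congr rfl fun χ hχ => by rw [hsub hy χ hχ, hsub hz χ hχ, map_sum, Finset.sum_mul_sum],
    Finset.sum_comm]
  refine Finset.sum_congr rfl fun b hb => ?_
  rw [Finset.sum_comm]
  have hbi := (hT b).mp hb
  rw [Finset.sum_congr rfl (g := fun b' => if b = b' then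
      ∑ η ∈ Finset.univ.filter (· ∈ b), (η : C → ℂ) y * conj ((η : C → ℂ) z) else 0) fun b' hb' => ?_,
    Finset.sum_ite_eq, if_pos hb, finsum_mem_eq_toFinset_sum]
  · exact Finset.sum_congr (by ext; simp) fun _ _ => rfl
  · rw [← sum_blockPart_mul_conj hM hxp hC hbi.1 ((hT b').mp hb').1 hy hz]
    refine Finset.sum_subset (Finset.filter_subset _ _) fun χ _ hχ => ?_
    rw [blockPart_secFun_eq_zero hM hxp hC hbi (by simpa using hχ) hy, zero_mul]

/-- Norms on the regular elements give the regular rank. -/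
theorem sum_regular_norm_eq_rank (hM : IsPModular p M) {b : Set (IrrCharacter C)}
    [DecidablePred (· ∈ b)] (hb : IsBlockUnion M b) :
    ∑ y ∈ Finset.univ.filter (fun y : C => ¬ p ∣ orderOf y),
      ∑ η ∈ Finset.univ.filter (· ∈ b), (η : C → ℂ) y * conj ((η : C → ℂ) y) =
      (Nat.card C : ℂ) * (blockRank p b : ℂ) := by
  classical
  have := Fintype.ofFinite (ConjClasses C)
  rw [blockRank_eq_sum_regInner hM hb, Finset.mul_sum, Finset.sum_comm]
  refine Finset.sum_congr rfl fun η _ => ?_
  rw [card_mul_regInner]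
  exact Finset.sum_congr rfl fun y _ => by rw [Char.irr_inv]

end CfsgLib.Block
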