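import Cfsg.Agent.Lib.Block.MaxPairs
import Cfsg.Agent.Lib.Block.Subsection

/-!
# The reduced character as a functional: non-vanishing at all pairs for height zero
-/

open Finset MonoidAlgebra
open scoped ComplexConjugate

set_option linter.unusedSectionVars false

namespace CfsgLib.Block

open Cfsg

open scoped Pair

universe u

variable {p : ℕ} {M : Ideal AlgInt} [M.IsMaximal] {G : Type u} [Group G] [Fintype G] [DecidableEq G]
  {Q R : Subgroup G}

variable (M) in
/-- The reduced character extended linearly to the group algebra. -/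
noncomputable def trB (χ : IrrCharacter G) (y : MonoidAlgebra (ResField M) G) : ResField M :=
  ∑ g : G, y.coeff g * res M (irrLoc M χ g)

theorem irrLoc_conj (χ : IrrCharacter G) (g c : G) :
    irrLoc M χ (c * g * c⁻¹) = irrLoc M χ g :=
  Subtype.ext (by simp only [coe_irrLoc]; exact Char.isClassFunction_irr χ g c)

theorem trB_single (χ : IrrCharacter G) (g : G) :
    trB M χ (single g 1) = res M (irrLoc M χ g) := by
  rw [trB, Finset.sum_eq_single g] <;> simp +contextual

theorem trB_sum {ι : Type*} (s : Finset ι) (χ : IrrCharacter G)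
    (y : ι → MonoidAlgebra (ResField M) G) : trB M χ (∑ i ∈ s, y i) = ∑ i ∈ s, trB M χ (y i) := by
  simp only [trB, coeff_sum_apply, Finset.sum_mul]
  exact Finset.sum_comm

theorem trB_smul (χ : IrrCharacter G) (a : ResField M) (y : MonoidAlgebra (ResField M) G) :
    trB M χ (a • y) = a * trB M χ y := by
  simp only [trB, MonoidAlgebra.coeff_smul, Finsupp.smul_apply, smul_eq_mul, Finset.mul_sum, mul_assoc]

theorem trB_cj (χ : IrrCharacter G) (n : G) (y : MonoidAlgebra (ResField M) G) :
    trB M χ (cj n y) = trB M χ y := by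
  refine Fintype.sum_equiv (MulAut.conj n⁻¹).toEquiv _ _ fun g => ?_
  simp only [coeff_cj, MulEquiv.toEquiv_eq_coe, EquivLike.coe_coe, MulAut.conj_apply, inv_inv]
  congr 2
  conv_rhs => rw [show n⁻¹ * g * n = n⁻¹ * g * n⁻¹⁻¹ by rw [inv_inv]]
  exact (irrLoc_conj χ g n⁻¹).symm

theorem cj_mul {S : Type*} [CommRing S] (n : G) (a b : MonoidAlgebra S G) :
    cj n (a * b) = cj n a * cj n b := by
  refine ga_ext fun g => ?_
  rw [coeff_cj, coeff_mul_sum, coeff_mul_sum]
  refine Fintype.sum_equiv (MulAut.conj n).toEquiv _ _ fun h => ?_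
  simp only [coeff_cj, MulEquiv.toEquiv_eq_coe, EquivLike.coe_coe, MulAut.conj_apply]
  congr 2 <;> group

theorem cj_single {S : Type*} [CommRing S] (n g : G) (r : S) :
    cj n (single g r) = single (n * g * n⁻¹) r := by
  refine ga_ext fun x => ?_
  simp only [coeff_cj, MonoidAlgebra.coeff_single, Finsupp.single_apply]
  by_cases h : n * g * n⁻¹ = x
  · subst h; simp [mul_assoc]
  · have : ¬ g = n⁻¹ * x * n := fun e => h (by rw [e]; group)
    simp [h, this]

theorem trB_trC (hM : IsPModular p M) (hR : IsPGroup p R) (χ : IrrCharacter G)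
    {y : MonoidAlgebra (ResField M) G} (hy : CInv R y) : trB M χ (trC R y) = trB M χ y := by
  classical
  have hpf : Fact p.Prime := ⟨hM.1⟩
  have := charP_resField hM
  letI : MulAction R G := MulAction.compHom G (MulAut.conj.comp R.subtype)
  have hsm : ∀ (u : R) (x : G), u • x = (u : G) * x * (u : G)⁻¹ := fun _ _ => rfl
  rw [trB, trB]
  conv_rhs => rw [sum_eq_sum_fixedPoints (p := p) hR (fun g => y.coeff g * res M (irrLoc M χ g))
    fun u x => by simp only [hsm, hy u u.2, irrLoc_conj]]
  rw [← Finset.sum_subset (Finset.subset_univ (Finset.univ.filter fun g : G => g ∈ CQ R))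
    fun g _ hg => by rw [suppIn_trC _ g (by simpa using hg), zero_mul]]
  refine Finset.sum_congr ?_ fun g hg => ?_
  · ext g
    simp only [Finset.mem_filter, Finset.mem_univ, true_and, hsm, Subgroup.mem_centralizer_iff,
      SetLike.mem_coe]
    exact ⟨fun h u => by rw [h u u.2, mul_inv_cancel_right],
      fun h u hu => mul_inv_eq_iff_eq_mul.mp (h ⟨u, hu⟩)⟩
  · rw [coeff_trC _ ((Subgroup.mem_centralizer_iff).mpr fun u hu =>
      mul_inv_eq_iff_eq_mul.mp (by simpa [hsm] using (Finset.mem_filter.mp hg).2 ⟨u, hu⟩))]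

theorem cinv_single_of_mem {S : Type*} [CommRing S] {z : G} (hz : z ∈ CQ R) (r : S) :
    CInv R (single z r) := by
  refine cinv_iff_cj.mpr fun u hu => ?_
  rw [cj_single, Subgroup.mem_centralizer_iff.mp hz u hu, mul_inv_cancel_right]

theorem cinv_of_suppIn {S : Type*} [CommRing S] {y : MonoidAlgebra S G} (hy : SuppIn (CQ R) y) :
    CInv R y := by
  intro u hu g
  by_cases hg : g ∈ CQ R
  · rw [Subgroup.mem_centralizer_iff.mp hg u hu, mul_inv_cancel_right]
  · rw [hy g hg, hy _ fun h => hg ?_]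
    exact (cq_conj_iff (Subgroup.le_normalizer hu) g).mpr h

theorem trC_eq_self {S : Type*} [CommRing S] {y : MonoidAlgebra S G} (hy : SuppIn (CQ R) y) :
    trC R y = y := by
  refine ga_ext fun g => ?_
  by_cases hg : g ∈ CQ R
  · exact coeff_trC y hg
  · rw [suppIn_trC _ g hg, hy g hg]

theorem trB_blockBar_mul [Fintype (IrrCharacter G)] (hM : IsPModular p M) {B : Set (IrrCharacter G)}
    (hB : IsPBlock M B) {χ : IrrCharacter G} (hχ : χ ∈ B) (a : MonoidAlgebra (ResField M) G) :
    trB M χ ((blockBar M B : MonoidAlgebra (ResField M) G) * a) = trB M χ a := by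
  classical
  have key : ∀ h : G, ∑ u : G, coeffRes M B u * res M (irrLoc M χ (u * h)) = res M (irrLoc M χ h) := by
    intro h
    have h2 : ∑ u : G, (blockIdem M B : MonoidAlgebra (locRing M) G).coeff u * irrLoc M χ (u * h) =
        irrLoc M χ h := by
      apply Subtype.ext
      rw [AddSubmonoidClass.coe_finsetSum]
      simp only [Subring.coe_mul, coe_irrLoc, coe_coeff_blockIdem hM (IsBlockUnion.of_isPBlock hB)]
      rw [← blockPart_eq_sum B (Char.isClassFunction_irr χ) h, blockPart_eq, Finset.sum_eq_single χ]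
      · rw [Char.classInner_irr_self, one_mul]
      · intro η _ hη
        rw [Char.classInner_irr_ne (Ne.symm hη), zero_mul]
      · intro hn
        exact absurd (Finset.mem_filter.mpr ⟨Finset.mem_univ _, hχ⟩) hn
    have := congrArg (res M) h2
    rw [map_sum] at this
    simpa only [map_mul, coeffRes] using this
  rw [((mem_center_iff_isClassElt.mp (blockBar M B).2).commute a).eq, trB, trB]
  simp only [coeff_mul_sum, Finset.sum_mul]
  rw [Finset.sum_comm]
  refine Finset.sum_congr rfl fun h _ => ?_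
  rw [← key h, Finset.mul_sum]
  refine Fintype.sum_equiv (Equiv.mulLeft h⁻¹) _ _ fun g => ?_
  simp only [Equiv.coe_mulLeft, coeff_blockBar, mul_assoc]
  congr 1
  congr 1
  have : irrLoc M χ (h⁻¹ * g * h) = irrLoc M χ g := by
    have e := irrLoc_conj (M := M) χ g h⁻¹
    rwa [inv_inv] at e
  rw [← mul_assoc, this]

theorem ga_eq_sum_single {S : Type*} [CommRing S] (y : MonoidAlgebra S G) :
    y = ∑ d : G, y.coeff d • single d (1 : S) := by
  refine ga_ext fun g => ?_
  rw [coeff_sum_apply, Finset.sum_eq_single g] <;> simp +contextual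

variable (M) in
/-- The functional of `χ` does not vanish on the part of the pair. -/
def NV (χ : IrrCharacter G) (Q : Subgroup G) (f : Set (IrrCharacter (CQ Q))) : Prop :=
  ∃ c ∈ CQ Q, trB M χ (eG M f * single c 1) ≠ 0

/-- The idempotent of a block on a maximal defect subgroup. -/
theorem trC_blockBar_eq (hM : IsPModular p M) {B : Set (IrrCharacter G)} {D : Subgroup G}
    {f : Set (IrrCharacter (CQ D))} (h : IsMaximalBrauerPair p M B D f) :
    trC D (blockBar M B : MonoidAlgebra (ResField M) G) = eO M D f := by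
  classical
  have hf := h.1.1
  have hB := h.1.2.1
  obtain ⟨χ, hχ⟩ := isPBlock_nonempty hB
  set a := brC M hM hf.1 (blockBar M B) with ha
  set b : ZK M (CQ D) := ∑ f' ∈ orbitN M D f, blockBar M f'.1 with hb
  have hab : a = b := by
    refine eq_of_omegaBar_eq_of_idem hM ?_ ?_ fun ξ => ?_
    · rw [ha, ← map_mul, blockBar_mul_self hM (.of_isPBlock hB)]
    · rw [hb, Finset.sum_mul_sum]
      refine Finset.sum_congr rfl fun f' hf' => ?_
      rw [Finset.sum_eq_single f']
      · exact blockBar_mul_self hM (.of_isPBlock f'.2)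
      · intro g _ hg
        refine eq_of_omegaBar_eq_of_idem hM ?_ (mul_zero 0) fun η => ?_
        · rw [mul_mul_mul_comm, blockBar_mul_self hM (.of_isPBlock f'.2),
            blockBar_mul_self hM (.of_isPBlock g.2)]
        · rw [map_mul, map_zero, omegaBar_blockBar hM (.of_isPBlock f'.2),
            omegaBar_blockBar hM (.of_isPBlock g.2)]
          split_ifs with h1 h2 <;> try simp
          exact hg (Subtype.ext (isPBlock_eq_of_mem g.2 f'.2 h2 h1))
      · exact fun hn => absurd hf' hn
    · have h1 : omegaBar M ξ a = omG M ξ (blockBar M B : MonoidAlgebra (ResField M) G) :=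
        (omG_eq ξ _ a fun k => coeff_brC hM hf.1 _ k).symm
      have h2 : omegaBar M ξ b = omG M ξ (eO M D f) := by
        rw [hb, map_sum, eO, omG_sum]
        exact Finset.sum_congr rfl fun f' _ => (omG_emb ξ (blockBar M f'.1)).symm
      rw [h1, h2]
      set g := blockOf M (ξ : CQ D → ℂ) with hg
      have hgb : IsPBlock M g := isPBlock_blockOf ξ
      obtain ⟨B', hB'⟩ := (existsUnique_block_of_pair hM
        (show IsBrauerPair p M D g from ⟨hf.1, hgb⟩)).exists
      obtain ⟨χ', hχ'⟩ := isPBlock_nonempty hB'.2.1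
      rw [((isBrauerPairOf_iff_omG hM).mp hB').2.2 ξ (self_mem_blockOf ξ) χ' hχ' (blockBar M B),
        omegaBar_blockBar hM (.of_isPBlock hB), omG_eO hM hgb (self_mem_blockOf ξ)]
      by_cases hmem : (⟨g, hgb⟩ : BlockT M D) ∈ orbitN M D f
      · obtain ⟨n, hn, hne⟩ := mem_orbitN.mp hmem
        have hp : IsBrauerPairOf p M B D g := by
          have e := cjP_eq_of_mem hM hn hf.2
          rw [hne] at e
          have key : ∀ a b : BrauerPairIdx G, a = b → IsBrauerPairOf p M B a.1 a.2 →
              IsBrauerPairOf p M B b.1 b.2 := fun a b h => by subst h; exact id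
          exact key _ _ e (IsBrauerPairOf.conj hM n h.1)
        obtain ⟨B₀, -, huniq⟩ := existsUnique_block_of_pair hM hp.1
        rw [if_pos hmem, if_pos]
        rw [huniq B hp, ← huniq B' hB']
        exact hχ'
      · rw [if_neg hmem, if_neg]
        intro hmem'
        refine hmem (mem_orbitN.mpr ?_)
        rw [← isPBlock_eq_of_mem hB hB'.2.1 hmem' hχ'] at hB'
        exact exists_conjN_eq hM h hB'
  refine ga_ext fun g => ?_
  by_cases hg : g ∈ CQ D
  · have := congrArg (fun z : ZK M (CQ D) => (z : MonoidAlgebra (ResField M) (CQ D)).coeff ⟨g, hg⟩) hab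
    simp only [ha, hb, coeff_brC, AddSubmonoidClass.coe_finsetSum, coeff_sum_apply] at this
    rw [coeff_trC _ hg, this, eO, coeff_sum_apply]
    exact Finset.sum_congr rfl fun f' _ =>
      ((coeff_eG f'.1 ⟨g, hg⟩).trans (coeff_blockBar f'.1 _).symm).symm
  · rw [suppIn_trC _ g hg, suppIn_eO f g hg]

theorem nv_maximal (hM : IsPModular p M) [Fintype (IrrCharacter G)] {B : Set (IrrCharacter G)}
    {χ : IrrCharacter G} (hχ : χ ∈ B) (h0 : blockHeight p B (χ : G → ℂ) = 0) {D : Subgroup G}
    {f : Set (IrrCharacter (CQ D))} (h : IsMaximalBrauerPair p M B D f) : NV M χ D f := by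
  classical
  have hpf : Fact p.Prime := ⟨hM.1⟩
  have hB := h.1.2.1
  obtain ⟨z, hz, hzc, hzω⟩ := exists_isSylowCent_of_isDefectGroup hM hB (isDefectGroup_of_maximal hM h)
  have hzC : z ∈ CQ D := Subgroup.mem_centralizer_iff.mpr fun u hu => (hz.commute u hu).eq
  have hne := res_irr_ne_zero_of_height_zero hM hB hzc hzω hχ h0 (Commute.one_left z) (k := 0) (one_pow _)
  rw [one_mul, ← trB_single, ← trB_blockBar_mul hM hB hχ] at hne
  have hsupp : SuppIn (CQ D) (single z (1 : ResField M)) := suppIn_single hzC 1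
  rw [← trB_trC hM h.1.1.1 χ ((cinv_of_central _ _).mul (cinv_single_of_mem hzC 1)),
    trC_mul hM h.1.1.1 (cinv_of_central _ _) (cinv_single_of_mem hzC 1), trC_eq_self hsupp,
    trC_blockBar_eq hM h, eO, Finset.sum_mul, trB_sum] at hne
  obtain ⟨f', hf', hne'⟩ := Finset.exists_ne_zero_of_sum_ne_zero hne
  obtain ⟨n, hn, hnf⟩ := mem_orbitN.mp hf'
  refine ⟨n⁻¹ * z * n, ?_, ?_⟩
  · have := (cq_conj_iff (inv_mem hn) z).mp hzC
    rwa [inv_inv] at this
  · rw [← hnf, eG_conjN hn] at hne'
    rwa [← trB_cj χ n, cj_mul, cj_single,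
      show n * (n⁻¹ * z * n) * n⁻¹ = z by group]

theorem NSub.nv_mem (hM : IsPModular p M) {χ : IrrCharacter G} {f : Set (IrrCharacter (CQ Q))}
    {g : Set (IrrCharacter (CQ R))} (h : NSub p M Q f R g) (hne : NV M χ R g) :
    ∃ c ∈ CQ R, trB M χ (eG M f * single c 1) ≠ 0 := by
  classical
  obtain ⟨c, hc, hne⟩ := hne
  have hR := h.pairR.1
  -- `trC R (eG f)` fixes `eG g`
  have habs : trC R (eG M f) * eG M g = eG M g := by
    have hyR : CInv (CQ R) (trC R (eG M f)) :=
      (cinv_cq_eG h.le f).trC (centralizer_le_normalizer' R)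
    set z := cenOf M (trC R (eG M f)) hyR with hz
    have hzemb : emb (z : MonoidAlgebra (ResField M) (CQ R)) = trC R (eG M f) :=
      (eq_emb_of_suppIn (suppIn_trC (eG M f))).symm
    have hzz : z * z = z := by
      refine Subtype.ext (ga_ext fun k => ?_)
      have e := congrArg (fun y => trC R y) (eG_mul_self hM h.pairL.2)
      simp only [trC_mul hM hR h.stab h.stab] at e
      rw [← hzemb, ← emb_mul] at e
      rw [MulMemClass.coe_mul, ← coeff_emb_coe (H := CQ R) (R := ResField M), e, coeff_emb_coe]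
    have heq : z * blockBar M g = blockBar M g := by
      refine eq_of_omegaBar_eq_of_idem hM ?_ (blockBar_mul_self hM (.of_isPBlock h.pairR.2)) fun ξ => ?_
      · rw [mul_mul_mul_comm, hzz, blockBar_mul_self hM (.of_isPBlock h.pairR.2)]
      · rw [map_mul, omegaBar_blockBar hM (.of_isPBlock h.pairR.2)]
        split_ifs with hξ
        · rw [mul_one, omG_cenOf ξ _ hyR, omG_congr ξ (y' := eG M f) fun x hx => coeff_trC _ hx,
            h.one ξ hξ]
        · rw [mul_zero]
    rw [← hzemb, eG, ← emb_mul, ← MulMemClass.coe_mul, heq]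
  have hsupp : SuppIn (CQ R) (eG M g * single c (1 : ResField M)) :=
    (suppIn_eG g).mul (suppIn_single hc 1)
  set y := eG M g * single c (1 : ResField M) with hy
  have h1 : trB M χ (eG M f * y) = trB M χ y := by
    rw [← trB_trC hM hR χ (h.stab.mul (cinv_of_suppIn hsupp)), trC_mul hM hR h.stab (cinv_of_suppIn hsupp),
      trC_eq_self hsupp, hy, ← mul_assoc, habs]
  rw [← h1, ga_eq_sum_single y, Finset.mul_sum, trB_sum] at hne
  obtain ⟨d, -, hd⟩ := Finset.exists_ne_zero_of_sum_ne_zero hne
  rw [Algebra.mul_smul_comm, trB_smul] at hd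
  refine ⟨d, by_contra fun hdR => ?_, right_ne_zero_of_mul hd⟩
  exact left_ne_zero_of_mul hd (hsupp d hdR)

theorem NSub.nv (hM : IsPModular p M) {χ : IrrCharacter G} {f : Set (IrrCharacter (CQ Q))}
    {g : Set (IrrCharacter (CQ R))} (h : NSub p M Q f R g) (hne : NV M χ R g) : NV M χ Q f :=
  let ⟨c, hc, hne'⟩ := h.nv_mem hM hne
  ⟨c, cq_mono h.le hc, hne'⟩

theorem SubpairLE.nv (hM : IsPModular p M) {χ : IrrCharacter G} {f : Set (IrrCharacter (CQ Q))}
    {g : Set (IrrCharacter (CQ R))} (h : SubpairLE p M Q f R g) : NV M χ R g → NV M χ Q f := by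
  suffices ∀ {a b : BrauerPairIdx G}, Relation.ReflTransGen (NormalSubpairRel p M) a b →
      NV M χ b.1 b.2 → NV M χ a.1 a.2 from this h
  intro a b h
  induction h with
  | refl => exact id
  | tail _ hbc ih => exact fun hc => ih (((isNormalSubpair_iff hM).mp hbc).nv hM hc)

/-- Height zero characters see every pair of their block. -/
theorem nv_of_height_zero (hM : IsPModular p M) [Fintype (IrrCharacter G)]
    {B : Set (IrrCharacter G)} {χ : IrrCharacter G} (hχ : χ ∈ B)
    (h0 : blockHeight p B (χ : G → ℂ) = 0) {f : Set (IrrCharacter (CQ Q))}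
    (h : IsBrauerPairOf p M B Q f) : NV M χ Q f := by
  obtain ⟨D, e, he, hle⟩ := exists_maximal_above hM Q f h
  exact SubpairLE.nv hM hle (nv_maximal hM hχ h0 he)

/-- The value at `g` of a character agrees mod `M` with the one at `x * g` for a commuting `p`-element. -/
theorem res_irr_mul_pElement (hM : IsPModular p M) (χ : IrrCharacter G) {x g : G} (hc : Commute x g)
    {k : ℕ} (hx : x ^ p ^ k = 1) : res M (irrLoc M χ (x * g)) = res M (irrLoc M χ g) := by
  obtain ⟨a, b, hab, hcomm, ⟨j, hj⟩, hb⟩ := exists_isPPart hM.1 g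
  have hcop : Nat.Coprime (p ^ k) (orderOf b) := ((hM.1.coprime_iff_not_dvd.mpr hb)).pow_left _
  have haj : a ^ p ^ j = 1 := by rw [← hj, pow_orderOf_eq_one]
  have hxa : Commute x a := by
    have hu := isPPart_unique hM.1 (isPPart_conj (⟨b, hab, hcomm, ⟨j, hj⟩, hb⟩ : IsPPart p g a) x)
      (show IsPPart p (x * g * x⁻¹) a from by
        rw [hc.eq, mul_inv_cancel_right]; exact ⟨b, hab, hcomm, ⟨j, hj⟩, hb⟩)
    exact mul_inv_eq_iff_eq_mul.mp hu
  have hxb : Commute x b := by
    have : b = a⁻¹ * g := by rw [← hab, inv_mul_cancel_left]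
    rw [this]
    exact hxa.inv_right.mul_right hc
  have h1 : (x * a) ^ p ^ (k + j) = 1 := by
    rw [hxa.mul_pow, pow_add, pow_mul, hx, one_pow, one_mul, mul_comm, pow_mul, haj, one_pow]
  rw [← hab, ← mul_assoc, res_irr_regularPart hM χ (hxb.mul_left hcomm) h1,
    res_irr_regularPart hM χ hcomm haj]

/-- Non-vanishing of the subsection column of a height zero character. -/
theorem exists_blockPart_ne_zero (hM : IsPModular p M) [Fintype (IrrCharacter G)]
    {B : Set (IrrCharacter G)} {χ : IrrCharacter G} (hχ : χ ∈ B)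
    (h0 : blockHeight p B (χ : G → ℂ) = 0) {x : G} (hxp : ∃ k : ℕ, orderOf x = p ^ k)
    {C : Subgroup G} (hC : ∀ t : G, t ∈ C ↔ Commute t x)
    {b : Set (IrrCharacter C)} (hb : IsInducedBlock M C b B) :
    ∃ y : C, ¬ p ∣ orderOf y ∧ blockPart b (secFun x C χ) y ≠ 0 := by
  classical
  have hpf : Fact p.Prime := ⟨hM.1⟩
  obtain ⟨k, hk⟩ := hxp
  have hxk : x ^ p ^ k = 1 := by rw [← hk, pow_orderOf_eq_one]
  have hQ : IsPGroup p (Subgroup.zpowers x) := IsPGroup.of_card (n := k) (by rw [Nat.card_zpowers, hk])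
  have hCQ : C = CQ (Subgroup.zpowers x) := by
    ext t
    rw [hC, CQ, Subgroup.zpowers_eq_closure, Subgroup.centralizer_closure]
    exact Subgroup.mem_centralizer_singleton_iff.symm
  subst hCQ
  have hC' : ∀ t : CQ (Subgroup.zpowers x), Commute (t : G) x := fun t => (hC t).mp t.2
  obtain ⟨hbb, hB, hω⟩ := isInducedBlock_iff.mp hb
  have hpair : IsBrauerPairOf p M B (Subgroup.zpowers x) b :=
    (CfsgLib.Block.isBrauerPairOf_iff hM hQ hbb hB).mpr fun ξ hξ χ' hχ' z => by
      rw [← hω ξ hξ χ' hχ' z, omegaBar_resHK_eq_brMap hQ le_rfl (centralizer_le_normalizer' _) hM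
        (by rw [Subgroup.zpowers_le]; exact (hC x).mpr (Commute.refl x)) ξ z]
      rfl
  obtain ⟨c, hc, hne⟩ := nv_of_height_zero hM hχ h0 hpair
  obtain ⟨a, y₀, hay, hcomm, ⟨j, hj⟩, hy₀⟩ := exists_isPPart hM.1 c
  have haj : a ^ p ^ j = 1 := by rw [← hj, pow_orderOf_eq_one]
  have hxa : Commute x a := by
    have hxc : Commute x c := ((hC c).mp hc).symm
    have hu := isPPart_unique hM.1
      (isPPart_conj (⟨y₀, hay, hcomm, ⟨j, hj⟩, hy₀⟩ : IsPPart p c a) x)
      (show IsPPart p (x * c * x⁻¹) a from by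
        rw [hxc.eq, mul_inv_cancel_right]; exact ⟨y₀, hay, hcomm, ⟨j, hj⟩, hy₀⟩)
    exact mul_inv_eq_iff_eq_mul.mp hu
  have haC : a ∈ CQ (Subgroup.zpowers x) := (hC a).mpr hxa.symm
  have hyC : y₀ ∈ CQ (Subgroup.zpowers x) := by
    have : y₀ = a⁻¹ * c := by rw [← hay, inv_mul_cancel_left]
    rw [this]
    exact Subgroup.mul_mem _ (Subgroup.inv_mem _ haC) hc
  refine ⟨⟨y₀, hyC⟩, by rwa [← Subgroup.orderOf_coe], fun h0' => hne ?_⟩
  -- expand both sides through the coefficients of the idempotent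
  have hexp : trB M χ (eG M b * single c 1) =
      ∑ t : CQ (Subgroup.zpowers x), coeffRes M b t * res M (irrLoc M χ ((t : G) * c)) := by
    rw [trB]
    simp only [coeff_mul_single', mul_one]
    refine (Fintype.sum_equiv (Equiv.mulRight c⁻¹) _ (fun g => (eG M b).coeff g * res M (irrLoc M χ (g * c)))
      fun g => by simp).trans ?_
    rw [← Finset.sum_subset (Finset.subset_univ (Finset.univ.filter (fun g : G => g ∈ CQ (Subgroup.zpowers x))))
      fun g _ hg => by rw [suppIn_eG b g (by simpa using hg), zero_mul],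
      Finset.sum_subtype (p := fun g => g ∈ CQ (Subgroup.zpowers x)) _ (fun g => by simp)]
    exact Finset.sum_congr rfl fun t _ => by rw [coeff_eG]
  -- the class function `χ` on the centralizer
  have := Fintype.ofFinite (IrrCharacter (CQ (Subgroup.zpowers x)))
  let θ : CQ (Subgroup.zpowers x) → ℂ := fun t => (χ : G → ℂ) (t : G)
  have hθc : IsCharacter _ θ := Char.isCharacter_comp (Char.isCharacter_irr χ) (Subgroup.subtype _)
  have hθ : ∀ u : CQ (Subgroup.zpowers x), ∑ t : CQ (Subgroup.zpowers x),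
      coeffRes M b t * res M (irrLoc M χ ((t : G) * (u : G))) =
      res M (∑ η ∈ Finset.univ.filter (· ∈ b),
        ((Classical.choose (Char.classInner_char_irr_nat hθc η) : ℕ) : locRing M) * irrLoc M η u) := by
    intro u
    have e : (∑ t : CQ (Subgroup.zpowers x),
        (blockIdem M b : MonoidAlgebra (locRing M) _).coeff t * irrLoc M χ ((t : G) * (u : G))) =
        ∑ η ∈ Finset.univ.filter (· ∈ b),
          ((Classical.choose (Char.classInner_char_irr_nat hθc η) : ℕ) : locRing M) * irrLoc M η u := by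
      apply Subtype.ext
      rw [AddSubmonoidClass.coe_finsetSum, AddSubmonoidClass.coe_finsetSum]
      simp only [Subring.coe_mul, coe_irrLoc, Subring.coe_natCast,
        coe_coeff_blockIdem hM (IsBlockUnion.of_isPBlock hbb)]
      refine Eq.trans (blockPart_eq_sum b (Char.isClassFunction_of_isCharacter hθc) u).symm ?_
      rw [blockPart_eq]
      refine Finset.sum_congr rfl fun η _ => ?_
      exact congrArg (fun z : ℂ => z * _) (Classical.choose_spec (Char.classInner_char_irr_nat hθc η))
    rw [← e, map_sum]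
    simp only [map_mul, coeffRes]
  rw [hexp, hθ ⟨c, hc⟩, map_sum]
  have hcy : ∀ η : IrrCharacter (CQ (Subgroup.zpowers x)),
      res M (irrLoc M η ⟨c, hc⟩) = res M (irrLoc M η ⟨y₀, hyC⟩) := by
    intro η
    have : (⟨c, hc⟩ : CQ (Subgroup.zpowers x)) = ⟨a, haC⟩ * ⟨y₀, hyC⟩ := Subtype.ext hay.symm
    rw [this]
    exact res_irr_regularPart hM η (Subtype.ext hcomm.eq) (k := j) (Subtype.ext haj)
  simp only [map_mul, hcy]
  simp only [← map_mul, ← map_sum]
  rw [← hθ ⟨y₀, hyC⟩]
  -- move `x` out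
  have hmove : ∀ t : CQ (Subgroup.zpowers x),
      res M (irrLoc M χ ((t : G) * y₀)) = res M (irrLoc M χ (x * ((t : G) * y₀))) := fun t =>
    (res_irr_mul_pElement hM χ ((hC _).mp (Subgroup.mul_mem _ t.2 hyC)).symm hxk).symm
  simp only [hmove, coeffRes, ← map_mul, ← map_sum]
  rw [← map_zero (res M)]
  congr 1
  apply Subtype.ext
  rw [AddSubmonoidClass.coe_finsetSum, ZeroMemClass.coe_zero, ← h0',
    blockPart_eq_sum b (isClassFunction_secFun hC' χ)]
  simp only [Subring.coe_mul, coe_irrLoc, secFun, Subgroup.coe_mul,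
    coe_coeff_blockIdem hM (IsBlockUnion.of_isPBlock hbb)]

end CfsgLib.Block
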