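import Cfsg.Agent.Lib.Block.CycloNorm
import Cfsg.Agent.Lib.Block.TraceFun
import Cfsg.Agent.Lib.Block.LocalDefect
import Cfsg.Agent.Lib.Char.CenterHom

/-!
# Contributions of a subsection with full defect

For a height zero character and a subsection whose block has the defect of the block, the scaled
contributions are non-zero cyclotomic integers; consequence `k ^ 2 ≤ p ^ (2 d) l`.
-/

open Finset MonoidAlgebra
open scoped ComplexConjugate

set_option linter.unusedSectionVars false

namespace CfsgLib.Block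

open Cfsg

open scoped Pair

universe u

variable {p : ℕ} {M : Ideal AlgInt} [M.IsMaximal] {G : Type u} [Group G] [Fintype G] [DecidableEq G]
  [Fintype (IrrCharacter G)] {C : Subgroup G} [Fintype (IrrCharacter C)]

/-- Multiplicities in the restriction. -/
noncomputable def resMult (χ : IrrCharacter G) (η : IrrCharacter C) : ℕ :=
  Classical.choose (Char.classInner_char_irr_nat
    (Char.isCharacter_comp (Char.isCharacter_irr χ) C.subtype) η)

theorem res_eq_sum_resMult (χ : IrrCharacter G) (t : C) :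
    (χ : G → ℂ) (t : G) = ∑ η : IrrCharacter C, (resMult χ η : ℂ) * (η : C → ℂ) t := by
  have h := congrFun (Char.classFun_expand (Char.isClassFunction_of_isCharacter
    (Char.isCharacter_comp (Char.isCharacter_irr χ) C.subtype))) t
  simp only [Finset.sum_apply, Pi.smul_apply, smul_eq_mul, Subgroup.coe_subtype] at h
  rw [h]
  refine Finset.sum_congr rfl fun η _ => ?_
  congr 1
  exact Classical.choose_spec (Char.classInner_char_irr_nat
    (Char.isCharacter_comp (Char.isCharacter_irr χ) C.subtype) η)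

/-- A central element acts by a root of unity. -/
theorem exists_central_scalar {A : Type u} [Group A] [Finite A] (η : IrrCharacter A) {z : A}
    (hz : ∀ t : A, Commute z t) {n : ℕ} (hn : z ^ n = 1) :
    ∃ l : ℂ, l ^ n = 1 ∧ ∀ t : A, (η : A → ℂ) (z * t) = l * (η : A → ℂ) t := by
  obtain ⟨m, ρ, hρ, hη⟩ := η.2
  obtain ⟨l, hl⟩ := Char.schur_scalar ρ (ρ z) fun x => by rw [← map_mul, ← map_mul, (hz x).eq]
  refine ⟨l, ?_, fun t => ?_⟩
  · have hpow : ∀ k : ℕ, ρ (z ^ k) = l ^ k • LinearMap.id := by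
      intro k
      induction k with
      | zero => rw [pow_zero, map_one, pow_zero, one_smul]; rfl
      | succ k ih =>
        rw [pow_succ, map_mul, ih, hl]
        ext v
        simp [smul_smul, pow_succ, mul_comm]
    have h1 := hpow n
    rw [hn, map_one] at h1
    have := Char.nontrivial_of_irreducible ρ
    obtain ⟨v, hv⟩ := exists_ne (0 : Fin m → ℂ)
    have h2 := LinearMap.congr_fun h1 v
    simp only [Module.End.one_apply, LinearMap.smul_apply, LinearMap.id_apply] at h2
    exact smul_left_injective ℂ hv (show l ^ n • v = (1 : ℂ) • v by rw [one_smul]; exact h2.symm)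
  · rw [← hη, Representation.character, Representation.character, map_mul, hl, smul_mul_assoc,
      map_smul, smul_eq_mul]
    rfl

variable (p M) in
/-- The unit part of the degree, scaled by the defect. -/
noncomputable def degW (hM : IsPModular p M) (A : Type u) [Group A] [Finite A] (d : ℕ)
    (η : IrrCharacter A) : locRing M :=
  ((p ^ (degVal p η + d - (Nat.card A).factorization p) *
    ordCompl[p] (charDegree (η : A → ℂ)) : ℕ) : locRing M) *
      invNat hM (Nat.not_dvd_ordCompl hM.1 (Nat.card_pos.ne' : Nat.card A ≠ 0))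

theorem coe_degW (hM : IsPModular p M) {A : Type u} [Group A] [Fintype A] {d : ℕ}
    {η : IrrCharacter A} (h : (Nat.card A).factorization p ≤ degVal p η + d) :
    (degW p M hM A d η : ℂ) * (Nat.card A : ℂ) = (η : A → ℂ) 1 * (p : ℂ) ^ d := by
  obtain ⟨hd, hd0⟩ := charDegree_eq η
  have hA0 : Nat.card A ≠ 0 := Nat.card_pos.ne'
  have hm : ¬ p ∣ ordCompl[p] (Nat.card A) := Nat.not_dvd_ordCompl hM.1 hA0
  have hG' : ((ordCompl[p] (Nat.card A) : ℕ) : ℂ) ≠ 0 :=
    Nat.cast_ne_zero.mpr fun h => hm (h ▸ dvd_zero p)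
  set n := (Nat.card A).factorization p with hn
  have e : (degW p M hM A d η : ℂ) = ((p ^ (degVal p η + d - n) *
      ordCompl[p] (charDegree (η : A → ℂ)) : ℕ) : ℂ) * ((ordCompl[p] (Nat.card A) : ℕ) : ℂ)⁻¹ := rfl
  have eA : (Nat.card A : ℂ) = (p : ℂ) ^ n * ((ordCompl[p] (Nat.card A) : ℕ) : ℂ) := by
    rw [hn]; exact_mod_cast (Nat.ordProj_mul_ordCompl_eq_self (Nat.card A) p).symm
  have ed : (η : A → ℂ) 1 = (p : ℂ) ^ degVal p η * ((ordCompl[p] (charDegree (η : A → ℂ)) : ℕ) : ℂ) := by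
    rw [hd, degVal]
    exact_mod_cast (Nat.ordProj_mul_ordCompl_eq_self (charDegree (η : A → ℂ)) p).symm
  rw [e, eA, ed, Nat.cast_mul, Nat.cast_pow]
  have hpw : (p : ℂ) ^ (degVal p η + d - n) * (p : ℂ) ^ n = (p : ℂ) ^ degVal p η * (p : ℂ) ^ d := by
    rw [← pow_add, ← pow_add, Nat.sub_add_cancel h]
  rw [show ∀ a b c e : ℂ, a * b * e⁻¹ * (c * e) = (a * c) * b * (e⁻¹ * e) from fun a b c e => by ring,
    inv_mul_cancel₀ hG', hpw]
  ring

/-- The residue of a value is a multiple of the central character. -/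
theorem res_irr_eq_degW (hM : IsPModular p M) {A : Type u} [Group A] [Fintype A] [DecidableEq A]
    {d : ℕ} {η : IrrCharacter A} (h : (Nat.card A).factorization p ≤ degVal p η + d) {c : A} {q : ℕ}
    (hq : Nat.card (Subgroup.centralizer ({c} : Set A)) = p ^ d * q) :
    res M (irrLoc M η c) = centralRes M η c * res M (degW p M hM A d η) * (q : ResField M) := by
  rw [centralRes, ← map_natCast (res M), ← map_mul, ← map_mul]
  congr 1
  apply Subtype.ext
  rw [Subring.coe_mul, Subring.coe_mul, SubringClass.coe_natCast, coe_irrLoc]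
  show _ = centralChar (η : A → ℂ) c * _ * _
  have hA : (Nat.card A : ℂ) ≠ 0 := Nat.cast_ne_zero.mpr Nat.card_pos.ne'
  have hw := coe_degW hM h
  have hi : ((Subgroup.centralizer ({c} : Set A)).index : ℂ) * ((p : ℂ) ^ d * (q : ℂ)) =
      (Nat.card A : ℂ) := by
    rw [← Nat.cast_pow, ← Nat.cast_mul, ← hq, ← Nat.cast_mul, Subgroup.index_mul_card]
  have h1 : (η : A → ℂ) 1 ≠ 0 := Char.irr_one_ne_zero η
  have e : centralChar (η : A → ℂ) c * (η : A → ℂ) 1 =
      ((Subgroup.centralizer ({c} : Set A)).index : ℂ) * (η : A → ℂ) c := by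
    rw [centralChar]
    field_simp
  apply mul_left_cancel₀ (mul_ne_zero hA h1)
  calc (Nat.card A : ℂ) * (η : A → ℂ) 1 * (η : A → ℂ) c
      = ((Subgroup.centralizer ({c} : Set A)).index : ℂ) * (η : A → ℂ) c *
          ((η : A → ℂ) 1 * (p : ℂ) ^ d) * (q : ℂ) := by rw [← hi]; ring
    _ = centralChar (η : A → ℂ) c * (η : A → ℂ) 1 *
          ((degW p M hM A d η : ℂ) * (Nat.card A : ℂ)) * (q : ℂ) := by rw [hw, e]
    _ = _ := by ring

/-- The scaled inner product of regular parts, as an integer and modulo `M`. -/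
theorem exists_scaled_regInner (hM : IsPModular p M) {A : Type u} [Group A] [Fintype A]
    [DecidableEq A] [Fintype (IrrCharacter A)] [Fintype (ConjClasses A)] {d : ℕ} {η : IrrCharacter A}
    (h : (Nat.card A).factorization p ≤ degVal p η + d) (ζ : IrrCharacter A) :
    ∃ z : ℤ, (p : ℂ) ^ d * regInner p η ζ = z ∧
      (z : ResField M) = res M (degW p M hM A d η) * regN p M η ζ := by
  obtain ⟨u, -, hu⟩ := exists_regInner_int hM η
  obtain ⟨z₀, hz₀, -⟩ := hu ζ
  set n := (Nat.card A).factorization p with hn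
  obtain ⟨j, hj⟩ := Nat.exists_eq_add_of_le (show n - degVal p η ≤ d by omega)
  have hz : (p : ℂ) ^ d * regInner p η ζ = (((p : ℤ) ^ j * z₀ : ℤ) : ℂ) := by
    push_cast
    rw [← hz₀, hj, pow_add]
    ring
  refine ⟨_, hz, ?_⟩
  obtain ⟨R, hR, hRres⟩ := exists_regN_lift (p := p) (M := M) η ζ
  rw [← map_intCast (res M), ← hRres, ← map_mul]
  congr 1
  apply Subtype.ext
  rw [Subring.coe_mul, SubringClass.coe_intCast, ← hz]
  have hA : (Nat.card A : ℂ) ≠ 0 := Nat.cast_ne_zero.mpr Nat.card_pos.ne'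
  apply mul_left_cancel₀ hA
  rw [show (Nat.card A : ℂ) * ((degW p M hM A d η : ℂ) * (R : ℂ)) =
    ((degW p M hM A d η : ℂ) * (Nat.card A : ℂ)) * R by ring, coe_degW hM h]
  linear_combination -((p : ℂ) ^ d) * hR

open scoped Classical in
/-- The degree-weighted multiplicity of a height zero character in a major subsection is a unit. -/
theorem sum_resMult_degW_ne_zero (hM : IsPModular p M) {x : G} (hxp : ∃ k : ℕ, orderOf x = p ^ k)
    (hC : ∀ t : G, t ∈ C ↔ Commute t x) {b : Set (IrrCharacter C)} {B : Set (IrrCharacter G)}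
    (hb : IsInducedBlock M C b B) (hd : blockDefect p b = blockDefect p B) {χ : IrrCharacter G}
    (hχ : χ ∈ B) (h0 : blockHeight p B (χ : G → ℂ) = 0) :
    ∑ η ∈ Finset.univ.filter (· ∈ b),
      (resMult χ η : ResField M) * res M (degW p M hM C (blockDefect p b) η) ≠ 0 := by
  obtain ⟨k, hk⟩ := hxp
  have hpf : Fact p.Prime := ⟨hM.1⟩
  set Q := Subgroup.zpowers x with hQdef
  have hQ : IsPGroup p Q := IsPGroup.of_card (n := k) (by rw [Nat.card_zpowers, hk])
  have hCQ : C = CQ Q := by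
    ext t
    rw [hC, CQ, hQdef, Subgroup.zpowers_eq_closure, Subgroup.centralizer_closure]
    exact Subgroup.mem_centralizer_singleton_iff.symm
  subst hCQ
  obtain ⟨hbb, hB, hω⟩ := isInducedBlock_iff.mp hb
  have hQC : Q ≤ CQ Q := by
    rw [hQdef, Subgroup.zpowers_le]; exact (hC x).mpr (Commute.refl x)
  have hfQ : IsBrauerPair p M Q b := ⟨hQ, hbb⟩
  have hpair : IsBrauerPairOf p M B Q b :=
    (CfsgLib.Block.isBrauerPairOf_iff hM hQ hbb hB).mpr fun ξ hξ χ' hχ' z => by
      rw [← hω ξ hξ χ' hχ' z,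
        omegaBar_resHK_eq_brMap hQ le_rfl (centralizer_le_normalizer' _) hM hQC ξ z]
      rfl
  obtain ⟨D, hD⟩ := exists_defectGroup hM hbb
  have hDp := isPGroup_defectGroup hM hbb hD
  set R := Q ⊔ D.map (CQ Q).subtype with hR
  obtain ⟨g, hg⟩ : ∃ g, NSub p M Q b R g :=
    ((isLocalBlock_self hbb).conjLE_iff hM hfQ hD hDp).mp (conjLE_of_le le_rfl)
  have hgB : IsBrauerPairOf p M B R g := (hg.isBrauerPairOf_iff hM).mpr hpair
  have hcardD : Nat.card (D.map (CQ Q).subtype) = p ^ blockDefect p b := by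
    rw [Subgroup.card_map_of_injective Subtype.val_injective, defectGroup_card hM hbb hD]
  have hgmax : IsMaximalBrauerPair p M B R g := by
    obtain ⟨D', e, he, hle⟩ := exists_maximal_above hM R g hgB
    have hcard : Nat.card D' ≤ Nat.card R := by
      rw [defectGroup_card hM hB (isDefectGroup_of_maximal hM he), ← hd, ← hcardD]
      exact Nat.card_le_card_of_injective _
        (Subgroup.inclusion_injective (le_sup_right : D.map (CQ Q).subtype ≤ R))
    obtain rfl : R = D' := Subgroup.eq_of_le_of_card_ge (SubpairLE.le hle) hcard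
    rwa [SubpairLE.eq_of_eq hM hle]
  obtain ⟨c, hc, hne⟩ := hg.nv_mem hM (nv_maximal hM hχ h0 hgmax)
  have hcC : c ∈ CQ Q := cq_mono le_sup_left hc
  -- expand the functional
  have hexp : trB M χ (eG M b * single c 1) =
      ∑ t : CQ Q, coeffRes M b t * res M (irrLoc M χ ((t : G) * c)) := by
    rw [trB]
    simp only [coeff_mul_single', mul_one]
    refine (Fintype.sum_equiv (Equiv.mulRight c⁻¹) _ (fun g => (eG M b).coeff g * res M (irrLoc M χ (g * c)))
      fun g => by simp).trans ?_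
    rw [← Finset.sum_subset (Finset.subset_univ (Finset.univ.filter (fun g : G => g ∈ CQ Q)))
      fun g _ hg => by rw [suppIn_eG b g (by simpa using hg), zero_mul],
      Finset.sum_subtype (p := fun g => g ∈ CQ Q) _ (fun g => by simp)]
    exact Finset.sum_congr rfl fun t _ => by rw [coeff_eG]
  have hθc : IsCharacter _ (fun t : CQ Q => (χ : G → ℂ) (t : G)) :=
    Char.isCharacter_comp (Char.isCharacter_irr χ) (CQ Q).subtype
  have e : (∑ t : CQ Q, (blockIdem M b : MonoidAlgebra (locRing M) _).coeff t * irrLoc M χ ((t : G) * c)) =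
      ∑ η ∈ Finset.univ.filter (· ∈ b), (resMult χ η : locRing M) * irrLoc M η ⟨c, hcC⟩ := by
    apply Subtype.ext
    rw [AddSubmonoidClass.coe_finsetSum, AddSubmonoidClass.coe_finsetSum]
    simp only [Subring.coe_mul, coe_irrLoc, Subring.coe_natCast,
      coe_coeff_blockIdem hM (IsBlockUnion.of_isPBlock hbb)]
    refine Eq.trans (blockPart_eq_sum b (Char.isClassFunction_of_isCharacter hθc) ⟨c, hcC⟩).symm ?_
    rw [blockPart_eq]
    refine Finset.sum_congr rfl fun η _ => ?_
    exact congrArg (fun z : ℂ => z * _) (Classical.choose_spec (Char.classInner_char_irr_nat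
      (Char.isCharacter_comp (Char.isCharacter_irr χ) (CQ Q).subtype) η))
  -- the defect group centralizes `c`
  obtain ⟨q, hq⟩ : p ^ blockDefect p b ∣ Nat.card (Subgroup.centralizer ({⟨c, hcC⟩} : Set (CQ Q))) := by
    rw [← defectGroup_card hM hbb hD]
    refine Subgroup.card_dvd_of_le fun u hu => Subgroup.mem_centralizer_singleton_iff.mpr
      (Subtype.ext ?_)
    exact Subgroup.mem_centralizer_iff.mp hc _ (le_sup_right (a := Q) (Subgroup.mem_map_of_mem _ hu))
  obtain ⟨η₀, hη₀⟩ := isPBlock_nonempty hbb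
  intro hzero
  apply hne
  rw [hexp]
  have h1 := congrArg (res M) e
  simp only [map_sum, map_mul, map_natCast] at h1
  refine Eq.trans ?_ (h1.trans ?_)
  · rfl
  · rw [Finset.sum_congr rfl (g := fun η => centralRes M η₀ ⟨c, hcC⟩ * (q : ResField M) *
      ((resMult χ η : ResField M) * res M (degW p M hM (CQ Q) (blockDefect p b) η))) fun η hη => ?_,
      ← Finset.mul_sum, hzero, mul_zero]
    have hηb := (Finset.mem_filter.mp hη).2
    have hle : (Nat.card (CQ Q)).factorization p ≤ degVal p η + blockDefect p b := by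
      have h2 := minDeg_le (p := p) hηb
      show _ ≤ _ + ((Nat.card (CQ Q)).factorization p - minDeg p b)
      omega
    rw [res_irr_eq_degW hM hle hq, centralRes_eq_of_mem hbb hηb hη₀]
    ring

open scoped Classical in
/-- `k ^ 2 ≤ p ^ (2 d) l` for a block with all heights zero and a subsection of full defect. -/
theorem card_sq_le_of_heights_zero (hM : IsPModular p M) {x : G} (hxp : ∃ k : ℕ, orderOf x = p ^ k)
    (hC : ∀ t : G, t ∈ C ↔ Commute t x) {b : Set (IrrCharacter C)} {B : Set (IrrCharacter G)}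
    (hb : IsInducedBlock M C b B) (hd : blockDefect p b = blockDefect p B)
    (hh : ∀ χ ∈ B, blockHeight p B (χ : G → ℂ) = 0) :
    Nat.card B ^ 2 ≤ p ^ (2 * blockDefect p b) * blockRank p b := by
  have hbb := hb.1
  have hS := IsBlockUnion.of_isPBlock hbb
  have hxp' := hxp
  obtain ⟨k, hk⟩ := hxp
  have hC' : ∀ t : C, Commute (t : G) x := fun t => (hC t).mp t.2
  have hxC : x ∈ C := (hC x).mpr (Commute.refl x)
  set x' : C := ⟨x, hxC⟩ with hx'
  have hx'n : x' ^ p ^ k = 1 := Subtype.ext (by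
    rw [Subgroup.coe_pow, OneMemClass.coe_one, hx']
    show x ^ p ^ k = 1
    rw [← hk, pow_orderOf_eq_one])
  choose lam hlam hlamt using fun η : IrrCharacter C =>
    exists_central_scalar η (z := x') (fun t => Subtype.ext (hC' t).symm.eq) hx'n
  set d := blockDefect p b with hdd
  set s : Finset (IrrCharacter C) := Finset.univ.filter (· ∈ b) with hs
  have hmem : ∀ {η}, η ∈ s ↔ η ∈ b := fun {η} => by simp [hs]
  let c : IrrCharacter G → IrrCharacter C → ℂ := fun χ η => (resMult χ η : ℂ) * lam η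
  let a : IrrCharacter G → IrrCharacter C → ℂ := fun χ ζ =>
    classInner (regFun p (secFun x C χ)) (ζ : C → ℂ)
  have hsec : ∀ χ t, secFun x C χ t = ∑ η : IrrCharacter C, c χ η * (η : C → ℂ) t := by
    intro χ t
    show (χ : G → ℂ) ((x' * t : C) : G) = _
    rw [res_eq_sum_resMult]
    exact Finset.sum_congr rfl fun η _ => by rw [hlamt]; simp only [c]; ring
  have hRsym : ∀ η ζ : IrrCharacter C, conj (regInner p η ζ) = regInner p η ζ := fun η ζ => by
    rw [conj_regInner, regInner_comm hM]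
  have ha : ∀ χ, ∀ ζ ∈ s, a χ ζ = ∑ η ∈ s, c χ η * regInner p η ζ := by
    intro χ ζ hζ
    have e : regFun p (secFun x C χ) = ∑ η : IrrCharacter C, c χ η • regFun p (η : C → ℂ) := by
      funext t
      simp only [Finset.sum_apply, Pi.smul_apply, smul_eq_mul, regFun]
      by_cases ht : p ∣ orderOf t
      · simp [ht]
      · simp [ht, hsec χ t]
    simp only [a]
    rw [e, Char.classInner_sum_left]
    simp only [Char.classInner_smul_left]
    symm
    refine Finset.sum_subset (Finset.subset_univ _) fun η _ hη => ?_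
    show c χ η * regInner p η ζ = 0
    rw [regInner_comm hM, regInner_eq_zero_of_not_mem hM hS (hmem.mp hζ) (mt hmem.mpr hη), mul_zero]
  have haR : ∀ χ, ∀ θ ∈ s, ∑ ζ ∈ s, a χ ζ * regInner p ζ θ = a χ θ := by
    intro χ θ hθ
    rw [ha χ θ hθ, Finset.sum_congr rfl fun ζ hζ => by rw [ha χ ζ hζ, Finset.sum_mul],
      Finset.sum_comm]
    refine Finset.sum_congr rfl fun η hη => ?_
    rw [← sum_regInner_mul_regInner p η θ, Finset.mul_sum]
    refine Eq.trans (Finset.sum_congr rfl fun ζ _ => mul_assoc _ _ _) ?_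
    refine Finset.sum_subset (Finset.subset_univ _) fun ζ _ hζ => ?_
    rw [regInner_eq_zero_of_not_mem hM hS (hmem.mp hη) (mt hmem.mpr hζ), zero_mul, mul_zero]
  have ha0 : ∀ χ, χ ∉ B → ∀ θ ∈ s, a χ θ = 0 := by
    intro χ hχ θ hθ
    have e : ∀ y : C, ¬ p ∣ orderOf y → ∑ ζ ∈ s, a χ ζ * (ζ : C → ℂ) y = 0 := fun y hy => by
      rw [← blockPart_secFun_eq_zero hM hxp' hC hb hχ hy,
        blockPart_regular hM hbb (isClassFunction_secFun hC' χ) hy]
    rw [← haR χ θ hθ]
    have hreg : ∀ ζ : IrrCharacter C, regInner p ζ θ = (Nat.card C : ℂ)⁻¹ *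
        ∑ y ∈ Finset.univ.filter (fun y : C => ¬ p ∣ orderOf y),
          (ζ : C → ℂ) y * (θ : C → ℂ) y⁻¹ := fun ζ => by
      rw [← card_mul_regInner, ← mul_assoc,
        inv_mul_cancel₀ (Nat.cast_ne_zero.mpr Nat.card_pos.ne'), one_mul]
    simp only [hreg, Finset.mul_sum]
    rw [Finset.sum_comm]
    refine Finset.sum_eq_zero fun y hy => ?_
    calc ∑ ζ ∈ s, a χ ζ * ((Nat.card C : ℂ)⁻¹ * ((ζ : C → ℂ) y * (θ : C → ℂ) y⁻¹))
        = ((Nat.card C : ℂ)⁻¹ * (θ : C → ℂ) y⁻¹) * ∑ ζ ∈ s, a χ ζ * (ζ : C → ℂ) y := by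
          rw [Finset.mul_sum]
          exact Finset.sum_congr rfl fun ζ _ => by ring
      _ = 0 := by rw [e y (Finset.mem_filter.mp hy).2, mul_zero]
  let m : IrrCharacter G → IrrCharacter G → ℂ := fun χ ψ => ∑ η ∈ s, a χ η * conj (a ψ η)
  have hm : ∀ χ ψ, m χ ψ = ∑ η ∈ s, ∑ ζ ∈ s, c χ η * conj (c ψ ζ) * regInner p η ζ := by
    intro χ ψ
    simp only [m]
    rw [Finset.sum_congr rfl fun θ hθ => by rw [ha χ θ hθ, Finset.sum_mul], Finset.sum_comm]
    refine Finset.sum_congr rfl fun η hη => ?_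
    calc ∑ θ ∈ s, c χ η * regInner p η θ * conj (a ψ θ)
        = c χ η * conj (∑ θ ∈ s, a ψ θ * regInner p θ η) := by
          rw [map_sum, Finset.mul_sum]
          refine Finset.sum_congr rfl fun θ _ => ?_
          rw [map_mul, hRsym, regInner_comm hM θ η]
          ring
      _ = c χ η * conj (∑ ζ ∈ s, c ψ ζ * regInner p ζ η) := by rw [haR ψ η hη, ha ψ η hη]
      _ = _ := by
          rw [map_sum, Finset.mul_sum]
          refine Finset.sum_congr rfl fun ζ _ => ?_
          rw [map_mul, hRsym, regInner_comm hM ζ η]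
          ring
  set sB : Finset (IrrCharacter G) := Finset.univ.filter (· ∈ B) with hsB
  have hsum : ∑ χ ∈ sB, ∑ ψ ∈ sB, m χ ψ * conj (m χ ψ) = (blockRank p b : ℂ) := by
    have hgram : ∀ η ∈ s, ∀ θ ∈ s, ∑ χ ∈ sB, a χ η * conj (a χ θ) = regInner p θ η := by
      intro η hη θ hθ
      rw [← sum_secCoeff hM hxp' hC η θ]
      refine Finset.sum_subset (Finset.subset_univ _) fun χ _ hχ => ?_
      show a χ η * conj (a χ θ) = 0
      rw [ha0 χ (by simpa [hsB] using hχ) η hη, zero_mul]
    calc ∑ χ ∈ sB, ∑ ψ ∈ sB, m χ ψ * conj (m χ ψ)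
        = ∑ η ∈ s, ∑ θ ∈ s, (∑ χ ∈ sB, a χ η * conj (a χ θ)) *
            conj (∑ ψ ∈ sB, a ψ η * conj (a ψ θ)) := by
          simp only [m, map_sum, Finset.sum_mul_sum, map_mul, Complex.conj_conj]
          rw [Finset.sum_congr rfl fun χ _ => Finset.sum_comm, Finset.sum_comm]
          refine Finset.sum_congr rfl fun η _ => ?_
          rw [Finset.sum_congr rfl fun χ _ => Finset.sum_comm, Finset.sum_comm]
          refine Finset.sum_congr rfl fun θ _ => ?_
          refine Finset.sum_congr rfl fun χ _ => Finset.sum_congr rfl fun ψ _ => ?_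
          ring
      _ = ∑ η ∈ s, regInner p η η := by
          refine Finset.sum_congr rfl fun η hη => ?_
          rw [← sum_regInner_mul_regInner p η η]
          refine Eq.trans (Finset.sum_congr rfl fun θ hθ => ?_)
            (Finset.sum_subset (Finset.subset_univ s) fun θ _ hθ => ?_)
          · rw [hgram η hη θ hθ, hRsym, regInner_comm hM θ η]
          · rw [regInner_eq_zero_of_not_mem hM hS (hmem.mp hη) (mt hmem.mpr hθ), zero_mul]
      _ = (blockRank p b : ℂ) := (blockRank_eq_sum_regInner hM hS).symm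
  -- integrality and non-vanishing of `p ^ d m`
  have hle : ∀ η ∈ s, (Nat.card C).factorization p ≤ degVal p η + d := fun η hη => by
    have h2 := minDeg_le (p := p) (hmem.mp hη)
    show _ ≤ _ + ((Nat.card C).factorization p - minDeg p b)
    omega
  choose! z hz hzres using fun η (hη : η ∈ s) => exists_scaled_regInner hM (hle η hη)
  have hxm : ∀ χ ψ, (p : ℂ) ^ d * m χ ψ = ∑ η ∈ s, ∑ ζ ∈ s, c χ η * conj (c ψ ζ) * (z η ζ : ℂ) := by
    intro χ ψ
    rw [hm, Finset.mul_sum]
    refine Finset.sum_congr rfl fun η hη => ?_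
    rw [Finset.mul_sum]
    refine Finset.sum_congr rfl fun ζ _ => ?_
    rw [← hz η hη ζ]
    ring
  have hcR : ∀ χ η, c χ η ∈ cycInt (p ^ k) := fun χ η =>
    Subring.mul_mem _ (natCast_mem _ _) (mem_cycInt_of_pow (hlam η))
  have hxR : ∀ χ ψ, (p : ℂ) ^ d * m χ ψ ∈ cycInt (p ^ k) := fun χ ψ => by
    rw [hxm]
    exact Subring.sum_mem _ fun η _ => Subring.sum_mem _ fun ζ _ =>
      Subring.mul_mem _ (Subring.mul_mem _ (hcR χ η) (conj_mem_cycInt (hcR ψ ζ))) (intCast_mem _ _)
  -- residues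
  have := charP_resField hM
  have hpf : Fact p.Prime := ⟨hM.1⟩
  have hroot : ∀ l : ℂ, l ^ p ^ k = 1 → ∃ L : locRing M, (L : ℂ) = l ∧ res M L = 1 := by
    intro l hl
    have hmem' : l ∈ locRing M :=
      integral_mem M (Char.isIntegral_of_pow_eq_one (pow_ne_zero _ hM.1.ne_zero) hl)
    refine ⟨⟨l, hmem'⟩, rfl, ?_⟩
    have h1 : res M ⟨l, hmem'⟩ ^ p ^ k = 1 := by
      rw [← map_pow, ← map_one (res M)]
      exact congrArg _ (Subtype.ext (by simpa using hl))
    have h2 : (res M ⟨l, hmem'⟩ - 1) ^ p ^ k = 0 := by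
      rw [sub_pow_char_pow, h1, one_pow, sub_self]
    exact sub_eq_zero.mp (eq_zero_of_pow_eq_zero h2)
  choose L hL hLres using fun η => hroot _ (hlam η)
  choose L' hL' hLres' using fun η => hroot (conj (lam η)) (by rw [← map_pow, hlam η, map_one])
  obtain ⟨η₁, hη₁⟩ := isPBlock_nonempty hbb
  let S1 : IrrCharacter G → ResField M := fun χ =>
    ∑ η ∈ s, (resMult χ η : ResField M) * res M (degW p M hM C d η)
  let S2 : IrrCharacter G → ResField M := fun χ =>
    ∑ η ∈ s, (resMult χ η : ResField M) * regN p M η₁ η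
  have hN : ∀ η ∈ s, ∀ ζ ∈ s, res M (degW p M hM C d η) * regN p M η₁ ζ =
      res M (degW p M hM C d ζ) * regN p M η₁ η := by
    intro η hη ζ hζ
    rw [regN_congr hbb hη₁ (hmem.mp hη) ζ, regN_congr hbb hη₁ (hmem.mp hζ) η, ← hzres η hη ζ,
      ← hzres ζ hζ η]
    congr 1
    have : (z η ζ : ℂ) = (z ζ η : ℂ) := by rw [← hz η hη ζ, ← hz ζ hζ η, regInner_comm hM]
    exact_mod_cast this
  have hS1 : ∀ χ ∈ B, S1 χ ≠ 0 := fun χ hχ =>
    sum_resMult_degW_ne_zero hM hxp' hC hb hd hχ (hh χ hχ)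
  have hS2 : ∀ χ ∈ B, S2 χ ≠ 0 := by
    intro χ hχ h0
    obtain ⟨η₀, hη₀, hw0⟩ := Finset.exists_ne_zero_of_sum_ne_zero (hS1 χ hχ)
    have hw : res M (degW p M hM C d η₀) ≠ 0 := right_ne_zero_of_mul hw0
    obtain ⟨ζ, hζ, hNζ⟩ := exists_regN_ne_zero hM hbb hη₁
    have hN0 : regN p M η₁ η₀ ≠ 0 := by
      intro h
      have h1 := hN η₀ hη₀ ζ (hmem.mpr hζ)
      rw [h, mul_zero] at h1
      exact mul_ne_zero hw hNζ h1
    have h1 : res M (degW p M hM C d η₀) * S2 χ = regN p M η₁ η₀ * S1 χ := by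
      simp only [S1, S2, Finset.mul_sum]
      refine Finset.sum_congr rfl fun η hη => ?_
      rw [mul_left_comm, hN η₀ hη₀ η hη]
      ring
    rw [h0, mul_zero] at h1
    exact mul_ne_zero hN0 (hS1 χ hχ) h1.symm
  have hne : ∀ χ ∈ B, ∀ ψ ∈ B, (p : ℂ) ^ d * m χ ψ ≠ 0 := by
    intro χ hχ ψ hψ h0
    have e : ((∑ η ∈ s, ∑ ζ ∈ s, ((resMult χ η : locRing M) * L η) *
        ((resMult ψ ζ : locRing M) * L' ζ) * (z η ζ : locRing M) : locRing M) : ℂ) = 0 := by
      rw [← h0, hxm]
      simp only [AddSubmonoidClass.coe_finsetSum, Subring.coe_mul, SubringClass.coe_natCast,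
        SubringClass.coe_intCast, hL, hL', c, map_mul, map_natCast]
    have h1 := congrArg (res M) (Subtype.ext e : (∑ η ∈ s, ∑ ζ ∈ s, ((resMult χ η : locRing M) * L η) *
        ((resMult ψ ζ : locRing M) * L' ζ) * (z η ζ : locRing M)) = 0)
    simp only [map_sum, map_mul, map_natCast, map_intCast, map_zero, hLres, hLres', mul_one] at h1
    apply mul_ne_zero (hS1 χ hχ) (hS2 ψ hψ)
    rw [← h1]
    simp only [S1, S2, Finset.sum_mul_sum]
    refine Finset.sum_congr rfl fun η hη => Finset.sum_congr rfl fun ζ hζ => ?_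
    rw [hzres η hη ζ, ← regN_congr hbb hη₁ (hmem.mp hη) ζ]
    ring
  -- the bound
  have hnB : ∀ {χ}, χ ∈ sB ↔ χ ∈ B := fun {χ} => by simp [hsB]
  have hbound := card_le_sum_normSq (n := p ^ k) (pow_ne_zero _ hM.1.ne_zero)
    (fun q : sB × sB => (⟨(p : ℂ) ^ d * m q.1 q.2, hxR _ _⟩ : cycInt (p ^ k)))
    (fun q => hne _ (hnB.mp q.1.2) _ (hnB.mp q.2.2))
    (N := ((p ^ (2 * d) * blockRank p b : ℕ) : ℤ)) ?_
  · rw [Fintype.card_prod, Fintype.card_coe, ← sq] at hbound
    have hk : Nat.card B = sB.card := by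
      rw [hsB, ← Fintype.card_subtype, ← Nat.card_eq_fintype_card]
    rw [hk]
    exact_mod_cast hbound
  · rw [Fintype.sum_prod_type]
    push_cast
    rw [← hsum, Finset.mul_sum, ← Finset.sum_coe_sort sB]
    refine Finset.sum_congr rfl fun χ _ => ?_
    rw [Finset.mul_sum, ← Finset.sum_coe_sort sB]
    refine Finset.sum_congr rfl fun ψ _ => ?_
    rw [map_mul, map_pow, map_natCast, two_mul, pow_add]
    ring

end CfsgLib.Block
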