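import Cfsg.Agent.Lib.Invol.KleinSylow
import Cfsg.Agent.Lib.Fusion.Transfer
import Cfsg.Agent.Lib.Char.Orthogonality
import Cfsg.Agent.Lib.Block.Contributions

/-!
# Groups with a four-group Sylow 2-subgroup and no normal 2-complement

`klein_of_no_complement`, `hasNormalPComplement_klein_central`, `card_conj_pairs`.
-/

set_option linter.unusedSectionVars false

namespace CfsgLib.Block

universe u

variable {G : Type u} [Group G] [Finite G]

/-- A group of order `4 g₀`, `g₀` odd, without a normal subgroup of order `g₀`. -/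
theorem klein_of_no_complement (g₀ : ℕ) (hg₀ : Odd g₀) (hG : Nat.card G = 4 * g₀)
    (hnc : ¬ ∃ N : Subgroup G, N.Normal ∧ Nat.card N = g₀) (P : Sylow 2 G) :
    IsKleinFour (P : Subgroup G) ∧ ∀ a b : G, orderOf a = 2 → orderOf b = 2 → IsConj a b := by
  classical
  have hp : Fact (Nat.Prime 2) := ⟨Nat.prime_two⟩
  have hP4 : Nat.card (P : Subgroup G) = 4 := by
    have h := P.card_eq_multiplicity
    rw [hG, Nat.factorization_mul (by norm_num) (by rintro rfl; exact absurd hg₀ (by decide)),
      Finsupp.add_apply, Nat.factorization_eq_zero_of_not_dvd hg₀.not_two_dvd_nat, add_zero,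
      show (4 : ℕ) = 2 ^ 2 from rfl, Nat.Prime.factorization_pow Nat.prime_two,
      Finsupp.single_eq_same] at h
    simpa using h
  have hno : ¬ Cfsg.HasNormalPComplement 2 G := by
    rintro ⟨Q, N, hN, hc⟩
    refine hnc ⟨N, hN, ?_⟩
    have h := hc.card_mul
    rw [Q.card_eq_multiplicity, ← P.card_eq_multiplicity, hP4, hG] at h
    omega
  have hex : ∀ x : (P : Subgroup G), x * x = 1 := by
    intro x
    by_contra hx
    have h4 : orderOf x = 4 := by
      have hd : orderOf x ∣ 2 ^ 2 := by
        have := orderOf_dvd_natCard x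
        rwa [hP4] at this
      obtain ⟨k, hk, hk'⟩ := (Nat.dvd_prime_pow Nat.prime_two).mp hd
      interval_cases k
      · exact absurd (show x * x = 1 by rw [orderOf_eq_one_iff.mp (show orderOf x = 1 by simpa using hk'), one_mul]) hx
      · refine absurd ?_ hx
        rw [← pow_two, ← orderOf_dvd_iff_pow_eq_one, hk', pow_one]
      · simpa using hk'
    have hcyc : IsCyclic (P : Subgroup G) := isCyclic_of_orderOf_eq_card x (by rw [h4, hP4])
    refine hno (Fusion.hasNormalPComplement_of_normalizer_le_centralizer P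
      (IsCyclic.normalizer_le_centralizer ?_ hcyc))
    exact (Nat.minFac_eq_two_iff _).mpr (by rw [hG]; exact dvd_mul_of_dvd_left (by norm_num) _)
  have hK : IsKleinFour (P : Subgroup G) := by
    refine ⟨hP4, Nat.dvd_antisymm (Monoid.exponent_dvd_of_forall_pow_eq_one fun x => by
      rw [pow_two]; exact hex x) ?_⟩
    obtain ⟨y, hy⟩ := exists_prime_orderOf_dvd_card' (G := (P : Subgroup G)) 2 (by rw [hP4]; norm_num)
    exact (dvd_of_eq hy.symm).trans (Monoid.order_dvd_exponent y)
  refine ⟨hK, fun a b ha hb => ?_⟩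
  rcases Invol.klein_dichotomy P hK with h | h
  · refine absurd (Fusion.hasNormalPComplement_of_normalizer_le_centralizer P fun g hg => ?_) hno
    refine Subgroup.mem_centralizer_iff.mpr fun x hx => ?_
    have h1 := h x hx g hg
    rw [mul_inv_eq_iff_eq_mul] at h1
    exact h1.symm
  · have key : ∀ t : G, orderOf t = 2 → ∃ y ∈ P, y ≠ 1 ∧ IsConj t y := by
      intro t ht
      have hp : IsPGroup 2 (Subgroup.zpowers t) :=
        IsPGroup.of_card (n := 1) (by rw [Nat.card_zpowers, ht, pow_one])
      obtain ⟨k, hk⟩ := Invol.exists_conj_le_sylow hp P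
      exact ⟨_, hk t (Subgroup.mem_zpowers t),
        fun h1 => Invol.invol_ne_one ht (conj_eq_one_iff.1 h1), isConj_iff.2 ⟨k, rfl⟩⟩
    obtain ⟨y, hy, hy1, hay⟩ := key a ha
    obtain ⟨z, hz, hz1, hbz⟩ := key b hb
    exact hay.trans ((h y hy z hz hy1 hz1).trans hbz.symm)

variable {P : Sylow 2 G} (hK : IsKleinFour (P : Subgroup G)) {J : G}
  (hJ : J ∈ (P : Subgroup G)) (hJ2 : orderOf J = 2)

include hK in
theorem klein_le_centralizer (hJ : J ∈ (P : Subgroup G)) :
    (P : Subgroup G) ≤ Subgroup.centralizer ({J} : Set G) := fun u hu =>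
  Subgroup.mem_centralizer_singleton_iff.2
    (congrArg Subtype.val
      ((Invol.klein_comm P hK).is_comm.comm (⟨u, hu⟩ : (P : Subgroup G)) ⟨J, hJ⟩))

include hK hJ hJ2 in
/-- The centralizer of an involution has a normal 2-complement. -/
theorem hasNormalPComplement_klein_central :
    Cfsg.HasNormalPComplement 2 (Subgroup.centralizer ({J} : Set G)) := by
  classical
  have hp : Fact (Nat.Prime 2) := ⟨Nat.prime_two⟩
  set C := Subgroup.centralizer ({J} : Set G) with hC
  have hPC := klein_le_centralizer hK hJ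
  set Q : Sylow 2 C := P.subtype hPC with hQ
  let e : (Q : Subgroup C) ≃* (P : Subgroup G) := Subgroup.subgroupOfEquivOfLe hPC
  have hQK : IsKleinFour (Q : Subgroup C) := ⟨by rw [Nat.card_congr e.toEquiv, hK.card_four],
    by rw [Monoid.exponent_eq_of_mulEquiv e, hK.exponent_two]⟩
  have hmem : ∀ v : C, v ∈ (Q : Subgroup C) ↔ (v : G) ∈ (P : Subgroup G) := fun v => by
    rw [hQ, Sylow.coe_subtype, Subgroup.mem_subgroupOf]
  rcases Invol.klein_dichotomy Q hQK with h | h
  · refine Fusion.hasNormalPComplement_of_normalizer_le_centralizer Q fun g hg => ?_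
    refine Subgroup.mem_centralizer_iff.mpr fun x hx => ?_
    have h1 := h x hx g hg
    rw [mul_inv_eq_iff_eq_mul] at h1
    exact h1.symm
  · exfalso
    obtain ⟨y, hy, hy1, hyJ⟩ : ∃ y ∈ (P : Subgroup G), y ≠ 1 ∧ y ≠ J := by
      by_contra hno
      push Not at hno
      have h2 : (P : Subgroup G) ≤ Subgroup.zpowers J := fun v hv => by
        by_cases hv1 : v = 1
        · exact hv1 ▸ one_mem _
        · exact (hno v hv hv1) ▸ Subgroup.mem_zpowers J
      have := Subgroup.card_le_of_le h2
      rw [hK.card_four, Nat.card_zpowers, hJ2] at this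
      omega
    set J' : C := ⟨J, Subgroup.mem_centralizer_singleton_iff.2 rfl⟩ with hJ'
    obtain ⟨c, hc⟩ := isConj_iff.mp (h J' ((hmem _).mpr hJ) ⟨y, hPC hy⟩ ((hmem _).mpr hy)
      (fun e => Invol.invol_ne_one hJ2 (congrArg Subtype.val e))
      (fun e => hy1 (congrArg Subtype.val e)))
    refine hyJ ?_
    have h3 : (c : G) * J * (c : G)⁻¹ = y := congrArg Subtype.val hc
    rw [← h3, Subgroup.mem_centralizer_singleton_iff.1 c.2, mul_inv_cancel_right]

variable {N : Subgroup (Subgroup.centralizer ({J} : Set G))}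

include hK hJ hJ2 in
/-- The number of pairs of involutions whose product has 2-part `J`. -/
theorem card_conj_pairs [hN : N.Normal] {Q : Sylow 2 (Subgroup.centralizer ({J} : Set G))}
    (hc : N.IsComplement' (Q : Subgroup (Subgroup.centralizer ({J} : Set G)))) :
    Nat.card {p : G × G // orderOf p.1 = 2 ∧ orderOf p.2 = 2 ∧
        ∃ y : N, p.1 * p.2 = J * (y : Subgroup.centralizer ({J} : Set G))} *
      Nat.card (Subgroup.centralizer ((P : Subgroup G) : Set G)) ^ 2 =
        2 * Nat.card (Subgroup.centralizer ({J} : Set G)) ^ 2 := by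
  classical
  have := Fintype.ofFinite G
  have hp : Fact (Nat.Prime 2) := ⟨Nat.prime_two⟩
  have hPC := klein_le_centralizer hK hJ
  set P' : Sylow 2 (Subgroup.centralizer ({J} : Set G)) := P.subtype hPC with hP'
  have hmem : ∀ v : (Subgroup.centralizer ({J} : Set G)), v ∈ (P' : Subgroup (Subgroup.centralizer ({J} : Set G))) ↔ (v : G) ∈ (P : Subgroup G) := fun v => by
    rw [hP', Sylow.coe_subtype, Subgroup.mem_subgroupOf]
  have hP'4 : Nat.card (P' : Subgroup (Subgroup.centralizer ({J} : Set G))) = 4 := by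
    rw [← hK.card_four (G := (P : Subgroup G))]
    exact Nat.card_congr (Subgroup.subgroupOfEquivOfLe hPC).toEquiv
  have hQ4 : Nat.card (Q : Subgroup (Subgroup.centralizer ({J} : Set G))) = 4 := by
    rw [Q.card_eq_multiplicity, ← P'.card_eq_multiplicity, hP'4]
  have hNi : N.index = 4 := by
    rw [hc.symm.index_eq_card, hQ4]
  have hNodd : ¬ 2 ∣ Nat.card N := fun h => by
    have h1 := hc.index_eq_card
    exact Q.not_dvd_index (h1 ▸ h)
  -- the quotient map
  set f : (Subgroup.centralizer ({J} : Set G)) →* (Subgroup.centralizer ({J} : Set G)) ⧸ N := QuotientGroup.mk' N with hf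
  have hcomm : IsMulCommutative ((Subgroup.centralizer ({J} : Set G)) ⧸ N) :=
    IsPGroup.isMulCommutative_of_card_eq_prime_sq (p := 2) (show Nat.card ((Subgroup.centralizer ({J} : Set G)) ⧸ N) = 2 ^ 2 from hNi)
  have hclass : ∀ a b : (Subgroup.centralizer ({J} : Set G)), IsConj a b → f a = f b := fun a b e => by
    obtain ⟨k, rfl⟩ := isConj_iff.mp e
    rw [map_mul, map_mul, map_inv, hcomm.is_comm.comm (f k) (f a), mul_inv_cancel_right]
  have hinj : ∀ a b : (Subgroup.centralizer ({J} : Set G)), a ∈ (P' : Subgroup (Subgroup.centralizer ({J} : Set G))) → b ∈ (P' : Subgroup (Subgroup.centralizer ({J} : Set G))) → f a = f b → a = b := by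
    intro a b ha hb e
    have h1 : a⁻¹ * b ∈ N := QuotientGroup.eq.mp e
    have h2 : orderOf (a⁻¹ * b) ∣ 4 := by
      rw [← hP'4]
      exact Subgroup.orderOf_dvd_natCard _ (mul_mem (inv_mem ha) hb)
    have h3 : orderOf (a⁻¹ * b) ∣ Nat.card N := Subgroup.orderOf_dvd_natCard _ h1
    have h4 : Nat.Coprime 4 (Nat.card N) :=
      Nat.Coprime.pow_left 2 ((Nat.Prime.coprime_iff_not_dvd Nat.prime_two).mpr hNodd)
    have h5 := Nat.eq_one_of_dvd_coprimes h4 h2 h3
    exact inv_mul_eq_one.mp (orderOf_eq_one_iff.mp h5)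
  set J' : (Subgroup.centralizer ({J} : Set G)) := ⟨J, Subgroup.mem_centralizer_singleton_iff.2 rfl⟩ with hJ'
  have hJ'P : J' ∈ (P' : Subgroup (Subgroup.centralizer ({J} : Set G))) := (hmem _).mpr hJ
  -- a second involution of `P`
  obtain ⟨v, hv, hv1, hvJ⟩ : ∃ v : (Subgroup.centralizer ({J} : Set G)), v ∈ (P' : Subgroup (Subgroup.centralizer ({J} : Set G))) ∧ v ≠ 1 ∧ v ≠ J' := by
    by_contra hno
    push Not at hno
    have h2 : (P' : Subgroup (Subgroup.centralizer ({J} : Set G))) ≤ Subgroup.zpowers J' := fun z hz => by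
      by_cases hz1 : z = 1
      · exact hz1 ▸ one_mem _
      · exact (hno z hz hz1) ▸ Subgroup.mem_zpowers J'
    have := Subgroup.card_le_of_le h2
    rw [hP'4, Nat.card_zpowers, ← Subgroup.orderOf_coe, hJ2] at this
    omega
  have hsq : ∀ z : (Subgroup.centralizer ({J} : Set G)), z ∈ (P' : Subgroup (Subgroup.centralizer ({J} : Set G))) → z * z = 1 := fun z hz => Subtype.ext (by
    have h := Monoid.pow_exponent_eq_one (⟨(z : G), (hmem z).mp hz⟩ : (P : Subgroup G))
    rw [hK.exponent_two, pow_two] at h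
    exact congrArg (fun q : (P : Subgroup G) => (q : G)) h)
  set w : (Subgroup.centralizer ({J} : Set G)) := v * J' with hw
  have hwP : w ∈ (P' : Subgroup (Subgroup.centralizer ({J} : Set G))) := mul_mem hv hJ'P
  have hJ'1 : J' ≠ 1 := fun e => Invol.invol_ne_one hJ2 (congrArg Subtype.val e)
  have hw1 : w ≠ 1 := fun e => hvJ (by
    rw [← mul_left_inj J']
    rw [hw] at e
    rw [e, hsq J' hJ'P])
  have hwv : w ≠ v := fun e => hJ'1 (mul_eq_left.mp e)
  have hwJ : w ≠ J' := fun e => hv1 (mul_eq_right.mp e)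
  have hall : ∀ z ∈ (P' : Subgroup (Subgroup.centralizer ({J} : Set G))), z = 1 ∨ z = J' ∨ z = v ∨ z = w := by
    intro z hz
    by_contra hno
    simp only [not_or] at hno
    have := Fintype.ofFinite (P' : Subgroup (Subgroup.centralizer ({J} : Set G)))
    have h5 : ({⟨1, one_mem _⟩, ⟨J', hJ'P⟩, ⟨v, hv⟩, ⟨w, hwP⟩, ⟨z, hz⟩} :
        Finset (P' : Subgroup (Subgroup.centralizer ({J} : Set G)))).card ≤ 4 := by
      rw [← hP'4, Nat.card_eq_fintype_card]
      exact Finset.card_le_univ _
    rw [Finset.card_insert_of_notMem (by simp [hJ'1.symm, hv1.symm, hw1.symm, Ne.symm hno.1]),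
      Finset.card_insert_of_notMem (by simp [hvJ.symm, hwJ.symm, Ne.symm hno.2.1]),
      Finset.card_insert_of_notMem (by simp [hwv.symm, Ne.symm hno.2.2.1]),
      Finset.card_insert_of_notMem (by simp [Ne.symm hno.2.2.2]), Finset.card_singleton] at h5
    omega
  have hvw : v * w = J' := by rw [hw, ← mul_assoc, hsq v hv, one_mul]
  have hwv' : w * v = J' := by
    have := Invol.klein_comm P hK
    refine Eq.trans (Subtype.ext ?_) hvw
    exact congrArg (fun q : (P : Subgroup G) => (q : G)) (this.is_comm.comm (⟨(w : G), (hmem w).mp hwP⟩ : (P : Subgroup G))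
      ⟨(v : G), (hmem v).mp hv⟩)
  have hord : ∀ z : (Subgroup.centralizer ({J} : Set G)), z ∈ (P' : Subgroup (Subgroup.centralizer ({J} : Set G))) → z ≠ 1 → orderOf (z : G) = 2 := fun z hz hz1 =>
    Invol.klein_invol P hK ((hmem z).mp hz) fun e => hz1 (Subtype.ext e)
  have hpick : ∀ a : (Subgroup.centralizer ({J} : Set G)), orderOf a = 2 → IsConj J' a ∨ IsConj v a ∨ IsConj w a := by
    intro a ha
    have hp : IsPGroup 2 (Subgroup.zpowers a) :=
      IsPGroup.of_card (n := 1) (by rw [Nat.card_zpowers, ha, pow_one])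
    obtain ⟨k, hk⟩ := Invol.exists_conj_le_sylow hp P'
    have h1 := hk a (Subgroup.mem_zpowers a)
    rcases hall _ h1 with h | h | h | h
    · exact absurd (conj_eq_one_iff.1 h) (Invol.invol_ne_one ha)
    · exact Or.inl (isConj_iff.mpr ⟨k, h⟩).symm
    · exact Or.inr (Or.inl (isConj_iff.mpr ⟨k, h⟩).symm)
    · exact Or.inr (Or.inr (isConj_iff.mpr ⟨k, h⟩).symm)
  let S : Bool → Type u := fun i => {a : (Subgroup.centralizer ({J} : Set G)) // IsConj (cond i v w) a}
  have hconjord : ∀ (i : Bool) (a : S i), orderOf ((a.1 : (Subgroup.centralizer ({J} : Set G))) : G) = 2 := fun i a => by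
    obtain ⟨k, hk⟩ := isConj_iff.mp a.2
    rw [← hk, Subgroup.orderOf_coe, orderOf_conj_eq, ← Subgroup.orderOf_coe]
    cases i
    exacts [hord w hwP hw1, hord v hv hv1]
  -- the bijection
  let Φ : (Σ i : Bool, S i × S (!i)) → {p : G × G // orderOf p.1 = 2 ∧ orderOf p.2 = 2 ∧
      ∃ y : N, p.1 * p.2 = J * (y : (Subgroup.centralizer ({J} : Set G)))} := fun q =>
    ⟨((q.2.1.1 : G), (q.2.2.1 : G)), hconjord _ q.2.1, hconjord _ q.2.2,
      ⟨⟨J'⁻¹ * (q.2.1.1 * q.2.2.1), QuotientGroup.eq.mp (show f J' = f (q.2.1.1 * q.2.2.1) by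
        rw [map_mul, ← hclass _ _ q.2.1.2, ← hclass _ _ q.2.2.2, ← map_mul]
        obtain ⟨i, -⟩ := q
        cases i
        exacts [congrArg f hwv'.symm, congrArg f hvw.symm])⟩, by simp [J']⟩⟩
  have hbij : Function.Bijective Φ := by
    constructor
    · rintro ⟨i, ⟨a, ha⟩, b, hb⟩ ⟨i', ⟨a', ha'⟩, b', hb'⟩ e
      simp only [Φ, Subtype.mk.injEq, Prod.mk.injEq] at e
      obtain rfl : a = a' := Subtype.ext e.1
      obtain rfl : b = b' := Subtype.ext e.2
      obtain rfl : i = i' := by
        have h1 : f (cond i v w) = f (cond i' v w) := (hclass _ _ ha).trans (hclass _ _ ha').symm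
        cases i <;> cases i'
        exacts [rfl, absurd (hinj _ _ hwP hv h1) hwv, absurd (hinj _ _ hv hwP h1) hwv.symm, rfl]
      rfl
    · rintro ⟨⟨a, b⟩, ha, hb, y, hy⟩
      -- both lie in the centralizer
      have hpow : (a * b) ^ orderOf (y : G) = J := by
        rw [hy, Commute.mul_pow (Subgroup.mem_centralizer_singleton_iff.1 (y : (Subgroup.centralizer ({J} : Set G))).2).symm,
          pow_orderOf_eq_one, mul_one]
        have hodd : Odd (orderOf ((y : (Subgroup.centralizer ({J} : Set G))) : G)) := by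
          rw [Subgroup.orderOf_coe, ← Nat.not_even_iff_odd, even_iff_two_dvd]
          exact fun h => hNodd (h.trans (Subgroup.orderOf_dvd_natCard _ y.2))
        obtain ⟨m, hm⟩ := hodd
        rw [hm, pow_succ, pow_mul, ← hJ2, pow_orderOf_eq_one, one_pow, one_mul]
      have ha2 : a * a = 1 := by rw [← pow_two, ← ha, pow_orderOf_eq_one]
      have hJJ : J⁻¹ = J := inv_eq_of_mul_eq_one_left (by rw [← pow_two, ← hJ2, pow_orderOf_eq_one])
      have hb2 : b * b = 1 := by rw [← pow_two, ← hb, pow_orderOf_eq_one]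
      have haC : a ∈ (Subgroup.centralizer ({J} : Set G)) := by
        refine Subgroup.mem_centralizer_singleton_iff.2 ?_
        have h1 : a * J * a⁻¹ = J := by
          conv_lhs => rw [← hpow]
          rw [← conj_pow, show a * (a * b) * a⁻¹ = (a * b)⁻¹ by
            rw [mul_inv_rev, inv_eq_of_mul_eq_one_left ha2, inv_eq_of_mul_eq_one_left hb2,
              ← mul_assoc, ha2, one_mul], inv_pow, hpow, hJJ]
        exact mul_inv_eq_iff_eq_mul.mp h1
      have hbC : b ∈ (Subgroup.centralizer ({J} : Set G)) := by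
        have h1 : b = a⁻¹ * (J * ((y : (Subgroup.centralizer ({J} : Set G))) : G)) := by rw [← hy, inv_mul_cancel_left]
        rw [h1]
        exact mul_mem (inv_mem haC) (mul_mem J'.2 (y : (Subgroup.centralizer ({J} : Set G))).2)
      set a' : (Subgroup.centralizer ({J} : Set G)) := ⟨a, haC⟩
      set b' : (Subgroup.centralizer ({J} : Set G)) := ⟨b, hbC⟩
      have hprod : f a' * f b' = f J' := by
        rw [← map_mul, show a' * b' = J' * (y : (Subgroup.centralizer ({J} : Set G))) from Subtype.ext hy, map_mul,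
          show f (y : (Subgroup.centralizer ({J} : Set G))) = 1 from (QuotientGroup.eq_one_iff _).mpr y.2, mul_one]
      have hb1 : f b' ≠ 1 := by
        intro e
        rcases hpick b' (by rw [← Subgroup.orderOf_coe]; exact hb) with h | h | h <;>
          rw [← hclass _ _ h, ← map_one f] at e
        exacts [hJ'1 (hinj _ _ hJ'P (one_mem _) e), hv1 (hinj _ _ hv (one_mem _) e),
          hw1 (hinj _ _ hwP (one_mem _) e)]
      rcases hpick a' (by rw [← Subgroup.orderOf_coe]; exact ha) with h | h | h
      · refine absurd ?_ hb1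
        rw [← hclass _ _ h] at hprod
        exact mul_eq_left.mp hprod
      · rw [← hclass _ _ h] at hprod
        have hbw : f b' = f w := by
          rw [← hvw, map_mul] at hprod
          exact mul_left_cancel hprod
        rcases hpick b' (by rw [← Subgroup.orderOf_coe]; exact hb) with h' | h' | h'
        · exact absurd (hinj _ _ hJ'P hwP ((hclass _ _ h').trans hbw)) hwJ.symm
        · exact absurd (hinj _ _ hv hwP ((hclass _ _ h').trans hbw)) hwv.symm
        · exact ⟨⟨true, ⟨a', h⟩, ⟨b', h'⟩⟩, rfl⟩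
      · rw [← hclass _ _ h] at hprod
        have hbv : f b' = f v := by
          rw [← hwv', map_mul] at hprod
          exact mul_left_cancel hprod
        rcases hpick b' (by rw [← Subgroup.orderOf_coe]; exact hb) with h' | h' | h'
        · exact absurd (hinj _ _ hJ'P hv ((hclass _ _ h').trans hbv)) hvJ.symm
        · exact ⟨⟨false, ⟨a', h⟩, ⟨b', h'⟩⟩, rfl⟩
        · exact absurd (hinj _ _ hwP hv ((hclass _ _ h').trans hbv)) hwv
  -- the class sizes
  have hsize : ∀ i : Bool, Nat.card (S i) *
      Nat.card (Subgroup.centralizer ((P : Subgroup G) : Set G)) = Nat.card (Subgroup.centralizer ({J} : Set G)) := by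
    intro i
    set z : (Subgroup.centralizer ({J} : Set G)) := cond i v w with hz
    have hzP : z ∈ (P' : Subgroup (Subgroup.centralizer ({J} : Set G))) := by cases i <;> assumption
    have hzJ : z ≠ J' ∧ z ≠ 1 := by cases i <;> exact ⟨by assumption, by assumption⟩
    have h1 : Subgroup.centralizer ({z} : Set (Subgroup.centralizer ({J} : Set G))) =
        (Subgroup.centralizer ((P : Subgroup G) : Set G)).subgroupOf (Subgroup.centralizer ({J} : Set G)) := by
      ext c
      rw [Subgroup.mem_subgroupOf, Subgroup.mem_centralizer_singleton_iff, Subgroup.mem_centralizer_iff]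
      constructor
      · intro hc' x hx
        have hcJ : Commute (c : G) J := Subgroup.mem_centralizer_singleton_iff.1 c.2
        have hcz : Commute (c : G) (z : G) := congrArg Subtype.val hc'
        have hx' : (⟨x, hPC hx⟩ : (Subgroup.centralizer ({J} : Set G))) ∈ (P' : Subgroup (Subgroup.centralizer ({J} : Set G))) := (hmem _).mpr hx
        have hcw : ∀ u : (Subgroup.centralizer ({J} : Set G)), (u = 1 ∨ u = J' ∨ u = v ∨ u = w) → Commute (c : G) (u : G) := by
          have hcv : Commute (c : G) (v : G) := by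
            cases i
            · have : (v : G) = (w : G) * J := by
                show (v : G) = ((w * J' : (Subgroup.centralizer ({J} : Set G))) : G)
                rw [hw, mul_assoc, hsq J' hJ'P, mul_one]
              rw [this]
              exact hcz.mul_right hcJ
            · exact hcz
          rintro u (rfl | rfl | rfl | rfl)
          exacts [Commute.one_right _, hcJ, hcv, hcv.mul_right hcJ]
        exact (hcw ⟨x, hPC hx⟩ (hall _ hx')).eq.symm
      · intro hc'
        exact Subtype.ext (hc' z ((hmem z).mp hzP)).symm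
    have h2 : Subgroup.centralizer ((P : Subgroup G) : Set G) ≤ (Subgroup.centralizer ({J} : Set G)) :=
      Subgroup.centralizer_le (Set.singleton_subset_iff.mpr hJ)
    show Nat.card {a : (Subgroup.centralizer ({J} : Set G)) // IsConj z a} * _ = _
    rw [Char.card_isConj, h1, ← Nat.card_congr (Subgroup.subgroupOfEquivOfLe h2).toEquiv,
      Subgroup.index_mul_card]
  rw [← Nat.card_eq_of_bijective Φ hbij, Nat.card_sigma, Fintype.sum_bool]
  simp only [Nat.card_prod, Bool.not_true, Bool.not_false]
  linear_combination (Nat.card (Subgroup.centralizer ({J} : Set G)) + Nat.card (S false) *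
      Nat.card (Subgroup.centralizer ((P : Subgroup G) : Set G))) * hsize true +
    (Nat.card (Subgroup.centralizer ({J} : Set G)) + Nat.card (S true) *
      Nat.card (Subgroup.centralizer ((P : Subgroup G) : Set G))) * hsize false

end CfsgLib.Block
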