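import Cfsg.Agent.Lib.Block.BrauerFeit
import Cfsg.Agent.Lib.Char.CliffordOdd

/-!
# Real 2-blocks of full defect

`isPBlock_eq_principal_of_real`: a 2-block of full defect closed under complex conjugation is
the principal block.
-/

open Finset
open scoped ComplexConjugate

set_option linter.unusedSectionVars false

namespace CfsgLib.Block

open Cfsg

universe u

variable {p : ℕ} {M : Ideal AlgInt} [M.IsMaximal] {G : Type u} [Group G] [Finite G]

/-- The complex conjugate of an irreducible character. -/
noncomputable def conjChar (χ : IrrCharacter G) : IrrCharacter G :=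
  ⟨fun g => conj ((χ : G → ℂ) g), by
    haveI := Fintype.ofFinite G
    exact Char.isIrrCharacter_conj χ.2⟩

theorem conjChar_apply (χ : IrrCharacter G) (g : G) :
    (conjChar χ : G → ℂ) g = conj ((χ : G → ℂ) g) := rfl

theorem conjChar_eq_inv (χ : IrrCharacter G) (g : G) :
    (conjChar χ : G → ℂ) g = (χ : G → ℂ) g⁻¹ := by
  rw [conjChar_apply, Char.irr_inv]

theorem centralizer_inv_singleton (g : G) :
    Subgroup.centralizer ({g⁻¹} : Set G) = Subgroup.centralizer ({g} : Set G) := by
  ext c
  simp only [Subgroup.mem_centralizer_singleton_iff]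
  exact Commute.inv_right_iff

theorem centralChar_conjChar (χ : IrrCharacter G) (g : G) :
    centralChar (conjChar χ : G → ℂ) g = centralChar (χ : G → ℂ) g⁻¹ := by
  simp only [centralChar, centralizer_inv_singleton, conjChar_eq_inv, inv_one]

theorem centralChar_of_isConj (χ : IrrCharacter G) {g h : G} (e : IsConj g h) :
    centralChar (χ : G → ℂ) g = centralChar (χ : G → ℂ) h := by
  haveI := Fintype.ofFinite G
  simp only [centralChar, ← Char.card_isConj]
  rw [show {x : G // IsConj g x} = {x : G // IsConj h x} from
    congrArg Subtype (funext fun x => propext ⟨e.symm.trans, e.trans⟩)]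
  obtain ⟨c, rfl⟩ := isConj_iff.mp e
  rw [Char.isClassFunction_irr χ g c]

theorem conjChar_mem_blockOf {χ ψ : IrrCharacter G} (h : ψ ∈ blockOf M (χ : G → ℂ)) :
    conjChar ψ ∈ blockOf M (conjChar χ : G → ℂ) := by
  rw [mem_blockOf] at h ⊢
  intro g
  simp only [centralChar_conjChar]
  exact h g⁻¹

/-- A real element of odd order, other than `1`, has a class of even size. -/
theorem two_dvd_index_of_isConj_inv {x : G} (hodd : ¬ 2 ∣ orderOf x) (hx : x ≠ 1)
    (hreal : IsConj x x⁻¹) : 2 ∣ (Subgroup.centralizer ({x} : Set G)).index := by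
  classical
  have := Fintype.ofFinite G
  rw [← Char.card_isConj x]
  by_contra h
  set s := Finset.univ.filter (fun h : G => IsConj x h) with hs
  have h0 : ∑ _g ∈ s, (1 : ZMod 2) = 0 := by
    refine Finset.sum_involution (fun g _ => g⁻¹) (fun _ _ => by decide) (fun g hg _ he => ?_)
      (fun g hg => ?_) (fun g _ => inv_inv g)
    · obtain ⟨c, rfl⟩ := isConj_iff.mp (Finset.mem_filter.mp hg).2
      have h1 : orderOf (c * x * c⁻¹) ∣ 2 := orderOf_dvd_of_pow_eq_one (by
        rw [sq]; nth_rewrite 1 [← he]; exact inv_mul_cancel _)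
      rw [orderOf_conj_eq] at h1
      rcases (Nat.dvd_prime Nat.prime_two).mp h1 with h2 | h2
      · exact hx (orderOf_eq_one_iff.mp h2)
      · exact hodd (h2 ▸ dvd_rfl)
    · refine Finset.mem_filter.mpr ⟨Finset.mem_univ _, hreal.trans ?_⟩
      obtain ⟨c, rfl⟩ := isConj_iff.mp (Finset.mem_filter.mp hg).2
      exact isConj_iff.mpr ⟨c, by group⟩
  rw [Finset.sum_const, nsmul_one, ZMod.natCast_eq_zero_iff_even, even_iff_two_dvd] at h0
  rw [Nat.card_eq_fintype_card, Fintype.card_subtype] at h
  exact h h0

variable [Fintype G] [DecidableEq G] [Fintype (IrrCharacter G)]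

theorem blockCoeff_inv {B : Set (IrrCharacter G)} (hreal : ∀ χ ∈ B, conjChar χ ∈ B) (g : G) :
    blockCoeff B g⁻¹ = blockCoeff B g := by
  classical
  have hinv : ∀ χ : IrrCharacter G, conjChar (conjChar χ) = χ := fun χ =>
    Subtype.ext (funext fun g => by rw [conjChar_apply, conjChar_apply, Complex.conj_conj])
  unfold blockCoeff
  congr 1
  rw [finsum_mem_eq_toFinset_sum, finsum_mem_eq_toFinset_sum]
  refine Finset.sum_nbij' conjChar conjChar (fun a ha => ?_) (fun a ha => ?_)
    (fun a _ => hinv a) (fun a _ => hinv a) (fun a _ => ?_)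
  · exact Set.mem_toFinset.mpr (hreal a (Set.mem_toFinset.mp ha))
  · exact Set.mem_toFinset.mpr (hreal a (Set.mem_toFinset.mp ha))
  · rw [conjChar_apply, conjChar_apply, Char.conj_irr_one, Char.irr_inv]

theorem minDeg_eq_zero_of_full {B : Set (IrrCharacter G)} (hB : IsPBlock M B)
    (h : blockDefect p B = (Nat.card G).factorization p) : minDeg p B = 0 := by
  obtain ⟨χ, hχ, he⟩ := exists_minDeg (p := p) (isPBlock_nonempty hB)
  have := degVal_le_card (p := p) χ
  have hd : blockDefect p B = (Nat.card G).factorization p - minDeg p B := rfl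
  omega

/-- A real 2-block of full defect is the principal block. -/
theorem isPBlock_eq_principal_of_real (hM : IsPModular 2 M) {B : Set (IrrCharacter G)}
    (hB : IsPBlock M B) (hdef : blockDefect 2 B = (Nat.card G).factorization 2)
    (hreal : ∀ χ ∈ B, conjChar χ ∈ B) : B = principalBlock M G := by
  classical
  have := Fintype.ofFinite (ConjClasses G)
  have hS := IsBlockUnion.of_isPBlock hB
  have hchar := charP_resField hM
  obtain ⟨χ, hχ, he⟩ := exists_minDeg (p := 2) (isPBlock_nonempty hB)
  rw [minDeg_eq_zero_of_full hB hdef] at he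
  let inv : ConjClasses G → ConjClasses G := fun C => ConjClasses.mk (rep C)⁻¹
  have hinvrep : ∀ C, IsConj (rep (inv C)) (rep C)⁻¹ := fun C => isConj_rep _
  have hsym : ∀ C, coeffRes M B (rep (inv C)) = coeffRes M B (rep C) := fun C => by
    rw [coeffRes_isConj B (hinvrep C)]
    refine congrArg (res M) (Subtype.ext ?_)
    rw [coe_coeff_blockIdem hM hS, coe_coeff_blockIdem hM hS, blockCoeff_inv hreal]
  -- the sum against a real character of odd degree is the coefficient at `1`
  have key : ∀ φ : IrrCharacter G, degVal 2 φ = 0 →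
      (∀ g, centralRes M φ g⁻¹ = centralRes M φ g) →
      ∑ C : ConjClasses G, coeffRes M B (rep C) * centralRes M φ (rep C) = coeffRes M B 1 := by
    intro φ hφ hφsym
    set f : ConjClasses G → ResField M := fun C => coeffRes M B (rep C) * centralRes M φ (rep C)
      with hf
    show ∑ C, f C = _
    rw [← Finset.add_sum_erase _ f (Finset.mem_univ (ConjClasses.mk (1 : G)))]
    have h1 : rep (ConjClasses.mk (1 : G)) = 1 := isConj_one_left.mp (isConj_rep (1 : G))
    have hω : centralRes M φ 1 = 1 := by
      rw [← map_one (res M)]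
      refine congrArg (res M) (Subtype.ext ?_)
      show centralChar (φ : G → ℂ) 1 = 1
      rw [centralChar, ← Char.card_isConj]
      simp [Char.irr_one_ne_zero]
    have hz : ∑ C ∈ Finset.univ.erase (ConjClasses.mk (1 : G)), f C = 0 := by
      refine Finset.sum_involution (fun C _ => inv C) (fun C _ => ?_) (fun C hC hne hfix => ?_)
        (fun C hC => ?_) (fun C _ => ?_)
      · have hφC : centralRes M φ (rep (inv C)) = centralRes M φ (rep C) := by
          rw [← hφsym (rep C)]
          refine congrArg (res M) (Subtype.ext ?_)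
          exact centralChar_of_isConj φ (hinvrep C)
        simp only [hf, hsym C, hφC]
        exact CharTwo.add_self_eq_zero _
      · have ha : coeffRes M B (rep C) ≠ 0 := left_ne_zero_of_mul hne
        have hreg := regular_of_coeffRes_ne_zero hM hS ha
        have hx1 : rep C ≠ 1 := fun e => Finset.ne_of_mem_erase hC (by rw [← mk_rep C, e])
        have hreal' : IsConj (rep C) (rep C)⁻¹ := by
          have := hinvrep C
          rwa [show inv C = C from hfix] at this
        have h2 := factorization_index_le hM (right_ne_zero_of_mul hne)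
        rw [hφ, Nat.le_zero, Nat.factorization_eq_zero_iff] at h2
        rcases h2 with h2 | h2 | h2
        · exact h2 Nat.prime_two
        · exact h2 (two_dvd_index_of_isConj_inv hreg hx1 hreal')
        · exact Subgroup.index_ne_zero_of_finite h2
      · refine Finset.mem_erase.mpr ⟨fun e => Finset.ne_of_mem_erase hC ?_, Finset.mem_univ _⟩
        rw [← mk_rep C]
        have := ConjClasses.mk_eq_mk_iff_isConj.mp e
        rw [inv_eq_one.mp (isConj_one_left.mp this)]
      · show ConjClasses.mk (rep (inv C))⁻¹ = C
        conv_rhs => rw [← mk_rep C]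
        refine ConjClasses.mk_eq_mk_iff_isConj.mpr ?_
        obtain ⟨c, hc⟩ := isConj_iff.mp (hinvrep C)
        refine isConj_iff.mpr ⟨c, ?_⟩
        have e : rep C = (c * rep (inv C) * c⁻¹)⁻¹ := by rw [hc, inv_inv]
        rw [e]
        group
    rw [hz, add_zero]
    simp only [hf, h1, hω, mul_one]
  have hsymχ : ∀ g, centralRes M χ g⁻¹ = centralRes M χ g := fun g => by
    rw [← centralRes_eq_of_mem hB (hreal χ hχ) hχ g]
    exact congrArg (res M) (Subtype.ext (centralChar_conjChar χ g).symm)
  have h1 := (key χ he hsymχ).symm.trans (coeffRes_one_eq hM hB hχ)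
  have hone : (oneChar G : G → ℂ) = fun _ => 1 := rfl
  have h2 := key (oneChar G) (by simp [degVal, charDegree, hone]) (fun g => by
    refine congrArg (res M) (Subtype.ext ?_)
    show centralChar (oneChar G : G → ℂ) g⁻¹ = centralChar (oneChar G : G → ℂ) g
    simp only [centralChar, centralizer_inv_singleton, hone])
  by_contra hne
  have hnot : oneChar G ∉ B := fun h =>
    hne (isPBlock_eq_of_mem hB isPBlock_principalBlock h one_mem_principalBlock)
  have h3 : omegaLoc M (oneChar G) (blockIdem M B) = ∑ C : ConjClasses G,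
      (blockIdem M B : MonoidAlgebra (locRing M) G).coeff (rep C) *
        ⟨_, centralChar_mem (oneChar G) (rep C)⟩ := by
    apply Subtype.ext
    rw [coe_omegaLoc, omega_toC_eq _ (mem_center_iff_isClassElt.mp (blockIdem M B).2),
      AddSubmonoidClass.coe_finsetSum]
    rfl
  have h4 := congrArg (res M) h3
  rw [omegaLoc_blockIdem hM hS, if_neg hnot, map_zero, map_sum,
    Finset.sum_congr rfl fun C _ => map_mul (res M) _ _] at h4
  have h5 := h4.trans h2
  rw [h1] at h5
  exact zero_ne_one h5

/-- A real irreducible character of odd degree lies in the principal 2-block. -/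
theorem mem_principalBlock_of_real_odd (hM : IsPModular 2 M) {χ : IrrCharacter G}
    (hreal : ∀ g : G, ((χ : G → ℂ) g).im = 0) (hodd : Odd (charDegree (χ : G → ℂ))) :
    χ ∈ principalBlock M G := by
  have hc : conjChar χ = χ :=
    Subtype.ext (funext fun g => Complex.conj_eq_iff_im.mpr (hreal g))
  have hB : IsPBlock M (blockOf M (χ : G → ℂ)) := isPBlock_blockOf χ
  have h0 : degVal 2 χ = 0 :=
    Nat.factorization_eq_zero_of_not_dvd hodd.not_two_dvd_nat
  have hdef : blockDefect 2 (blockOf M (χ : G → ℂ)) = (Nat.card G).factorization 2 := by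
    have := minDeg_le (p := 2) (self_mem_blockOf (M := M) χ)
    show (Nat.card G).factorization 2 - minDeg 2 _ = _
    omega
  rw [← isPBlock_eq_principal_of_real hM hB hdef (fun ψ hψ => by
    have := conjChar_mem_blockOf hψ
    rwa [hc] at this)]
  exact self_mem_blockOf χ

end CfsgLib.Block
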