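import Cfsg.Agent.Lib.Block.KleinFour
import Cfsg.Agent.Lib.Block.KleinGroup
import Cfsg.Agent.Lib.Block.RealBlocks
import Cfsg.Agent.Lib.Char.ClassMul
import Cfsg.Agent.Lib.Char.FrobeniusSchur

/-!
# Brauer's order formula for a four-group Sylow 2-subgroup
-/

open Finset
open scoped ComplexConjugate

set_option linter.unusedSectionVars false

namespace CfsgLib.Block

open Cfsg

open scoped Pair

universe u

variable {M : Ideal AlgInt} [M.IsMaximal] {G : Type u} [Group G] [Fintype G] [DecidableEq G]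
  [Fintype (IrrCharacter G)]

/-- The data of the order formula. -/
structure KleinSums (M : Ideal AlgInt) (G : Type u) [Group G] [Fintype G]
    [Fintype (IrrCharacter G)] (P : Sylow 2 G) (J : G) (χ₁ χ₂ χ₃ : IrrCharacter G)
    (e₁ e₂ e₃ : ℤ) : Prop where
  orth : (1 : ℤ) + e₁ * charDegree (χ₁ : G → ℂ) + e₂ * charDegree (χ₂ : G → ℂ) +
    e₃ * charDegree (χ₃ : G → ℂ) = 0
  order : (Nat.card G : ℂ) * (1 + (e₁ : ℂ) / (χ₁ : G → ℂ) 1 + (e₂ : ℂ) / (χ₂ : G → ℂ) 1 +
      (e₃ : ℂ) / (χ₃ : G → ℂ) 1) *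
        (Nat.card (Subgroup.centralizer ((P : Subgroup G) : Set G)) : ℂ) ^ 2 =
      8 * (Nat.card (Subgroup.centralizer ({J} : Set G)) : ℂ) ^ 3
  dvd : Nat.card (Subgroup.centralizer ((P : Subgroup G) : Set G)) ∣
    Nat.card (Subgroup.centralizer ({J} : Set G))
  pair : (e₁ = e₂ → e₃ = -1 → e₁ * e₂ * e₃ = -1 →
    e₁ = 1 ∧ charDegree (χ₁ : G → ℂ) = charDegree (χ₂ : G → ℂ))

theorem exists_kleinSums (hM : IsPModular 2 M) (P : Sylow 2 G) (hK : IsKleinFour (P : Subgroup G))
    (hone : ∀ a b : G, orderOf a = 2 → orderOf b = 2 → IsConj a b) {J : G}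
    (hJ : J ∈ (P : Subgroup G)) (hJ2 : orderOf J = 2) {χ₁ χ₂ χ₃ : IrrCharacter G} {e₁ e₂ e₃ : ℤ}
    (hB : principalBlock M G = {χ : IrrCharacter G | (χ : G → ℂ) = (fun _ => 1) ∨ χ = χ₁ ∨
      χ = χ₂ ∨ χ = χ₃})
    (h1 : (χ₁ : G → ℂ) ≠ fun _ => 1) (h2 : (χ₂ : G → ℂ) ≠ fun _ => 1)
    (h3 : (χ₃ : G → ℂ) ≠ fun _ => 1) (h12 : χ₁ ≠ χ₂) (h13 : χ₁ ≠ χ₃) (h23 : χ₂ ≠ χ₃)
    (hv1 : (χ₁ : G → ℂ) J = e₁) (hv2 : (χ₂ : G → ℂ) J = e₂) (hv3 : (χ₃ : G → ℂ) J = e₃) :
    KleinSums M G P J χ₁ χ₂ χ₃ e₁ e₂ e₃ := by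
  classical
  have hp : Fact (Nat.Prime 2) := ⟨Nat.prime_two⟩
  have hexp : ∀ v ∈ (P : Subgroup G), v * v = 1 := fun v hv => by
    have h := Monoid.pow_exponent_eq_one (⟨v, hv⟩ : (P : Subgroup G))
    rw [hK.exponent_two, pow_two] at h
    exact congrArg (fun q : (P : Subgroup G) => (q : G)) h
  obtain ⟨u, -, s, hs⟩ := exists_kleinData hM P hK.card_four hexp hone
  have hJev : 2 ∣ orderOf J := by rw [hJ2]
  have hmem : ∀ χ, χ ∈ principalBlock M G ↔ χ = oneChar G ∨ χ = χ₁ ∨ χ = χ₂ ∨ χ = χ₃ := fun χ => by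
    rw [hB]
    exact or_congr_left ⟨fun h => Subtype.ext h, fun h => h ▸ rfl⟩
  have hm0 : oneChar G ∈ principalBlock M G := one_mem_principalBlock
  have hm1 := (hmem χ₁).mpr (Or.inr (Or.inl rfl))
  have hm2 := (hmem χ₂).mpr (Or.inr (Or.inr (Or.inl rfl)))
  have hm3 := (hmem χ₃).mpr (Or.inr (Or.inr (Or.inr rfl)))
  have hs0 : s (oneChar G) = 1 := by
    have h := hs.sing _ hm0 J hJev
    simp only [oneChar] at h
    exact_mod_cast h.symm
  have hs1 : s χ₁ = e₁ := by exact_mod_cast (hs.sing _ hm1 J hJev).symm.trans hv1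
  have hs2 : s χ₂ = e₂ := by exact_mod_cast (hs.sing _ hm2 J hJev).symm.trans hv2
  have hs3 : s χ₃ = e₃ := by exact_mod_cast (hs.sing _ hm3 J hJev).symm.trans hv3
  have n01 : oneChar G ≠ χ₁ := fun e => h1 (congrArg Subtype.val e).symm
  have n02 : oneChar G ≠ χ₂ := fun e => h2 (congrArg Subtype.val e).symm
  have n03 : oneChar G ≠ χ₃ := fun e => h3 (congrArg Subtype.val e).symm
  have hsum : ∀ F : IrrCharacter G → ℂ, ∑ χ ∈ Finset.univ.filter (· ∈ principalBlock M G), F χ =
      F (oneChar G) + F χ₁ + F χ₂ + F χ₃ := by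
    intro F
    rw [show Finset.univ.filter (· ∈ principalBlock M G) = {oneChar G, χ₁, χ₂, χ₃} by
      ext χ; simp [hmem χ]]
    rw [Finset.sum_insert (by simp [n01, n02, n03]), Finset.sum_insert (by simp [h12, h13]),
      Finset.sum_pair h23, add_assoc, add_assoc]
  have hone1 : (oneChar G : G → ℂ) 1 = 1 := rfl
  have horth : (1 : ℤ) + e₁ * charDegree (χ₁ : G → ℂ) + e₂ * charDegree (χ₂ : G → ℂ) +
      e₃ * charDegree (χ₃ : G → ℂ) = 0 := by
    have h := hs.orth 1 (by simp)
    rw [finsum_mem_eq_toFinset_sum, show (principalBlock M G).toFinset =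
      Finset.univ.filter (· ∈ principalBlock M G) by ext; simp, hsum, hs0, hs1, hs2, hs3,
      (charDegree_eq χ₁).1, (charDegree_eq χ₂).1, (charDegree_eq χ₃).1, hone1] at h
    have h' : (((1 : ℤ) + e₁ * charDegree (χ₁ : G → ℂ) + e₂ * charDegree (χ₂ : G → ℂ) +
      e₃ * charDegree (χ₃ : G → ℂ) : ℤ) : ℂ) = ((0 : ℤ) : ℂ) := by
      push_cast at h ⊢
      linear_combination h
    exact_mod_cast h'
  -- the centralizer
  have hcompl := hasNormalPComplement_klein_central hK hJ hJ2
  obtain ⟨Q, N, hN, hc⟩ := id hcompl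
  have hPC := klein_le_centralizer hK hJ
  have hQ4 : Nat.card (Q : Subgroup (Subgroup.centralizer ({J} : Set G))) = 4 := by
    rw [Q.card_eq_multiplicity, ← (P.subtype hPC).card_eq_multiplicity, ← hK.card_four (G := (P : Subgroup G))]
    exact Nat.card_congr (Subgroup.subgroupOfEquivOfLe hPC).toEquiv
  have hNi : N.index = 4 := by rw [hc.symm.index_eq_card, hQ4]
  have hNodd : ¬ 2 ∣ Nat.card N := fun h => Q.not_dvd_index (hc.index_eq_card ▸ h)
  have hreg : ∀ t : Subgroup.centralizer ({J} : Set G), ¬ 2 ∣ orderOf t ↔ t ∈ N := by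
    intro t
    constructor
    · intro ht
      have h4 : (t : _ ⧸ N) ^ 4 = 1 := by
        rw [← hNi]
        exact pow_card_eq_one'
      have h5 : orderOf (t : _ ⧸ N) ∣ 4 := orderOf_dvd_of_pow_eq_one h4
      have h6 : orderOf (t : _ ⧸ N) ∣ orderOf t := orderOf_map_dvd (QuotientGroup.mk' N) t
      have h7 : orderOf (t : _ ⧸ N) = 1 := Nat.eq_one_of_dvd_coprimes
        (Nat.Coprime.pow_left 2 ((Nat.Prime.coprime_iff_not_dvd Nat.prime_two).mpr ht) :
          Nat.Coprime (2 ^ 2) (orderOf t)) h5 h6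
      exact (QuotientGroup.eq_one_iff t).mp (orderOf_eq_one_iff.mp h7)
    · exact fun ht h => hNodd (h.trans (Subgroup.orderOf_dvd_natCard _ ht))
  have hC : ∀ t : G, t ∈ Subgroup.centralizer ({J} : Set G) ↔ Commute t J := fun t =>
    Subgroup.mem_centralizer_singleton_iff
  have hpkJ : ∃ k : ℕ, orderOf J = 2 ^ k := ⟨1, by rw [hJ2]; rfl⟩
  have := Fintype.ofFinite (IrrCharacter (Subgroup.centralizer ({J} : Set G)))
  have hb0 : IsInducedBlock M (Subgroup.centralizer ({J} : Set G))
      (principalBlock M (Subgroup.centralizer ({J} : Set G))) (principalBlock M G) := by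
    obtain ⟨B, hB'⟩ := exists_induced_centralizer hM hpkJ hC
      (isPBlock_principalBlock (M := M) (G := Subgroup.centralizer ({J} : Set G)))
    rwa [(isInducedBlock_principal_iff hM hB').mpr rfl] at hB'
  have hJy : ∀ y : N, 2 ∣ orderOf (J * ((y : Subgroup.centralizer ({J} : Set G)) : G)) := by
    intro y
    have hy := (hreg (y : Subgroup.centralizer ({J} : Set G))).mpr y.2
    rw [← Subgroup.orderOf_coe] at hy
    have hcm : Commute J ((y : Subgroup.centralizer ({J} : Set G)) : G) :=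
      ((hC _).mp (y : Subgroup.centralizer ({J} : Set G)).2).symm
    rw [hcm.orderOf_mul_eq_mul_orderOf_of_coprime
      (by rw [hJ2]; exact (Nat.Prime.coprime_iff_not_dvd Nat.prime_two).mpr hy), hJ2]
    exact dvd_mul_right 2 _
  have hsingJ : ∀ χ ∈ principalBlock M G, ∀ y : N,
      (χ : G → ℂ) (J * ((y : Subgroup.centralizer ({J} : Set G)) : G)) = (s χ : ℂ) :=
    fun χ hχ y => hs.sing χ hχ _ (hJy y)
  -- characters off the principal block
  have hoff : ∀ χ, χ ∉ principalBlock M G →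
      ∑ y : N, (χ : G → ℂ) (J * ((y : Subgroup.centralizer ({J} : Set G)) : G)) = 0 := by
    intro χ hχ
    have hJC : J ∈ Subgroup.centralizer ({J} : Set G) := (hC J).mpr (Commute.refl J)
    have h := second_main_theorem hM hb0 (h := ⟨J, hJC⟩) (z := J)
      ⟨1, mul_one J, Commute.one_right J, hpkJ, by simp⟩ (fun t ht => (hC t).mpr ht) hχ
    have hco : ∀ t : Subgroup.centralizer ({J} : Set G),
        blockCoeff (principalBlock M (Subgroup.centralizer ({J} : Set G))) t =
          if t ∈ N then (Nat.card N : ℂ)⁻¹ else 0 := by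
      intro t
      split_ifs with ht
      · have := Fintype.ofFinite (ConjClasses (Subgroup.centralizer ({J} : Set G)))
        have h2 := sum_sq_principal_of_complement hM hcompl
        have hcard : Nat.card (Subgroup.centralizer ({J} : Set G)) = Nat.card N * 4 := by
          rw [← hNi, N.card_mul_index]
        rw [← Q.card_eq_multiplicity, hQ4] at h2
        rw [blockCoeff, finsum_mem_eq_finite_toFinset_sum _ (Set.toFinite _),
          Finset.sum_congr rfl fun η hη => by
            rw [irr_eq_one_of_regular hM hcompl ((Set.Finite.mem_toFinset _).mp hη)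
              ((hreg t).mpr ht), Char.conj_irr_one], h2, hcard]
        have : (Nat.card N : ℂ) ≠ 0 := Nat.cast_ne_zero.mpr Nat.card_pos.ne'
        push_cast
        field_simp
      · exact blockCoeff_eq_zero_of_singular hM (.of_isPBlock isPBlock_principalBlock)
          (by_contra fun h => ht ((hreg t).mp h))
    simp only [hco, ite_mul, zero_mul] at h
    rw [← Finset.sum_filter, ← Finset.mul_sum, mul_eq_zero] at h
    rcases h with h | h
    · exact absurd h (inv_ne_zero (Nat.cast_ne_zero.mpr Nat.card_pos.ne'))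
    rw [← h]
    refine Finset.sum_bij' (fun y _ => (y : Subgroup.centralizer ({J} : Set G)))
      (fun t ht => ⟨t, (Finset.mem_filter.mp ht).2⟩) (fun y _ => ?_) (fun _ _ => Finset.mem_univ _)
      (fun y _ => rfl) (fun t _ => rfl) (fun y _ => ?_)
    · exact Finset.mem_filter.mpr ⟨Finset.mem_univ _, y.2⟩
    · rw [(hC _).mp (y : Subgroup.centralizer ({J} : Set G)).2 |>.eq]
  have htotal : ∀ F : IrrCharacter G → ℂ,
      ∑ χ : IrrCharacter G, F χ *
          ∑ y : N, (χ : G → ℂ) (J * ((y : Subgroup.centralizer ({J} : Set G)) : G)) =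
        (Nat.card N : ℂ) * (F (oneChar G) + F χ₁ * e₁ + F χ₂ * e₂ + F χ₃ * e₃) := by
    intro F
    rw [← Finset.sum_subset (Finset.subset_univ (Finset.univ.filter (· ∈ principalBlock M G)))
      (fun χ _ hχ => by rw [hoff χ (by simpa using hχ), mul_zero]), hsum]
    simp only [hsingJ _ hm0, hsingJ _ hm1, hsingJ _ hm2, hsingJ _ hm3, hs0, hs1, hs2, hs3,
      Finset.sum_const, Finset.card_univ, ← Nat.card_eq_fintype_card, nsmul_eq_mul, Int.cast_one]
    ring
  -- pairs of involutions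
  set Pairs := {p : G × G // orderOf p.1 = 2 ∧ orderOf p.2 = 2 ∧
    ∃ y : N, p.1 * p.2 = J * (y : Subgroup.centralizer ({J} : Set G))} with hPairs
  have hcount : Nat.card Pairs =
      ∑ y : N, Char.classConst J J (J * ((y : Subgroup.centralizer ({J} : Set G)) : G)) := by
    unfold Char.classConst
    rw [← Nat.card_sigma]
    have hord : ∀ {a : G}, IsConj J a → orderOf a = 2 := fun {a} h => by
      obtain ⟨c, rfl⟩ := isConj_iff.mp h
      rw [orderOf_conj_eq, hJ2]
    refine (Nat.card_eq_of_bijective (fun q : Σ y : N, {p : G × G // IsConj J p.1 ∧ IsConj J p.2 ∧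
        p.1 * p.2 = J * ((y : Subgroup.centralizer ({J} : Set G)) : G)} =>
      (⟨q.2.1, hord q.2.2.1, hord q.2.2.2.1, q.1, q.2.2.2.2⟩ : Pairs)) ⟨?_, ?_⟩).symm
    · rintro ⟨y, p, hp⟩ ⟨y', p', hp'⟩ e
      obtain rfl : p = p' := congrArg Subtype.val e
      obtain rfl : y = y' := Subtype.ext (Subtype.ext (mul_left_cancel (hp.2.2.symm.trans hp'.2.2)))
      rfl
    · rintro ⟨p, ha, hb, y, hy⟩
      exact ⟨⟨y, p, hone J _ hJ2 ha, hone J _ hJ2 hb, hy⟩, rfl⟩
  have hpairs := card_conj_pairs hK hJ hJ2 hc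
  have hdvd : Nat.card (Subgroup.centralizer ((P : Subgroup G) : Set G)) ∣
      Nat.card (Subgroup.centralizer ({J} : Set G)) :=
    Subgroup.card_dvd_of_le (Subgroup.centralizer_le (Set.singleton_subset_iff.mpr hJ))
  refine ⟨horth, ?_, hdvd, fun h12e h3e hprod => ?_⟩
  · have hcls : (Nat.card {x : G // IsConj J x} : ℂ) *
        (Nat.card (Subgroup.centralizer ({J} : Set G)) : ℂ) = (Nat.card G : ℂ) := by
      rw [Char.card_isConj, ← Nat.cast_mul, Subgroup.index_mul_card]
    have hG0 : (Nat.card G : ℂ) ≠ 0 := Nat.cast_ne_zero.mpr Nat.card_pos.ne'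
    have hN0 : (Nat.card N : ℂ) ≠ 0 := Nat.cast_ne_zero.mpr Nat.card_pos.ne'
    have hc0 : (Nat.card (Subgroup.centralizer ({J} : Set G)) : ℂ) ≠ 0 :=
      Nat.cast_ne_zero.mpr Nat.card_pos.ne'
    have hcN : (Nat.card (Subgroup.centralizer ({J} : Set G)) : ℂ) = 4 * (Nat.card N : ℂ) := by
      rw [← N.card_mul_index, hNi]; push_cast; ring
    have hne := Char.irr_one_ne_zero (G := G)
    have h : (Nat.card Pairs : ℂ) = (Nat.card {x : G // IsConj J x} : ℂ) *
        (Nat.card {x : G // IsConj J x} : ℂ) / (Nat.card G : ℂ) *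
          ((Nat.card N : ℂ) * (1 + (e₁ : ℂ) / (χ₁ : G → ℂ) 1 + (e₂ : ℂ) / (χ₂ : G → ℂ) 1 +
            (e₃ : ℂ) / (χ₃ : G → ℂ) 1)) := by
      rw [hcount, Nat.cast_sum]
      simp only [Char.classConst_formula, finsum_eq_sum_of_fintype]
      rw [← Finset.mul_sum, Finset.sum_comm]
      congr 1
      have := htotal fun χ => (χ : G → ℂ) J * (χ : G → ℂ) J / (χ : G → ℂ) 1
      rw [← Complex.conj_conj (∑ χ : IrrCharacter G, _), ← Complex.conj_conj (_ * (1 + _ + _ + _))]
      congr 1
      have hre : ∀ χ : IrrCharacter G, conj ((χ : G → ℂ) J) = (χ : G → ℂ) J := fun χ => by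
        rw [← Char.irr_inv, inv_eq_of_mul_eq_one_left (by rw [← pow_two, ← hJ2, pow_orderOf_eq_one])]
      refine Eq.trans ?_ (this.trans ?_)
      · rw [map_sum]
        refine Finset.sum_congr rfl fun χ _ => ?_
        rw [map_sum, Finset.mul_sum]
        refine Finset.sum_congr rfl fun y _ => ?_
        simp only [map_div₀, map_mul, Complex.conj_conj, hre, Char.conj_irr_one]
        ring
      · have q1 : (e₁ : ℂ) * e₁ = 1 := by rw [← hs1]; exact_mod_cast hs.sq _ hm1
        have q2 : (e₂ : ℂ) * e₂ = 1 := by rw [← hs2]; exact_mod_cast hs.sq _ hm2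
        have q3 : (e₃ : ℂ) * e₃ = 1 := by rw [← hs3]; exact_mod_cast hs.sq _ hm3
        simp only [hv1, hv2, hv3, oneChar, map_mul, map_add, map_one, map_div₀, map_natCast,
          map_intCast, Char.conj_irr_one, q1, q2, q3]
        ring
    have hp2 : (Nat.card Pairs : ℂ) *
        (Nat.card (Subgroup.centralizer ((P : Subgroup G) : Set G)) : ℂ) ^ 2 =
        2 * (Nat.card (Subgroup.centralizer ({J} : Set G)) : ℂ) ^ 2 := by exact_mod_cast hpairs
    rw [h] at hp2
    have hK0 : (Nat.card {x : G // IsConj J x} : ℂ) ≠ 0 := fun e => hG0 (by rw [← hcls, e, zero_mul])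
    set S := (1 + (e₁ : ℂ) / (χ₁ : G → ℂ) 1 + (e₂ : ℂ) / (χ₂ : G → ℂ) 1 +
      (e₃ : ℂ) / (χ₃ : G → ℂ) 1)
    rw [← hcls, hcN] at hp2 ⊢
    field_simp at hp2
    linear_combination (4 * (Nat.card N : ℂ)) * hp2
  · -- Frobenius–Schur
    have hee : e₁ = 1 ∨ e₁ = -1 := by
      have := hs.sq _ hm1
      rw [hs1] at this
      exact Int.isUnit_iff.mp (IsUnit.of_mul_eq_one _ this)
    have hpos : ∀ χ : IrrCharacter G, 0 < charDegree (χ : G → ℂ) := fun χ =>
      Nat.pos_of_ne_zero (charDegree_eq χ).2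
    have he : e₁ = 1 := by
      rcases hee with h | h
      · exact h
      · have := hpos χ₁; have := hpos χ₂; have := hpos χ₃
        rw [← h12e, h3e, h] at horth
        omega
    refine ⟨he, ?_⟩
    -- no square roots of `J * y`
    let f : G → ℂ := fun g => (Nat.card {z : G // z * z = g} : ℂ)
    have hf : IsClassFunction G f := fun g c => by
      simp only [f, Nat.cast_inj]
      refine Nat.card_congr ((MulAut.conj c⁻¹).toEquiv.subtypeEquiv fun z => ?_)
      show z * z = c * g * c⁻¹ ↔ c⁻¹ * z * c⁻¹⁻¹ * (c⁻¹ * z * c⁻¹⁻¹) = g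
      constructor
      · intro e
        rw [show c⁻¹ * z * c⁻¹⁻¹ * (c⁻¹ * z * c⁻¹⁻¹) = c⁻¹ * (z * z) * c by group, e]; group
      · rintro rfl; group
    have hfz : ∀ y : N, f (J * ((y : Subgroup.centralizer ({J} : Set G)) : G)) = 0 := by
      intro y
      simp only [f, Nat.cast_eq_zero]
      refine Nat.card_eq_zero.mpr (Or.inl ⟨fun ⟨z, hz⟩ => ?_⟩)
      have h2g := hJy y
      rw [← hz, ← pow_two] at h2g
      have h4 : 2 ^ 2 ∣ orderOf z := by
        have h2z : 2 ∣ orderOf z := h2g.trans (orderOf_pow_dvd 2)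
        have h := orderOf_pow z (n := 2)
        rw [Nat.gcd_eq_right h2z] at h
        rw [h] at h2g
        rw [pow_two]
        exact (Nat.dvd_div_iff_mul_dvd h2z).mp h2g
      obtain ⟨r, hr⟩ := h4
      have hw : orderOf (z ^ r) = 2 ^ 2 := by
        have hr0 : r ≠ 0 := by rintro rfl; exact (orderOf_pos z).ne' (by simpa using hr)
        rw [orderOf_pow' z hr0, hr, Nat.gcd_eq_right ⟨2 ^ 2, by ring⟩,
          Nat.mul_div_cancel _ (Nat.pos_of_ne_zero hr0)]
      have hpg : IsPGroup 2 (Subgroup.zpowers (z ^ r)) :=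
        IsPGroup.of_card (n := 2) (by rw [Nat.card_zpowers, hw])
      obtain ⟨k, hk⟩ := Invol.exists_conj_le_sylow hpg P
      have hsq := hexp _ (hk _ (Subgroup.mem_zpowers _))
      rw [← pow_two, conj_pow, conj_eq_one_iff] at hsq
      have := orderOf_dvd_of_pow_eq_one hsq
      rw [hw] at this
      norm_num at this
    have hzero : ∑ χ : IrrCharacter G, classInner f (χ : G → ℂ) *
        ∑ y : N, (χ : G → ℂ) (J * ((y : Subgroup.centralizer ({J} : Set G)) : G)) = 0 := by
      simp only [Finset.mul_sum]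
      rw [Finset.sum_comm]
      refine Finset.sum_eq_zero fun y _ => ?_
      refine Eq.trans ?_ (hfz y)
      conv_rhs => rw [Char.classFun_expand hf]
      simp [Finset.sum_apply]
    rw [htotal, mul_eq_zero] at hzero
    have hsum0 := hzero.resolve_left (Nat.cast_ne_zero.mpr Nat.card_pos.ne')
    have hν : ∀ χ : IrrCharacter G, χ ∈ principalBlock M G → (∀ g, ((χ : G → ℂ) g).im = 0) →
        classInner f (χ : G → ℂ) = 1 := by
      intro χ hχ hreal
      obtain ⟨m, ρ, hρ, hρc⟩ := χ.2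
      haveI := hρ
      have hodd : Odd m := by
        have hc4 := hs.congr χ hχ
        have hq := hs.sq χ hχ
        have hd : charDegree (χ : G → ℂ) = m := by
          have h := (charDegree_eq χ).1
          rw [← hρc, Representation.char_one, Module.finrank_fin_fun] at h
          rw [← hρc]
          exact_mod_cast h.symm
        rw [hd] at hc4
        rw [← Nat.not_even_iff_odd]
        rintro ⟨r, hr⟩
        rcases Int.isUnit_iff.mp (IsUnit.of_mul_eq_one _ hq) with h | h <;> rw [h] at hc4 <;> omega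
      have h := Char.fs_indicator_one_of_odd ρ hodd (fun g => by rw [hρc]; exact hreal g)
      rw [hρc] at h
      rw [classInner, ← h]
      congr 1
      simp only [f]
      have e : ∀ g : G, (Nat.card {z : G // z * z = g} : ℂ) * conj ((χ : G → ℂ) g) =
          ∑ z ∈ Finset.univ.filter (fun z : G => z * z = g), (χ : G → ℂ) (z * z) := fun g => by
        rw [Finset.sum_congr rfl fun z hz => by rw [(Finset.mem_filter.mp hz).2],
          Finset.sum_const, nsmul_eq_mul, Complex.conj_eq_iff_im.mpr (hreal g),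
          Nat.card_eq_fintype_card, Fintype.card_subtype]
      rw [Finset.sum_congr rfl fun g _ => e g, Finset.sum_fiberwise]
    have hnot : ¬ ((∀ g, ((χ₁ : G → ℂ) g).im = 0) ∧ (∀ g, ((χ₂ : G → ℂ) g).im = 0) ∧
        (∀ g, ((χ₃ : G → ℂ) g).im = 0)) := by
      rintro ⟨r1, r2, r3⟩
      rw [hν _ hm0 (fun g => Complex.one_im), hν _ hm1 r1, hν _ hm2 r2, hν _ hm3 r3, ← h12e, h3e,
        he] at hsum0
      norm_num at hsum0
    have hconj : ∀ χ ∈ principalBlock M G, conjChar χ ∈ principalBlock M G := fun χ hχ => by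
      have h := conjChar_mem_blockOf (M := M) (χ := oneChar G) (ψ := χ) hχ
      rwa [show conjChar (oneChar G) = oneChar G from Subtype.ext (funext fun g => map_one _)] at h
    have hcval : ∀ χ : IrrCharacter G, ∀ e : ℤ, (χ : G → ℂ) J = e →
        (conjChar χ : G → ℂ) J = e := fun χ e h => by rw [conjChar_apply, h, map_intCast]
    have hreal : ∀ χ : IrrCharacter G, conjChar χ = χ → ∀ g, ((χ : G → ℂ) g).im = 0 :=
      fun χ h g => Complex.conj_eq_iff_im.mp (by rw [← conjChar_apply, h])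
    have hinv : ∀ χ : IrrCharacter G, conjChar (conjChar χ) = χ := fun χ =>
      Subtype.ext (funext fun g => by rw [conjChar_apply, conjChar_apply, Complex.conj_conj])
    have h0c : conjChar (oneChar G) = oneChar G := Subtype.ext (funext fun g => map_one _)
    have hc3 : conjChar χ₃ = χ₃ := by
      rcases (hmem _).mp (hconj χ₃ hm3) with h | h | h | h
      · exact absurd (by rw [← hinv χ₃, h, h0c]) n03.symm
      · have := hcval χ₃ e₃ hv3
        rw [h, hv1, he, h3e] at this
        norm_num at this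
      · have := hcval χ₃ e₃ hv3
        rw [h, hv2, ← h12e, he, h3e] at this
        norm_num at this
      · exact h
    have hswap : conjChar χ₁ = χ₂ := by
      rcases (hmem _).mp (hconj χ₁ hm1) with h | h | h | h
      · exact absurd (by rw [← hinv χ₁, h, h0c]) n01.symm
      · refine absurd ⟨hreal _ h, hreal _ ?_, hreal _ hc3⟩ hnot
        rcases (hmem _).mp (hconj χ₂ hm2) with h' | h' | h' | h'
        · exact absurd (by rw [← hinv χ₂, h', h0c]) n02.symm
        · exact absurd (by rw [← hinv χ₂, h', h]) h12.symm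
        · exact h'
        · exact absurd (by rw [← hinv χ₂, h', hc3]) h23
      · exact h
      · exact absurd (by rw [← hinv χ₁, h, hc3]) h13
    have hd : ((charDegree (χ₁ : G → ℂ) : ℕ) : ℂ) = (charDegree (χ₂ : G → ℂ) : ℂ) := by
      rw [← (charDegree_eq χ₁).1, ← (charDegree_eq χ₂).1, ← hswap, conjChar_apply, Char.conj_irr_one]
    exact_mod_cast hd

end CfsgLib.Block
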