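import Cfsg.Agent.Lib.Block.Cartan

/-!
# Heights and the Brauer–Feit bound

`exists_blockMatrix`: the integer matrix `p ^ d [χ°, ψ]` of a block; `sum_sq_heights_le`.
-/

open Finset
open scoped ComplexConjugate

set_option linter.unusedSectionVars false

namespace CfsgLib.Block

open Cfsg

universe u

variable {p : ℕ} {M : Ideal AlgInt} [M.IsMaximal] {G : Type u} [Group G]

/-- The least degree exponent of a block. -/
noncomputable def minDeg (p : ℕ) (B : Set (IrrCharacter G)) : ℕ :=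
  sInf ((fun χ : IrrCharacter G => (charDegree (χ : G → ℂ)).factorization p) '' B)

theorem blockHeight_eq (B : Set (IrrCharacter G)) (χ : IrrCharacter G) :
    blockHeight p B (χ : G → ℂ) = degVal p χ - minDeg p B := rfl

theorem minDeg_le {B : Set (IrrCharacter G)} {χ : IrrCharacter G} (hχ : χ ∈ B) :
    minDeg p B ≤ degVal p χ := Nat.sInf_le ⟨χ, hχ, rfl⟩

theorem exists_minDeg {B : Set (IrrCharacter G)} (hB : B.Nonempty) :
    ∃ χ ∈ B, degVal p χ = minDeg p B := by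
  obtain ⟨χ₀, hχ₀⟩ := hB
  obtain ⟨χ, hχ, he⟩ := Nat.sInf_mem
    (⟨_, χ₀, hχ₀, rfl⟩ : ((fun χ : IrrCharacter G => (charDegree (χ : G → ℂ)).factorization p) '' B).Nonempty)
  exact ⟨χ, hχ, he⟩

theorem blockHeight_eq_zero_iff {B : Set (IrrCharacter G)} {χ : IrrCharacter G} (hχ : χ ∈ B) :
    blockHeight p B (χ : G → ℂ) = 0 ↔ degVal p χ = minDeg p B := by
  rw [blockHeight_eq]
  have := minDeg_le (p := p) hχ
  omega

theorem forall_degVal_le_iff {B : Set (IrrCharacter G)} {ψ : IrrCharacter G} (hψ : ψ ∈ B) :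
    (∀ θ ∈ B, degVal p ψ ≤ degVal p θ) ↔ blockHeight p B (ψ : G → ℂ) = 0 := by
  rw [blockHeight_eq_zero_iff hψ]
  refine ⟨fun h => ?_, fun h θ hθ => h ▸ minDeg_le hθ⟩
  obtain ⟨θ, hθ, he⟩ := exists_minDeg (p := p) ⟨ψ, hψ⟩
  exact le_antisymm (he ▸ h θ hθ) (minDeg_le hψ)

variable [Fintype G] [DecidableEq G] [Fintype (IrrCharacter G)] [Fintype (ConjClasses G)]

/-- The integer matrix `p ^ d [χ°, ψ]` of a block. -/
theorem exists_blockMatrix (hM : IsPModular p M) {B : Set (IrrCharacter G)} [DecidablePred (· ∈ B)]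
    (hB : IsPBlock M B) :
    ∃ A : IrrCharacter G → IrrCharacter G → ℤ,
      (∀ χ ψ, A χ ψ = A ψ χ) ∧
      (∀ χ ∈ B, ∑ ψ ∈ Finset.univ.filter (· ∈ B), A χ ψ ^ 2 = (p : ℤ) ^ blockDefect p B * A χ χ) ∧
      (∀ χ ∈ B, ∀ ψ ∈ B, (p : ℤ) ^ blockHeight p B (χ : G → ℂ) ∣ A χ ψ) ∧
      (∀ χ ∈ B, ∀ ψ ∈ B, ((p : ℤ) ^ (blockHeight p B (χ : G → ℂ) + 1) ∣ A χ ψ ↔
        0 < blockHeight p B (ψ : G → ℂ))) := by
  classical
  have hS := IsBlockUnion.of_isPBlock hB
  set n := (Nat.card G).factorization p with hn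
  have hd : blockDefect p B = n - minDeg p B := rfl
  have hp0 : (p : ℂ) ≠ 0 := Nat.cast_ne_zero.mpr hM.1.ne_zero
  have hp0' : (p : ℤ) ≠ 0 := Int.natCast_ne_zero.mpr hM.1.ne_zero
  obtain ⟨χ₀, hχ₀, he⟩ := exists_minDeg (p := p) (isPBlock_nonempty hB)
  have ha0 : minDeg p B ≤ n := he ▸ degVal_le_card χ₀
  have hex : ∀ χ ψ : IrrCharacter G, ∃ a : ℤ, χ ∈ B → ψ ∈ B →
      ((p : ℂ) ^ blockDefect p B * regInner p χ ψ = a ∧
        (p : ℤ) ^ blockHeight p B (χ : G → ℂ) ∣ a ∧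
        ((p : ℤ) ^ (blockHeight p B (χ : G → ℂ) + 1) ∣ a ↔ regN p M χ ψ = 0)) := by
    intro χ ψ
    by_cases hχ : χ ∈ B
    · obtain ⟨u, hu, h⟩ := exists_regInner_int hM χ
      obtain ⟨z, hz, hzres⟩ := h ψ
      refine ⟨(p : ℤ) ^ blockHeight p B (χ : G → ℂ) * z, fun _ _ => ⟨?_, dvd_mul_right _ _, ?_⟩⟩
      · push_cast
        rw [← hz, ← mul_assoc, ← pow_add]
        congr 2
        have := minDeg_le (p := p) hχ
        have := degVal_le_card (p := p) χ
        rw [hd, blockHeight_eq]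
        omega
      · have hchar := charP_resField hM
        rw [pow_succ, mul_dvd_mul_iff_left (pow_ne_zero _ hp0'),
          ← CharP.intCast_eq_zero_iff (ResField M) p, hzres, mul_eq_zero]
        exact or_iff_right hu
    · exact ⟨0, fun h => absurd h hχ⟩
  choose a ha using hex
  let A : IrrCharacter G → IrrCharacter G → ℤ := fun χ ψ =>
    if χ ∈ B ∧ ψ ∈ B then a χ ψ else 0
  have hA : ∀ χ ∈ B, ∀ ψ ∈ B, (A χ ψ : ℂ) = (p : ℂ) ^ blockDefect p B * regInner p χ ψ :=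
    fun χ hχ ψ hψ => by simp only [A, hχ, hψ, and_self, if_true]; exact (ha χ ψ hχ hψ).1.symm
  have hsymm : ∀ χ ψ, A χ ψ = A ψ χ := by
    intro χ ψ
    by_cases h : χ ∈ B ∧ ψ ∈ B
    · have : (A χ ψ : ℂ) = (A ψ χ : ℂ) := by
        rw [hA χ h.1 ψ h.2, hA ψ h.2 χ h.1, regInner_comm hM]
      exact_mod_cast this
    · simp only [A, if_neg h, if_neg (fun h' : ψ ∈ B ∧ χ ∈ B => h ⟨h'.2, h'.1⟩)]
  refine ⟨A, hsymm, fun χ hχ => ?_, fun χ hχ ψ hψ => ?_, fun χ hχ ψ hψ => ?_⟩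
  · have : ((∑ ψ ∈ Finset.univ.filter (· ∈ B), A χ ψ ^ 2 : ℤ) : ℂ) =
        (((p : ℤ) ^ blockDefect p B * A χ χ : ℤ) : ℂ) := by
      push_cast
      rw [hA χ hχ χ hχ, ← sum_regInner_mul_regInner p χ χ, Finset.mul_sum, Finset.mul_sum,
        ← Finset.sum_subset (Finset.filter_subset (· ∈ B) Finset.univ) fun θ _ hθ => by
          rw [regInner_eq_zero_of_not_mem hM hS hχ (by simpa using hθ), zero_mul, mul_zero, mul_zero]]
      refine Finset.sum_congr rfl fun θ hθ => ?_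
      rw [hA χ hχ θ (Finset.mem_filter.mp hθ).2, regInner_comm hM θ χ]
      ring
    exact_mod_cast this
  · simp only [A, hχ, hψ, and_self, if_true]
    exact (ha χ ψ hχ hψ).2.1
  · simp only [A, hχ, hψ, and_self, if_true]
    rw [(ha χ ψ hχ hψ).2.2, Nat.pos_iff_ne_zero, Ne, ← forall_degVal_le_iff hψ,
      ← regN_ne_zero_iff hM hB hχ hψ, not_not]

theorem one_le_sq_of_ne_zero {a : ℤ} (h : a ≠ 0) : 1 ≤ a ^ 2 := by
  have : 0 < a ^ 2 := by positivity
  omega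

/-- The sum of the squares of the heights. -/
theorem four_mul_sum_sq_heights_le (hM : IsPModular p M) {B : Set (IrrCharacter G)}
    [DecidablePred (· ∈ B)] (hB : IsPBlock M B) :
    4 * ∑ χ ∈ Finset.univ.filter (· ∈ B), p ^ (2 * blockHeight p B (χ : G → ℂ)) ≤
      (p ^ blockDefect p B) ^ 2 + 4 := by
  classical
  obtain ⟨A, hsymm, hsq, hdvd, hiff⟩ := exists_blockMatrix hM hB
  obtain ⟨χ₀, hχ₀, he⟩ := exists_minDeg (p := p) (isPBlock_nonempty hB)
  have h0 : blockHeight p B (χ₀ : G → ℂ) = 0 := (blockHeight_eq_zero_iff hχ₀).mpr he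
  set S := Finset.univ.filter (fun χ => χ ∈ B) with hS
  have hmem : χ₀ ∈ S := by simp [hS, hχ₀]
  have hne : ∀ χ ∈ S, A χ₀ χ ≠ 0 ∧
      ((p : ℤ) ^ blockHeight p B (χ : G → ℂ)) ^ 2 ≤ A χ₀ χ ^ 2 := by
    intro χ hχ
    have hχB : χ ∈ B := (Finset.mem_filter.mp hχ).2
    have h1 : A χ χ₀ ≠ 0 := fun h => by
      have := (hiff χ hχB χ₀ hχ₀).mp (h ▸ dvd_zero _)
      omega
    refine ⟨hsymm χ χ₀ ▸ h1, ?_⟩
    rw [hsymm χ₀ χ]
    obtain ⟨t, ht⟩ := hdvd χ hχB χ₀ hχ₀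
    rw [ht, mul_pow]
    have ht0 : t ≠ 0 := fun h => h1 (by rw [ht, h, mul_zero])
    exact le_mul_of_one_le_right (sq_nonneg _) (one_le_sq_of_ne_zero ht0)
  have h1 : ∑ χ ∈ S.erase χ₀, ((p : ℤ) ^ blockHeight p B (χ : G → ℂ)) ^ 2 ≤
      (p : ℤ) ^ blockDefect p B * A χ₀ χ₀ - A χ₀ χ₀ ^ 2 := by
    rw [← hsq χ₀ hχ₀, ← Finset.add_sum_erase S _ hmem, add_sub_cancel_left]
    exact Finset.sum_le_sum fun χ hχ => (hne χ (Finset.mem_of_mem_erase hχ)).2
  have h2 : ((4 * ∑ χ ∈ S, p ^ (2 * blockHeight p B (χ : G → ℂ)) : ℕ) : ℤ) ≤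
      (((p ^ blockDefect p B) ^ 2 + 4 : ℕ) : ℤ) := by
    rw [← Finset.add_sum_erase S _ hmem, h0]
    push_cast
    have hcast : ∀ χ : IrrCharacter G, (p : ℤ) ^ (2 * blockHeight p B (χ : G → ℂ)) =
        ((p : ℤ) ^ blockHeight p B (χ : G → ℂ)) ^ 2 := fun χ => by rw [← pow_mul, mul_comm]
    simp only [hcast]
    nlinarith [sq_nonneg ((p : ℤ) ^ blockDefect p B - 2 * A χ₀ χ₀), h1]
  exact_mod_cast h2

/-- If some character has positive height then `2 k(B) ≤ p ^ (2 d - 2)`. -/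
theorem two_mul_card_le_of_positive_height (hM : IsPModular p M) {B : Set (IrrCharacter G)}
    [DecidablePred (· ∈ B)] (hB : IsPBlock M B)
    (hpos : ∃ χ ∈ B, 0 < blockHeight p B (χ : G → ℂ)) :
    p ^ 2 * (2 * (Finset.univ.filter (· ∈ B)).card) ≤ (p ^ blockDefect p B) ^ 2 := by
  classical
  obtain ⟨A, hsymm, hsq, hdvd, hiff⟩ := exists_blockMatrix hM hB
  obtain ⟨χ₁, hχ₁, h1⟩ := hpos
  obtain ⟨χ₀, hχ₀, he⟩ := exists_minDeg (p := p) (isPBlock_nonempty hB)
  have h0 : blockHeight p B (χ₀ : G → ℂ) = 0 := (blockHeight_eq_zero_iff hχ₀).mpr he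
  set S := Finset.univ.filter (fun χ => χ ∈ B) with hS
  set D : ℤ := (p : ℤ) ^ blockDefect p B with hD
  have hp : (2 : ℤ) ≤ p := by exact_mod_cast hM.1.two_le
  set P := S.filter (fun χ : IrrCharacter G => 0 < blockHeight p B (χ : G → ℂ)) with hP
  set Z := S.filter (fun χ : IrrCharacter G => ¬ 0 < blockHeight p B (χ : G → ℂ)) with hZ
  have hmemB : ∀ {χ}, χ ∈ S → χ ∈ B := fun h => (Finset.mem_filter.mp h).2
  -- the row of a character of positive height
  have hrow : ∀ ψ ∈ Z, (p : ℤ) ^ 2 ≤ A χ₁ ψ ^ 2 := by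
    intro ψ hψ
    obtain ⟨hψS, hψ0⟩ := Finset.mem_filter.mp hψ
    obtain ⟨t, ht⟩ := (pow_dvd_pow (p : ℤ) h1).trans (hdvd χ₁ hχ₁ ψ (hmemB hψS))
    rw [ht, pow_one, mul_pow]
    refine le_mul_of_one_le_right (sq_nonneg _) (one_le_sq_of_ne_zero fun h => hψ0 ?_)
    exact (hiff χ₁ hχ₁ ψ (hmemB hψS)).mp (by rw [ht, h, mul_zero]; exact dvd_zero _)
  have hbound : ∀ χ ∈ B, ∀ T : Finset (IrrCharacter G), T ⊆ S.erase χ → ∀ c : IrrCharacter G → ℤ,
      (∀ ψ ∈ T, c ψ ≤ A χ ψ ^ 2) → 4 * ∑ ψ ∈ T, c ψ ≤ D ^ 2 := by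
    intro χ hχ T hT c hc
    have hχS : χ ∈ S := by simp [hS, hχ]
    have e : ∑ ψ ∈ S.erase χ, A χ ψ ^ 2 = D * A χ χ - A χ χ ^ 2 := by
      rw [hD, ← hsq χ hχ, ← Finset.add_sum_erase S _ hχS, add_sub_cancel_left]
    have h2 : ∑ ψ ∈ T, c ψ ≤ D * A χ χ - A χ χ ^ 2 :=
      e ▸ (Finset.sum_le_sum hc).trans
        (Finset.sum_le_sum_of_subset_of_nonneg hT fun ψ _ _ => sq_nonneg _)
    nlinarith [sq_nonneg (D - 2 * A χ χ)]
  have hb1 : 4 * ((p : ℤ) ^ 2 * Z.card) ≤ D ^ 2 := by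
    have := hbound χ₁ hχ₁ Z (fun ψ hψ => Finset.mem_erase.mpr
      ⟨fun e => (Finset.mem_filter.mp hψ).2 (e ▸ h1), (Finset.mem_filter.mp hψ).1⟩)
      (fun _ => (p : ℤ) ^ 2) hrow
    simpa [mul_comm] using this
  have hb2 : 4 * ((p : ℤ) ^ 2 * P.card) ≤ D ^ 2 := by
    have := hbound χ₀ hχ₀ P (fun ψ hψ => Finset.mem_erase.mpr
      ⟨fun e => by have := (Finset.mem_filter.mp hψ).2; rw [e, h0] at this; omega,
        (Finset.mem_filter.mp hψ).1⟩)
      (fun _ => (p : ℤ) ^ 2) (fun ψ hψ => by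
        obtain ⟨hψS, hψ1⟩ := Finset.mem_filter.mp hψ
        obtain ⟨t, ht⟩ := (pow_dvd_pow (p : ℤ) hψ1).trans (hdvd ψ (hmemB hψS) χ₀ hχ₀)
        rw [hsymm χ₀ ψ, ht, pow_one, mul_pow]
        refine le_mul_of_one_le_right (sq_nonneg _) (one_le_sq_of_ne_zero fun h => ?_)
        have := (hiff ψ (hmemB hψS) χ₀ hχ₀).mp (by rw [ht, h, mul_zero]; exact dvd_zero _)
        omega)
    simpa [mul_comm] using this
  have hcard : P.card + Z.card = S.card := by
    rw [hP, hZ, Finset.card_filter_add_card_filter_not]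
  have : ((p ^ 2 * (2 * S.card) : ℕ) : ℤ) ≤ (((p ^ blockDefect p B) ^ 2 : ℕ) : ℤ) := by
    rw [← hcard]
    push_cast
    rw [← hD]
    linarith
  exact_mod_cast this

/-- Heights are less than the defect (for positive defect). -/
theorem blockHeight_lt_defect (hM : IsPModular p M) {B : Set (IrrCharacter G)}
    [DecidablePred (· ∈ B)] (hB : IsPBlock M B) {χ : IrrCharacter G} (hχ : χ ∈ B)
    (h : 0 < blockHeight p B (χ : G → ℂ)) :
    blockHeight p B (χ : G → ℂ) < blockDefect p B := by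
  classical
  have h4 := four_mul_sum_sq_heights_le hM hB
  obtain ⟨χ₀, hχ₀, he⟩ := exists_minDeg (p := p) (isPBlock_nonempty hB)
  have h0 : blockHeight p B (χ₀ : G → ℂ) = 0 := (blockHeight_eq_zero_iff hχ₀).mpr he
  have hsub : ({χ, χ₀} : Finset _) ⊆ Finset.univ.filter (· ∈ B) := by
    intro x hx
    rcases Finset.mem_insert.mp hx with rfl | hx
    · simp [hχ]
    · rw [Finset.mem_singleton.mp hx]; simp [hχ₀]
  have h5 := (Nat.mul_le_mul_left 4 (Finset.sum_le_sum_of_subset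
    (f := fun χ : IrrCharacter G => p ^ (2 * blockHeight p B (χ : G → ℂ))) hsub)).trans h4
  rw [Finset.sum_pair (fun e => by rw [e, h0] at h; omega), h0, Nat.mul_zero, pow_zero] at h5
  by_contra hle
  have : (p ^ blockDefect p B) ^ 2 ≤ p ^ (2 * blockHeight p B (χ : G → ℂ)) := by
    rw [← pow_mul]
    exact Nat.pow_le_pow_right hM.1.pos (by omega)
  have h6 : 0 < p ^ (2 * blockHeight p B (χ : G → ℂ)) := pow_pos hM.1.pos _
  omega

/-- Heights are at most `d - 2` (for positive height). -/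
theorem blockHeight_add_two_le_defect (hM : IsPModular p M) {B : Set (IrrCharacter G)}
    [DecidablePred (· ∈ B)] (hB : IsPBlock M B) {χ : IrrCharacter G} (hχ : χ ∈ B)
    (h : 0 < blockHeight p B (χ : G → ℂ)) :
    blockHeight p B (χ : G → ℂ) + 2 ≤ blockDefect p B := by
  classical
  have hlt := blockHeight_lt_defect hM hB hχ h
  by_contra hle
  obtain ⟨A, -, hsq, hdvd, hiff⟩ := exists_blockMatrix hM hB
  obtain ⟨χ₀, hχ₀, he⟩ := exists_minDeg (p := p) (isPBlock_nonempty hB)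
  have h0 : blockHeight p B (χ₀ : G → ℂ) = 0 := (blockHeight_eq_zero_iff hχ₀).mpr he
  set S := Finset.univ.filter (fun ψ => ψ ∈ B) with hS
  set D : ℤ := (p : ℤ) ^ blockDefect p B with hD
  have hdiv : D ∣ A χ χ := by
    rw [hD, show blockDefect p B = blockHeight p B (χ : G → ℂ) + 1 by omega]
    exact (hiff χ hχ χ hχ).mpr h
  have hne : A χ χ₀ ≠ 0 := fun e => by
    have := (hiff χ hχ χ₀ hχ₀).mp (e ▸ dvd_zero _)
    omega
  have hχS : χ ∈ S := by simp [hS, hχ]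
  have h0S : χ₀ ∈ S.erase χ :=
    Finset.mem_erase.mpr ⟨fun e => by rw [e] at h0; omega, by simp [hS, hχ₀]⟩
  have h1 := (Finset.single_le_sum (fun ψ _ => sq_nonneg (A χ ψ)) h0S)
  have h2 : ∑ ψ ∈ S.erase χ, A χ ψ ^ 2 = D * A χ χ - A χ χ ^ 2 := by
    rw [hD, ← hsq χ hχ, ← Finset.add_sum_erase S _ hχS, add_sub_cancel_left]
  obtain ⟨t, ht⟩ := hdiv
  rw [h2, ht] at h1
  have h3 := one_le_sq_of_ne_zero hne
  rcases le_or_gt t 0 with ht0 | ht0
  · nlinarith [mul_nonneg (sq_nonneg D) (mul_nonneg (neg_nonneg.mpr ht0)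
      (by linarith : (0 : ℤ) ≤ 1 - t))]
  · nlinarith [mul_nonneg (sq_nonneg D) (mul_nonneg ht0.le (by omega : (0 : ℤ) ≤ t - 1))]

/-- The idempotent coefficient at `1` has exact exponent `n - d`: `∑ χ(1)²` has exponent `2n - d`. -/
theorem exists_sum_degree_sq (hM : IsPModular p M) {B : Set (IrrCharacter G)} [DecidablePred (· ∈ B)]
    (hB : IsPBlock M B) :
    ∃ t : locRing M, res M t ≠ 0 ∧
      ((∑ χ ∈ Finset.univ.filter (· ∈ B), charDegree (χ : G → ℂ) ^ 2 : ℕ) : ℂ) =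
        (Nat.card G : ℂ) * (p : ℂ) ^ minDeg p B * t := by
  classical
  have hS := IsBlockUnion.of_isPBlock hB
  obtain ⟨χ₀, hχ₀, he⟩ := exists_minDeg (p := p) (isPBlock_nonempty hB)
  obtain ⟨a, ha⟩ := exists_regularIndicator hM (s := (1 : G)) (by simp [hM.1.ne_one])
  have hG : (Nat.card G : ℂ) ≠ 0 := Nat.cast_ne_zero.mpr Nat.card_pos.ne'
  have hp0 : (p : ℂ) ≠ 0 := Nat.cast_ne_zero.mpr hM.1.ne_zero
  -- the reduced degrees
  let r : IrrCharacter G → ℕ := fun ψ => charDegree (ψ : G → ℂ) / p ^ minDeg p B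
  have hr : ∀ ψ ∈ B, (ψ : G → ℂ) 1 = (p : ℂ) ^ minDeg p B * (r ψ : ℂ) := by
    intro ψ hψ
    have h : p ^ minDeg p B ∣ charDegree (ψ : G → ℂ) :=
      (hM.1.pow_dvd_iff_le_factorization (charDegree_eq ψ).2).mpr (minDeg_le hψ)
    rw [(charDegree_eq ψ).1]
    exact_mod_cast congrArg (Nat.cast : ℕ → ℂ) (Nat.mul_div_cancel' h).symm
  have hr0 : (r χ₀ : ResField M) ≠ 0 := by
    have := charP_resField hM
    rw [Ne, CharP.cast_eq_zero_iff (ResField M) p]
    show ¬ p ∣ charDegree (χ₀ : G → ℂ) / p ^ minDeg p B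
    rw [← he]
    exact Nat.not_dvd_ordCompl hM.1 (charDegree_eq χ₀).2
  have hprop : ∀ ψ ∈ B, regN p M χ₀ ψ * (r χ₀ : ResField M) =
      regN p M χ₀ χ₀ * (r ψ : ResField M) := by
    intro ψ hψ
    obtain ⟨R, hR, hRres⟩ := exists_regN_lift (p := p) (M := M) χ₀ ψ
    obtain ⟨R', hR', hR'res⟩ := exists_regN_lift (p := p) (M := M) ψ χ₀
    have h1 : (R : ℂ) * r χ₀ = (R' : ℂ) * r ψ := by
      apply mul_left_cancel₀ (pow_ne_zero (minDeg p B) hp0)
      rw [mul_left_comm, ← hr χ₀ hχ₀, mul_left_comm, ← hr ψ hψ, hR, hR', regInner_comm hM]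
    have h2 : R * (r χ₀ : locRing M) = R' * (r ψ : locRing M) := Subtype.ext (by simpa using h1)
    have := congrArg (res M) h2
    rwa [map_mul, map_mul, res_natCast, res_natCast, hRres, hR'res, regN_congr hB hψ hχ₀] at this
  -- the weighted sum of `regN` is `1`
  have hsum : ∑ ψ : IrrCharacter G, res M (a ψ) * regN p M χ₀ ψ = 1 := by
    simp only [regN, Finset.mul_sum]
    rw [Finset.sum_comm, Finset.sum_eq_single_of_mem (ConjClasses.mk (1 : G))]
    · have h1 : rep (ConjClasses.mk (1 : G)) = 1 := isConj_one_left.mp (isConj_rep (1 : G))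
      have hω : centralRes M χ₀ 1 = 1 := by
        rw [← map_one (res M)]
        refine congrArg (res M) (Subtype.ext ?_)
        show centralChar (χ₀ : G → ℂ) 1 = 1
        rw [centralChar, ← Char.card_isConj]
        simp [Char.irr_one_ne_zero]
      simp only [h1, inv_one, hω, one_mul, ← map_mul, ← map_sum]
      rw [← map_one (res M)]
      refine congrArg (res M) (Subtype.ext ?_)
      rw [AddSubmonoidClass.coe_finsetSum]
      simp only [Subring.coe_mul, coe_irrLoc]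
      rw [ha 1 (by simp [hM.1.ne_one]), if_pos (IsConj.refl 1)]
      rfl
    · simp only [Finset.mem_filter, Finset.mem_univ, true_and]
      rw [isConj_one_left.mp (isConj_rep (1 : G))]
      simp [hM.1.ne_one]
    · intro C hC hne
      have hC' : ¬ p ∣ orderOf (rep C)⁻¹ := by
        rw [orderOf_inv]; exact (Finset.mem_filter.mp hC).2
      have hz : ∑ ψ : IrrCharacter G, a ψ * irrLoc M ψ (rep C)⁻¹ = 0 := by
        apply Subtype.ext
        rw [AddSubmonoidClass.coe_finsetSum]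
        simp only [Subring.coe_mul, coe_irrLoc]
        rw [ha _ hC', if_neg]
        · rfl
        · intro h
          apply hne
          rw [← mk_rep C, inv_eq_one.mp (isConj_one_left.mp h)]
      have hz' := congrArg (res M) hz
      rw [map_sum, map_zero] at hz'
      rw [Finset.sum_congr rfl fun ψ _ => mul_left_comm _ _ _, ← Finset.mul_sum,
        Finset.sum_congr rfl fun ψ _ => (map_mul (res M) _ _).symm, hz', mul_zero]
  refine ⟨∑ ψ ∈ Finset.univ.filter (· ∈ B), a ψ * (r ψ : locRing M), fun h => ?_, ?_⟩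
  · have h' : ∑ ψ : IrrCharacter G, res M (a ψ) * regN p M χ₀ ψ =
        ∑ ψ ∈ Finset.univ.filter (· ∈ B), res M (a ψ) * regN p M χ₀ ψ := by
      refine (Finset.sum_subset (Finset.filter_subset _ _) fun ψ _ hψ => ?_).symm
      obtain ⟨R, hR, hRres⟩ := exists_regN_lift (p := p) (M := M) χ₀ ψ
      rw [regInner_eq_zero_of_not_mem hM hS hχ₀ (by simpa using hψ), mul_zero,
        mul_eq_zero_iff_right (Char.irr_one_ne_zero χ₀)] at hR
      rw [← hRres, show R = 0 from Subtype.ext hR, map_zero, mul_zero]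
    rw [h'] at hsum
    have h3 := congrArg (fun z => z * (r χ₀ : ResField M)) hsum
    rw [one_mul, Finset.sum_mul, Finset.sum_congr rfl fun ψ hψ => show
      res M (a ψ) * regN p M χ₀ ψ * (r χ₀ : ResField M) =
        regN p M χ₀ χ₀ * (res M (a ψ) * (r ψ : ResField M)) by
      rw [mul_assoc, hprop ψ (Finset.mem_filter.mp hψ).2, mul_left_comm], ← Finset.mul_sum] at h3
    rw [map_sum] at h
    simp only [map_mul, res_natCast] at h
    rw [h, mul_zero] at h3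
    exact hr0 h3.symm
  · have key := sum_block_eq_of_eq_regular hM hS (b := fun ψ => (a ψ : ℂ))
      (b' := fun ψ => (Nat.card G : ℂ)⁻¹ * (ψ : G → ℂ) 1) (fun y hy => by
        rw [ha y hy]
        simp only [mul_assoc, ← Finset.mul_sum]
        rw [Finset.sum_congr rfl fun (ψ : IrrCharacter G) _ => show (ψ : G → ℂ) 1 * (ψ : G → ℂ) y =
          (ψ : G → ℂ) y * conj ((ψ : G → ℂ) 1) by rw [Char.conj_irr_one, mul_comm],
          Char.sum_irr_mul_conj]
        split_ifs with h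
        · rw [isConj_one_left.mp h, Subgroup.centralizer_eq_top_iff_subset.mpr (by simp),
            Subgroup.card_top, inv_mul_cancel₀ hG]
        · rw [mul_zero]) (g := (1 : G)) (by simp [hM.1.ne_one])
    simp only [mul_assoc, ← Finset.mul_sum] at key
    rw [eq_inv_mul_iff_mul_eq₀ hG] at key
    push_cast
    calc ∑ ψ ∈ Finset.univ.filter (· ∈ B), (charDegree (ψ : G → ℂ) : ℂ) ^ 2
        = ∑ ψ ∈ Finset.univ.filter (· ∈ B), (ψ : G → ℂ) 1 * (ψ : G → ℂ) 1 :=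
          Finset.sum_congr rfl fun ψ _ => by rw [(charDegree_eq ψ).1, sq]
      _ = _ := by
          rw [← key, Finset.mul_sum, Finset.mul_sum]
          refine Finset.sum_congr rfl fun ψ hψ => ?_
          rw [hr ψ (Finset.mem_filter.mp hψ).2]
          ring

end CfsgLib.Block
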