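import Mathlib.LinearAlgebra.Matrix.Charpoly.Coeff
import Mathlib.LinearAlgebra.Matrix.Block
import Mathlib.GroupTheory.Perm.Cycle.Basic
import Mathlib.GroupTheory.Perm.Cycle.Type
import Mathlib.GroupTheory.GroupAction.Basic
import Mathlib.GroupTheory.Index
import Mathlib.RingTheory.RootsOfUnity.PrimitiveRoots
import Mathlib.RingTheory.IntegralDomain
import Mathlib.Algebra.CharP.Lemmas

/-!
# Traces of idempotent matrices commuting with a permutation of prime power order

`R` is a domain of characteristic zero, `π : R →+* K` a map to a field of characteristic `p`,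
`σ` a permutation of a finite set `X` with `σ ^ p ^ n = 1`, and `e` an idempotent `σ`-invariant
matrix over `R`.  Then `∑ x, e (σ x) x` is a natural number, determined by the reduction of `e`
on the fixed points of `σ`.
-/

open Polynomial Matrix Finset

set_option linter.unusedSectionVars false

namespace CfsgLib.Block

variable {R : Type*} [CommRing R] [IsDomain R] [CharZero R]

theorem idem_det {X : Type*} [Fintype X] [DecidableEq X] (e : Matrix X X R) (he : e * e = e) :
    ∃ r : ℕ, (1 + (Polynomial.X : R[X]) • e.map C).det = (1 + Polynomial.X) ^ r ∧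
      e.trace = r := by
  set g : R[X] := ((1 - e).map C + (Polynomial.X : R[X]) • e.map C).det with hg
  have hev : ∀ a : R, g.eval a = ((1 - e) + a • e).det := by
    intro a
    rw [hg, ← coe_evalRingHom, RingHom.map_det]
    congr 1
    ext i j
    simp [Matrix.map_apply]; ring
  have hmul : ∀ a b : R, g.eval (a * b) = g.eval a * g.eval b := by
    intro a b
    rw [hev, hev, hev, ← det_mul]
    congr 1
    have h1 : (1 - e) * e = 0 := by rw [sub_mul, one_mul, he, sub_self]
    have h2 : e * (1 - e) = 0 := by rw [mul_sub, mul_one, he, sub_self]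
    have h3 : (1 - e) * (1 - e) = 1 - e := by rw [mul_sub, mul_one, h1, sub_zero]
    simp only [add_mul, mul_add, Algebra.mul_smul_comm, Algebra.smul_mul_assoc, smul_smul,
      h1, h2, h3, he, smul_zero, add_zero, zero_add, mul_comm b a]
  have h1 : g.eval 1 = 1 := by rw [hev]; simp
  have hg0 : g ≠ 0 := fun h => by simp [h] at h1
  set r := g.natDegree with hr
  have : Infinite R := Infinite.of_injective _ (Nat.cast_injective (R := R))
  have hcomp : g.comp (C 2 * Polynomial.X) = C (g.eval 2) * g :=
    Polynomial.funext fun a => by simp [hmul]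
  have hco : ∀ i, g.coeff i * (2 ^ i - g.eval 2) = 0 := by
    intro i
    have := congrArg (fun f : R[X] => f.coeff i) hcomp
    simp only [comp_C_mul_X_coeff, coeff_C_mul] at this
    rw [mul_sub, this]; ring
  have hr2 : (2 : R) ^ r = g.eval 2 := by
    rcases mul_eq_zero.mp (hco r) with h | h
    · exact absurd (leadingCoeff_eq_zero.mp h) hg0
    · exact sub_eq_zero.mp h
  have hmon : g = Polynomial.X ^ r := by
    have hoff : ∀ i, i ≠ r → g.coeff i = 0 := by
      intro i hi
      rcases mul_eq_zero.mp (hco i) with h | h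
      · exact h
      · exfalso
        rw [← hr2] at h
        have h' : ((2 ^ i : ℕ) : R) = ((2 ^ r : ℕ) : R) := by
          push_cast; exact sub_eq_zero.mp h
        exact hi (Nat.pow_right_injective le_rfl (Nat.cast_injective h'))
    have hlead : g = C (g.coeff r) * Polynomial.X ^ r := by
      ext i
      rw [coeff_C_mul_X_pow]
      by_cases hi : i = r
      · subst hi; simp
      · simp [hi, hoff i hi]
    have : g.coeff r = 1 := by
      have := congrArg (eval 1) hlead
      rw [h1] at this; simpa using this.symm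
    rw [hlead, this]; simp
  have hd : (1 + (Polynomial.X : R[X]) • e.map C).det = (1 + Polynomial.X) ^ r := by
    have : g.comp (1 + Polynomial.X) = (1 + Polynomial.X) ^ r := by rw [hmon]; simp
    rw [← this, hg]
    change _ = (Polynomial.compRingHom (1 + Polynomial.X : R[X]))
      (((1 - e).map C + (Polynomial.X : R[X]) • e.map C).det)
    rw [RingHom.map_det]
    congr 1
    refine Matrix.ext fun i j => ?_
    by_cases hij : i = j
    · subst hij
      simp [Matrix.map_apply, compRingHom, map_sub, map_one]; ring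
    · simp [Matrix.map_apply, compRingHom, hij, map_sub, map_one, map_zero]; ring
  refine ⟨r, hd, ?_⟩
  have := Matrix.derivative_det_one_add_X_smul e
  rw [hd] at this
  simp [derivative_pow] at this
  exact this.symm

variable {K : Type*} [Field K] (p : ℕ) [hp : Fact p.Prime] [CharP K p] (π : R →+* K)

include hp in
theorem map_eq_one_of_pow_prime_pow {n : ℕ} {z : R} (hz : z ^ p ^ n = 1) : π z = 1 := by
  have h : (π z - 1) ^ p ^ n = 0 := by
    rw [sub_pow_char_pow, ← map_pow, hz]; simp
  exact sub_eq_zero.mp (pow_eq_zero_iff'.mp h).1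

omit [CharZero R] [IsDomain R] in
theorem map_det_one_add_X_smul {X : Type*} [Fintype X] [DecidableEq X] (e : Matrix X X R) :
    ((1 + (Polynomial.X : R[X]) • e.map C).det).map π =
      (1 + (Polynomial.X : K[X]) • (e.map π).map C).det := by
  rw [← coe_mapRingHom, RingHom.map_det]
  congr 1
  ext i j
  by_cases hij : i = j
  · subst hij; simp [Matrix.map_apply]
  · simp [Matrix.map_apply, hij]

theorem one_add_X_pow_injective {a b : ℕ} (h : (1 + Polynomial.X : K[X]) ^ a = (1 + Polynomial.X) ^ b) :
    a = b := by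
  have := congrArg natDegree h
  rw [natDegree_pow, natDegree_pow, add_comm, ← C_1, natDegree_X_add_C] at this
  simpa using this

section perm

variable {X : Type*} [Fintype X] [DecidableEq X] (σ : Equiv.Perm X)

/-- The chosen representative of the cycle of `x`. -/
noncomputable def cycRep (x : X) : X :=
  (Quotient.mk (Equiv.Perm.SameCycle.setoid σ) x).out

theorem cycRep_sameCycle (x : X) : σ.SameCycle (cycRep σ x) x :=
  Quotient.exact (s := Equiv.Perm.SameCycle.setoid σ) (Quotient.out_eq _)

theorem cycRep_eq_of_sameCycle {x y : X} (h : σ.SameCycle x y) : cycRep σ x = cycRep σ y := by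
  unfold cycRep
  rw [Quotient.sound (s := Equiv.Perm.SameCycle.setoid σ) h]

theorem cycRep_idem (x : X) : cycRep σ (cycRep σ x) = cycRep σ x :=
  cycRep_eq_of_sameCycle σ (cycRep_sameCycle σ x)

theorem cycRep_apply (x : X) : cycRep σ (σ x) = cycRep σ x :=
  cycRep_eq_of_sameCycle σ (Equiv.Perm.sameCycle_apply_left.mpr (Equiv.Perm.SameCycle.refl σ x))

theorem cycRep_of_fixed {x : X} (hx : σ x = x) : cycRep σ x = x :=
  ((cycRep_sameCycle σ x).symm.eq_of_left hx).symm

/-- An exponent moving the representative of the cycle of `x` to `x`. -/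
noncomputable def cycIdx (x : X) : ℕ := (cycRep_sameCycle σ x).exists_nat_pow_eq.choose

theorem cycIdx_spec (x : X) : (σ ^ cycIdx σ x) (cycRep σ x) = x :=
  (cycRep_sameCycle σ x).exists_nat_pow_eq.choose_spec

omit [DecidableEq X] [Fintype X] in
theorem pow_apply_of_fixed {x : X} (hx : σ x = x) (i : ℕ) : (σ ^ i) x = x := by
  induction i with
  | zero => simp
  | succ i ih => rw [pow_succ, Equiv.Perm.mul_apply, hx, ih]

variable (q : ℕ)

/-- The root of unity `μ` is compatible with the period of `b` under `σ`. -/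
def IsGood (μ : R) (b : X) : Prop := ∀ i : ℕ, (σ ^ i) b = b → μ ^ i = 1

variable {σ q}

omit [DecidableEq X] [Fintype X] [IsDomain R] [CharZero R] in
theorem good_pow_eq {μ : R} {b : X} (hb : IsGood σ μ b) {i j : ℕ}
    (h : (σ ^ i) b = (σ ^ j) b) : μ ^ i = μ ^ j := by
  wlog hij : i ≤ j generalizing i j
  · exact (this h.symm (le_of_not_ge hij)).symm
  obtain ⟨d, rfl⟩ := Nat.exists_eq_add_of_le hij
  rw [pow_add, Equiv.Perm.mul_apply] at h
  have := hb d ((σ ^ i).injective h).symm
  rw [pow_add, this, mul_one]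

variable (σ)

/-- Cycle representatives compatible with `μ`. -/
abbrev GoodReps (μ : R) : Type _ := {b : X // cycRep σ b = b ∧ IsGood σ μ b}

/-- The matrix of eigenvectors of `σ` for the eigenvalue `μ`. -/
noncomputable def eigB (μ : R) (T : X → Prop) : Matrix X {b : X // T b} R :=
  fun x b => if cycRep σ x = b.1 then μ ^ cycIdx σ x else 0

omit [IsDomain R] [CharZero R] in
theorem eigB_self (μ : R) {T : X → Prop} [DecidablePred T]
    (hT : ∀ b, T b → cycRep σ b = b ∧ IsGood σ μ b) (b b' : {b : X // T b}) :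
    eigB σ μ T b.1 b' = if b = b' then 1 else 0 := by
  unfold eigB
  rw [(hT _ b.2).1]
  by_cases h : b = b'
  · subst h
    rw [if_pos rfl, if_pos rfl]
    refine (hT _ b.2).2 _ ?_
    have := cycIdx_spec σ b.1
    rwa [(hT _ b.2).1] at this
  · rw [if_neg h, if_neg (fun hh => h (Subtype.ext hh))]

omit [IsDomain R] [CharZero R] in
theorem eigB_apply (μ : R) {T : X → Prop}
    (hT : ∀ b, T b → cycRep σ b = b ∧ IsGood σ μ b) (x : X) (b : {b : X // T b}) :
    eigB σ μ T (σ x) b = μ * eigB σ μ T x b := by
  unfold eigB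
  rw [cycRep_apply]
  by_cases h : cycRep σ x = b.1
  · rw [if_pos h, if_pos h, ← pow_succ']
    apply good_pow_eq (hT _ b.2).2
    have h1 := cycIdx_spec σ (σ x)
    rw [cycRep_apply, h] at h1
    rw [h1, pow_succ', Equiv.Perm.mul_apply, ← h, cycIdx_spec]
  · rw [if_neg h, if_neg h, mul_zero]

omit [CharZero R] [IsDomain R] [Fintype X] [DecidableEq X] in
theorem eigen_pow (μ : R) (v : X → R) (hv : ∀ x, v (σ x) = μ * v x) (i : ℕ) (x : X) :
    v ((σ ^ i) x) = μ ^ i * v x := by
  induction i with
  | zero => simp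
  | succ i ih => rw [pow_succ', Equiv.Perm.mul_apply, hv, ih, pow_succ', mul_assoc]

omit [CharZero R] in
/-- An eigenvector is determined by its values on the good representatives. -/
theorem eigen_expand (μ : R) (v : X → R) (hv : ∀ x, v (σ x) = μ * v x)
    {T : X → Prop} [DecidablePred T] (hT : ∀ b, T b ↔ cycRep σ b = b ∧ IsGood σ μ b) (x : X) :
    v x = ∑ b : {b : X // T b}, eigB σ μ T x b * v b.1 := by
  have hx : v x = μ ^ cycIdx σ x * v (cycRep σ x) := by
    rw [← eigen_pow σ μ v hv, cycIdx_spec]
  by_cases hg : IsGood σ μ (cycRep σ x)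
  · rw [Finset.sum_eq_single ⟨cycRep σ x, (hT _).mpr ⟨cycRep_idem σ x, hg⟩⟩]
    · simp [eigB, hx]
    · intro b _ hb
      rw [eigB, if_neg (fun h => hb (Subtype.ext h.symm)), zero_mul]
    · intro h; exact absurd (Finset.mem_univ _) h
  · have h0 : v (cycRep σ x) = 0 := by
      obtain ⟨i, hi, hμ⟩ : ∃ i, (σ ^ i) (cycRep σ x) = cycRep σ x ∧ μ ^ i ≠ 1 := by
        simpa [IsGood] using hg
      have := eigen_pow σ μ v hv i (cycRep σ x)
      rw [hi] at this
      have h' : (μ ^ i - 1) * v (cycRep σ x) = 0 := by rw [sub_mul, one_mul, ← this, sub_self]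
      exact (mul_eq_zero.mp h').resolve_left (sub_ne_zero.mpr hμ)
    rw [hx, h0, mul_zero]
    symm
    apply Finset.sum_eq_zero
    intro b _
    rw [eigB, if_neg, zero_mul]
    intro h
    exact hg (h ▸ ((hT _).mp b.2).2)

variable (e : Matrix X X R)

/-- The matrix of `e` on the `μ`-eigenvectors indexed by the representatives `T`. -/
noncomputable def eigBlock (μ : R) (T : X → Prop) : Matrix {b : X // T b} {b : X // T b} R :=
  fun a b => ∑ y, e a.1 y * eigB σ μ T y b

variable {e}

omit [CharZero R] in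
theorem eigBlock_idem_trace (hinv : ∀ x y, e (σ x) (σ y) = e x y) (he : e * e = e) (μ : R)
    {T : X → Prop} [DecidablePred T] (hT' : ∀ b, T b ↔ cycRep σ b = b ∧ IsGood σ μ b)
    {q : ℕ} (hσ : σ ^ q = 1) (hμ : μ ^ q = 1) :
    eigBlock σ e μ T * eigBlock σ e μ T = eigBlock σ e μ T ∧
    (q : R) * (eigBlock σ e μ T).trace = ∑ i ∈ range q, μ ^ i * ∑ y, e y ((σ ^ i) y) := by
  have hT : ∀ b, T b → cycRep σ b = b ∧ IsGood σ μ b := fun b h => (hT' b).mp h
  set B := eigB σ μ T with hB
  have hBσ : ∀ x b, B (σ x) b = μ * B x b := eigB_apply σ μ hT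
  have hBB : ∀ a b : {b : X // T b}, B a.1 b = if a = b then 1 else 0 := eigB_self σ μ hT
  have hEB : ∀ x b, (e * B) (σ x) b = μ * (e * B) x b := by
    intro x b
    simp only [Matrix.mul_apply, Finset.mul_sum]
    rw [← Equiv.sum_comp σ (fun y => e (σ x) y * B y b)]
    refine Finset.sum_congr rfl fun y _ => ?_
    rw [hinv, hBσ]; ring
  have hExp : e * B = B * eigBlock σ e μ T := by
    ext x b
    have := eigen_expand σ μ (fun z => (e * B) z b) (fun z => hEB z b) hT' x
    rw [this, Matrix.mul_apply]
    rfl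
  have hA : ∀ a : {b : X // T b}, ∀ b, (e * B) a.1 b = eigBlock σ e μ T a b := fun a b => rfl
  refine ⟨?_, ?_⟩
  · have h2 : e * B = B * (eigBlock σ e μ T * eigBlock σ e μ T) := by
      rw [← Matrix.mul_assoc, ← hExp, Matrix.mul_assoc, ← hExp, ← Matrix.mul_assoc, he]
    ext a b
    have := congrFun (congrFun h2 a.1) b
    rw [hA, Matrix.mul_apply, Finset.sum_eq_single a] at this
    · rw [hBB, if_pos rfl, one_mul] at this
      exact this.symm
    · intro c _ hc; rw [hBB, if_neg (Ne.symm hc), zero_mul]
    · intro h; exact absurd (Finset.mem_univ _) h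
  · -- the projection onto the eigenspace
    obtain ⟨P, hP⟩ : ∃ P : Matrix X X R,
        ∀ x y, P x y = ∑ i ∈ range q, if (σ ^ i) y = x then μ ^ i else 0 :=
      ⟨fun x y => ∑ i ∈ range q, if (σ ^ i) y = x then μ ^ i else 0, fun _ _ => rfl⟩
    have hPσ : ∀ y x, P (σ x) y = μ * P x y := by
      intro y x
      have hper : (if (σ ^ 0) y = σ x then μ ^ 0 else 0) =
          (if (σ ^ q) y = σ x then μ ^ q else 0) := by simp [hσ, hμ]
      have h1 := Finset.sum_range_succ (fun i => if (σ ^ i) y = σ x then μ ^ i else 0) q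
      rw [Finset.sum_range_succ' (fun i => if (σ ^ i) y = σ x then μ ^ i else 0) q, hper] at h1
      rw [hP, hP, ← add_right_cancel h1, Finset.mul_sum]
      refine Finset.sum_congr rfl fun i _ => ?_
      simp only [pow_succ', Equiv.Perm.mul_apply, σ.injective.eq_iff, mul_ite, mul_zero]
    obtain ⟨A, hA'⟩ : ∃ A : Matrix {b : X // T b} X R, ∀ b y, A b y = P b.1 y :=
      ⟨fun b y => P b.1 y, fun _ _ => rfl⟩
    have hPA : P = B * A := by
      ext x y
      rw [Matrix.mul_apply]
      simp only [hA']
      exact eigen_expand σ μ (fun z => P z y) (hPσ y) hT' x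
    have hAB : A * B = (q : R) • (1 : Matrix {b : X // T b} {b : X // T b} R) := by
      ext a b
      have hBi : ∀ i, ∀ y, B ((σ ^ i) y) b = μ ^ i * B y b :=
        fun i y => eigen_pow σ μ (fun z => B z b) (fun z => hBσ z b) i y
      simp only [Matrix.mul_apply, hA', hP, Finset.sum_mul, ite_mul, zero_mul]
      rw [Finset.sum_comm]
      have : ∀ i ∈ range q, (∑ y, if (σ ^ i) y = a.1 then μ ^ i * B y b else 0) = B a.1 b := by
        intro i _
        rw [Finset.sum_eq_single ((σ ^ i).symm a.1)]
        · rw [if_pos ((σ ^ i).apply_symm_apply _), ← hBi, (σ ^ i).apply_symm_apply]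
        · intro y _ hy
          rw [if_neg]
          intro h; exact hy (by rw [← h, (σ ^ i).symm_apply_apply])
        · intro h; exact absurd (Finset.mem_univ _) h
      rw [Finset.sum_congr rfl this, Finset.sum_const, Finset.card_range, hBB,
        Matrix.smul_apply, Matrix.one_apply, nsmul_eq_mul, smul_eq_mul]
    calc (q : R) * (eigBlock σ e μ T).trace = (eigBlock σ e μ T * (A * B)).trace := by
          rw [hAB, Matrix.mul_smul, Matrix.mul_one, Matrix.trace_smul, smul_eq_mul]
      _ = (B * eigBlock σ e μ T * A).trace := by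
          rw [← Matrix.mul_assoc, Matrix.trace_mul_comm, Matrix.mul_assoc]
      _ = (e * P).trace := by rw [← hExp, hPA, Matrix.mul_assoc]
      _ = _ := by
          simp only [Matrix.trace, Matrix.diag_apply, Matrix.mul_apply, hP, Finset.mul_sum]
          rw [Finset.sum_congr rfl fun x _ => Finset.sum_comm, Finset.sum_comm]
          refine Finset.sum_congr rfl fun i _ => Finset.sum_congr rfl fun y _ => ?_
          simp [mul_comm]

end perm

section main

variable {X : Type*} [Fintype X] [DecidableEq X] {σ : Equiv.Perm X}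

theorem dvd_of_pow_fixes {n : ℕ} (hσ : σ ^ p ^ n = 1) {b : X} (hb : σ b ≠ b) {i : ℕ}
    (hi : (σ ^ i) b = b) : p ∣ i := by
  by_contra hni
  have hcop : Nat.Coprime i (p ^ n) :=
    Nat.Coprime.pow_right n (hp.out.coprime_iff_not_dvd.mpr hni).symm
  obtain ⟨k, hk⟩ := Nat.exists_mul_mod_eq_gcd (k := p ^ n) (n := i) (by
    rw [hcop.gcd_eq_one]
    refine Nat.one_lt_pow ?_ hp.out.one_lt
    rintro rfl
    simp at hσ
    exact hb (by simp [hσ]))
  apply hb
  have h1 : (σ ^ (i * k)) b = b := by
    rw [pow_mul]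
    exact pow_apply_of_fixed (σ ^ i) hi k
  have h2 : σ ^ (i * k) = σ := by
    rw [pow_eq_pow_mod (i * k) hσ, hk.2, hcop.gcd_eq_one, pow_one]
  rwa [h2] at h1

include hp in
theorem card_cycle_class_dvd {n : ℕ} (hσ : σ ^ p ^ n = 1) {b : X} (hb : σ b ≠ b)
    (hr : cycRep σ b = b) :
    p ∣ (Finset.univ.filter fun y => cycRep σ y = b).card := by
  set S := Finset.univ.filter fun y => cycRep σ y = b with hS
  have hmem : ∀ y, σ y ∈ S ↔ y ∈ S := by intro y; simp [hS, cycRep_apply]
  let τ : Equiv.Perm {y // y ∈ S} := σ.subtypePerm hmem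
  have hτ : τ ^ p ^ n = 1 := by
    simp only [τ, Equiv.Perm.subtypePerm_pow, hσ]
    exact Equiv.Perm.subtypePerm_one _
  have hsup : τ.supportᶜ = ∅ := by
    rw [Finset.eq_empty_iff_forall_notMem]
    rintro ⟨y, hy⟩ h
    rw [Finset.mem_compl, Equiv.Perm.notMem_support] at h
    have hfix : σ y = y := congrArg Subtype.val h
    simp only [hS, Finset.mem_filter] at hy
    rw [cycRep_of_fixed σ hfix] at hy
    exact hb (hy.2 ▸ hfix)
  have := Equiv.Perm.card_compl_support_modEq (p := p) hτ
  rw [hsup, Finset.card_empty, Fintype.card_coe] at this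
  exact (Nat.modEq_zero_iff_dvd).mp this.symm

/-- The restriction of a matrix to the fixed points of `σ`. -/
def fixBlock (σ : Equiv.Perm X) (e : Matrix X X R) :
    Matrix {x : X // σ x = x} {x : X // σ x = x} R :=
  fun a b => e a.1 b.1

/-- Main lemma: an idempotent matrix over `R` invariant under a permutation `σ` of `p`-power
order has `∑ y, e y (σ y)` equal to the rank of its reduction on the fixed points of `σ`. -/
theorem trace_perm {n : ℕ} (hσ : σ ^ p ^ n = 1) {ζ : R} (hζ : IsPrimitiveRoot ζ (p ^ n))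
    (e : Matrix X X R) (hinv : ∀ x y, e (σ x) (σ y) = e x y) (he : e * e = e) :
    ∃ r : ℕ, ∑ y, e y (σ y) = r ∧
      (1 + (Polynomial.X : K[X]) • ((fixBlock σ e).map π).map C).det =
        (1 + Polynomial.X) ^ r := by
  classical
  rcases n with _ | m
  · obtain ⟨r, hr, ht⟩ := idem_det e he
    have h1 : σ = 1 := by simpa using hσ
    subst h1
    refine ⟨r, by simpa [Matrix.trace] using ht, ?_⟩
    have h2 := congrArg (Polynomial.map π) hr
    rw [map_det_one_add_X_smul] at h2
    have h3 : ((fixBlock (1 : Equiv.Perm X) e).map π).map C =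
        ((e.map π).map C).submatrix (Equiv.subtypeUnivEquiv (fun x : X => rfl))
          (Equiv.subtypeUnivEquiv (fun x : X => rfl)) := rfl
    rw [← Matrix.det_submatrix_equiv_self
      (Equiv.subtypeUnivEquiv (p := fun x : X => (1 : Equiv.Perm X) x = x) (fun x : X => rfl))] at h2
    simp only [Matrix.submatrix_add, Matrix.submatrix_smul, Matrix.submatrix_one_equiv,
      Pi.add_apply, Pi.smul_apply] at h2
    rw [h3]
    convert h2 using 1
    · congr!
    · simp
  set q := p ^ (m + 1) with hq
  set d := p ^ m with hd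
  have hq2 : 2 ≤ q := le_trans hp.out.two_le (Nat.le_self_pow (by omega) p)
  have hdq : d * p = q := by rw [hd, hq, pow_succ]
  have hdlt : d < q := Nat.pow_lt_pow_right hp.out.one_lt (by omega)
  have hqpos : 0 < q := by omega
  set T : R → X → Prop := fun μ b => cycRep σ b = b ∧ IsGood σ μ b with hT
  have hblk := fun (j : Fin q) => eigBlock_idem_trace σ (T := T (ζ ^ (j : ℕ))) hinv he
    (ζ ^ (j : ℕ)) (fun b => Iff.rfl) hσ
    (by rw [← pow_mul, mul_comm, pow_mul, hζ.pow_eq_one, one_pow])
  choose r hrdet hrtr using fun j : Fin q => idem_det _ (hblk j).1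
  -- reductions modulo the maximal ideal
  have hredu : ∀ j : Fin q, (1 + (Polynomial.X : K[X]) •
      ((eigBlock σ e (ζ ^ (j : ℕ)) (T (ζ ^ (j : ℕ)))).map π).map C).det =
        (1 + Polynomial.X) ^ r j := by
    intro j
    rw [← map_det_one_add_X_smul, hrdet j]
    simp
  have hπζ : ∀ i : ℕ, π ((ζ ^ i)) = 1 := fun i => by
    rw [map_pow, map_eq_one_of_pow_prime_pow p π hζ.pow_eq_one, one_pow]
  have hentry : ∀ (j : Fin q) (a b : {b : X // T (ζ ^ (j : ℕ)) b}),
      π (eigBlock σ e (ζ ^ (j : ℕ)) (T (ζ ^ (j : ℕ))) a b) =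
        ∑ y, if cycRep σ y = b.1 then π (e a.1 y) else 0 := by
    intro j a b
    simp only [eigBlock, eigB, map_sum, map_mul, apply_ite π, map_pow, map_zero, mul_ite, mul_zero]
    refine Finset.sum_congr rfl fun y _ => ?_
    have := hπζ j
    rw [map_pow] at this
    split_ifs <;> simp [this]
  have hgood : ∀ (j : Fin q) (b : X), σ b ≠ b →
      (T (ζ ^ ((j : ℕ) + d)) b ↔ T (ζ ^ (j : ℕ)) b) := by
    intro j b hb
    refine and_congr_right fun _ => forall₂_congr fun i hi => ?_
    obtain ⟨c, rfl⟩ := dvd_of_pow_fixes p hσ hb hi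
    rw [← pow_mul, ← pow_mul, add_mul, pow_add, show d * (p * c) = q * c by rw [← hdq]; ring,
      pow_mul ζ q c, hζ.pow_eq_one, one_pow, mul_one]
  have hone : ∀ j : Fin q, ζ ^ (j : ℕ) = 1 → (j : ℕ) = 0 := by
    intro j hj
    exact Nat.eq_zero_of_dvd_of_lt ((hζ.pow_eq_one_iff_dvd _).mp hj) j.2
  -- the shift
  let sh : Fin q → Fin q := fun j => ⟨((j : ℕ) + d) % q, Nat.mod_lt _ hqpos⟩
  have hshpow : ∀ j, ζ ^ (sh j : ℕ) = ζ ^ ((j : ℕ) + d) := fun j => by
    simp only [sh]
    exact (pow_eq_pow_mod _ hζ.pow_eq_one).symm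
  have hshift : ∀ j : Fin q, (j : ℕ) ≠ 0 → (sh j : ℕ) ≠ 0 → r j = r (sh j) := by
    intro j hj hsj
    have hTeq : ∀ b, T (ζ ^ (sh j : ℕ)) b ↔ T (ζ ^ (j : ℕ)) b := by
      intro b
      by_cases hb : σ b = b
      · have h0 : ∀ k : Fin q, (k : ℕ) ≠ 0 → ¬ T (ζ ^ (k : ℕ)) b := by
          intro k hk h
          apply hk
          apply hone
          have := h.2 1 (by simpa using hb)
          simpa using this
        exact iff_of_false (h0 _ hsj) (h0 _ hj)
      · rw [hshpow]; exact hgood j b hb
    apply one_add_X_pow_injective (K := K)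
    rw [← hredu, ← hredu]
    let φ : {b : X // T (ζ ^ (sh j : ℕ)) b} ≃ {b : X // T (ζ ^ (j : ℕ)) b} :=
      Equiv.subtypeEquivRight hTeq
    rw [← Matrix.det_submatrix_equiv_self φ]
    congr 1
    refine Matrix.ext fun a b => ?_
    by_cases hab : a = b
    · subst hab; simp [Matrix.map_apply, hentry, φ]
    · simp [Matrix.map_apply, hentry, hab, φ]
  -- the splitting at `μ = 1`
  let j0 : Fin q := ⟨0, hqpos⟩
  let jd : Fin q := ⟨d, hdlt⟩
  have hd0 : d ≠ 0 := (pow_pos hp.out.pos m).ne'
  have hT0 : ∀ b, T (ζ ^ (j0 : ℕ)) b ↔ cycRep σ b = b := by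
    intro b
    simp [T, j0, IsGood]
  set M₀ := 1 + (Polynomial.X : K[X]) •
      ((eigBlock σ e (ζ ^ (j0 : ℕ)) (T (ζ ^ (j0 : ℕ)))).map π).map C with hM₀
  have hsplit := Matrix.twoBlockTriangular_det M₀ (fun b => σ b.1 ≠ b.1) (by
    intro a ha b hb
    rw [not_not] at ha
    have hab : a ≠ b := fun h => hb (h ▸ ha)
    simp only [hM₀, Matrix.add_apply, Matrix.smul_apply, Matrix.map_apply, smul_eq_mul,
      Matrix.one_apply_ne hab, zero_add]
    rw [hentry, ← Finset.sum_filter,
      Finset.sum_congr rfl (g := fun _ => π (e a.1 b.1)), Finset.sum_const, nsmul_eq_mul,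
      (CharP.cast_eq_zero_iff K p _).mpr (card_cycle_class_dvd p hσ hb ((hT0 _).mp b.2))]
    · simp
    · intro y hy
      simp only [Finset.mem_filter] at hy
      congr 1
      have h1 : ∀ z, e a.1 (σ z) = e a.1 z := fun z => by
        conv_lhs => rw [← ha]
        exact hinv _ _
      have h2 : ∀ i z, e a.1 ((σ ^ i) z) = e a.1 z := by
        intro i
        induction i with
        | zero => simp
        | succ i ih => intro z; rw [pow_succ', Equiv.Perm.mul_apply, h1, ih]
      conv_lhs => rw [← cycIdx_spec σ y, h2, hy.2])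
  rw [hredu j0] at hsplit
  -- the non fixed part
  have hnf : (M₀.toSquareBlockProp fun b => σ b.1 ≠ b.1).det = (1 + Polynomial.X) ^ r jd := by
    rw [← hredu jd]
    have hiff : ∀ b, (T (ζ ^ (j0 : ℕ)) b ∧ σ b ≠ b) ↔ T (ζ ^ (jd : ℕ)) b := by
      intro b
      by_cases hb : σ b = b
      · refine iff_of_false (fun h => h.2 hb) (fun h => hd0 (hone jd ?_))
        have := h.2 1 (by simpa using hb)
        simpa using this
      · have := hgood j0 b hb
        simp only [j0, zero_add] at this
        simp only [j0, jd, hb, ne_eq, not_false_eq_true, and_true]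
        exact this.symm
    let φ : {b : {b : X // T (ζ ^ (j0 : ℕ)) b} // σ b.1 ≠ b.1} ≃ {b : X // T (ζ ^ (jd : ℕ)) b} :=
      (Equiv.subtypeSubtypeEquivSubtypeInter (T (ζ ^ (j0 : ℕ))) (fun b => σ b ≠ b)).trans
        (Equiv.subtypeEquivRight hiff)
    rw [← Matrix.det_submatrix_equiv_self φ]
    congr 1
    refine Matrix.ext fun a b => ?_
    by_cases hab : a = b
    · subst hab; simp [hM₀, Matrix.toSquareBlockProp, Matrix.map_apply, hentry, φ]
    · have hab' : a.1 ≠ b.1 := fun h => hab (Subtype.ext h)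
      simp [hM₀, Matrix.toSquareBlockProp, Matrix.map_apply, hentry, hab, hab', φ]
  -- the fixed part
  have hfx : (M₀.toSquareBlockProp fun b => ¬ σ b.1 ≠ b.1).det =
      (1 + (Polynomial.X : K[X]) • ((fixBlock σ e).map π).map C).det := by
    have hiff : ∀ b, (T (ζ ^ (j0 : ℕ)) b ∧ ¬ σ b ≠ b) ↔ σ b = b := by
      intro b
      rw [hT0, not_not]
      exact ⟨fun h => h.2, fun h => ⟨cycRep_of_fixed σ h, h⟩⟩
    let φ : {b : {b : X // T (ζ ^ (j0 : ℕ)) b} // ¬ σ b.1 ≠ b.1} ≃ {b : X // σ b = b} :=
      (Equiv.subtypeSubtypeEquivSubtypeInter (T (ζ ^ (j0 : ℕ))) (fun b => ¬ σ b ≠ b)).trans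
        (Equiv.subtypeEquivRight hiff)
    rw [← Matrix.det_submatrix_equiv_self φ]
    congr 1
    refine Matrix.ext fun a b => ?_
    have hb : σ b.1.1 = b.1.1 := not_not.mp b.2
    have hsum : (∑ y, if cycRep σ y = b.1.1 then π (e a.1.1 y) else 0) = π (e a.1.1 b.1.1) := by
      rw [Finset.sum_eq_single b.1.1]
      · rw [if_pos (cycRep_of_fixed σ hb)]
      · intro y _ hy
        rw [if_neg]
        intro h
        apply hy
        have := cycIdx_spec σ y
        rw [h, pow_apply_of_fixed σ hb] at this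
        exact this.symm
      · simp
    by_cases hab : a = b
    · subst hab
      simp [hM₀, Matrix.toSquareBlockProp, Matrix.map_apply, hentry, φ, fixBlock, hsum]
    · have hab' : a.1 ≠ b.1 := fun h => hab (Subtype.ext h)
      simp [hM₀, Matrix.toSquareBlockProp, Matrix.map_apply, hentry, hab, hab', φ, fixBlock, hsum]
  rw [hnf, hfx] at hsplit
  have hle : r jd ≤ r j0 := by
    have hne : (1 + (Polynomial.X : K[X])) ≠ 0 := fun h => by
      have := congrArg (eval 0) h; simp at this
    have hdeg := congrArg natDegree hsplit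
    rw [natDegree_mul (pow_ne_zero _ hne) ?_, natDegree_pow, natDegree_pow] at hdeg
    · rw [add_comm (1 : K[X]), ← C_1, natDegree_X_add_C, mul_one, mul_one] at hdeg
      omega
    · intro h
      rw [h, mul_zero] at hsplit
      exact pow_ne_zero _ hne hsplit
  refine ⟨r j0 - r jd, ?_, ?_⟩
  · set f : Fin q → R := fun j => (r j : R) - if j = j0 then ((r j0 - r jd : ℕ) : R) else 0 with hf
    have hfper : ∀ j, f (sh j) = f j := by
      intro j
      by_cases hj : j = j0
      · subst hj
        have h1 : sh j0 = jd := Fin.ext (by simp [sh, j0, jd, Nat.mod_eq_of_lt hdlt])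
        have h2 : jd ≠ j0 := fun h => hd0 (by simpa [jd, j0] using congrArg Fin.val h)
        simp [hf, h1, h2, Nat.cast_sub hle]
      · have hj' : (j : ℕ) ≠ 0 := fun h => hj (Fin.ext h)
        by_cases hs : sh j = j0
        · have hs' : (sh j : ℕ) = 0 := by rw [hs]
          have h1 : r j = r jd := by
            -- `j` is the element `q - d`; walk through the coset of `d`
            have key : ∀ k : ℕ, (hk : (k + 1) * d < q) → r ⟨(k + 1) * d, hk⟩ = r jd := by
              intro k
              induction k with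
              | zero => intro hk; simp [jd]
              | succ k ih =>
                intro hk
                have hk' : (k + 1) * d < q := lt_of_le_of_lt (Nat.mul_le_mul_right d (by omega)) hk
                have hsh : sh ⟨(k + 1) * d, hk'⟩ = ⟨(k + 1 + 1) * d, hk⟩ :=
                  Fin.ext (by simp only [sh]; rw [Nat.mod_eq_of_lt] <;> ring_nf; ring_nf at hk; exact hk)
                rw [← hsh, ← hshift _ (by positivity) (by rw [hsh]; positivity)]
                exact ih hk'
            have hjeq : (j : ℕ) + d = q := by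
              simp only [sh] at hs'
              obtain ⟨c, hc⟩ := Nat.dvd_of_mod_eq_zero hs'
              have : c = 1 := by
                have hjlt := j.2
                rcases c with _ | _ | c
                · omega
                · rfl
                · exfalso; rw [Nat.mul_add, Nat.mul_add] at hc; omega
              subst this; omega
            have hp2 := hp.out.two_le
            have hj2 : (j : ℕ) = (p - 2 + 1) * d := by
              have h3 : (p - 2 + 1) * d + d = q := by
                have h4 : p - 2 + 1 + 1 = p := by omega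
                rw [← Nat.succ_mul, Nat.succ_eq_add_one, h4, mul_comm, hdq]
              omega
            have := key (p - 2) (hj2 ▸ j.2)
            rw [← this]
            exact congrArg r (Fin.ext hj2)
          simp [hf, hs, hj, h1, Nat.cast_sub hle]
        · have hs' : (sh j : ℕ) ≠ 0 := fun h => hs (Fin.ext h)
          simp [hf, hs, hj, hshift j hj' hs']
    set ν := ζ ^ (q - 1) with hν
    have hνq : ν ^ q = 1 := by rw [hν, ← pow_mul, mul_comm, pow_mul, hζ.pow_eq_one, one_pow]
    have hsum0 : ∑ j : Fin q, ν ^ (j : ℕ) * f j = 0 := by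
      have hbij : Function.Bijective sh := by
        rw [Fintype.bijective_iff_injective_and_card]
        refine ⟨fun a b h => ?_, rfl⟩
        have h' : ((a : ℕ) + d) % q = ((b : ℕ) + d) % q := congrArg Fin.val h
        have := (Nat.ModEq.add_right_cancel' d h')
        exact Fin.ext (Nat.ModEq.eq_of_lt_of_lt this a.2 b.2)
      have h1 := Fintype.sum_bijective sh hbij (fun j => ν ^ d * (ν ^ (j : ℕ) * f j))
        (fun j => ν ^ (j : ℕ) * f j) (fun j => by
          rw [hfper, show ν ^ (sh j : ℕ) = ν ^ ((j : ℕ) + d) from (pow_eq_pow_mod _ hνq).symm,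
            pow_add]
          ring)
      rw [← Finset.mul_sum] at h1
      have hne : ν ^ d ≠ 1 := by
        intro h
        have h2 : ζ ^ d = 1 := by
          have : ν ^ d * ζ ^ d = 1 := by
            rw [← mul_pow, hν, ← pow_succ, show q - 1 + 1 = q by omega, hζ.pow_eq_one, one_pow]
          rwa [h, one_mul] at this
        exact hd0 (Nat.eq_zero_of_dvd_of_lt ((hζ.pow_eq_one_iff_dvd _).mp h2) hdlt)
      have h2 : (ν ^ d - 1) * ∑ j : Fin q, ν ^ (j : ℕ) * f j = 0 := by
        rw [sub_mul, one_mul, h1, sub_self]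
      exact (mul_eq_zero.mp h2).resolve_left (sub_ne_zero.mpr hne)
    have hmain : (q : R) * ∑ y, e y (σ y) = (q : R) * ∑ j : Fin q, ν ^ (j : ℕ) * (r j : R) := by
      rw [Finset.mul_sum (a := (q : R)) (f := fun j : Fin q => ν ^ (j : ℕ) * (r j : R))]
      have h1 : ∀ j : Fin q, (q : R) * (ν ^ (j : ℕ) * (r j : R)) =
          ∑ i ∈ range q, (ζ ^ (q - 1 + i)) ^ (j : ℕ) * ∑ y, e y ((σ ^ i) y) := by
        intro j
        rw [← hrtr j, mul_left_comm, (hblk j).2, Finset.mul_sum]
        refine Finset.sum_congr rfl fun i _ => ?_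
        rw [hν]; ring
      rw [Finset.sum_congr rfl fun j _ => h1 j]
      conv_rhs => rw [Finset.sum_comm]
      symm
      rw [Finset.sum_eq_single (1 : ℕ)]
      · rw [← Finset.sum_mul, show q - 1 + 1 = q by omega, hζ.pow_eq_one, pow_one]
        simp
      · intro i hi hi1
        rw [Finset.mem_range] at hi
        rw [← Finset.sum_mul]
        have hx : ζ ^ (q - 1 + i) ≠ 1 := by
          intro h
          obtain ⟨c, hc⟩ := (hζ.pow_eq_one_iff_dvd _).mp h
          rcases c with _ | _ | c
          · omega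
          · omega
          · rw [Nat.mul_add, Nat.mul_add] at hc; omega
        have hg := geom_sum_mul (ζ ^ (q - 1 + i)) q
        rw [← pow_mul, mul_comm (q - 1 + i) q, pow_mul, hζ.pow_eq_one, one_pow, sub_self] at hg
        rw [Fin.sum_univ_eq_sum_range (fun j => (ζ ^ (q - 1 + i)) ^ j) q,
          (mul_eq_zero.mp hg).resolve_right (sub_ne_zero.mpr hx), zero_mul]
      · intro h; exact absurd (Finset.mem_range.mpr (by omega)) h
    have hq0 : (q : R) ≠ 0 := by exact_mod_cast hqpos.ne'
    rw [mul_left_cancel₀ hq0 hmain]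
    simp only [hf, mul_sub, Finset.sum_sub_distrib, mul_ite, mul_zero] at hsum0
    rw [sub_eq_zero.mp hsum0, Finset.sum_ite_eq' Finset.univ j0]
    simp [j0]
  · have hne : ((1 : K[X]) + Polynomial.X) ^ r jd ≠ 0 := pow_ne_zero _ fun h => by
      have := congrArg (eval 0) h; simp at this
    apply mul_left_cancel₀ hne
    rw [← hsplit, ← pow_add, Nat.add_sub_cancel' hle]

/-- If the reduction of `e` vanishes on pairs of fixed points, the twisted trace vanishes. -/
theorem trace_perm_eq_zero {n : ℕ} (hσ : σ ^ p ^ n = 1) {ζ : R} (hζ : IsPrimitiveRoot ζ (p ^ n))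
    (e : Matrix X X R) (hinv : ∀ x y, e (σ x) (σ y) = e x y) (he : e * e = e)
    (hfix : ∀ a b, σ a = a → σ b = b → π (e a b) = 0) :
    ∑ y, e y (σ y) = 0 := by
  obtain ⟨r, hr, hdet⟩ := trace_perm p π hσ hζ e hinv he
  have h0 : (fixBlock σ e).map π = 0 := Matrix.ext fun a b => hfix _ _ a.2 b.2
  rw [h0] at hdet
  simp at hdet
  have : r = 0 := one_add_X_pow_injective (K := K) (b := 0) (by rw [← hdet, pow_zero])
  rw [hr, this, Nat.cast_zero]

/-- Two systems with the same reduction on the fixed points have the same twisted trace. -/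
theorem trace_perm_eq {Y : Type*} [Fintype Y] [DecidableEq Y] {τ : Equiv.Perm Y} {n : ℕ}
    (hσ : σ ^ p ^ n = 1) {ζ : R} (hζ : IsPrimitiveRoot ζ (p ^ n)) (hτ : τ ^ p ^ n = 1)
    (e : Matrix X X R) (hinv : ∀ x y, e (σ x) (σ y) = e x y) (he : e * e = e)
    (f : Matrix Y Y R) (hinvf : ∀ x y, f (τ x) (τ y) = f x y) (hf : f * f = f)
    (φ : {x : X // σ x = x} ≃ {y : Y // τ y = y})
    (hφ : ∀ a b, π (e a.1 b.1) = π (f (φ a).1 (φ b).1)) :
    ∑ y, e y (σ y) = ∑ y, f y (τ y) := by
  classical
  obtain ⟨r, hr, hdet⟩ := trace_perm p π hσ hζ e hinv he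
  obtain ⟨s, hs, hdet'⟩ := trace_perm p π hτ hζ f hinvf hf
  rw [← Matrix.det_submatrix_equiv_self φ] at hdet'
  have : r = s := by
    apply one_add_X_pow_injective (K := K)
    rw [← hdet, ← hdet']
    congr 1
    refine Matrix.ext fun a b => ?_
    by_cases hab : a = b
    · subst hab; simp [Matrix.map_apply, fixBlock, hφ]
    · simp [Matrix.map_apply, fixBlock, hφ, hab]
  rw [hr, hs, this]

end main

end CfsgLib.Block
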