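import Cfsg.Prelude.Def_Blocks
import Cfsg.Agent.Lib.Block.PermTrace
import Mathlib.RingTheory.Ideal.GoingUp
import Mathlib.RingTheory.Ideal.Operations
import Mathlib.RingTheory.RootsOfUnity.Complex
import Mathlib.RingTheory.IntegralClosure.IntegrallyClosed
import Mathlib.RingTheory.DedekindDomain.Basic
import Mathlib.FieldTheory.IsAlgClosed.Basic
import Mathlib.FieldTheory.Finite.Basic
import Mathlib.Algebra.Algebra.ZMod
import Mathlib.RingTheory.Adjoin.Polynomial.Basic
import Mathlib.FieldTheory.IntermediateField.Adjoin.Basic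
import Mathlib.RingTheory.Polynomial.Quotient
import Mathlib.Analysis.Complex.Polynomial.Basic

/-!
# The local ring of the algebraic integers at a maximal ideal over `p`, and its residue field

`locRing M` is the subring `{z | MemLocalRing M z}` of `ℂ`, `res M` the map to `AlgInt ⧸ M`.
-/

open Polynomial

namespace CfsgLib.Block

open Cfsg

variable {p : ℕ} {M : Ideal AlgInt}

theorem isPrime_of_pmod (hM : IsPModular p M) : M.IsPrime := hM.2.1.isPrime

theorem algInt_coe_ne_zero {b : AlgInt} (hb : b ∉ M) : (b : ℂ) ≠ 0 := fun h =>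
  hb (by
    have hb0 : b = 0 := Subtype.ext h
    rw [hb0]; exact M.zero_mem)

/-- An algebraic integer, as an element of `AlgInt`. -/
def toAlgInt {z : ℂ} (hz : IsIntegral ℤ z) : AlgInt := ⟨z, hz⟩

@[simp] theorem coe_toAlgInt {z : ℂ} (hz : IsIntegral ℤ z) : ((toAlgInt hz : AlgInt) : ℂ) = z := rfl

section loc

variable (M) [M.IsPrime]

/-- The local ring at `M`, inside `ℂ`. -/
def locRing : Subring ℂ where
  carrier := {z | MemLocalRing M z}
  zero_mem' := ⟨0, 1, Ideal.IsPrime.one_notMem ‹_›, by simp⟩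
  one_mem' := ⟨1, 1, Ideal.IsPrime.one_notMem ‹_›, by simp⟩
  add_mem' := by
    rintro _ _ ⟨a, b, hb, rfl⟩ ⟨c, d, hd, rfl⟩
    refine ⟨a * d + b * c, b * d, fun h => (Ideal.IsPrime.mem_or_mem ‹_› h).elim hb hd, ?_⟩
    push_cast
    rw [div_add_div _ _ (algInt_coe_ne_zero hb) (algInt_coe_ne_zero hd)]
  mul_mem' := by
    rintro _ _ ⟨a, b, hb, rfl⟩ ⟨c, d, hd, rfl⟩
    refine ⟨a * c, b * d, fun h => (Ideal.IsPrime.mem_or_mem ‹_› h).elim hb hd, ?_⟩
    push_cast
    rw [div_mul_div_comm]
  neg_mem' := by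
    rintro _ ⟨a, b, hb, rfl⟩
    exact ⟨-a, b, hb, by push_cast; rw [neg_div]⟩

theorem mem_locRing_iff {z : ℂ} : z ∈ locRing M ↔ MemLocalRing M z := Iff.rfl

theorem algInt_mem (a : AlgInt) : (a : ℂ) ∈ locRing M :=
  ⟨a, 1, Ideal.IsPrime.one_notMem ‹_›, by simp⟩

theorem integral_mem {z : ℂ} (hz : IsIntegral ℤ z) : z ∈ locRing M := algInt_mem M (toAlgInt hz)

/-- The inclusion of the algebraic integers in the local ring. -/
def algToLoc : AlgInt →+* locRing M where
  toFun a := ⟨a, algInt_mem M a⟩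
  map_one' := rfl
  map_mul' _ _ := rfl
  map_zero' := rfl
  map_add' _ _ := rfl

@[simp] theorem coe_algToLoc (a : AlgInt) : ((algToLoc M a : locRing M) : ℂ) = (a : ℂ) := rfl

theorem charZero_locRing : CharZero (locRing M) :=
  ⟨fun a b h => by simpa using congrArg Subtype.val h⟩

end loc

/-- The residue field at `M`. -/
abbrev ResField (M : Ideal AlgInt) : Type := AlgInt ⧸ M

noncomputable instance instFieldResField [M.IsMaximal] : Field (ResField M) :=
  Ideal.Quotient.field M

variable (M) in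
/-- The residue map at `M`. -/
noncomputable def resFun [M.IsMaximal] (z : locRing M) : ResField M :=
  Ideal.Quotient.mk M z.2.choose * (Ideal.Quotient.mk M z.2.choose_spec.choose)⁻¹

theorem resFun_eq [M.IsMaximal] (z : locRing M) (a b : AlgInt) (hb : b ∉ M)
    (h : (a : ℂ) / (b : ℂ) = z) :
    resFun M z = Ideal.Quotient.mk M a * (Ideal.Quotient.mk M b)⁻¹ := by
  obtain ⟨hb', h'⟩ := z.2.choose_spec.choose_spec
  set a' := z.2.choose
  set b' := z.2.choose_spec.choose
  have h1 : a' * b = a * b' := by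
    apply Subtype.ext
    push_cast
    exact (div_eq_div_iff (algInt_coe_ne_zero hb') (algInt_coe_ne_zero hb)).mp (h'.trans h.symm)
  have hne : ∀ {c : AlgInt}, c ∉ M → (Ideal.Quotient.mk M c : ResField M) ≠ 0 :=
    fun hc h0 => hc (Ideal.Quotient.eq_zero_iff_mem.mp h0)
  change Ideal.Quotient.mk M a' * (Ideal.Quotient.mk M b')⁻¹ = _
  have h2 := congrArg (Ideal.Quotient.mk M) h1
  rw [map_mul, map_mul] at h2
  have := hne hb
  have := hne hb'
  field_simp
  linear_combination h2

variable (M) in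
/-- The residue homomorphism at `M`. -/
noncomputable def res [M.IsMaximal] : locRing M →+* ResField M where
  toFun := resFun M
  map_one' := by
    rw [resFun_eq 1 1 1 (Ideal.IsPrime.one_notMem inferInstance) (by simp)]; simp
  map_zero' := by
    rw [resFun_eq 0 0 1 (Ideal.IsPrime.one_notMem inferInstance) (by simp)]; simp
  map_mul' := by
    rintro ⟨x, a, b, hb, rfl⟩ ⟨y, c, d, hd, rfl⟩
    rw [resFun_eq _ (a * c) (b * d)
        (fun h => (Ideal.IsPrime.mem_or_mem inferInstance h).elim hb hd)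
        (by push_cast; rw [div_mul_div_comm]),
      resFun_eq _ a b hb rfl, resFun_eq _ c d hd rfl]
    simp only [map_mul, mul_inv]
    ring
  map_add' := by
    rintro ⟨x, a, b, hb, rfl⟩ ⟨y, c, d, hd, rfl⟩
    rw [resFun_eq _ (a * d + b * c) (b * d)
        (fun h => (Ideal.IsPrime.mem_or_mem inferInstance h).elim hb hd)
        (by push_cast; rw [div_add_div _ _ (algInt_coe_ne_zero hb) (algInt_coe_ne_zero hd)]),
      resFun_eq _ a b hb rfl, resFun_eq _ c d hd rfl]
    have hne : ∀ {c : AlgInt}, c ∉ M → (Ideal.Quotient.mk M c : ResField M) ≠ 0 :=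
      fun hc h0 => hc (Ideal.Quotient.eq_zero_iff_mem.mp h0)
    have := hne hb
    have := hne hd
    simp only [map_add, map_mul]
    field_simp

variable [M.IsMaximal]

theorem res_div (z : locRing M) (a b : AlgInt) (hb : b ∉ M) (h : (a : ℂ) / (b : ℂ) = z) :
    res M z = Ideal.Quotient.mk M a * (Ideal.Quotient.mk M b)⁻¹ := resFun_eq z a b hb h

@[simp] theorem res_algToLoc (a : AlgInt) : res M (algToLoc M a) = Ideal.Quotient.mk M a := by
  rw [res_div _ a 1 (Ideal.IsPrime.one_notMem inferInstance) (by simp)]; simp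

theorem res_surjective : Function.Surjective (res M) := fun x => by
  obtain ⟨a, rfl⟩ := Ideal.Quotient.mk_surjective x
  exact ⟨_, res_algToLoc a⟩

theorem memLocalIdeal_iff {z : ℂ} :
    MemLocalIdeal M z ↔ ∃ h : z ∈ locRing M, res M ⟨z, h⟩ = 0 := by
  constructor
  · rintro ⟨a, b, ha, hb, rfl⟩
    refine ⟨⟨a, b, hb, rfl⟩, ?_⟩
    rw [res_div _ a b hb rfl, Ideal.Quotient.eq_zero_iff_mem.mpr ha, zero_mul]
  · rintro ⟨⟨a, b, hb, rfl⟩, h0⟩
    rw [res_div _ a b hb rfl, mul_eq_zero, inv_eq_zero] at h0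
    exact ⟨a, b, Ideal.Quotient.eq_zero_iff_mem.mp
      (h0.resolve_right fun h => hb (Ideal.Quotient.eq_zero_iff_mem.mp h)), hb, rfl⟩

theorem memLocalIdeal_coe (x : locRing M) : MemLocalIdeal M (x : ℂ) ↔ res M x = 0 := by
  rw [memLocalIdeal_iff]
  exact ⟨fun ⟨_, h⟩ => h, fun h => ⟨x.2, h⟩⟩

theorem memLocalIdeal_sub_iff (x y : locRing M) :
    MemLocalIdeal M ((x : ℂ) - y) ↔ res M x = res M y := by
  rw [← sub_eq_zero, ← map_sub, ← memLocalIdeal_coe]
  rfl

theorem memLocalIdeal_algInt (a : AlgInt) : MemLocalIdeal M (a : ℂ) ↔ a ∈ M := by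
  rw [← coe_algToLoc M a, memLocalIdeal_coe, res_algToLoc, Ideal.Quotient.eq_zero_iff_mem]

/-! ### Characteristic and roots of unity -/

theorem natCast_mem_iff (hM : IsPModular p M) (n : ℕ) : (n : AlgInt) ∈ M ↔ p ∣ n := by
  constructor
  · intro h
    by_contra hn
    obtain ⟨a, b, hab⟩ : IsCoprime (n : ℤ) (p : ℤ) :=
      Int.isCoprime_iff_nat_coprime.mpr (by simpa using (hM.1.coprime_iff_not_dvd.mpr hn).symm)
    apply Ideal.IsPrime.one_notMem (I := M) inferInstance
    have hmem : (a : AlgInt) * n + (b : AlgInt) * p ∈ M :=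
      M.add_mem (M.mul_mem_left _ h) (M.mul_mem_left _ hM.2.2)
    convert hmem
    have h1 := congrArg (fun z : ℤ => (z : AlgInt)) hab
    push_cast at h1
    exact h1.symm
  · rintro ⟨c, rfl⟩
    push_cast
    exact M.mul_mem_right _ hM.2.2

theorem charP_resField (hM : IsPModular p M) : CharP (ResField M) p :=
  ⟨fun n => by
    rw [← map_natCast (Ideal.Quotient.mk M), Ideal.Quotient.eq_zero_iff_mem, natCast_mem_iff hM]⟩

theorem res_natCast (n : ℕ) : res M (n : locRing M) = (n : ResField M) := map_natCast _ n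

theorem inv_natCast_mem (hM : IsPModular p M) {n : ℕ} (hn : ¬ p ∣ n) :
    ((n : ℂ)⁻¹) ∈ locRing M :=
  ⟨1, n, fun h => hn ((natCast_mem_iff hM n).mp h), by simp⟩

/-- `1/n` in the local ring, for `n` prime to `p`. -/
noncomputable def invNat (hM : IsPModular p M) {n : ℕ} (hn : ¬ p ∣ n) : locRing M :=
  ⟨(n : ℂ)⁻¹, inv_natCast_mem hM hn⟩

theorem invNat_mul (hM : IsPModular p M) {n : ℕ} (hn : ¬ p ∣ n) :
    invNat hM hn * (n : locRing M) = 1 := by
  apply Subtype.ext
  have : (n : ℂ) ≠ 0 := Nat.cast_ne_zero.mpr fun h => hn (h ▸ dvd_zero p)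
  simp [invNat, this]

theorem res_invNat_ne_zero (hM : IsPModular p M) {n : ℕ} (hn : ¬ p ∣ n) :
    res M (invNat hM hn) ≠ 0 := fun h => by
  have := congrArg (res M) (invNat_mul hM hn)
  rw [map_mul, h, zero_mul, map_one] at this
  exact zero_ne_one this

theorem memLocalIdeal_natCast (hM : IsPModular p M) (n : ℕ) :
    MemLocalIdeal M (n : ℂ) ↔ p ∣ n := by
  rw [← natCast_mem_iff hM n, ← memLocalIdeal_algInt (M := M) (n : AlgInt)]
  simp

theorem memLocalIdeal_intCast (hM : IsPModular p M) (n : ℤ) :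
    MemLocalIdeal M (n : ℂ) ↔ (p : ℤ) ∣ n := by
  have := charP_resField hM
  rw [← CharP.intCast_eq_zero_iff (ResField M) p, ← map_intCast (Ideal.Quotient.mk M),
    Ideal.Quotient.eq_zero_iff_mem, ← memLocalIdeal_algInt]
  simp

theorem isIntegral_of_pow_eq_one {z : ℂ} {n : ℕ} (hn : 0 < n) (hz : z ^ n = 1) :
    IsIntegral ℤ z :=
  IsIntegral.of_pow hn (by rw [hz]; exact isIntegral_one)

variable (M) in
theorem exists_primitiveRoot_locRing (n : ℕ) (hn : n ≠ 0) :
    ∃ ζ : locRing M, IsPrimitiveRoot ζ n := by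
  have h := Complex.isPrimitiveRoot_exp n hn
  refine ⟨⟨_, integral_mem M (isIntegral_of_pow_eq_one (Nat.pos_of_ne_zero hn) h.pow_eq_one)⟩, ?_⟩
  exact IsPrimitiveRoot.of_map_of_injective (f := (locRing M).subtype) h Subtype.val_injective

theorem res_rootOfUnity_p (hM : IsPModular p M) {z : locRing M} {n : ℕ} (hz : z ^ p ^ n = 1) :
    res M z = 1 := by
  have := charP_resField hM
  have : Fact p.Prime := ⟨hM.1⟩
  have := charZero_locRing M
  exact map_eq_one_of_pow_prime_pow p (res M) hz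

/-- Residue map is injective on roots of unity of order prime to `p`. -/
theorem res_rootOfUnity_injective (hM : IsPModular p M) {m : ℕ} (hm : ¬ p ∣ m) {x y : locRing M}
    (hx : x ^ m = 1) (hy : y ^ m = 1) (h : res M x = res M y) : x = y := by
  have hm0 : m ≠ 0 := fun h => hm (h ▸ dvd_zero p)
  by_contra hne
  have hchar := charP_resField hM
  have hy0 : y ≠ 0 := fun h0 => by rw [h0, zero_pow hm0] at hy; exact zero_ne_one hy
  have key : (x - y) * ∑ i ∈ Finset.range m, x ^ i * y ^ (m - 1 - i) = 0 := by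
    rw [mul_comm, geom_sum₂_mul, hx, hy, sub_self]
  have h0 : ∑ i ∈ Finset.range m, x ^ i * y ^ (m - 1 - i) = 0 :=
    (mul_eq_zero.mp key).resolve_left (sub_ne_zero.mpr hne)
  have h1 := congrArg (res M) h0
  simp only [map_sum, map_mul, map_pow, h, map_zero] at h1
  rw [Finset.sum_congr rfl fun i hi => by
    rw [← pow_add, Nat.add_sub_cancel' (by have := Finset.mem_range.mp hi; omega)]] at h1
  rw [Finset.sum_const, Finset.card_range, nsmul_eq_mul, mul_eq_zero,
    CharP.cast_eq_zero_iff (ResField M) p] at h1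
  rcases h1 with h1 | h1
  · exact hm h1
  · have := congrArg (res M) hy
    rw [map_pow, map_one, (pow_eq_zero_iff'.mp h1).1, zero_pow hm0] at this
    exact zero_ne_one this

theorem isAlgClosed_resField : IsAlgClosed (ResField M) := by
  refine IsAlgClosed.of_exists_root _ fun f hf hirr => ?_
  obtain ⟨g, hgf, -, hgm⟩ := Polynomial.lifts_and_degree_eq_and_monic
    (f := Ideal.Quotient.mk M) (Polynomial.map_surjective _ Ideal.Quotient.mk_surjective f) hf
  obtain ⟨z, hz⟩ := IsAlgClosed.exists_root (g.map AlgInt.val.toRingHom)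
    (by
      rw [hgm.degree_map]
      intro h
      have : g = 1 := (hgm.natDegree_eq_zero).mp (natDegree_eq_zero_iff_degree_le_zero.mpr h.le)
      rw [this, Polynomial.map_one] at hgf
      exact hirr.not_isUnit (hgf ▸ isUnit_one))
  have hzint : IsIntegral ℤ z := by
    have hz' : IsIntegral AlgInt z := ⟨g, hgm, by
      rw [IsRoot, eval_map] at hz; exact hz⟩
    exact isIntegral_trans (R := ℤ) (A := AlgInt) z hz'
  refine ⟨Ideal.Quotient.mk M (toAlgInt hzint), ?_⟩
  rw [← hgf, eval_map, eval₂_hom]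
  have hz0 : g.eval (toAlgInt hzint) = 0 := by
    apply Subtype.ext
    have h1 := Polynomial.hom_eval₂ g (RingHom.id AlgInt) AlgInt.val.toRingHom (toAlgInt hzint)
    rw [IsRoot, eval_map] at hz
    simp only [RingHom.comp_id] at h1
    exact h1.trans hz
  rw [hz0, map_zero]

/-! ### The radical of `p` in the local ring -/

/-- Every element of the maximal ideal has a power divisible by `p` in the local ring. -/
theorem exists_pow_eq_p_mul (hM : IsPModular p M) {x : locRing M} (hx : res M x = 0) :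
    ∃ (N : ℕ) (y : locRing M), x ^ N = (p : locRing M) * y := by
  obtain ⟨a, b, ha, hb, hab⟩ := memLocalIdeal_iff.mpr ⟨x.2, hx⟩
  let S : Submonoid AlgInt :=
    { carrier := {s | ∃ c N, c ∉ M ∧ c * a ^ N = s}
      one_mem' := ⟨1, 0, Ideal.IsPrime.one_notMem inferInstance, by simp⟩
      mul_mem' := by
        rintro _ _ ⟨c, N, hc, rfl⟩ ⟨c', N', hc', rfl⟩
        exact ⟨c * c', N + N', fun h => (Ideal.IsPrime.mem_or_mem inferInstance h).elim hc hc',
          by rw [pow_add]; ring⟩ }
  obtain ⟨c, N, hc, hcN⟩ : ∃ c N, c ∉ M ∧ c * a ^ N ∈ Ideal.span {(p : AlgInt)} := by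
    by_contra hno
    push Not at hno
    have hdisj : Disjoint ((Ideal.span {(p : AlgInt)}) : Set AlgInt) (S : Set AlgInt) := by
      rw [Set.disjoint_left]
      rintro s hs ⟨c, N, hc, rfl⟩
      exact hno c N hc hs
    obtain ⟨Q, hQp, hpQ, hQS⟩ := Ideal.exists_le_prime_disjoint _ S hdisj
    have hQM : Q ≤ M := fun s hs => by
      by_contra hsM
      exact (Set.disjoint_left.mp hQS) hs ⟨s, 0, hsM, by simp⟩
    have hQmax : Q.IsMaximal := by
      apply Ideal.isMaximal_of_isIntegral_of_isMaximal_comap (R := ℤ) Q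
      have hpz : (Q.comap (algebraMap ℤ AlgInt)) = Ideal.span {(p : ℤ)} := by
        apply le_antisymm
        · intro z hz
          rw [Ideal.mem_span_singleton, ← memLocalIdeal_intCast hM]
          have hzM : (z : AlgInt) ∈ M := hQM (by simpa using hz)
          have := (memLocalIdeal_algInt (M := M) _).mpr hzM
          simpa using this
        · rw [Ideal.span_singleton_le_iff_mem, Ideal.mem_comap]
          simpa using hpQ (Ideal.mem_span_singleton_self _)
      rw [hpz]
      exact PrincipalIdealRing.isMaximal_of_irreducible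
        (Nat.prime_iff_prime_int.mp hM.1).irreducible
    have haQ : a ∈ Q := (hQmax.eq_of_le (Ideal.IsPrime.ne_top inferInstance) hQM) ▸ ha
    exact (Set.disjoint_left.mp hQS) haQ ⟨1, 1, Ideal.IsPrime.one_notMem inferInstance, by simp⟩
  obtain ⟨d, hd⟩ := Ideal.mem_span_singleton.mp hcN
  refine ⟨N, ⟨(d : ℂ) / ((c * b ^ N : AlgInt) : ℂ), d, c * b ^ N, fun h =>
    (Ideal.IsPrime.mem_or_mem inferInstance h).elim hc
      (fun h' => hb (Ideal.IsPrime.mem_of_pow_mem inferInstance N h')), rfl⟩, ?_⟩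
  apply Subtype.ext
  have hc' := algInt_coe_ne_zero hc
  have hb' := algInt_coe_ne_zero hb
  have hd' := congrArg (fun t : AlgInt => (t : ℂ)) hd
  push_cast at hd' ⊢
  rw [← hab, div_pow, mul_div_assoc', div_eq_div_iff (pow_ne_zero _ hb')
    (mul_ne_zero hc' (pow_ne_zero _ hb')), ← hd']
  ring

/-- High powers of an element of the maximal ideal are divisible by any natural number, with a
quotient in the maximal ideal. -/
theorem exists_pow_eq_natCast_mul (hM : IsPModular p M) {x : locRing M} (hx : res M x = 0)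
    {n : ℕ} (hn : n ≠ 0) :
    ∃ N, ∀ N', N ≤ N' → ∃ y : locRing M, x ^ N' = (n : locRing M) * y ∧ res M y = 0 := by
  obtain ⟨N₀, y₀, hy₀⟩ := exists_pow_eq_p_mul hM hx
  obtain ⟨m, hm, hn'⟩ : ∃ m, ¬ p ∣ m ∧ n = p ^ n.factorization p * m :=
    ⟨_, Nat.not_dvd_ordCompl hM.1 hn, (Nat.ordProj_mul_ordCompl_eq_self n p).symm⟩
  generalize n.factorization p = e at hn' ⊢
  subst hn'
  refine ⟨N₀ * e + 1, fun N' hN' => ?_⟩
  obtain ⟨k, rfl⟩ := Nat.exists_eq_add_of_le hN'
  refine ⟨invNat hM hm * y₀ ^ e * (x * x ^ k), ?_, by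
    rw [map_mul, map_mul (res M) x, hx, zero_mul, mul_zero]⟩
  rw [add_assoc, pow_add, pow_mul, hy₀, mul_pow, pow_add, pow_one]
  push_cast
  linear_combination (-((p : locRing M) ^ e * y₀ ^ e * (x * x ^ k))) *
    invNat_mul hM hm

/-- Every non-zero residue has finite order prime to `p`. -/
theorem exists_pow_eq_one_res (hM : IsPModular p M) {x : ResField M} (hx : x ≠ 0) :
    ∃ m, ¬ p ∣ m ∧ x ^ m = 1 := by
  have hchar := charP_resField hM
  have : Fact p.Prime := ⟨hM.1⟩
  letI : Algebra (ZMod p) (ResField M) := ZMod.algebra _ p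
  have hint : IsIntegral (ZMod p) x := by
    obtain ⟨a, rfl⟩ := Ideal.Quotient.mk_surjective x
    obtain ⟨f, hf, hfa⟩ := (integralClosure.isIntegral (R := ℤ) (A := ℂ) a)
    refine ⟨f.map (Int.castRingHom (ZMod p)), hf.map _, ?_⟩
    rw [eval₂_map, show (algebraMap (ZMod p) (ResField M)).comp (Int.castRingHom (ZMod p)) =
      (Ideal.Quotient.mk M).comp (algebraMap ℤ AlgInt) from RingHom.ext_int _ _,
      ← hom_eval₂, hfa, map_zero]
  haveI := IntermediateField.adjoin.finiteDimensional hint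
  let F := IntermediateField.adjoin (ZMod p) ({x} : Set (ResField M))
  haveI : Finite F := Module.finite_of_finite (ZMod p)
  haveI := Fintype.ofFinite F
  have hxF : x ∈ F := IntermediateField.mem_adjoin_simple_self _ x
  refine ⟨Fintype.card F - 1, fun h => ?_, ?_⟩
  · have h0 : ((Fintype.card F - 1 : ℕ) : ResField M) = 0 := (CharP.cast_eq_zero_iff _ p _).mpr h
    rw [Nat.cast_sub Fintype.card_pos, Nat.cast_one] at h0
    have h1 : ((Fintype.card F : ℕ) : ResField M) = 0 := by
      have := FiniteField.cast_card_eq_zero F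
      rw [← map_natCast F.val, this, map_zero]
    rw [h1, zero_sub, neg_eq_zero] at h0
    exact one_ne_zero h0
  · have h := FiniteField.pow_card_sub_one_eq_one (⟨x, hxF⟩ : F)
      (fun h => hx (congrArg Subtype.val h))
    exact congrArg Subtype.val h

/-- Lifting a non-zero residue to a root of unity of order prime to `p`. -/
theorem exists_rootOfUnity_lift (hM : IsPModular p M) {x : ResField M} (hx : x ≠ 0) :
    ∃ (m : ℕ) (z : locRing M), ¬ p ∣ m ∧ z ^ m = 1 ∧ res M z = x := by
  classical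
  obtain ⟨m, hm, hxm⟩ := exists_pow_eq_one_res hM hx
  have hm0 : m ≠ 0 := fun h => hm (h ▸ dvd_zero p)
  haveI : NeZero m := ⟨hm0⟩
  obtain ⟨ζ, hζ⟩ := exists_primitiveRoot_locRing M m hm0
  have hζm : ∀ i : ℕ, (ζ ^ i) ^ m = 1 := fun i => by
    rw [← pow_mul, mul_comm, pow_mul, hζ.pow_eq_one, one_pow]
  have hζ' : IsPrimitiveRoot (res M ζ) m := by
    rw [IsPrimitiveRoot.iff_def]
    refine ⟨by rw [← map_pow, hζ.pow_eq_one, map_one], fun l hl => hζ.dvd_of_pow_eq_one l ?_⟩
    exact res_rootOfUnity_injective hM hm (hζm l) (one_pow m) (by rw [map_pow, hl, map_one])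
  obtain ⟨i, -, hi⟩ := hζ'.eq_pow_of_pow_eq_one hxm
  exact ⟨m, ζ ^ i, hm, hζm i, by rw [map_pow, hi]⟩

omit [M.IsMaximal] in
/-- A `p`-modular maximal ideal exists for every prime. -/
theorem exists_pModular (hp : p.Prime) : ∃ M : Ideal AlgInt, IsPModular p M := by
  have hne : Ideal.span {(p : AlgInt)} ≠ ⊤ := by
    intro h
    rw [Ideal.span_singleton_eq_top, isUnit_iff_exists_inv] at h
    obtain ⟨b, hb⟩ := h
    have hbC : (b : ℂ) = ((p : ℚ)⁻¹ : ℚ) := by
      have h1 := congrArg (fun t : AlgInt => (t : ℂ)) hb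
      push_cast at h1
      push_cast
      exact eq_inv_of_mul_eq_one_right h1
    have hint : IsIntegral ℤ ((p : ℚ)⁻¹) := by
      have := b.2
      rw [mem_integralClosure_iff, hbC] at this
      exact (isIntegral_algebraMap_iff (RingHom.injective (algebraMap ℚ ℂ))).mp this
    obtain ⟨k, hk⟩ := IsIntegrallyClosed.isIntegral_iff.mp hint
    have h2 : (k : ℚ) * p = 1 := by
      rw [show (k : ℚ) = (p : ℚ)⁻¹ from by simpa using hk]
      exact inv_mul_cancel₀ (by exact_mod_cast hp.ne_zero)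
    have h3 : k * (p : ℤ) = 1 := by exact_mod_cast h2
    exact (Nat.prime_iff_prime_int.mp hp).not_isUnit (IsUnit.of_mul_eq_one_right k h3)
  obtain ⟨M, hM, hle⟩ := Ideal.exists_le_maximal _ hne
  exact ⟨M, hp, hM, hle (Ideal.mem_span_singleton_self _)⟩

end CfsgLib.Block
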