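import Cfsg.Agent.Lib.Block.Blocks

/-!
# Block orthogonality for elements with non-conjugate `p`-parts
-/

open Finset MonoidAlgebra
open scoped ComplexConjugate

set_option linter.unusedSectionVars false

namespace CfsgLib.Block

open Cfsg

universe u

variable {p : ℕ} {G : Type u} [Group G]

/-! ### `p`-parts -/

theorem isPPart_conj {g x : G} (h : IsPPart p g x) (c : G) :
    IsPPart p (c * g * c⁻¹) (c * x * c⁻¹) := by
  obtain ⟨y, rfl, hxy, ⟨k, hk⟩, hy⟩ := h
  refine ⟨c * y * c⁻¹, by group, ?_, ⟨k, ?_⟩, ?_⟩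
  · exact hxy.map (MulAut.conj c).toMonoidHom
  · rw [← hk]; exact MulEquiv.orderOf_eq (MulAut.conj c) x
  · rwa [show orderOf (c * y * c⁻¹) = orderOf y from MulEquiv.orderOf_eq (MulAut.conj c) y]

theorem exists_isPPart [Finite G] (hp : p.Prime) (g : G) : ∃ x, IsPPart p g x := by
  set n := orderOf g with hn
  have hn0 : n ≠ 0 := (orderOf_pos g).ne'
  set e := n.factorization p with he
  set m := ordCompl[p] n with hm
  have hsplit : p ^ e * m = n := Nat.ordProj_mul_ordCompl_eq_self n p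
  have hco : (p ^ e).Coprime m := (Nat.coprime_ordCompl hp hn0).pow_left _
  obtain ⟨a, ha1, ha2⟩ := Nat.chineseRemainder hco 1 0
  obtain ⟨b, hb1, hb2⟩ := Nat.chineseRemainder hco 0 1
  have hab : a + b ≡ 1 [MOD n] := by
    rw [← hsplit]
    refine (Nat.modEq_and_modEq_iff_modEq_mul hco).1 ⟨?_, ?_⟩
    · simpa using ha1.add hb1
    · simpa using ha2.add hb2
  have hx : orderOf (g ^ a) ∣ p ^ e := by
    obtain ⟨c, hc⟩ := Nat.modEq_zero_iff_dvd.1 ha2
    refine orderOf_dvd_iff_pow_eq_one.2 ?_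
    rw [← pow_mul, hc, show m * c * p ^ e = p ^ e * m * c by ring, hsplit, pow_mul,
      pow_orderOf_eq_one, one_pow]
  have hy : orderOf (g ^ b) ∣ m := by
    obtain ⟨c, hc⟩ := Nat.modEq_zero_iff_dvd.1 hb1
    refine orderOf_dvd_iff_pow_eq_one.2 ?_
    rw [← pow_mul, hc, show p ^ e * c * m = p ^ e * m * c by ring, hsplit, pow_mul,
      pow_orderOf_eq_one, one_pow]
  refine ⟨g ^ a, g ^ b, ?_, Commute.pow_pow_self g a b, ?_, fun h => ?_⟩
  · rw [← pow_add]
    conv_rhs => rw [← pow_one g]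
    exact pow_eq_pow_iff_modEq.2 hab
  · obtain ⟨k, -, hk⟩ := (Nat.dvd_prime_pow hp).mp hx
    exact ⟨k, hk⟩
  · exact Nat.not_dvd_ordCompl hp hn0 (h.trans hy)

theorem isPPart_unique [Finite G] (hp : p.Prime) {g x x' : G} (h : IsPPart p g x)
    (h' : IsPPart p g x') : x = x' := by
  -- both are the same power of `g`
  have key : ∀ {z : G}, IsPPart p g z → ∀ {N a : ℕ}, orderOf g ∣ N →
      a ≡ 1 [MOD p ^ N.factorization p] → a ≡ 0 [MOD ordCompl[p] N] → N ≠ 0 → g ^ a = z := by
    intro z hz N a hN ha1 ha2 hN0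
    obtain ⟨y, rfl, hzy, ⟨k, hk⟩, hy⟩ := hz
    have hcop : Nat.Coprime (orderOf z) (orderOf y) := by
      rw [hk]; exact (hp.coprime_iff_not_dvd.mpr hy).pow_left _
    have hord : orderOf (z * y) = orderOf z * orderOf y := hzy.orderOf_mul_eq_mul_orderOf_of_coprime hcop
    have hzN : orderOf z ∣ p ^ N.factorization p := by
      rw [hk]
      refine pow_dvd_pow p ((hp.pow_dvd_iff_le_factorization hN0).mp ?_)
      exact hk ▸ ((dvd_mul_right _ _).trans (hord ▸ hN))
    have hyN : orderOf y ∣ ordCompl[p] N := by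
      have h1 : orderOf y ∣ p ^ N.factorization p * ordCompl[p] N := by
        rw [Nat.ordProj_mul_ordCompl_eq_self]; exact (dvd_mul_left _ _).trans (hord ▸ hN)
      exact ((hp.coprime_iff_not_dvd.mpr hy).pow_left _).symm.dvd_of_dvd_mul_left h1
    rw [hzy.mul_pow, pow_eq_pow_iff_modEq.2 (Nat.ModEq.of_dvd hzN ha1 : a ≡ 1 [MOD orderOf z]),
      pow_one, orderOf_dvd_iff_pow_eq_one.1
        (hyN.trans (Nat.modEq_zero_iff_dvd.1 ha2)), mul_one]
  have hn0 : orderOf g ≠ 0 := (orderOf_pos g).ne'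
  obtain ⟨a, ha1, ha2⟩ := Nat.chineseRemainder
    ((Nat.coprime_ordCompl hp hn0).pow_left ((orderOf g).factorization p)) 1 0
  rw [← key h dvd_rfl ha1 ha2 hn0, ← key h' dvd_rfl ha1 ha2 hn0]

theorem isPPart_isConj [Finite G] (hp : p.Prime) {g g' x x' : G} (h : IsPPart p g x)
    (h' : IsPPart p g' x') (hg : IsConj g g') : IsConj x x' := by
  obtain ⟨c, rfl⟩ := isConj_iff.mp hg
  exact isConj_iff.mpr ⟨c, isPPart_unique hp (isPPart_conj h c) h'⟩

theorem isPPart_one_of_not_dvd {g : G} (hg : ¬ p ∣ orderOf g) : IsPPart p g 1 :=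
  ⟨g, one_mul g, Commute.one_left g, ⟨0, by simp⟩, hg⟩

theorem not_dvd_of_isPPart_one {g : G} (h : IsPPart p g 1) : ¬ p ∣ orderOf g := by
  obtain ⟨y, rfl, -, -, hy⟩ := h
  rwa [one_mul]

/-! ### Eigenprojections of elements of order prime to `p` -/

section proj

variable {R A : Type*} [CommRing R] [Ring A] [Algebra R A]

/-- The projection `(1/m) ∑ w^j`. -/
noncomputable def avgPow (r : R) (m : ℕ) (w : A) : A := r • ∑ j ∈ Finset.range m, w ^ j

theorem avgPow_mul_self {r : R} {m : ℕ} (hr : r * m = 1) {w : A} (hw : w ^ m = 1) :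
    avgPow r m w * avgPow r m w = avgPow r m w := by
  have hfix : w * ∑ j ∈ Finset.range m, w ^ j = ∑ j ∈ Finset.range m, w ^ j := by
    have h := geom_sum_succ (x := w) (n := m)
    rw [geom_sum_succ', hw] at h
    exact (add_right_cancel (b := (1 : A)) (by rw [← h, add_comm])).symm
  have hfix' : ∀ k, w ^ k * ∑ j ∈ Finset.range m, w ^ j = ∑ j ∈ Finset.range m, w ^ j := by
    intro k
    induction k with
    | zero => simp
    | succ k ih => rw [pow_succ, mul_assoc, hfix, ih]
  rw [avgPow, smul_mul_smul_comm, Finset.sum_mul, Finset.sum_congr rfl fun k _ => hfix' k,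
    Finset.sum_const, Finset.card_range, ← Nat.cast_smul_eq_nsmul R, smul_smul, mul_assoc, hr,
    mul_one]

theorem sum_smul_avgPow [IsDomain R] {r : R} {m : ℕ} (hr : r * m = 1) {ζ : R}
    (hζ : IsPrimitiveRoot ζ m) {w : A} (hw : w ^ m = 1) :
    ∑ i ∈ Finset.range m, ζ ^ ((m - 1) * i) • avgPow r m (ζ ^ i • w) = w := by
  have hm : m ≠ 0 := by rintro rfl; simp at hr
  have hsum : ∀ j < m, ∑ i ∈ Finset.range m, (ζ ^ (m - 1 + j)) ^ i =
      if j = 1 % m then (m : R) else 0 := by
    intro j hj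
    split_ifs with h
    · have : ζ ^ (m - 1 + j) = 1 := by
        rw [hζ.pow_eq_one_iff_dvd, h]
        rcases Nat.lt_or_ge 1 m with h1 | h1
        · rw [Nat.mod_eq_of_lt h1, Nat.sub_add_cancel h1.le]
        · obtain rfl : m = 1 := by omega
          simp
      simp [this]
    · have hne : ζ ^ (m - 1 + j) ≠ 1 := by
        rw [Ne, hζ.pow_eq_one_iff_dvd]
        intro hd
        apply h
        rcases Nat.lt_or_ge 1 m with h1 | h1
        · rw [Nat.mod_eq_of_lt h1]
          rcases Nat.eq_zero_or_pos j with rfl | hj0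
          · exact absurd (Nat.le_of_dvd (by omega) hd) (by omega)
          · have : m ∣ j - 1 := by
              have := Nat.dvd_sub hd dvd_rfl
              rwa [show m - 1 + j - m = j - 1 by omega] at this
            rcases Nat.eq_zero_or_pos (j - 1) with h2 | h2
            · omega
            · exact absurd (Nat.le_of_dvd h2 this) (by omega)
        · obtain rfl : m = 1 := by omega
          omega
      have hpow : (ζ ^ (m - 1 + j)) ^ m = 1 := by
        rw [← pow_mul, mul_comm, pow_mul, hζ.pow_eq_one, one_pow]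
      have := geom_sum_mul (ζ ^ (m - 1 + j)) m
      rw [hpow, sub_self, mul_eq_zero] at this
      exact this.resolve_right (sub_ne_zero.mpr hne)
  calc ∑ i ∈ Finset.range m, ζ ^ ((m - 1) * i) • avgPow r m (ζ ^ i • w)
      = ∑ j ∈ Finset.range m, (r * ∑ i ∈ Finset.range m, (ζ ^ (m - 1 + j)) ^ i) • w ^ j := by
        simp only [avgPow, Finset.smul_sum, smul_smul, Finset.mul_sum, Finset.sum_smul, smul_pow]
        rw [Finset.sum_comm]
        refine Finset.sum_congr rfl fun j _ => Finset.sum_congr rfl fun i _ => ?_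
        congr 1
        rw [← pow_mul, ← pow_mul, add_mul, pow_add, mul_comm i j]
        ring
    _ = w ^ (1 % m) := by
        rw [Finset.sum_eq_single_of_mem (1 % m) (Finset.mem_range.mpr (Nat.mod_lt _ (Nat.pos_of_ne_zero hm)))]
        · rw [hsum _ (Nat.mod_lt _ (Nat.pos_of_ne_zero hm)), if_pos rfl, hr, one_smul]
        · intro j hj hne
          rw [hsum _ (Finset.mem_range.mp hj), if_neg hne, mul_zero, zero_smul]
    _ = w := by
        conv_rhs => rw [← pow_one w, ← Nat.div_add_mod 1 m, pow_add, pow_mul, hw, one_pow, one_mul]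

theorem Commute.avgPow {r : R} {m : ℕ} {a w : A} (h : Commute a w) :
    Commute a (avgPow r m w) :=
  (Commute.sum_right _ _ _ fun j _ => h.pow_right j).smul_right r

end proj

/-! ### The trace formula -/

variable [Fintype G] [DecidableEq G]

theorem sum_conj_char (χ : IrrCharacter G) (g h : G) :
    ∑ v : G, (χ : G → ℂ) (g * (v * h * v⁻¹)) =
      (Nat.card G : ℂ) * (χ : G → ℂ) g * (χ : G → ℂ) h / (χ : G → ℂ) 1 := by
  obtain ⟨χ, n, ρ, hρ, rfl⟩ := χ
  let z : MonoidAlgebra ℂ G := ∑ v : G, single (v * h * v⁻¹) 1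
  have hz : IsClassElt z := (isClassElt_iff z).mpr fun u => by
    rw [commute_iff_eq]
    simp only [z, Finset.mul_sum, Finset.sum_mul, MonoidAlgebra.single_mul_single, one_mul]
    refine Fintype.sum_equiv (Equiv.mulLeft u) _ _ fun v => ?_
    simp [mul_assoc]
  have hω : omega ρ.character z = (Nat.card G : ℂ) * ρ.character h / ρ.character 1 := by
    rw [omega]
    congr 1
    simp only [z, coeff_sum_apply, Finset.sum_mul]
    rw [Finset.sum_comm, Nat.card_eq_fintype_card, ← nsmul_eq_mul, ← Finset.card_univ,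
      ← Finset.sum_const]
    refine Finset.sum_congr rfl fun v _ => ?_
    rw [Finset.sum_eq_single (v * h * v⁻¹)]
    · simp [Representation.char_conj]
    · intro x _ hx; simp [Finsupp.single_eq_of_ne hx]
    · simp
  have hlhs : ∑ v : G, ρ.character (g * (v * h * v⁻¹)) =
      LinearMap.trace ℂ _ (ρ g * ρ.asAlgebraHom z) := by
    simp only [z, map_sum, Finset.mul_sum, Representation.asAlgebraHom_single_one, ← map_mul]
    rfl
  show ∑ v : G, ρ.character (g * (v * h * v⁻¹)) = _
  rw [hlhs, rho_classElt ρ hz, Algebra.algebraMap_eq_smul_one, mul_smul_comm, mul_one, map_smul,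
    hω, smul_eq_mul]
  show _ * ρ.character g = _
  ring

theorem biTrace_sum_left {R : Type*} [CommRing R] {ι : Type*} (s : Finset ι) (k : ι → R)
    (a : ι → MonoidAlgebra R G) (c : MonoidAlgebra R G) :
    biTrace (∑ i ∈ s, k i • a i) c = ∑ i ∈ s, k i * biTrace (a i) c := by
  simp only [biTrace, Finset.sum_mul, Algebra.smul_mul_assoc, coeff_sum_apply,
    MonoidAlgebra.coeff_smul, Finsupp.smul_apply, smul_eq_mul]
  rw [Finset.sum_comm]
  simp only [Finset.mul_sum]

theorem biTrace_sum_right {R : Type*} [CommRing R] {ι : Type*} (s : Finset ι) (k : ι → R)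
    (a : MonoidAlgebra R G) (c : ι → MonoidAlgebra R G) :
    biTrace a (∑ i ∈ s, k i • c i) = ∑ i ∈ s, k i * biTrace a (c i) := by
  simp only [biTrace, Finset.mul_sum, Algebra.mul_smul_comm, coeff_sum_apply,
    MonoidAlgebra.coeff_smul, Finsupp.smul_apply, smul_eq_mul]
  rw [Finset.sum_comm]

variable {M : Ideal AlgInt} [M.IsMaximal]

theorem coe_biTrace_blockIdem (hM : IsPModular p M) {S : Set (IrrCharacter G)}
    (hS : IsBlockUnion M S) (g h : G) :
    ((biTrace ((blockIdem M S : MonoidAlgebra (locRing M) G) * single g 1) (single h⁻¹ 1) :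
      locRing M) : ℂ) =
      ∑ᶠ χ ∈ S, (χ : G → ℂ) g * (χ : G → ℂ) h⁻¹ := by
  classical
  have := Fintype.ofFinite (IrrCharacter G)
  rw [biTrace]
  have hterm : ∀ v : G, ((blockIdem M S : MonoidAlgebra (locRing M) G) * single g 1 * single v 1 *
      single h⁻¹ 1).coeff v = (blockIdem M S : MonoidAlgebra (locRing M) G).coeff
        (v * h * v⁻¹ * g⁻¹) := fun v => by
    rw [mul_assoc, mul_assoc, MonoidAlgebra.single_mul_single, MonoidAlgebra.single_mul_single,
      one_mul, one_mul, coeff_mul_single', mul_one]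
    congr 1
    group
  simp only [hterm]
  rw [AddSubmonoidClass.coe_finsetSum]
  simp only [coe_coeff_blockIdem hM hS, blockCoeff, finsum_mem_eq_toFinset_sum]
  rw [← Finset.mul_sum, Finset.sum_comm, Finset.mul_sum]
  refine Finset.sum_congr rfl fun χ _ => ?_
  have h1 : ∀ v : G, (χ : G → ℂ) 1 * conj ((χ : G → ℂ) (v * h * v⁻¹ * g⁻¹)) =
      (χ : G → ℂ) 1 * (χ : G → ℂ) (g * (v * h⁻¹ * v⁻¹)) := fun v => by
    rw [← Char.irr_inv]
    congr 2
    group
  simp only [h1]
  rw [← Finset.mul_sum, sum_conj_char]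
  have := Char.irr_one_ne_zero χ
  have hG : (Nat.card G : ℂ) ≠ 0 := Nat.cast_ne_zero.mpr Nat.card_pos.ne'
  field_simp

/-- Block orthogonality: elements with non-conjugate `p`-parts. -/
theorem blockUnion_orthogonal (hM : IsPModular p M) {S : Set (IrrCharacter G)}
    (hS : IsBlockUnion M S) {g h x x' : G} (hx : IsPPart p g x) (hx' : IsPPart p h x')
    (hne : ¬ IsConj x x') : ∑ᶠ χ ∈ S, (χ : G → ℂ) g * (χ : G → ℂ) h⁻¹ = 0 := by
  classical
  have hpf : Fact p.Prime := ⟨hM.1⟩
  have := charP_resField hM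
  have := charZero_locRing M
  obtain ⟨y, hgy, hxy, ⟨k, hk⟩, hy⟩ := hx
  obtain ⟨y', hhy, hxy', ⟨k', hk'⟩, hy'⟩ := hx'
  let m := orderOf y * orderOf y'
  have hm : ¬ p ∣ m := fun h => (hM.1.dvd_mul.mp h).elim hy hy'
  have hm0 : m ≠ 0 := (Nat.mul_pos (orderOf_pos y) (orderOf_pos y')).ne'
  obtain ⟨ζ, hζ⟩ := exists_primitiveRoot_locRing M m hm0
  obtain ⟨η, hη⟩ := exists_primitiveRoot_locRing M (p ^ (k + k')) (pow_ne_zero _ hM.1.ne_zero)
  set e : MonoidAlgebra (locRing M) G :=
    (blockIdem M S : MonoidAlgebra (locRing M) G) with he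
  set r := invNat hM hm with hr
  have hr1 : r * (m : locRing M) = 1 := invNat_mul hM hm
  let w : G → ℕ → MonoidAlgebra (locRing M) G := fun z i => ζ ^ i • single z 1
  have hwpow : ∀ {z : G}, z ^ m = 1 → ∀ i, w z i ^ m = 1 := fun hz i => by
    simp only [w, smul_pow, ← pow_mul, MonoidAlgebra.single_pow, one_pow, hz]
    rw [mul_comm, pow_mul, hζ.pow_eq_one, one_pow, one_smul, MonoidAlgebra.one_def]
  have hym : y ^ m = 1 := orderOf_dvd_iff_pow_eq_one.mp (dvd_mul_right _ _)
  have hym' : y'⁻¹ ^ m = 1 := by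
    rw [inv_pow, orderOf_dvd_iff_pow_eq_one.mp (dvd_mul_left (orderOf y') (orderOf y)), inv_one]
  have hsingle : ∀ {z : G}, z ^ m = 1 → single z (1 : locRing M) =
      ∑ i ∈ Finset.range m, ζ ^ ((m - 1) * i) • avgPow r m (w z i) := fun {z} hz =>
    (sum_smul_avgPow hr1 hζ (w := single z (1 : locRing M)) (by
      simp [MonoidAlgebra.single_pow, hz, MonoidAlgebra.one_def])).symm
  have hec : ∀ b, Commute e b := fun b =>
    (mem_center_iff_isClassElt.mp (blockIdem M S).2).commute b
  have he2 : e * e = e := congrArg Subtype.val (blockIdem_mul_self hM hS)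
  have hcomm : ∀ {z t : G}, Commute z t → ∀ i, Commute (single z (1 : locRing M)) (w t i) :=
    fun hzt i => Commute.smul_right (by
      rw [commute_iff_eq, MonoidAlgebra.single_mul_single, MonoidAlgebra.single_mul_single,
        hzt.eq]) _
  have hpk : x ^ p ^ (k + k') = 1 := by
    rw [pow_add, pow_mul, ← hk, pow_orderOf_eq_one, one_pow]
  have hpk' : x' ^ p ^ (k + k') = 1 := by
    rw [add_comm, pow_add, pow_mul, ← hk', pow_orderOf_eq_one, one_pow]
  have hzero : ∀ i j, biTrace (e * avgPow r m (w y i) * single x 1)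
      (single x'⁻¹ 1 * avgPow r m (w y'⁻¹ j)) = 0 := by
    intro i j
    refine biTrace_eq_zero_of_not_isConj p (res M) hη ?_ (avgPow_mul_self hr1 (hwpow hym' j)) hpk
      hpk' ((hec _).symm.mul_right (Commute.avgPow (hcomm hxy i)))
      (Commute.avgPow (hcomm (hxy'.inv_right) j)) hne
    rw [mul_assoc, ← mul_assoc (avgPow r m (w y i)) e, ← (hec _).eq, ← mul_assoc, ← mul_assoc, he2,
      mul_assoc, avgPow_mul_self hr1 (hwpow hym i)]
  have hg : e * single g (1 : locRing M) =
      ∑ i ∈ Finset.range m, ζ ^ ((m - 1) * i) • (e * avgPow r m (w y i) * single x 1) := by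
    rw [← hgy, hxy.eq, show single (y * x) (1 : locRing M) = single y 1 * single x 1 by
      simp [MonoidAlgebra.single_mul_single], hsingle hym, Finset.sum_mul, Finset.mul_sum]
    refine Finset.sum_congr rfl fun i _ => ?_
    rw [Algebra.smul_mul_assoc, Algebra.mul_smul_comm, mul_assoc]
  have hh : single h⁻¹ (1 : locRing M) =
      ∑ j ∈ Finset.range m, ζ ^ ((m - 1) * j) • (single x'⁻¹ 1 * avgPow r m (w y'⁻¹ j)) := by
    rw [← hhy, hxy'.eq, mul_inv_rev, show single (x'⁻¹ * y'⁻¹) (1 : locRing M) =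
      single x'⁻¹ 1 * single y'⁻¹ 1 by simp [MonoidAlgebra.single_mul_single], hsingle hym',
      Finset.mul_sum]
    exact Finset.sum_congr rfl fun j _ => Algebra.mul_smul_comm _ _ _
  rw [← coe_biTrace_blockIdem hM hS, ← he, hg, hh, biTrace_sum_left]
  simp only [biTrace_sum_right, hzero, mul_zero, Finset.sum_const_zero]
  rfl

theorem blockUnion_orthogonal_conj (hM : IsPModular p M) {S : Set (IrrCharacter G)}
    (hS : IsBlockUnion M S) {g h x x' : G} (hx : IsPPart p g x) (hx' : IsPPart p h x')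
    (hne : ¬ IsConj x x') : ∑ᶠ χ ∈ S, (χ : G → ℂ) g * conj ((χ : G → ℂ) h) = 0 := by
  rw [← blockUnion_orthogonal hM hS hx hx' hne]
  exact finsum_congr fun χ => finsum_congr fun _ => by rw [Char.irr_inv]

/-- Weak block orthogonality. -/
theorem blockUnion_orthogonal_regular_singular (hM : IsPModular p M)
    {S : Set (IrrCharacter G)} (hS : IsBlockUnion M S) {g h : G} (hg : ¬ p ∣ orderOf g)
    (hh : p ∣ orderOf h) : ∑ᶠ χ ∈ S, (χ : G → ℂ) g * conj ((χ : G → ℂ) h) = 0 := by
  obtain ⟨x', hx'⟩ := exists_isPPart hM.1 h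
  refine blockUnion_orthogonal_conj hM hS (isPPart_one_of_not_dvd hg) hx' fun hc => ?_
  rw [isConj_one_right.mp hc] at hx'
  exact not_dvd_of_isPPart_one hx' hh

end CfsgLib.Block
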