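import Cfsg.Agent.Lib.Block.Induced
import Cfsg.Agent.Lib.Block.BrauerFeit
import Cfsg.Prelude.Def_BrauerPairs

/-!
# The principal block

The sum `regBar` of all `p`-regular elements detects the principal block; third main theorem;
Brauer pairs of the principal block.
-/

open Finset MonoidAlgebra
open scoped ComplexConjugate

set_option linter.unusedSectionVars false

namespace CfsgLib.Block

open Cfsg

universe u

variable {p : ℕ} {M : Ideal AlgInt} [M.IsMaximal] {G : Type u} [Group G] [Fintype G] [DecidableEq G]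

theorem regular_conj_iff (p : ℕ) (x c : G) :
    c * x * c⁻¹ ∈ {x : G | ¬ p ∣ orderOf x} ↔ x ∈ {x : G | ¬ p ∣ orderOf x} := by
  simp only [Set.mem_setOf_eq, orderOf_conj_eq]

variable (M) in
/-- The sum of all `p`-regular elements, in the centre over the residue field. -/
noncomputable def regBar (p : ℕ) (G : Type u) [Group G] [Fintype G] [DecidableEq G] : ZK M G :=
  toKC M (setSum M {x : G | ¬ p ∣ orderOf x} (regular_conj_iff p))

theorem coeff_regBar (g : G) :
    (regBar M p G : MonoidAlgebra (ResField M) G).coeff g = if p ∣ orderOf g then 0 else 1 := by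
  classical
  simp only [regBar, coe_toKC, coeff_toK, setSum, coeff_gaOfFun, Set.mem_setOf_eq]
  by_cases h : p ∣ orderOf g <;> simp [h]

theorem omegaBar_regBar_eq_regN [Fintype (IrrCharacter G)] [Fintype (ConjClasses G)]
    (χ : IrrCharacter G) : omegaBar M χ (regBar M p G) = regN p M χ (oneChar G) := by
  classical
  obtain ⟨R, hR, hRres⟩ := exists_regN_lift (p := p) (M := M) χ (oneChar G)
  rw [regBar, omegaBar_toKC, ← hRres, omegaRes, RingHom.comp_apply]
  congr 1
  apply Subtype.ext
  rw [coe_omegaLoc, omega_setSum]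
  apply mul_right_cancel₀ (Char.irr_one_ne_zero χ)
  rw [hR, card_mul_regInner, finsum_mem_eq_toFinset_sum, Finset.sum_mul]
  refine Finset.sum_congr (by ext; simp) fun x _ => ?_
  rw [div_mul_cancel₀ _ (Char.irr_one_ne_zero χ)]
  simp [oneChar]

theorem omegaBar_regBar_eq_zero (hM : IsPModular p M) {χ : IrrCharacter G}
    (hχ : χ ∉ principalBlock M G) : omegaBar M χ (regBar M p G) = 0 := by
  classical
  have := Fintype.ofFinite (IrrCharacter G)
  have := Fintype.ofFinite (ConjClasses G)
  obtain ⟨R, hR, hRres⟩ := exists_regN_lift (p := p) (M := M) χ (oneChar G)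
  rw [regInner_eq_zero_of_not_mem hM (S := blockOf M (χ : G → ℂ))
    (.of_isPBlock (isPBlock_blockOf χ)) (self_mem_blockOf χ) (fun h => hχ (sameBlock_symm h)),
    mul_zero, mul_eq_zero_iff_right (Char.irr_one_ne_zero χ)] at hR
  rw [omegaBar_regBar_eq_regN, ← hRres, show R = 0 from Subtype.ext hR, map_zero]

theorem omegaBar_regBar_ne_zero (hM : IsPModular p M) {χ : IrrCharacter G}
    (hχ : χ ∈ principalBlock M G) : omegaBar M χ (regBar M p G) ≠ 0 := by
  classical
  have := Fintype.ofFinite (IrrCharacter G)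
  have := Fintype.ofFinite (ConjClasses G)
  rw [omegaBar_regBar_eq_regN, regN_ne_zero_iff hM isPBlock_principalBlock hχ one_mem_principalBlock]
  intro θ _
  simp [degVal, charDegree, oneChar]

/-- The principal block is the only one not killing the sum of the regular elements. -/
theorem mem_principalBlock_iff (hM : IsPModular p M) {χ : IrrCharacter G} :
    χ ∈ principalBlock M G ↔ omegaBar M χ (regBar M p G) ≠ 0 :=
  ⟨omegaBar_regBar_ne_zero hM, fun h => by_contra fun hχ => h (omegaBar_regBar_eq_zero hM hχ)⟩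

theorem isPBlock_eq_principalBlock_iff (hM : IsPModular p M) {B : Set (IrrCharacter G)}
    (hB : IsPBlock M B) {χ : IrrCharacter G} (hχ : χ ∈ B) :
    B = principalBlock M G ↔ omegaBar M χ (regBar M p G) ≠ 0 :=
  ⟨fun e => omegaBar_regBar_ne_zero hM (e ▸ hχ), fun h =>
    isPBlock_eq_of_mem hB isPBlock_principalBlock hχ ((mem_principalBlock_iff hM).mpr h)⟩

variable {H : Subgroup G} [Fintype H]

theorem resHK_regBar : resHK M H (regBar M p G) = regBar M p H :=
  Subtype.ext (ga_ext fun h => by simp [coeff_resHK, coeff_regBar, Subgroup.orderOf_coe])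

/-- The third main theorem. -/
theorem isInducedBlock_principal_iff (hM : IsPModular p M) {b : Set (IrrCharacter H)}
    {B : Set (IrrCharacter G)} (h : IsInducedBlock M H b B) :
    B = principalBlock M G ↔ b = principalBlock M H := by
  classical
  obtain ⟨hb, hB, hω⟩ := isInducedBlock_iff.mp h
  obtain ⟨ξ, hξ⟩ := isPBlock_nonempty hb
  obtain ⟨χ, hχ⟩ := isPBlock_nonempty hB
  rw [isPBlock_eq_principalBlock_iff hM hB hχ, isPBlock_eq_principalBlock_iff hM hb hξ,
    ← hω ξ hξ χ hχ, resHK_regBar]

/-! ### Brauer pairs -/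

variable {Q : Subgroup G}

theorem centralizer_le_normalizer' (Q : Subgroup G) :
    Subgroup.centralizer (Q : Set G) ≤ Subgroup.normalizer (Q : Set G) := by
  intro c hc
  rw [Subgroup.mem_normalizer_iff]
  intro u
  rw [Subgroup.mem_centralizer_iff] at hc
  constructor
  · intro hu
    rwa [← hc u hu, mul_assoc, mul_inv_cancel, mul_one]
  · intro hu
    have h := hc _ hu
    have h1 : u = c * u * c⁻¹ :=
      calc u = c⁻¹ * ((c * u * c⁻¹) * c) := by group
        _ = c⁻¹ * (c * (c * u * c⁻¹)) := by rw [h]
        _ = c * u * c⁻¹ := by group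
    rwa [h1]

variable (M) in
/-- The Brauer homomorphism at `Q` into the centre for `C(Q)`. -/
noncomputable def brC (hM : IsPModular p M) (hQ : IsPGroup p Q)
    [Fintype (Subgroup.centralizer (Q : Set G))] :
    ZK M G →+* ZK M (Subgroup.centralizer (Q : Set G)) :=
  brMap M hM hQ le_rfl (centralizer_le_normalizer' Q)

theorem coeff_brC (hM : IsPModular p M) (hQ : IsPGroup p Q)
    [Fintype (Subgroup.centralizer (Q : Set G))] (z : ZK M G)
    (h : Subgroup.centralizer (Q : Set G)) :
    ((brC M hM hQ z : ZK M (Subgroup.centralizer (Q : Set G))) :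
      MonoidAlgebra (ResField M) (Subgroup.centralizer (Q : Set G))).coeff h =
      (z : MonoidAlgebra (ResField M) G).coeff (h : G) := by
  classical
  rw [brC, coeff_brMap, if_pos h.2]

theorem brC_regBar (hM : IsPModular p M) (hQ : IsPGroup p Q)
    [Fintype (Subgroup.centralizer (Q : Set G))] :
    brC M hM hQ (regBar M p G) = regBar M p (Subgroup.centralizer (Q : Set G)) :=
  Subtype.ext (ga_ext fun h => by simp [coeff_brC, coeff_regBar, Subgroup.orderOf_coe])

theorem brC_algebraMap (hM : IsPModular p M) (hQ : IsPGroup p Q)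
    [Fintype (Subgroup.centralizer (Q : Set G))] (c : ResField M) :
    brC M hM hQ (algebraMap (ResField M) _ c) = algebraMap (ResField M) _ c :=
  brMap_algebraMap hM hQ _ _ c

theorem brauerOmega_congr_iff (hM : IsPModular p M) (hQ : IsPGroup p Q)
    [Fintype (Subgroup.centralizer (Q : Set G))] {S : Set (IrrCharacter G)}
    (hS : IsBlockUnion M S) (ξ : IrrCharacter (Subgroup.centralizer (Q : Set G))) :
    MemLocalIdeal M (brauerOmega Q (blockCoeff S)
        (ξ : Subgroup.centralizer (Q : Set G) → ℂ) - 1) ↔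
      omegaBar M ξ (brC M hM hQ (blockBar M S)) = 1 := by
  classical
  have he : brC M hM hQ (blockBar M S) =
      toKC M (resHL M (Subgroup.centralizer (Q : Set G)) (blockIdem M S)) :=
    Subtype.ext (ga_ext fun h => by simp [coeff_brC, resHL, blockBar])
  rw [he, omegaBar_toKC, omegaRes, RingHom.comp_apply, ← map_one (res M), ← memLocalIdeal_sub_iff,
    coe_omegaLoc, OneMemClass.coe_one]
  have : omega (ξ : Subgroup.centralizer (Q : Set G) → ℂ) (toC M
      (resHL M (Subgroup.centralizer (Q : Set G)) (blockIdem M S) :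
        MonoidAlgebra (locRing M) (Subgroup.centralizer (Q : Set G)))) =
      brauerOmega Q (blockCoeff S) (ξ : Subgroup.centralizer (Q : Set G) → ℂ) := by
    rw [brauerOmega, finsum_eq_sum_of_fintype, omega, Finset.sum_div]
    exact Finset.sum_congr rfl fun x _ => by simp [resHL, coe_coeff_blockIdem hM hS]
  rw [this]

/-- `(Q, e)` is a Brauer pair of `B` exactly when the functional of `e` composed with the Brauer
homomorphism is the reduced central character of `B`. -/
theorem isBrauerPairOf_iff (hM : IsPModular p M) (hQ : IsPGroup p Q)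
    [Fintype (Subgroup.centralizer (Q : Set G))]
    {e : Set (IrrCharacter (Subgroup.centralizer (Q : Set G)))} {B : Set (IrrCharacter G)}
    (he : IsPBlock M e) (hB : IsPBlock M B) :
    IsBrauerPairOf p M B Q e ↔
      ∀ ξ ∈ e, ∀ χ ∈ B, ∀ z, omegaBar M ξ (brC M hM hQ z) = omegaBar M χ z := by
  classical
  have hS := IsBlockUnion.of_isPBlock hB
  constructor
  · rintro ⟨-, -, h⟩ ξ hξ χ hχ z
    have h1 := (brauerOmega_congr_iff hM hQ hS ξ).mp (h ξ hξ)
    obtain ⟨χ', hχ'⟩ := exists_omegaBar_eq hM ((omegaBar M ξ).comp (brC M hM hQ)) fun c => by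
      rw [RingHom.comp_apply, brC_algebraMap, omegaBar_algebraMap]
    have h2 : omegaBar M χ' (blockBar M B) = 1 := by rw [← hχ']; exact h1
    rw [omegaBar_blockBar hM hS] at h2
    split_ifs at h2 with hmem
    · rw [omegaBar_eq_of_mem hB hχ hmem, ← hχ']; rfl
    · exact absurd h2 zero_ne_one
  · intro h
    refine ⟨⟨hQ, he⟩, hB, fun ξ hξ => (brauerOmega_congr_iff hM hQ hS ξ).mpr ?_⟩
    obtain ⟨χ, hχ⟩ := isPBlock_nonempty hB
    rw [h ξ hξ χ hχ, omegaBar_blockBar hM hS, if_pos hχ]

/-- Brauer pairs of the principal block are principal. -/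
theorem isBrauerPairOf_principal_iff (hM : IsPModular p M) (hQ : IsPGroup p Q)
    [Fintype (Subgroup.centralizer (Q : Set G))]
    {e : Set (IrrCharacter (Subgroup.centralizer (Q : Set G)))} (he : IsPBlock M e) :
    IsBrauerPairOf p M (principalBlock M G) Q e ↔
      e = principalBlock M (Subgroup.centralizer (Q : Set G)) := by
  classical
  obtain ⟨ξ₀, hξ₀⟩ := isPBlock_nonempty he
  rw [isBrauerPairOf_iff hM hQ he isPBlock_principalBlock, isPBlock_eq_principalBlock_iff hM he hξ₀]
  constructor
  · intro h
    rw [← brC_regBar (G := G) hM hQ, h ξ₀ hξ₀ (oneChar G) one_mem_principalBlock]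
    exact omegaBar_regBar_ne_zero hM one_mem_principalBlock
  · intro h ξ hξ χ hχ z
    rw [← omegaBar_eq_of_mem he hξ₀ hξ]
    obtain ⟨χ', hχ'⟩ := exists_omegaBar_eq hM ((omegaBar M ξ₀).comp (brC M hM hQ)) fun c => by
      rw [RingHom.comp_apply, brC_algebraMap, omegaBar_algebraMap]
    have hmem : χ' ∈ principalBlock M G := by
      rw [mem_principalBlock_iff hM, ← hχ', RingHom.comp_apply, brC_regBar]
      exact h
    rw [omegaBar_eq_of_mem isPBlock_principalBlock hχ hmem, ← hχ']
    rfl

end CfsgLib.Block
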