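import Cfsg.Agent.Lib.Block.AbelianFreeInvolution
import Cfsg.Agent.Lib.Block.FreeInertial.FourTorsion
import Cfsg.Agent.Lib.Fusion.Transfer
import Cfsg.Agent.Lib.Coprime.Core

/-!
# Abelian Sylow two-subgroups with three involutions

Brauer's theorem: if `P` is an abelian Sylow `2`-subgroup with three involutions and of order more
than four, and there is no non-trivial normal subgroup of odd order, then `P` is normal,
self-centralizing and of index one or three.
-/

set_option autoImplicit false
set_option linter.unusedSectionVars false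

namespace CfsgLib.Block.HomocyclicTwo

open Cfsg CfsgLib CfsgLib.Block

universe u

variable {G : Type u} [Group G] [Finite G]

/-- A subnormal subgroup of odd order is trivial when there is no normal one. -/
theorem subnormal_odd_eq_bot (hO : ∀ N : Subgroup G, N.Normal → Odd (Nat.card N) → N = ⊥)
    {K : Subgroup G} (hK : K.IsSubnormal) (hodd : Odd (Nat.card K)) : K = ⊥ := by
  have h := Coprime.le_pPrimeCore_of_isSubnormal Nat.prime_two hK (Nat.coprime_two_right.mpr hodd)
  have hn : (Cfsg.pPrimeCore 2 G).Normal := by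
    rw [Coprime.pPrimeCore_eq_piCore Nat.prime_two]; infer_instance
  rw [hO _ hn (Nat.coprime_two_right.mp (Coprime.pPrimeCore_coprime Nat.prime_two))] at h
  exact le_bot_iff.mp h

/-- A normal subgroup containing `P`, in which the normalizer of `P` centralizes it, is `P`. -/
theorem eq_sylow_of_central (hO : ∀ N : Subgroup G, N.Normal → Odd (Nat.card N) → N = ⊥)
    (P : Sylow 2 G) (C : Subgroup G) [hC : C.Normal] (hPC : (P : Subgroup G) ≤ C)
    (hcen : C ⊓ Subgroup.normalizer ((P : Subgroup G) : Set G) ≤ Subgroup.centralizer ((P : Subgroup G) : Set G)) :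
    C = P := by
  have hcp : Cfsg.HasNormalPComplement 2 C := by
    refine Fusion.hasNormalPComplement_of_normalizer_le_centralizer (P.subtype hPC) fun x hx => ?_
    rw [Sylow.coe_subtype, ← Subgroup.subgroupOf_normalizer_eq hPC, Subgroup.mem_subgroupOf] at hx
    have h := hcen ⟨x.2, hx⟩
    rw [Subgroup.mem_centralizer_iff] at h ⊢
    exact fun y hy => Subtype.ext (h y hy)
  obtain ⟨Q, K, hKn, hKQ⟩ := hcp
  have hK : K.map C.subtype = ⊥ := by
    refine subnormal_odd_eq_bot hO ?_ ?_
    · refine Subgroup.IsSubnormal.step _ C (Subgroup.map_subtype_le K) hC.isSubnormal ?_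
      rw [Subgroup.subgroupOf, Subgroup.comap_map_eq_self_of_injective C.subtype_injective]
      exact hKn
    · rw [Subgroup.card_map_of_injective C.subtype_injective, ← hKQ.index_eq_card, ← Nat.not_even_iff_odd,
        even_iff_two_dvd]
      exact Q.not_dvd_index
  have hK' : K = ⊥ := (Subgroup.map_eq_bot_iff_of_injective K C.subtype_injective).mp hK
  rw [hK', Subgroup.isComplement'_bot_left] at hKQ
  refine (Subgroup.eq_of_le_of_card_ge hPC ?_).symm
  rw [← Nat.card_congr (Subgroup.subgroupOfEquivOfLe hPC).toEquiv, ← Sylow.coe_subtype (h := hPC),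
    (P.subtype hPC).card_eq_multiplicity, ← Q.card_eq_multiplicity, hKQ, Subgroup.card_top]

/-- Brauer's theorem on abelian Sylow two-subgroups with three involutions. -/
theorem normal_of_fourTorsion : ∀ (G : Type u) [Group G] [Finite G] (P : Sylow 2 G),
    (∀ a ∈ (P : Subgroup G), ∀ b ∈ (P : Subgroup G), a * b = b * a) →
    Nat.card {x : (P : Subgroup G) // x ^ 2 = 1} = 4 → 4 < Nat.card P →
    (∀ N : Subgroup G, N.Normal → Odd (Nat.card N) → N = ⊥) →
    (P : Subgroup G).Normal ∧ Subgroup.centralizer ((P : Subgroup G) : Set G) = P ∧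
      ((P : Subgroup G).index = 1 ∨ (P : Subgroup G).index = 3) := by
  intro G _ _
  induction hn : Nat.card G using Nat.strong_induction_on generalizing G with
  | _ k ih =>
  subst hn
  intro P hab h4 hbig hO
  classical
  letI cg : CommGroup (P : Subgroup G) :=
    { (inferInstance : Group (P : Subgroup G)) with mul_comm := fun a b => Subtype.ext (hab a a.2 b b.2) }
  have hle : (P : Subgroup G) ≤ Subgroup.normalizer ((P : Subgroup G) : Set G) := Subgroup.le_normalizer
  have hPC : (P : Subgroup G) ≤ Subgroup.centralizer ((P : Subgroup G) : Set G) := fun a ha =>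
    Subgroup.mem_centralizer_iff.mpr fun b hb => hab b hb a ha
  set f := (P : Subgroup G).normalizerMonoidHom with hf
  have hrel : (Subgroup.centralizer ((P : Subgroup G) : Set G)).relIndex
      (Subgroup.normalizer ((P : Subgroup G) : Set G)) = Nat.card f.range := by
    rw [← Subgroup.index_ker, hf, Subgroup.normalizerMonoidHom_ker]
    rfl
  have hodd : ¬ 2 ∣ Nat.card f.range := fun h => P.not_dvd_index (by
    have h1 : (Subgroup.centralizer ((P : Subgroup G) : Set G)).relIndex
        (Subgroup.normalizer ((P : Subgroup G) : Set G)) ∣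
        (P : Subgroup G).relIndex (Subgroup.normalizer ((P : Subgroup G) : Set G)) :=
      Subgroup.relIndex_dvd_of_le_left _ hPC
    exact (hrel ▸ h).trans (h1.trans (Subgroup.relIndex_mul_index hle ▸ dvd_mul_right _ _)))
  obtain ⟨hfree, hcard⟩ := FreeInertial.odd_auts P.2 h4 f.range hodd
  have hfixC : ∀ n : Subgroup.normalizer ((P : Subgroup G) : Set G), f n = 1 →
      (n : G) ∈ Subgroup.centralizer ((P : Subgroup G) : Set G) := fun n h => by
    have h' : n ∈ f.ker := h
    rw [hf, Subgroup.normalizerMonoidHom_ker] at h'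
    exact h'
  have hval : ∀ (n : Subgroup.normalizer ((P : Subgroup G) : Set G)) (x : (P : Subgroup G)),
      ((f n x : (P : Subgroup G)) : G) = n * x * (n : G)⁻¹ := fun n x => rfl
  have hfix : ∀ (n : Subgroup.normalizer ((P : Subgroup G) : Set G)) (y : G), y ∈ (P : Subgroup G) → y ≠ 1 →
      (n : G) * y = y * n → (n : G) ∈ Subgroup.centralizer ((P : Subgroup G) : Set G) := by
    intro n y hy hy1 hcomm
    refine hfixC n (hfree _ ⟨n, rfl⟩ ⟨y, hy⟩ (fun e => hy1 (congrArg Subtype.val e)) (Subtype.ext ?_))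
    rw [hval, hcomm, mul_inv_cancel_right]
  -- once some non-trivial normal subgroup lies in `P`, all is done
  have hfinish : ∀ Q : Subgroup G, Q.Normal → Q ≤ (P : Subgroup G) → Q ≠ ⊥ →
      (P : Subgroup G).Normal := by
    intro Q hQ hQP hQ1
    obtain ⟨y, hy, hy1⟩ : ∃ y ∈ Q, y ≠ 1 := by
      by_contra hne
      push Not at hne
      exact hQ1 ((Subgroup.eq_bot_iff_forall Q).mpr hne)
    have hC : (Subgroup.centralizer (Q : Set G)).Normal := Subgroup.normal_centralizer
    have e := eq_sylow_of_central hO P (Subgroup.centralizer (Q : Set G))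
      (hPC.trans (Subgroup.centralizer_le hQP)) fun n hn =>
        hfix ⟨n, hn.2⟩ y (hQP hy) hy1 (Subgroup.mem_centralizer_iff.mp hn.1 y hy).symm
    exact e ▸ hC
  have hnormal : (P : Subgroup G).Normal := by
    rcases hcard with h1 | h3
    · have hNC : Subgroup.normalizer ((P : Subgroup G) : Set G) ≤
          Subgroup.centralizer ((P : Subgroup G) : Set G) := Subgroup.relIndex_eq_one.mp (hrel.trans h1)
      have e := eq_sylow_of_central hO P ⊤ le_top (inf_le_right.trans hNC)
      rw [← e]; infer_instance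
    have hP1 : Nat.card P ≠ 1 := by omega
    obtain ⟨M, hM⟩ := exists_pModular Nat.prime_two
    have := hM.2.1
    have := Fintype.ofFinite G
    have := Fintype.ofFinite ↥(P : Subgroup G)
    have := Fintype.ofFinite (IrrCharacter G)
    have : Finite (AbelianFree.Lin P) := Finite.of_injective _ (AbelianFree.lc_injective (P := P))
    have := Fintype.ofFinite (AbelianFree.Lin P)
    have hF : AbelianFree.Free P := by
      refine ⟨⟨⟨fun a b => Subtype.ext (hab a a.2 b b.2)⟩⟩, fun y hy hy1 => le_antisymm (fun n hn => ?_) fun n hn => ?_⟩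
      · exact hfix ⟨n, hn.2⟩ y hy hy1 (Subgroup.mem_centralizer_singleton_iff.mp hn.1)
      · exact ⟨Subgroup.mem_centralizer_singleton_iff.mpr (Subgroup.mem_centralizer_iff.mp hn y hy).symm,
          Subgroup.centralizer_le_normalizer _ hn⟩
    have h3' : (AbelianFree.cen P).relIndex (AbelianFree.nor P) = 3 := hrel.trans h3
    obtain ⟨E, h0, hX, hb⟩ := hF.exists_shape_three hM h3' (by omega)
    obtain ⟨t, ht⟩ := exists_prime_orderOf_dvd_card' (G := (P : Subgroup G)) 2 (by
      obtain ⟨a, ha⟩ := P.2.exists_card_eq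
      rw [ha]
      exact dvd_pow_self 2 fun e => hP1 (by rw [ha, e, pow_zero]))
    have htG : orderOf (t : G) = 2 := (Subgroup.orderOf_coe t).trans ht
    obtain ⟨K, hKn, htK, hKne⟩ : ∃ K : Subgroup G, K.Normal ∧ (t : G) ∈ K ∧ K ≠ ⊤ := by
      by_contra hne
      push Not at hne
      exact E.involution_two_false hF hM h3' (by omega) h0 hX hb rfl htG hne
    obtain ⟨g, hg⟩ : ∃ g : Subgroup.normalizer ((P : Subgroup G) : Set G), f g ≠ 1 := by
      by_contra hne
      push Not at hne
      have h1 : f.range = ⊥ := by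
        rw [eq_bot_iff]
        rintro _ ⟨g, rfl⟩
        exact Subgroup.mem_bot.mpr (hne g)
      rw [h1, Subgroup.card_bot] at h3
      omega
    by_cases htop : K ⊔ (P : Subgroup G) = ⊤
    · -- an element of order three mod the centralizer would lie in `K`, and `P ≤ K`
      exfalso
      have hq : ∀ x : G ⧸ K, ∃ a : ℕ, x ^ 2 ^ a = 1 := by
        intro x
        obtain ⟨x, rfl⟩ := QuotientGroup.mk_surjective x
        obtain ⟨k, hk, u, hu, rfl⟩ := Subgroup.mem_sup_of_normal_left.mp (htop ▸ Subgroup.mem_top x)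
        obtain ⟨a, ha⟩ := P.2 ⟨u, hu⟩
        refine ⟨a, ?_⟩
        rw [QuotientGroup.mk_mul, (QuotientGroup.eq_one_iff k).mpr hk, one_mul, ← QuotientGroup.mk_pow,
          show u ^ 2 ^ a = 1 from congrArg Subtype.val ha, QuotientGroup.mk_one]
      obtain ⟨a, ha⟩ := hq ((g : G) : G ⧸ K)
      rw [← QuotientGroup.mk_pow, QuotientGroup.eq_one_iff] at ha
      have hga : f (g ^ 2 ^ a) ≠ 1 := by
        rw [map_pow]
        intro h
        refine hg (orderOf_eq_one_iff.mp (Nat.eq_one_of_dvd_coprimes ?_ (orderOf_dvd_of_pow_eq_one h)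
          ((f.range.orderOf_dvd_natCard ⟨g, rfl⟩).trans (dvd_of_eq h3))))
        exact Nat.Coprime.pow_left a (by norm_num)
      refine hKne ?_
      rw [← htop, eq_comm, sup_eq_left]
      intro z hz
      let φ : ↥(P : Subgroup G) → ↥(P : Subgroup G) := fun x => x⁻¹ * f (g ^ 2 ^ a) x
      have hinj : Function.Injective φ := by
        intro x y hxy
        by_contra hne
        refine hga (hfree _ ⟨_, rfl⟩ (y * x⁻¹) (fun e => hne (mul_inv_eq_one.mp e).symm) ?_)
        have h1 : f (g ^ 2 ^ a) x = x * (y⁻¹ * f (g ^ 2 ^ a) y) := by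
          rw [show y⁻¹ * f (g ^ 2 ^ a) y = x⁻¹ * f (g ^ 2 ^ a) x from hxy.symm, mul_inv_cancel_left]
        rw [map_mul, map_inv, h1, mul_inv_rev, mul_inv_rev, inv_inv, ← mul_assoc, ← mul_assoc,
          mul_inv_cancel, one_mul]
      obtain ⟨x, hx⟩ := Finite.surjective_of_injective hinj ⟨z, hz⟩
      have e : z = (x : G)⁻¹ * ((g : G) ^ 2 ^ a) * x * ((g : G) ^ 2 ^ a)⁻¹ := by
        rw [show z = ((φ x : (P : Subgroup G)) : G) from congrArg Subtype.val hx.symm]
        simp only [φ, Subgroup.coe_mul, Subgroup.coe_inv, hval, SubmonoidClass.coe_pow, mul_assoc]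
      rw [e]
      refine mul_mem ?_ (inv_mem ha)
      have h := hKn.conj_mem _ ha (x : G)⁻¹
      rwa [inv_inv] at h
    -- otherwise `P ⊓ K` is normal by induction
    let H : Subgroup G := K ⊔ (P : Subgroup G)
    have hPH : (P : Subgroup G) ≤ H := le_sup_right
    have hOH : ∀ N : Subgroup H, N.Normal → Odd (Nat.card N) → N = ⊥ := by
      intro N hN hNodd
      have hNK : N.map H.subtype ≤ K := by
        rintro _ ⟨x, hx, rfl⟩
        obtain ⟨k, hk, u, hu, e⟩ := Subgroup.mem_sup_of_normal_left.mp x.2
        obtain ⟨a, ha⟩ := P.2 ⟨u, hu⟩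
        show (x : G) ∈ K
        rw [← QuotientGroup.eq_one_iff, ← orderOf_eq_one_iff]
        refine Nat.eq_one_of_dvd_coprimes (a := orderOf (⟨x, hx⟩ : N)) (b := 2 ^ a) ?_ ?_ ?_
        · refine Nat.Coprime.pow_right a (Nat.coprime_two_right.mpr ?_)
          exact hNodd.of_dvd_nat (orderOf_dvd_natCard _)
        · refine orderOf_dvd_of_pow_eq_one ?_
          rw [← QuotientGroup.mk_pow]
          have h := congrArg (fun y : N => ((y : H) : G)) (pow_orderOf_eq_one (⟨x, hx⟩ : N))
          simp only [SubmonoidClass.coe_pow, OneMemClass.coe_one] at h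
          rw [h, QuotientGroup.mk_one]
        · refine orderOf_dvd_of_pow_eq_one ?_
          rw [← e, QuotientGroup.mk_mul, (QuotientGroup.eq_one_iff k).mpr hk, one_mul, ← QuotientGroup.mk_pow,
            show u ^ 2 ^ a = 1 from congrArg Subtype.val ha, QuotientGroup.mk_one]
      have hsn : (N.map H.subtype).IsSubnormal := by
        refine Subgroup.IsSubnormal.step _ K hNK hKn.isSubnormal ⟨fun y hy k => ?_⟩
        obtain ⟨x, hx, hxy⟩ := hy
        exact ⟨⟨k, Subgroup.mem_sup_left k.2⟩ * x * ⟨k, Subgroup.mem_sup_left k.2⟩⁻¹, hN.conj_mem x hx _,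
          by simp [show (x : G) = (y : G) from hxy]⟩
      refine (Subgroup.map_eq_bot_iff_of_injective N H.subtype_injective).mp (subnormal_odd_eq_bot hO hsn ?_)
      rwa [Subgroup.card_map_of_injective H.subtype_injective]
    have hcardH : Nat.card H < Nat.card G :=
      lt_of_le_of_ne H.card_le_card_group fun e => htop (Subgroup.eq_top_of_card_eq _ e)
    let ePH : (P.subtype hPH : Subgroup H) ≃* (P : Subgroup G) := Subgroup.subgroupOfEquivOfLe hPH
    obtain ⟨hPn, -, -⟩ := ih _ hcardH H rfl (P.subtype hPH)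
      (fun a ha b hb => Subtype.ext (hab a ha b hb))
      (by
        rw [← h4]
        exact Nat.card_congr (ePH.toEquiv.subtypeEquiv fun x => by
          rw [MulEquiv.toEquiv_eq_coe, MulEquiv.coe_toEquiv, ← map_pow, MulEquiv.map_eq_one_iff]))
      (by rw [Nat.card_congr ePH.toEquiv]; exact hbig) hOH
    refine hfinish ((P : Subgroup G) ⊓ K) ?_ inf_le_left fun e => ?_
    · refine ⟨fun q hq c => ⟨?_, hKn.conj_mem q hq.2 c⟩⟩
      -- a conjugate of `P ⊓ K` is a two-group inside `H`
      let R : Subgroup H := (((P : Subgroup G) ⊓ K).map (MulAut.conj c).toMonoidHom).subgroupOf H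
      have hR : IsPGroup 2 R := by
        have h1 : IsPGroup 2 ↥(((P : Subgroup G) ⊓ K).map (MulAut.conj c).toMonoidHom) :=
          (P.2.to_le inf_le_left).map _
        exact h1.comap_of_injective H.subtype H.subtype_injective
      obtain ⟨S, hS⟩ := hR.exists_le_sylow
      have hu := Sylow.unique_of_normal (P.subtype hPH) hPn
      have hSP : S = P.subtype hPH := @Subsingleton.elim _ (@Unique.instSubsingleton _ hu) _ _
      have hmem : (⟨c * q * c⁻¹, Subgroup.mem_sup_left (hKn.conj_mem q hq.2 c)⟩ : H) ∈ R :=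
        ⟨q, hq, rfl⟩
      exact (hSP ▸ hS hmem : _)
    · have h : (t : G) ∈ (⊥ : Subgroup G) := e ▸ ⟨t.2, htK⟩
      rw [Subgroup.mem_bot] at h
      rw [h, orderOf_one] at htG
      omega
  refine ⟨hnormal, eq_sylow_of_central hO P _ hPC inf_le_left, ?_⟩
  have h := hcard
  rw [← hrel, eq_sylow_of_central hO P (Subgroup.centralizer ((P : Subgroup G) : Set G)) hPC inf_le_left,
    Subgroup.normalizer_eq_top_iff.mpr hnormal, Subgroup.relIndex_top_right] at h
  exact h

end CfsgLib.Block.HomocyclicTwo
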