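import Cfsg.Agent.Lib.Block.AbelianFreeShape
import Cfsg.Agent.Lib.Char.ClassMul
import Cfsg.Agent.S0925
import Cfsg.Agent.Lib.Char.Integrality

/-!
# Inertial index three: signs, and degrees against an involution
-/

set_option autoImplicit false
set_option linter.unusedSectionVars false

namespace CfsgLib.Block.AbelianFree

open scoped ComplexConjugate
open Cfsg CfsgLib.Char CfsgLib.Block

universe u

theorem isSquare_core {xi xj xk : ℕ} {Ti Tj Tk : ℤ} (hj0 : xj ≠ 0) (hk0 : xk ≠ 0) (hi0 : xi ≠ 0)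
    (hne : Ti ≠ xi) (h1 : (1 : ℤ) + xi = xj + xk) (h2 : 1 + Ti = Tj + Tk)
    (h3 : (1 : ℚ) + (Ti : ℚ) ^ 2 / xi = (Tj : ℚ) ^ 2 / xj + (Tk : ℚ) ^ 2 / xk) :
    IsSquare (xi * xj * xk) := by
  have h3' : Ti ^ 2 * xj * xk + xi * xj * xk = Tj ^ 2 * xi * xk + Tk ^ 2 * xi * xj := by
    have h3'' : ((Ti ^ 2 * xj * xk + xi * xj * xk : ℤ) : ℚ) = ((Tj ^ 2 * xi * xk + Tk ^ 2 * xi * xj : ℤ) : ℚ) := by
      push_cast
      field_simp at h3
      linear_combination h3
    exact_mod_cast h3''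
  have hk : (xk : ℤ) = 1 + xi - xj := by linarith
  have hTk : Tk = 1 + Ti - Tj := by linarith
  have key : ((xi * xj * xk : ℕ) : ℤ) * (Ti - xi) ^ 2 = ((xi : ℤ) * (xj * Tk - xk * Tj)) ^ 2 := by
    push_cast
    rw [hk, hTk] at h3' ⊢
    linear_combination ((xi : ℤ) * (1 + xi)) * h3'
  obtain ⟨s, hs⟩ : Ti - (xi : ℤ) ∣ (xi : ℤ) * (xj * Tk - xk * Tj) :=
    (Int.pow_dvd_pow_iff two_ne_zero).mp ⟨((xi * xj * xk : ℕ) : ℤ), by rw [← key]; ring⟩
  rw [hs, mul_pow, mul_comm ((Ti - (xi : ℤ)) ^ 2)] at key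
  have e := mul_right_cancel₀ (pow_ne_zero 2 (sub_ne_zero.mpr hne)) key
  refine ⟨s.natAbs, ?_⟩
  have e' := congrArg Int.natAbs e
  rwa [Int.natAbs_natCast, Int.natAbs_pow, sq] at e'

/-- Four weighted degrees: exactly two negative signs, and the product is a square. -/
theorem two_neg {x y z : ℕ} {X Y Z : ℤ} {a b c : ℤ} (hx : x ≠ 0) (hy : y ≠ 0) (hz : z ≠ 0)
    (hX : X ≠ x) (hY : Y ≠ y) (hZ : Z ≠ z)
    (ha : a = 1 ∨ a = -1) (hb : b = 1 ∨ b = -1) (hc : c = 1 ∨ c = -1)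
    (h1 : (1 : ℤ) + a * x + b * y + c * z = 0) (h2 : 1 + a * X + b * Y + c * Z = 0)
    (h3 : (1 : ℚ) + a * ((X : ℚ) ^ 2 / x) + b * ((Y : ℚ) ^ 2 / y) + c * ((Z : ℚ) ^ 2 / z) = 0) :
    a + b + c = -1 ∧ IsSquare (x * y * z) := by
  have hxq : (0 : ℚ) < x := by exact_mod_cast Nat.pos_of_ne_zero hx
  have hyq : (0 : ℚ) < y := by exact_mod_cast Nat.pos_of_ne_zero hy
  have hzq : (0 : ℚ) < z := by exact_mod_cast Nat.pos_of_ne_zero hz
  have h1q : (1 : ℚ) + a * x + b * y + c * z = 0 := by exact_mod_cast h1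
  have h2q : (1 : ℚ) + a * X + b * Y + c * Z = 0 := by exact_mod_cast h2
  have quad : ∀ t : ℚ, (1 - t) ^ 2 + a * (((X : ℚ) - t * x) ^ 2 / x) + b * (((Y : ℚ) - t * y) ^ 2 / y)
      + c * (((Z : ℚ) - t * z) ^ 2 / z) = 0 := fun t => by
    have e : ∀ (W w : ℚ), w ≠ 0 → (W - t * w) ^ 2 / w = W ^ 2 / w - 2 * t * W + t ^ 2 * w := fun W w hw => by
      field_simp; ring
    rw [e _ _ hxq.ne', e _ _ hyq.ne', e _ _ hzq.ne']
    linear_combination h3 - 2 * t * h2q + t ^ 2 * h1q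
  have pos : ∀ {W : ℤ} {w : ℕ}, (0 : ℚ) < w → W ≠ w → 0 < ((W : ℚ) - 1 * w) ^ 2 / w := fun hw hne => by
    refine div_pos (pow_two_pos_of_ne_zero ?_) hw
    rw [one_mul, sub_ne_zero]
    exact_mod_cast hne
  have key : ∀ {W : ℤ} {w : ℕ} {A B : ℤ} {a' b' : ℕ}, (0 : ℚ) < w → (0 : ℚ) < a' → (0 : ℚ) < b' → W ≠ w →
      (1 - (W : ℚ) / w) ^ 2 + (A - (W : ℚ) / w * a') ^ 2 / a' + (B - (W : ℚ) / w * b') ^ 2 / b' = 0 → False := by
    intro W w A B a' b' hw ha' hb' hne h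
    have h0 : (1 - (W : ℚ) / w) ^ 2 = 0 := by
      have := div_nonneg (sq_nonneg ((A : ℚ) - (W : ℚ) / w * a')) ha'.le
      have := div_nonneg (sq_nonneg ((B : ℚ) - (W : ℚ) / w * b')) hb'.le
      nlinarith [sq_nonneg (1 - (W : ℚ) / w)]
    have h4 := sub_eq_zero.mp (eq_zero_of_pow_eq_zero h0)
    rw [eq_div_iff hw.ne', one_mul] at h4
    exact hne (by exact_mod_cast h4.symm)
  have q1 := quad 1
  have px := pos hxq hX
  have py := pos hyq hY
  have pz := pos hzq hZ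
  rcases ha with rfl | rfl <;> rcases hb with rfl | rfl <;> rcases hc with rfl | rfl <;>
    push_cast at h3 q1 quad
  · exfalso; omega
  · exfalso
    refine key hzq hxq hyq hZ (A := X) (B := Y) ?_
    have := quad ((Z : ℚ) / z)
    rw [div_mul_cancel₀ _ hzq.ne'] at this
    simpa using this
  · exfalso
    refine key hyq hxq hzq hY (A := X) (B := Z) ?_
    have := quad ((Y : ℚ) / y)
    rw [div_mul_cancel₀ _ hyq.ne'] at this
    simpa using this
  · exact ⟨by norm_num, isSquare_core (Tj := Y) (Tk := Z) hy hz hx hX (by linarith) (by linarith) (by linarith)⟩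
  · exfalso
    refine key hxq hyq hzq hX (A := Y) (B := Z) ?_
    have := quad ((X : ℚ) / x)
    rw [div_mul_cancel₀ _ hxq.ne'] at this
    simpa using this
  · refine ⟨by norm_num, ?_⟩
    rw [mul_comm x y]
    exact isSquare_core (Tj := X) (Tk := Z) hx hz hy hY (by linarith) (by linarith) (by linarith)
  · refine ⟨by norm_num, ?_⟩
    rw [mul_comm, ← mul_assoc]
    exact isSquare_core (Tj := X) (Tk := Y) hx hy hz hZ (by linarith) (by linarith) (by linarith)
  · exfalso; linarith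

variable {p : ℕ} [Fact p.Prime] {G : Type u} [Group G] [Fintype G] {P : Sylow p G}

theorem exists_int_involution {t : G} (ht : orderOf t = 2) (θ : IrrCharacter G) :
    ∃ T : ℤ, (θ : G → ℂ) t = (T : ℂ) := by
  classical
  obtain ⟨χ, n, ρ, hρ, rfl⟩ := θ
  obtain ⟨b, μ, h1, -, h3⟩ := exists_eigen_data ρ t
  refine ⟨∑ i, if μ i = 1 then 1 else -1, ?_⟩
  have e := h3 1
  simp only [pow_one] at e
  show ρ.character t = _
  rw [e, Int.cast_sum]
  refine Finset.sum_congr rfl fun i _ => ?_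
  have h2 := h1 i
  rw [ht, sq_eq_one_iff] at h2
  rcases h2 with hm | hm
  · simp [hm]
  · rw [hm, if_neg (by norm_num)]; simp

theorem isPPart_conj {z w : G} (c : G) (h : IsPPart p z w) : IsPPart p (c * z * c⁻¹) (c * w * c⁻¹) := by
  classical
  obtain ⟨b, hb, hc, ⟨k, hk⟩, hb2⟩ := h
  refine ⟨c * b * c⁻¹, by rw [← hb]; group, ?_, ⟨k, by rw [orderOf_conj_eq, hk]⟩, by rwa [orderOf_conj_eq]⟩
  show c * w * c⁻¹ * (c * b * c⁻¹) = c * b * c⁻¹ * (c * w * c⁻¹)
  calc c * w * c⁻¹ * (c * b * c⁻¹) = c * (w * b) * c⁻¹ := by group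
    _ = c * (b * w) * c⁻¹ := by rw [hc.eq]
    _ = _ := by group

theorem involution_inv_conj {a t : G} (ht : t * t = 1) (h : IsConj t a) : a * a = 1 := by
  obtain ⟨g, rfl⟩ := isConj_iff.mp h
  rw [show g * t * g⁻¹ * (g * t * g⁻¹) = g * (t * t) * g⁻¹ by group, ht]; group

/-- The squared column: no two conjugates of `t` have product in the section of `y`. -/
theorem sum_sq_column_eq_zero {M : Ideal AlgInt} (hM : IsPModular p M) {B : Set (IrrCharacter G)}
    (hB : IsPBlock M B) {t y : G} (ht : t * t = 1) (hyp : ∃ k, orderOf y = p ^ k)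
    (hno : ∀ z a b : G, IsPPart p z y → IsConj t a → IsConj t b → a * b ≠ z) :
    ∑ᶠ χ ∈ B, (χ : G → ℂ) y * ((χ : G → ℂ) t ^ 2 / (χ : G → ℂ) 1) = 0 := by
  classical
  haveI := Fintype.ofFinite (IrrCharacter G)
  haveI := hM.2.1
  have hpy : IsPPart p y y := ⟨1, mul_one _, Commute.one_right _, hyp, by simp [(Fact.out : p.Prime).ne_one]⟩
  set ϑ : G → ℂ := ∑ χ : IrrCharacter G, ((χ : G → ℂ) t ^ 2 / (χ : G → ℂ) 1) • (χ : G → ℂ) with hϑ
  have hcf : IsClassFunction G ϑ := fun a b => by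
    simp only [hϑ, Finset.sum_apply, Pi.smul_apply, isClassFunction_irr _ a b]
  have hconjt : ∀ χ : IrrCharacter G, conj ((χ : G → ℂ) t) = (χ : G → ℂ) t := fun χ => by
    rw [← irr_inv, inv_eq_of_mul_eq_one_right ht]
  have hvan : ∀ z w : G, IsPPart p z w → IsConj y w → ϑ z = 0 := by
    intro z w hw hc
    have hz : classConst t t z = 0 := by
      obtain ⟨c, hc'⟩ := isConj_iff.mp hc.symm
      rw [← classConst_conj t t z c, classConst, Nat.card_eq_zero]
      exact Or.inl ⟨fun q => hno _ q.1.1 q.1.2 (hc' ▸ isPPart_conj c hw) q.2.1 q.2.2.1 q.2.2.2⟩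
    have h0 := classConst_formula t t z
    rw [hz, Nat.cast_zero, finsum_eq_sum_of_fintype] at h0
    have hne : ∀ x : G, (Nat.card {v : G // IsConj x v} : ℂ) ≠ 0 := fun x => by
      haveI : Nonempty {v : G // IsConj x v} := ⟨⟨x, IsConj.refl x⟩⟩
      exact_mod_cast Nat.card_pos.ne'
    have h1 := (mul_eq_zero.mp h0.symm).resolve_left
      (div_ne_zero (mul_ne_zero (hne t) (hne t)) (by exact_mod_cast Nat.card_pos.ne'))
    have h2 := congrArg conj h1
    rw [map_zero, map_sum] at h2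
    rw [← h2, hϑ, Finset.sum_apply]
    refine Finset.sum_congr rfl fun χ _ => ?_
    simp only [Pi.smul_apply, smul_eq_mul, map_div₀, map_mul, Complex.conj_conj, conj_irr_one, hconjt]
    ring
  have h := (Cfsg.Agent.S0925.result p M hM).1 ϑ hcf y hyp hvan B hB y y hpy (IsConj.refl y)
  simp only [Cfsg.blockPart] at h
  rw [← h]
  refine finsum_congr fun χ => finsum_congr fun _ => ?_
  rw [show @classInner G _ (Fintype.ofFinite G) ϑ (χ : G → ℂ) = (χ : G → ℂ) t ^ 2 / (χ : G → ℂ) 1 by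
    rw [Subsingleton.elim (Fintype.ofFinite G) (inferInstanceAs (Fintype G))]
    simp [hϑ, classInner_sum_left, classInner_smul_left, classInner_irr], mul_comm]

/-- A character with `θ t = θ 1` puts `t` in a proper normal subgroup. -/
theorem eq_one_of_value {t : G} (hgen : ∀ K : Subgroup G, K.Normal → t ∈ K → K = ⊤) {θ : IrrCharacter G}
    (hθ : (θ : G → ℂ) t = (θ : G → ℂ) 1) : θ = oneChar G := by
  classical
  have hself := classInner_irr_self θ
  obtain ⟨f, n, ρ, hρ, rfl⟩ := θ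
  have hone' : ρ.character 1 = (n : ℂ) := by rw [Representation.char_one, Module.finrank_fin_fun]
  have hn0 : (n : ℂ) ≠ 0 := hone' ▸ irr_one_ne_zero ⟨_, n, ρ, hρ, rfl⟩
  change ρ.character t = ρ.character 1 at hθ
  obtain ⟨w, hw⟩ := (norm_char_eq_iff ρ t).mp (by
    rw [hθ, hone', Complex.norm_natCast, Module.finrank_fin_fun])
  have e : ρ.character t = w * n := by
    rw [Representation.character, hw, trace_smul_id, Module.finrank_fin_fun]
  rw [hθ, hone'] at e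
  have hmem : t ∈ MonoidHom.ker ρ := by
    rw [MonoidHom.mem_ker, hw, (mul_eq_right₀ hn0).mp e.symm, one_smul]; rfl
  have htop := hgen _ inferInstance hmem
  have hconst : ∀ g, ρ.character g = (n : ℂ) := fun g => by
    rw [← hone']
    show LinearMap.trace ℂ _ (ρ g) = LinearMap.trace ℂ _ (ρ 1)
    rw [MonoidHom.mem_ker.mp (htop.symm ▸ Subgroup.mem_top g : g ∈ MonoidHom.ker ρ), map_one ρ]
  change classInner ρ.character ρ.character = 1 at hself
  simp only [classInner, hconst, map_natCast, Finset.sum_const, Finset.card_univ, nsmul_eq_mul,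
    Nat.card_eq_fintype_card] at hself
  rw [inv_mul_cancel_left₀ (by exact_mod_cast Fintype.card_pos.ne')] at hself
  have hn1 : n = 1 := Nat.eq_one_of_mul_eq_one_right (m := n) (by exact_mod_cast hself)
  exact Subtype.ext (funext fun g => (hconst g).trans (by rw [hn1, Nat.cast_one]; rfl))

namespace Free

variable (h : Free P) (h3 : (cen P).relIndex (nor P) = 3)
include h h3

theorem sq_mem_cen {n : G} (hn : n ∈ nor P) (hnn : n * n ∈ cen P) : n ∈ cen P := by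
  haveI : ((cen P).subgroupOf (nor P)).Normal := ⟨fun a ha g => by
    rw [Subgroup.mem_subgroupOf] at ha ⊢
    refine Subgroup.mem_centralizer_iff.mpr fun w hw => ?_
    have hw' : (g : G)⁻¹ * w * g ∈ (P : Subgroup G) := by
      simpa using (Subgroup.mem_normalizer_iff.mp (inv_mem g.2) w).mp hw
    show w * ((g : G) * a * (g : G)⁻¹) = (g : G) * a * (g : G)⁻¹ * w
    calc w * ((g : G) * a * (g : G)⁻¹) = (g : G) * ((g : G)⁻¹ * w * g * a) * (g : G)⁻¹ := by group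
      _ = (g : G) * (a * ((g : G)⁻¹ * w * g)) * (g : G)⁻¹ := by
        rw [Subgroup.mem_centralizer_iff.mp ha _ hw']
      _ = (g : G) * a * (g : G)⁻¹ * w := by group⟩
  have h5 := Subgroup.pow_index_mem ((cen P).subgroupOf (nor P)) (⟨n, hn⟩ : nor P)
  rw [show ((cen P).subgroupOf (nor P)).index = 3 from h3, Subgroup.mem_subgroupOf] at h5
  have h6 : n ^ 3 ∈ cen P := by simpa using h5
  simpa [pow_succ, mul_assoc] using mul_mem h6 (inv_mem hnn)

/-- Only involutions of `P` are inverted. -/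
theorem sq_eq_one_of_inverted {y g : G} (hy : y ∈ (P : Subgroup G)) (hy1 : y ≠ 1) (hg : g * y * g⁻¹ = y⁻¹) :
    y * y = 1 := by
  obtain ⟨n, hn, e⟩ := h.fusion hy (g := g) (hg ▸ inv_mem hy)
  rw [hg] at e
  have hnn : n * n ∈ cen P := by
    rw [← h.frob y hy hy1]
    refine Subgroup.mem_inf.mpr ⟨Subgroup.mem_centralizer_singleton_iff.mpr ?_, mul_mem hn hn⟩
    have e2 : n * y⁻¹ * n⁻¹ = y := by
      rw [← conj_inv, e, inv_inv]
    calc n * n * y = n * (n * y * n⁻¹) * n := by group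
      _ = n * y⁻¹ * n⁻¹ * (n * n) := by rw [e]; group
      _ = y * (n * n) := by rw [e2]
  have hc := Subgroup.mem_centralizer_iff.mp (h.sq_mem_cen h3 hn hnn) y hy
  rw [← hc, mul_inv_cancel_right] at e
  rw [mul_eq_one_iff_eq_inv]
  exact e

/-- A product of two conjugates of `t` forces an inversion. -/
theorem inverted_of_prod {t z y a b : G} (ht : t * t = 1) (hz : IsPPart p z y) (ha : IsConj t a)
    (hb : IsConj t b) (hab : a * b = z) : a * y * a⁻¹ = y⁻¹ ∧ ∃ m : ℕ, y = z ^ m := by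
  obtain ⟨c, hc, hcomm, ⟨k, hk⟩, hc2⟩ := hz
  obtain ⟨m, hm1, hm0⟩ := Nat.chineseRemainder
    (show (orderOf y).Coprime (orderOf c) by
      rw [hk]; exact Nat.Coprime.pow_left k ((Fact.out : p.Prime).coprime_iff_not_dvd.mpr hc2)) 1 0
  have hym : y = z ^ m := by
    rw [← hc, hcomm.mul_pow, orderOf_dvd_iff_pow_eq_one.mp (Nat.modEq_zero_iff_dvd.mp hm0), mul_one,
      pow_eq_pow_iff_modEq.mpr hm1, pow_one]
  refine ⟨?_, m, hym⟩
  have haz : a * z * a⁻¹ = z⁻¹ := by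
    rw [← hab, mul_inv_rev, inv_eq_of_mul_eq_one_right (involution_inv_conj ht hb),
      inv_eq_of_mul_eq_one_right (involution_inv_conj ht ha), ← mul_assoc a a b, involution_inv_conj ht ha, one_mul]
  rw [hym, ← conj_pow, haz, inv_pow]

/-- The orbit of `t` is closed under products up to `1`. -/
theorem prod_orbit {t a b : G} (ht : t ∈ (P : Subgroup G)) (ht1 : t ≠ 1) (htt : t * t = 1) {m n : G}
    (hm : m ∈ nor P) (hn : n ∈ nor P) (ha : a = m * t * m⁻¹) (hb : b = n * t * n⁻¹) :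
    a * b = 1 ∨ ∃ k ∈ nor P, a * b = k * t * k⁻¹ := by
  haveI : ((cen P).subgroupOf (nor P)).Normal := ⟨fun x hx g => by
    rw [Subgroup.mem_subgroupOf] at hx ⊢
    refine Subgroup.mem_centralizer_iff.mpr fun w hw => ?_
    have hw' : (g : G)⁻¹ * w * g ∈ (P : Subgroup G) := by
      simpa using (Subgroup.mem_normalizer_iff.mp (inv_mem g.2) w).mp hw
    show w * ((g : G) * x * (g : G)⁻¹) = (g : G) * x * (g : G)⁻¹ * w
    calc w * ((g : G) * x * (g : G)⁻¹) = (g : G) * ((g : G)⁻¹ * w * g * x) * (g : G)⁻¹ := by group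
      _ = (g : G) * (x * ((g : G)⁻¹ * w * g)) * (g : G)⁻¹ := by
        rw [Subgroup.mem_centralizer_iff.mp hx _ hw']
      _ = (g : G) * x * (g : G)⁻¹ * w := by group⟩
  set k : nor P := (⟨m, hm⟩ : nor P)⁻¹ * ⟨n, hn⟩ with hk
  have hkcoe : (k : G) = m⁻¹ * n := rfl
  set u := (k : G) * t * (k : G)⁻¹ with hu
  have hab : a * b = m * (t * u) * m⁻¹ := by rw [ha, hb, hu, hkcoe]; group
  by_cases hkC : (k : G) ∈ cen P
  · refine Or.inl ?_
    rw [hab, hu, ← Subgroup.mem_centralizer_iff.mp hkC t ht, mul_inv_cancel_right, htt]; group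
  refine Or.inr ⟨m * ((k : G) * (k : G)), mul_mem hm (mul_mem k.2 k.2), ?_⟩
  set v := (k : G) * u * (k : G)⁻¹ with hv
  have huP : u ∈ (P : Subgroup G) := (Subgroup.mem_normalizer_iff.mp k.2 t).mp ht
  have hvP : v ∈ (P : Subgroup G) := (Subgroup.mem_normalizer_iff.mp k.2 u).mp huP
  have hk3 : (k : G) * v * (k : G)⁻¹ = t := by
    have h5 := Subgroup.pow_index_mem ((cen P).subgroupOf (nor P)) k
    rw [show ((cen P).subgroupOf (nor P)).index = 3 from h3, Subgroup.mem_subgroupOf] at h5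
    have h6 : (k : G) ^ 3 ∈ cen P := by simpa using h5
    rw [hv, hu, show (k : G) * ((k : G) * ((k : G) * t * (k : G)⁻¹) * (k : G)⁻¹) * (k : G)⁻¹ =
      (k : G) ^ 3 * t * ((k : G) ^ 3)⁻¹ by simp [pow_succ, mul_assoc],
      ← Subgroup.mem_centralizer_iff.mp h6 t ht, mul_inv_cancel_right]
  have hw : t * u * v = 1 := by
    by_contra hw1
    refine hkC ?_
    have hwP : t * u * v ∈ (P : Subgroup G) := mul_mem (mul_mem ht huP) hvP
    rw [← h.frob _ hwP hw1]
    refine Subgroup.mem_inf.mpr ⟨Subgroup.mem_centralizer_singleton_iff.mpr (mul_inv_eq_iff_eq_mul.mp ?_), k.2⟩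
    have e : (k : G) * (t * u * v) * (k : G)⁻¹ = u * v * t := by
      rw [show (k : G) * (t * u * v) * (k : G)⁻¹ =
        ((k : G) * t * (k : G)⁻¹) * ((k : G) * u * (k : G)⁻¹) * ((k : G) * v * (k : G)⁻¹) by group,
        ← hu, ← hv, hk3]
    rw [e, (h.commute (mul_mem huP hvP) ht).eq, ← mul_assoc]
  have hvv : v * v = 1 := by
    rw [hv, hu, show (k : G) * ((k : G) * t * (k : G)⁻¹) * (k : G)⁻¹ * ((k : G) * ((k : G) * t * (k : G)⁻¹) * (k : G)⁻¹) =
      (k : G) * (k : G) * (t * t) * ((k : G) * (k : G))⁻¹ by group, htt]; group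
  rw [hab, eq_inv_of_mul_eq_one_left hw, inv_eq_of_mul_eq_one_right hvv, hv, hu]
  group

/-- For `p = 2` a product of two conjugates of `t` lies in the sections of the orbit of `t`. -/
theorem not_prod_two {M : Ideal AlgInt} (hM : IsPModular p M) {t y z a b : G} (hp2 : p = 2)
    (ht : t ∈ (P : Subgroup G)) (ht1 : t ≠ 1) (htt : t * t = 1) (hy : y ∈ (P : Subgroup G)) (hy1 : y ≠ 1)
    (hyT : ∀ k ∈ nor P, y ≠ k * t * k⁻¹) (hz : IsPPart p z y) (ha : IsConj t a) (hb : IsConj t b) :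
    a * b ≠ z := by
  intro hab
  obtain ⟨hay, m, hym⟩ := h.inverted_of_prod h3 htt hz ha hb hab
  have hyy := h.sq_eq_one_of_inverted h3 hy hy1 hay
  rw [inv_eq_of_mul_eq_one_right hyy] at hay
  set C := Subgroup.centralizer ({y} : Set G)
  have haC : a ∈ C := Subgroup.mem_centralizer_singleton_iff.mpr (mul_inv_eq_iff_eq_mul.mp hay)
  have hzC : z ∈ C := by
    obtain ⟨c, hc, hcomm, -, -⟩ := hz
    rw [← hc]
    exact Subgroup.mem_centralizer_singleton_iff.mpr (by rw [mul_assoc, hcomm.eq.symm])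
  have hbC : b ∈ C := by
    have := mul_mem (inv_mem haC) hzC
    rwa [← hab, inv_mul_cancel_left] at this
  obtain ⟨P', N, hN, hNP⟩ := h.hasNormalPComplement hy hy1
  have hPC := h.le_centralizer hy
  have hcop : ¬ p ∣ Nat.card N := by rw [← hNP.index_eq_card]; exact P'.not_dvd_index
  -- `P` is a complement as well
  have hsur : ∀ q : C ⧸ N, ∃ u : G, ∃ hu : u ∈ (P : Subgroup G), q = ((⟨u, hPC hu⟩ : C) : C ⧸ N) := by
    intro q
    let f : ↥(P : Subgroup G) → C ⧸ N := fun u => ((⟨u, hPC u.2⟩ : C) : C ⧸ N)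
    have hinj : Function.Injective f := by
      intro u v e
      have e' := (QuotientGroup.eq (s := N)).mp e
      have hd := Subgroup.orderOf_dvd_natCard _ e'
      rw [← Subgroup.orderOf_coe] at hd
      obtain ⟨k, hk⟩ := h.orderOf_mem (y := (u : G)⁻¹ * v) (mul_mem (inv_mem u.2) v.2)
      rw [show (((⟨u, hPC u.2⟩ : C)⁻¹ * ⟨v, hPC v.2⟩ : C) : G) = (u : G)⁻¹ * v from rfl, hk] at hd
      have hk0 : k = 0 := by_contra fun hk0 => hcop ((dvd_pow_self p hk0).trans hd)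
      rw [hk0, pow_zero, orderOf_eq_one_iff, inv_mul_eq_one] at hk
      exact Subtype.ext hk
    have hcard : Nat.card ↥(P : Subgroup G) = Nat.card (C ⧸ N) := by
      rw [show Nat.card (C ⧸ N) = Nat.card P' from hNP.symm.index_eq_card,
        Sylow.card_eq_multiplicity P', ← Nat.card_congr (Subgroup.subgroupOfEquivOfLe hPC).toEquiv,
        ← Sylow.coe_subtype P hPC, ← Sylow.card_eq_multiplicity]
    obtain ⟨u, rfl⟩ := (hinj.bijective_of_nat_card_le hcard.ge).2 q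
    exact ⟨u, u.2, rfl⟩
  have hcomm : ∀ q r : C ⧸ N, q * r = r * q := by
    intro q r
    obtain ⟨u, hu, rfl⟩ := hsur q
    obtain ⟨v, hv, rfl⟩ := hsur r
    rw [← QuotientGroup.mk_mul, ← QuotientGroup.mk_mul]
    exact congrArg _ (Subtype.ext (h.commute hu hv).eq)
  have hto : ∀ (x : G) (hx : x ∈ C), IsConj t x → ∃ n ∈ nor P, ∃ hn : n * t * n⁻¹ ∈ C,
      ((⟨x, hx⟩ : C) : C ⧸ N) = ((⟨n * t * n⁻¹, hn⟩ : C) : C ⧸ N) := by
    intro x hx hxt
    have hxx := involution_inv_conj htt hxt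
    have hxp : IsPGroup p (Subgroup.zpowers (⟨x, hx⟩ : C)) := by
      refine IsPGroup.of_card (n := 1) ?_
      rw [Nat.card_zpowers, ← Subgroup.orderOf_coe, pow_one, hp2]
      refine orderOf_eq_prime (by rw [sq]; exact hxx) fun e => ht1 ?_
      have e' : x = 1 := e
      obtain ⟨g, hg⟩ := isConj_iff.mp hxt
      exact conj_eq_one_iff.mp (hg.trans e')
    obtain ⟨S, hS⟩ := hxp.exists_le_sylow
    obtain ⟨c, hc⟩ := MulAction.exists_smul_eq C S (P.subtype hPC)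
    have hcx : c * ⟨x, hx⟩ * c⁻¹ ∈ ((P.subtype hPC : Sylow p C) : Subgroup C) := by
      rw [← hc]; exact ⟨_, hS (Subgroup.mem_zpowers _), rfl⟩
    rw [Sylow.coe_subtype, Subgroup.mem_subgroupOf] at hcx
    obtain ⟨g, hg⟩ := isConj_iff.mp hxt
    have he : ((c * ⟨x, hx⟩ * c⁻¹ : C) : G) = ((c : G) * g) * t * ((c : G) * g)⁻¹ := by
      show (c : G) * x * (c : G)⁻¹ = _
      rw [← hg]; group
    rw [he] at hcx
    obtain ⟨n, hn, en⟩ := h.fusion ht hcx
    have hnC : n * t * n⁻¹ ∈ C := hPC ((Subgroup.mem_normalizer_iff.mp hn t).mp ht)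
    refine ⟨n, hn, hnC, ?_⟩
    rw [show (⟨n * t * n⁻¹, hnC⟩ : C) = c * ⟨x, hx⟩ * c⁻¹ from Subtype.ext (en.trans he.symm),
      QuotientGroup.mk_mul, QuotientGroup.mk_mul, hcomm (c : C ⧸ N), mul_assoc, ← QuotientGroup.mk_mul,
      mul_inv_cancel, QuotientGroup.mk_one, mul_one]
  obtain ⟨n₁, hn₁, hn₁C, e1⟩ := hto a haC ha
  obtain ⟨n₂, hn₂, hn₂C, e2⟩ := hto b hbC hb
  -- the odd part dies in the quotient
  obtain ⟨c, hc, hcy, -, hc2⟩ := hz
  have hcC : c ∈ C := Subgroup.mem_centralizer_singleton_iff.mpr hcy.eq.symm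
  have hyC : y ∈ C := hPC hy
  have hcN : ((⟨c, hcC⟩ : C) : C ⧸ N) = 1 := by
    obtain ⟨k, hk⟩ := IsPGroup.iff_card.mp P'.2
    have h1 : orderOf ((⟨c, hcC⟩ : C) : C ⧸ N) ∣ p ^ k := by
      rw [← hk, ← hNP.symm.index_eq_card]; exact orderOf_dvd_natCard _
    refine orderOf_eq_one_iff.mp (Nat.eq_one_of_dvd_coprimes ?_ h1
      (orderOf_map_dvd (QuotientGroup.mk' N) (⟨c, hcC⟩ : C)))
    rw [← Subgroup.orderOf_coe]
    exact Nat.Coprime.pow_left k ((Fact.out : p.Prime).coprime_iff_not_dvd.mpr hc2)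
  have key : ((⟨y, hyC⟩ : C) : C ⧸ N) = ((⟨n₁ * t * n₁⁻¹ * (n₂ * t * n₂⁻¹), mul_mem hn₁C hn₂C⟩ : C) : C ⧸ N) := by
    have e3 : (⟨a, haC⟩ : C) * ⟨b, hbC⟩ = ⟨y, hyC⟩ * ⟨c, hcC⟩ := Subtype.ext (by
      show a * b = y * c
      rw [hab, hc])
    have e4 := congrArg (fun x : C => (x : C ⧸ N)) e3
    simp only [QuotientGroup.mk_mul, e1, e2, hcN, mul_one] at e4
    rw [← e4, ← QuotientGroup.mk_mul]
    rfl
  have huP : n₁ * t * n₁⁻¹ * (n₂ * t * n₂⁻¹) ∈ (P : Subgroup G) :=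
    mul_mem ((Subgroup.mem_normalizer_iff.mp hn₁ t).mp ht) ((Subgroup.mem_normalizer_iff.mp hn₂ t).mp ht)
  have hyu : y = n₁ * t * n₁⁻¹ * (n₂ * t * n₂⁻¹) := by
    have e' := (QuotientGroup.eq (s := N)).mp key
    have hd := Subgroup.orderOf_dvd_natCard _ e'
    rw [← Subgroup.orderOf_coe] at hd
    obtain ⟨k, hk⟩ := h.orderOf_mem (mul_mem (inv_mem hy) huP)
    rw [show (((⟨y, hyC⟩ : C)⁻¹ * ⟨_, mul_mem hn₁C hn₂C⟩ : C) : G) =
      y⁻¹ * (n₁ * t * n₁⁻¹ * (n₂ * t * n₂⁻¹)) from rfl, hk] at hd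
    have hk0 : k = 0 := by_contra fun hk0 => hcop ((dvd_pow_self p hk0).trans hd)
    rw [hk0, pow_zero, orderOf_eq_one_iff, inv_mul_eq_one] at hk
    exact hk
  rcases h.prod_orbit h3 ht ht1 htt hn₁ hn₂ rfl rfl with e | ⟨k, hk, e⟩
  · exact hy1 (hyu.trans e)
  · exact hyT k hk (hyu.trans e)

end Free

end CfsgLib.Block.AbelianFree
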