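import Cfsg.Agent.Lib.Block.NormalSupport
import Cfsg.Agent.Lib.Coprime.Solvable
import Mathlib.GroupTheory.SchurZassenhaus

/-!
# A `p`-solvable group with trivial `p'`-core has a single `p`-block
-/

open Finset

set_option linter.unusedSectionVars false

namespace CfsgLib.Block

open Cfsg

universe u

variable {G : Type u} [Group G]

theorem centralizer_pCore_le_of_isPSolvable [Finite G] {p : ℕ} [hp : Fact p.Prime]
    (hsolv : Cfsg.IsPSolvable p G) (hcore : Cfsg.pPrimeCore p G = ⊥) :
    Subgroup.centralizer (Cfsg.pCore p G : Set G) ≤ Cfsg.pCore p G := by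
  classical
  set P := Cfsg.pCore p G
  have hPn : P.Normal := CfsgLib.Coprime.pCore_normal' p
  set C := Subgroup.centralizer (P : Set G)
  have hPp : IsPGroup p P := CfsgLib.Coprime.pCore_isPGroup p
  obtain ⟨n, H, h0, hl, hm, hn, hf⟩ := hsolv
  suffices h : ∀ i, C ⊓ H i ≤ P by
    have := h (Fin.last n)
    rwa [hl, inf_top_eq] at this
  intro i
  induction i using Fin.induction with
  | zero => rw [h0, inf_bot_eq]; exact bot_le
  | succ i ih =>
    have := hn i.succ
    have := hn i.castSucc
    set D := C ⊓ H i.succ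
    set Z := C ⊓ H i.castSucc
    have hDn : D.Normal := inferInstance
    have hle : Z ≤ D := inf_le_inf_left _ (hm (Fin.castSucc_le_succ i))
    have hZp : IsPGroup p Z := hPp.to_le ih
    have hdvd : Z.relIndex D ∣ (H i.castSucc).relIndex (H i.succ) := by
      have h1 : Z.relIndex D = (H i.castSucc).relIndex D := by
        rw [← Subgroup.inf_relIndex_right (H i.castSucc) D, show Z = H i.castSucc ⊓ D by
          simp only [Z, D]
          rw [inf_left_comm, inf_eq_left.mpr (hm (Fin.castSucc_le_succ i))]]
      rw [h1]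
      rw [← Subgroup.relIndex_subgroupOf (H := H i.castSucc) (K := D) (L := H i.succ) inf_le_right]
      exact Subgroup.relIndex_dvd_index_of_normal ((H i.castSucc).subgroupOf (H i.succ)) (D.subgroupOf (H i.succ))
    suffices hDp : IsPGroup p D from CfsgLib.Coprime.le_pCore hDp
    obtain ⟨a, ha⟩ := IsPGroup.iff_card.mp hZp
    have hcard : Z.relIndex D * Nat.card Z = Nat.card D := by
      rw [← Subgroup.relIndex_bot_left Z, ← Subgroup.relIndex_bot_left D, mul_comm,
        Subgroup.relIndex_mul_relIndex _ _ _ bot_le hle]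
    rcases hf i with ⟨m, hm'⟩ | hco
    · rw [hm'] at hdvd
      obtain ⟨k, -, hk⟩ := (Nat.dvd_prime_pow hp.out).mp hdvd
      exact IsPGroup.of_card (n := k + a) (by rw [← hcard, hk, ha, pow_add])
    · have hco' := hco.coprime_dvd_left hdvd
      have hcentral : ∀ z ∈ Z, ∀ d ∈ D, Commute z d := fun z hz d hd =>
        (Subgroup.mem_centralizer_iff.mp hd.1 z (ih hz))
      have : (Z.subgroupOf D).Normal := Subgroup.normal_subgroupOf_iff hle |>.mpr fun z d hz hd => by
        rw [← (hcentral z hz d hd).eq, mul_inv_cancel_right]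
        exact hz
      obtain ⟨K, hK⟩ := Subgroup.exists_right_complement'_of_coprime (N := Z.subgroupOf D) (by
        rw [Nat.card_congr (Subgroup.subgroupOfEquivOfLe hle).toEquiv, ha]
        exact (hco'.symm.pow_left a))
      have hKc : (Nat.card K).Coprime p := by
        rw [← hK.symm.index_eq_card]
        exact hco'
      set K' := K.map D.subtype
      have hK'c : Nat.card K' = Nat.card K := Subgroup.card_map_of_injective D.subtype_injective
      have hmem : ∀ d ∈ D, ¬ p ∣ orderOf d → d ∈ K' := fun d hd hreg => by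
        obtain ⟨⟨⟨z, hz⟩, ⟨k, hk⟩⟩, hzk, -⟩ := hK.existsUnique (⟨d, hd⟩ : D)
        simp only at hzk
        have hzk' : (z : G) * (k : G) = d := congrArg Subtype.val hzk
        have hcomm : Commute (z : G) (k : G) := hcentral _ (Subgroup.mem_subgroupOf.mp hz) _ k.2
        have hpow : (z : G) ^ (orderOf d * Nat.card K) = 1 := by
          have h1 : ((k : G) : G) ^ Nat.card K = 1 := congrArg (fun t : D => (t : G))
              (congrArg Subtype.val (pow_card_eq_one' (x := (⟨k, hk⟩ : K))))
          have h2 := pow_orderOf_eq_one d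
          rw [← hzk', hcomm.mul_pow] at h2
          have h3 := congrArg (· ^ Nat.card K) h2
          simp only [one_pow] at h3
          rw [(hcomm.pow_pow _ _).mul_pow, ← pow_mul, ← pow_mul, mul_comm _ (Nat.card K),
            pow_mul (k : G), h1, one_pow, mul_one, mul_comm] at h3
          exact hzk'.symm ▸ h3
        obtain ⟨j, hj⟩ := hZp ⟨z, Subgroup.mem_subgroupOf.mp hz⟩
        have hz1 : (z : G) = 1 := orderOf_eq_one_iff.mp (Nat.eq_one_of_dvd_coprimes
          ((Nat.Coprime.mul_left ((hp.out.coprime_iff_not_dvd.mpr hreg).symm) hKc).pow_right j)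
          (orderOf_dvd_of_pow_eq_one hpow)
          (orderOf_dvd_of_pow_eq_one (congrArg Subtype.val hj)))
        rw [hz1, one_mul] at hzk'
        exact ⟨k, hk, hzk'⟩
      have hK'n : K'.Normal := ⟨fun x hx g => by
        obtain ⟨k, hk, rfl⟩ := hx
        simp only [Subgroup.coe_subtype]
        refine hmem _ (hDn.conj_mem _ k.2 g) ?_
        rw [show orderOf (g * (k : G) * g⁻¹) = orderOf (k : G) from
          MulEquiv.orderOf_eq (MulAut.conj g) _, Subgroup.orderOf_coe,
          ← Subgroup.orderOf_mk k hk, ← hp.out.coprime_iff_not_dvd]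
        exact (hKc.coprime_dvd_left (orderOf_dvd_natCard _)).symm⟩
      have hK1 : Nat.card K = 1 := by
        have := CfsgLib.Coprime.le_pPrimeCore (N := K') (by rwa [hK'c])
        rw [hcore, le_bot_iff] at this
        rw [← hK'c, this, Subgroup.card_bot]
      refine IsPGroup.of_card (n := a) ?_
      rw [← hcard, show Z.relIndex D = 1 from hK.symm.index_eq_card.trans hK1, one_mul, ha]

variable [Fintype G] [DecidableEq G] {p : ℕ} {M : Ideal AlgInt} [M.IsMaximal]

theorem mem_block_of_supp_one (hM : IsPModular p M) {B : Set (IrrCharacter G)} (hB : IsPBlock M B)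
    (h : ∀ g, coeffRes M B g ≠ 0 → g = 1) (χ : IrrCharacter G) : χ ∈ B := by
  classical
  have hbar : blockBar M B = algebraMap (ResField M) (ZK M G) (coeffRes M B 1) := by
    refine Subtype.ext (ga_ext fun g => ?_)
    rw [coeff_blockBar, Subalgebra.coe_algebraMap, MonoidAlgebra.coe_algebraMap,
      Function.comp_apply, MonoidAlgebra.coeff_single, Finsupp.single_apply, Algebra.algebraMap_self,
      RingHom.id_apply]
    by_cases hg : (1 : G) = g
    · rw [if_pos hg, hg]
    · rw [if_neg hg]
      exact by_contra fun hne => hg (h g hne).symm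
  obtain ⟨ψ, hψ⟩ := isPBlock_nonempty hB
  have h1 := omegaBar_blockBar hM (.of_isPBlock hB) ψ
  rw [hbar, omegaBar_algebraMap, if_pos hψ] at h1
  have h2 := omegaBar_blockBar hM (.of_isPBlock hB) χ
  rw [hbar, omegaBar_algebraMap, h1] at h2
  by_contra hχ
  rw [if_neg hχ] at h2
  exact one_ne_zero h2

end CfsgLib.Block
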