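import Cfsg.Agent.Lib.Block.PermTrace
import Mathlib.Algebra.MonoidAlgebra.MapDomain
import Mathlib.Algebra.MonoidAlgebra.Basic
import Mathlib.GroupTheory.GroupAction.Quotient
import Mathlib.GroupTheory.GroupAction.ConjAct
import Mathlib.GroupTheory.Subgroup.Centralizer
import Mathlib.GroupTheory.PGroup

/-!
# The group algebra of a finite group: coefficients, Brauer map, two-sided multiplications
-/

open Finset MonoidAlgebra

set_option linter.unusedSectionVars false

namespace CfsgLib.Block

variable {R : Type*} [CommRing R] {G : Type*} [Group G] [Fintype G] [DecidableEq G]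

/-- The element of the group algebra with the given coefficients. -/
noncomputable def gaOfFun (f : G → R) : MonoidAlgebra R G :=
  MonoidAlgebra.ofCoeff (Finsupp.equivFunOnFinite.symm f)

@[simp] theorem coeff_gaOfFun (f : G → R) (g : G) : (gaOfFun f).coeff g = f g := rfl

theorem ga_ext {a b : MonoidAlgebra R G} (h : ∀ g, a.coeff g = b.coeff g) : a = b :=
  MonoidAlgebra.ext (Finsupp.ext h)

theorem coeff_mul_sum (a b : MonoidAlgebra R G) (g : G) :
    (a * b).coeff g = ∑ h, a.coeff h * b.coeff (h⁻¹ * g) := by
  rw [MonoidAlgebra.coeff_mul, Finsupp.sum_fintype]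
  · refine Finset.sum_congr rfl fun h _ => ?_
    rw [Finsupp.sum_fintype]
    · rw [Finset.sum_eq_single (h⁻¹ * g)]
      · simp
      · intro x _ hx
        rw [if_neg]
        intro hh
        exact hx (by rw [← hh]; group)
      · simp
    · intro i; split_ifs <;> simp
  · intro i; simp

theorem coeff_sum_apply {ι : Type*} (s : Finset ι) (f : ι → MonoidAlgebra R G) (g : G) :
    (∑ i ∈ s, f i).coeff g = ∑ i ∈ s, (f i).coeff g := by
  rw [MonoidAlgebra.coeff_sum, Finsupp.finsetSum_apply]

theorem coeff_single_mul' (u : G) (r : R) (a : MonoidAlgebra R G) (g : G) :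
    (single u r * a).coeff g = r * a.coeff (u⁻¹ * g) := by
  rw [coeff_mul_sum, Finset.sum_eq_single u] <;> simp +contextual

theorem coeff_mul_single' (u : G) (r : R) (a : MonoidAlgebra R G) (g : G) :
    (a * single u r).coeff g = a.coeff (g * u⁻¹) * r := by
  rw [coeff_mul_sum, Finset.sum_eq_single (g * u⁻¹)]
  · simp [mul_assoc]
  · intro h _ hh
    have : h⁻¹ * g ≠ u := fun he => hh (by rw [← he]; group)
    simp [Finsupp.single_eq_of_ne this]
  · simp

/-- Constant on conjugacy classes. -/
def IsClassElt (a : MonoidAlgebra R G) : Prop := ∀ g h : G, a.coeff (h * g * h⁻¹) = a.coeff g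

theorem commute_single_iff (a : MonoidAlgebra R G) (u : G) :
    Commute (single u 1) a ↔ ∀ g, a.coeff (u * g * u⁻¹) = a.coeff g := by
  rw [commute_iff_eq]
  constructor
  · intro h g
    have := congrArg (fun z : MonoidAlgebra R G => z.coeff (u * g)) h
    simp only [coeff_single_mul', coeff_mul_single', one_mul, mul_one, inv_mul_cancel_left] at this
    exact this.symm
  · intro h
    refine ga_ext fun g => ?_
    rw [coeff_single_mul', coeff_mul_single', one_mul, mul_one, ← h (u⁻¹ * g)]
    simp [mul_assoc]

theorem isClassElt_iff (a : MonoidAlgebra R G) :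
    IsClassElt a ↔ ∀ u : G, Commute (single u 1) a := by
  simp only [commute_single_iff]
  exact forall_comm

theorem IsClassElt.commute {a : MonoidAlgebra R G} (ha : IsClassElt a) (b : MonoidAlgebra R G) :
    Commute a b := by
  induction b using MonoidAlgebra.induction_linear with
  | zero => exact Commute.zero_right a
  | add f g hf hg => exact hf.add_right hg
  | single u r =>
    have h := ((isClassElt_iff a).mp ha u).symm
    have hs : single u r = r • single u (1 : R) := by simp
    rw [hs]
    exact h.smul_right r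

theorem IsClassElt.mul {a b : MonoidAlgebra R G} (ha : IsClassElt a) (hb : IsClassElt b) :
    IsClassElt (a * b) :=
  (isClassElt_iff _).mpr fun u =>
    ((isClassElt_iff a).mp ha u).mul_right ((isClassElt_iff b).mp hb u)

/-! ### Sums over sets with an action of a `p`-group, in characteristic `p` -/

/-- A function invariant under a `p`-group has the same sum over a finite set and over its fixed
points, in characteristic `p`. -/
theorem sum_eq_sum_fixedPoints {p : ℕ} [CharP R p] [Fact p.Prime] {P : Type*} [Group P]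
    (hP : IsPGroup p P) {X : Type*} [Fintype X] [MulAction P X] (f : X → R)
    (hf : ∀ (u : P) (x : X), f (u • x) = f x) [DecidablePred fun x : X => ∀ u : P, u • x = x] :
    ∑ x, f x = ∑ x ∈ Finset.univ.filter (fun x => ∀ u : P, u • x = x), f x := by
  classical
  rw [← Finset.sum_filter_add_sum_filter_not Finset.univ (fun x => ∀ u : P, u • x = x) f,
    add_eq_left]
  rw [← Finset.sum_fiberwise_of_maps_to (g := fun x => Quotient.mk (MulAction.orbitRel P X) x)
    (t := Finset.univ) (fun _ _ => Finset.mem_univ _) f]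
  refine Finset.sum_eq_zero fun ω _ => ?_
  obtain ⟨x, rfl⟩ := Quotient.mk_surjective ω
  by_cases hx : ∀ u : P, u • x = x
  · refine Finset.sum_eq_zero fun y hy => ?_
    simp only [Finset.mem_filter, Finset.mem_univ, true_and, Quotient.eq] at hy
    obtain ⟨hy1, v, rfl⟩ := hy
    exact absurd (fun u => by simp only [hx v, hx u]) hy1
  · have hset : (Finset.univ.filter (fun x => ¬ ∀ u : P, u • x = x)).filter
        (fun y => Quotient.mk (MulAction.orbitRel P X) y = Quotient.mk (MulAction.orbitRel P X) x) =
        (MulAction.orbit P x).toFinset := by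
      ext y
      simp only [Finset.mem_filter, Finset.mem_univ, true_and, Quotient.eq, Set.mem_toFinset]
      refine ⟨fun h => h.2, fun h => ⟨?_, h⟩⟩
      obtain ⟨v, rfl⟩ := h
      intro hall
      have hvx : v • x = x := by
        have := hall v⁻¹
        simp only [inv_smul_smul] at this
        exact this.symm
      exact hx fun u => by simpa [hvx] using hall u
    rw [hset, Finset.sum_congr rfl (g := fun _ => f x) (fun y hy => by
      rw [Set.mem_toFinset] at hy; obtain ⟨v, rfl⟩ := hy; exact hf v x),
      Finset.sum_const, nsmul_eq_mul]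
    obtain ⟨k, hk⟩ := hP.card_orbit (a := x)
    have hk0 : k ≠ 0 := by
      intro h
      apply hx
      intro u
      rw [h, pow_zero, Nat.card_eq_one_iff_unique] at hk
      have := hk.1.elim ⟨u • x, MulAction.mem_orbit x u⟩ ⟨x, MulAction.mem_orbit_self x⟩
      exact congrArg Subtype.val this
    rw [Set.toFinset_card, ← Nat.card_eq_fintype_card, hk, Nat.cast_pow, CharP.cast_eq_zero,
      zero_pow hk0, zero_mul]

/-! ### The Brauer map -/

/-- Restriction of coefficients to a subgroup. -/
noncomputable def resTo (H : Subgroup G) [Fintype H] (a : MonoidAlgebra R G) :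
    MonoidAlgebra R H := gaOfFun fun h => a.coeff (h : G)

@[simp] theorem coeff_resTo (H : Subgroup G) [Fintype H] (a : MonoidAlgebra R G) (h : H) :
    (resTo H a).coeff h = a.coeff (h : G) := rfl

theorem coeff_mul_brauer {p : ℕ} [CharP R p] [Fact p.Prime] {P : Subgroup G} (hP : IsPGroup p P)
    {a b : MonoidAlgebra R G}
    (ha : ∀ u ∈ P, ∀ g, a.coeff (u * g * u⁻¹) = a.coeff g)
    (hb : ∀ u ∈ P, ∀ g, b.coeff (u * g * u⁻¹) = b.coeff g)
    {g : G} (hg : g ∈ Subgroup.centralizer (P : Set G))
    [DecidablePred fun h : G => h ∈ Subgroup.centralizer (P : Set G)] :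
    (a * b).coeff g = ∑ h ∈ Finset.univ.filter (fun h => h ∈ Subgroup.centralizer (P : Set G)),
      a.coeff h * b.coeff (h⁻¹ * g) := by
  classical
  rw [coeff_mul_sum]
  letI : MulAction P G := MulAction.compHom G (MulAut.conj.comp P.subtype)
  have hsm : ∀ (u : P) (x : G), u • x = (u : G) * x * (u : G)⁻¹ := fun _ _ => rfl
  rw [sum_eq_sum_fixedPoints (p := p) hP]
  · refine Finset.sum_congr ?_ fun _ _ => rfl
    ext x
    simp only [Finset.mem_filter, Finset.mem_univ, true_and, Subgroup.mem_centralizer_iff, hsm]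
    constructor
    · intro h u hu
      have := h ⟨u, hu⟩
      rwa [mul_inv_eq_iff_eq_mul] at this
    · intro h u
      rw [mul_inv_eq_iff_eq_mul]
      exact h u u.2
  · intro u x
    rw [hsm, ha u u.2]
    congr 1
    have hu : (u : G) * g = g * u := Subgroup.mem_centralizer_iff.mp hg u u.2
    rw [show ((u : G) * x * (u : G)⁻¹)⁻¹ * g = (u : G) * (x⁻¹ * g) * (u : G)⁻¹ by
      rw [mul_inv_rev, mul_inv_rev, inv_inv,
        show (u : G) * (x⁻¹ * g) * (u : G)⁻¹ = (u : G) * x⁻¹ * (g * (u : G)⁻¹) by group,
        show g * (u : G)⁻¹ = (u : G)⁻¹ * g by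
          rw [eq_inv_mul_iff_mul_eq, ← mul_assoc, hu]; group]
      group]
    rw [hb u u.2]

/-- The Brauer map is multiplicative on the elements fixed by the `p`-subgroup. -/
theorem resTo_mul {p : ℕ} [CharP R p] [Fact p.Prime] {P : Subgroup G} (hP : IsPGroup p P)
    [Fintype (Subgroup.centralizer (P : Set G))]
    {a b : MonoidAlgebra R G}
    (ha : ∀ u ∈ P, ∀ g, a.coeff (u * g * u⁻¹) = a.coeff g)
    (hb : ∀ u ∈ P, ∀ g, b.coeff (u * g * u⁻¹) = b.coeff g) :
    resTo (Subgroup.centralizer (P : Set G)) (a * b) =
      resTo (Subgroup.centralizer (P : Set G)) a * resTo (Subgroup.centralizer (P : Set G)) b := by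
  classical
  refine ga_ext fun g => ?_
  rw [coeff_resTo, coeff_mul_brauer hP ha hb g.2, coeff_mul_sum]
  symm
  refine Finset.sum_bij (fun h _ => (h : G)) (by simp) (fun _ _ _ _ h => Subtype.ext h)
    (fun h hh => ⟨⟨h, (Finset.mem_filter.mp hh).2⟩, Finset.mem_univ _, rfl⟩) (fun h _ => ?_)
  simp

/-! ### Two-sided multiplications -/

/-- The matrix of `v ↦ a * v * c`. -/
noncomputable def biMat (a c : MonoidAlgebra R G) : Matrix G G R :=
  fun y v => (a * single v 1 * c).coeff y

/-- The trace of `v ↦ a * v * c`. -/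
noncomputable def biTrace (a c : MonoidAlgebra R G) : R := ∑ v, (a * single v 1 * c).coeff v

theorem biTrace_eq (a c : MonoidAlgebra R G) :
    biTrace a c = ∑ v, ∑ s, a.coeff s * c.coeff (v⁻¹ * s⁻¹ * v) := by
  refine Finset.sum_congr rfl fun v _ => ?_
  rw [mul_assoc a, coeff_mul_sum]
  refine Finset.sum_congr rfl fun s _ => ?_
  rw [coeff_single_mul', one_mul, mul_assoc]

theorem biMat_mul (a c a' c' : MonoidAlgebra R G) :
    biMat a c * biMat a' c' = biMat (a * a') (c' * c) := by
  refine Matrix.ext fun y v => ?_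
  rw [Matrix.mul_apply]
  have hlin : ∀ z : MonoidAlgebra R G,
      (a * z * c).coeff y = ∑ w, (a * single w 1 * c).coeff y * z.coeff w := by
    intro z
    induction z using MonoidAlgebra.induction_linear with
    | zero => simp
    | add f g hf hg =>
      rw [mul_add, add_mul]
      simp [hf, hg, mul_add, Finset.sum_add_distrib]
    | single u r =>
      rw [Finset.sum_eq_single u]
      · have hs : single u r = r • single u (1 : R) := by simp
        rw [hs, Algebra.mul_smul_comm, Algebra.smul_mul_assoc]
        simp [mul_comm]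
      · intro w _ hw; simp [Finsupp.single_eq_of_ne hw]
      · simp
  simp only [biMat]
  rw [← hlin (a' * single v 1 * c')]
  congr 2
  simp only [mul_assoc]

theorem biMat_idem {a c : MonoidAlgebra R G} (ha : a * a = a) (hc : c * c = c) :
    biMat a c * biMat a c = biMat a c := by
  rw [biMat_mul, ha, hc]

/-- The permutation `v ↦ u * v * w⁻¹`. -/
def biPerm (u w : G) : Equiv.Perm G := (Equiv.mulLeft u).trans (Equiv.mulRight w⁻¹)

@[simp] theorem biPerm_apply (u w v : G) : biPerm u w v = u * v * w⁻¹ := rfl

theorem biPerm_pow (u w : G) (n : ℕ) : biPerm u w ^ n = biPerm (u ^ n) (w ^ n) := by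
  induction n with
  | zero => ext v; simp
  | succ n ih =>
    ext v
    rw [pow_succ', Equiv.Perm.mul_apply, ih, biPerm_apply, biPerm_apply, biPerm_apply,
      pow_succ' u, pow_succ' w, mul_inv_rev]
    have : (w ^ n)⁻¹ * w⁻¹ = (w * w ^ n)⁻¹ := by rw [mul_inv_rev]
    simp only [mul_assoc]

theorem biMat_invariant {a c : MonoidAlgebra R G} {u w : G} (ha : Commute (single u 1) a)
    (hc : Commute (single w 1) c) (y v : G) :
    biMat a c (biPerm u w y) (biPerm u w v) = biMat a c y v := by
  have hc' : Commute (single w⁻¹ (1 : R)) c := by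
    rw [commute_single_iff] at hc ⊢
    intro g
    conv_rhs => rw [show g = w * (w⁻¹ * g * w⁻¹⁻¹) * w⁻¹ by group]
    rw [hc]
  simp only [biMat, biPerm_apply]
  have h1 : single (u * v * w⁻¹) (1 : R) = single u 1 * single v 1 * single w⁻¹ 1 := by
    simp [MonoidAlgebra.single_mul_single]
  rw [h1, show a * (single u (1 : R) * single v 1 * single w⁻¹ 1) * c =
      (a * single u (1 : R)) * single v 1 * (single w⁻¹ 1 * c) by simp only [mul_assoc],
    ← ha.eq, hc'.eq,
    show single u (1 : R) * a * single v 1 * (c * single w⁻¹ 1) =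
      single u (1 : R) * (a * single v 1 * c) * single w⁻¹ 1 by simp only [mul_assoc],
    coeff_mul_single', coeff_single_mul', one_mul, mul_one]
  congr 1
  group

theorem sum_biMat_biPerm (a c : MonoidAlgebra R G) (u w : G) :
    ∑ y, biMat a c y (biPerm u w y) = biTrace (a * single u 1) (single w⁻¹ 1 * c) := by
  refine Finset.sum_congr rfl fun y _ => ?_
  simp only [biMat, biPerm_apply]
  congr 2
  rw [show single (u * y * w⁻¹) (1 : R) = single u 1 * single y 1 * single w⁻¹ 1 by
    simp [MonoidAlgebra.single_mul_single]]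
  simp only [mul_assoc]

section main

variable [IsDomain R] [CharZero R] {K : Type*} [Field K] (p : ℕ) [Fact p.Prime] [CharP K p]
  (π : R →+* K)

/-- Twisted two-sided trace of commuting idempotents is zero if its reduction vanishes on the
fixed points. -/
theorem biTrace_eq_zero {n : ℕ} {ζ : R} (hζ : IsPrimitiveRoot ζ (p ^ n))
    {a c : MonoidAlgebra R G} (ha2 : a * a = a) (hc2 : c * c = c) {u w : G}
    (hu : u ^ p ^ n = 1) (hw : w ^ p ^ n = 1)
    (hau : Commute (single u 1) a) (hcw : Commute (single w 1) c)
    (hfix : ∀ y v, u * y = y * w → u * v = v * w →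
      π ((a * single v 1 * c).coeff y) = 0) :
    biTrace (a * single u 1) (single w⁻¹ 1 * c) = 0 := by
  rw [← sum_biMat_biPerm]
  refine trace_perm_eq_zero p π (n := n) ?_ hζ _ (biMat_invariant hau hcw) (biMat_idem ha2 hc2) ?_
  · rw [biPerm_pow, hu, hw]; ext; simp
  · intro y v hy hv
    rw [biPerm_apply, mul_inv_eq_iff_eq_mul] at hy hv
    exact hfix y v hy hv

include π in
/-- No fixed points: the twisted trace vanishes. -/
theorem biTrace_eq_zero_of_not_isConj {n : ℕ} {ζ : R} (hζ : IsPrimitiveRoot ζ (p ^ n))
    {a c : MonoidAlgebra R G} (ha2 : a * a = a) (hc2 : c * c = c) {u w : G}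
    (hu : u ^ p ^ n = 1) (hw : w ^ p ^ n = 1)
    (hau : Commute (single u 1) a) (hcw : Commute (single w 1) c) (hne : ¬ IsConj u w) :
    biTrace (a * single u 1) (single w⁻¹ 1 * c) = 0 := by
  refine biTrace_eq_zero p π hζ ha2 hc2 hu hw hau hcw fun y _ hy _ => absurd ?_ hne
  exact isConj_iff.mpr ⟨y⁻¹, by rw [inv_inv, mul_assoc, hy, ← mul_assoc, inv_mul_cancel, one_mul]⟩

end main

end CfsgLib.Block
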