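import Cfsg.Prelude.Def_Blocks
import Cfsg.Agent.Lib.Block.GroupAlg
import Cfsg.Agent.Lib.Char.Orthogonality

/-!
# Central characters of irreducible characters, as homomorphisms of the centre of the group algebra
-/

open Finset MonoidAlgebra
open scoped ComplexConjugate

set_option linter.unusedSectionVars false

namespace CfsgLib.Block

open Cfsg

universe u

variable {R : Type*} [CommRing R] {G : Type u} [Group G] [Fintype G] [DecidableEq G]

theorem mem_center_iff_isClassElt {z : MonoidAlgebra R G} :
    z ∈ Subalgebra.center R (MonoidAlgebra R G) ↔ IsClassElt z := by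
  rw [Subalgebra.mem_center_iff]
  refine ⟨fun h => (isClassElt_iff z).mpr fun u => h (single u 1), fun h b => ?_⟩
  exact ((IsClassElt.commute h b).eq).symm

/-- The centre of a group algebra as a commutative ring, with operations reducibly equal to those of
the subalgebra. -/
noncomputable instance (priority := high) instCommRingCenter {A : Type*} [Group A] :
    CommRing (Subalgebra.center R (MonoidAlgebra R A)) :=
  { Subalgebra.toRing (Subalgebra.center R (MonoidAlgebra R A)) with
    mul_comm := fun a b => Subtype.ext ((Subalgebra.mem_center_iff.mp b.2) a) }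

theorem IsClassElt.apply_eq_of_isConj {a : MonoidAlgebra R G} (ha : IsClassElt a) {g h : G}
    (hgh : IsConj g h) : a.coeff g = a.coeff h := by
  obtain ⟨c, rfl⟩ := isConj_iff.mp hgh
  exact (ha g c).symm

theorem isClassElt_gaOfFun {f : G → R} : IsClassElt (gaOfFun f) ↔ ∀ g h : G, f (h * g * h⁻¹) = f g :=
  Iff.rfl

theorem IsClassElt.map {S : Type*} [CommRing S] (f : R →+* S) {a : MonoidAlgebra R G}
    (ha : IsClassElt a) : IsClassElt (mapRingHom G f a) := fun g h => by
  simp [ha g h]

variable (R) in
/-- The class sum of `g` as an element of the group algebra. -/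
noncomputable def classSum (g : G) : MonoidAlgebra R G :=
  gaOfFun fun x => @ite R (IsConj g x) (Classical.propDecidable _) 1 0

theorem isClassElt_classSum (g : G) : IsClassElt (classSum R g) := by
  intro x h
  have : IsConj g (h * x * h⁻¹) ↔ IsConj g x :=
    ⟨fun e => e.trans (isConj_iff.mpr ⟨h, rfl⟩).symm, fun e => e.trans (isConj_iff.mpr ⟨h, rfl⟩)⟩
  simp only [classSum, coeff_gaOfFun]
  by_cases hx : IsConj g x
  · rw [if_pos hx, if_pos (this.mpr hx)]
  · rw [if_neg hx, if_neg (mt this.mp hx)]

theorem classSum_mem_center (g : G) :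
    classSum R g ∈ Subalgebra.center R (MonoidAlgebra R G) :=
  mem_center_iff_isClassElt.mpr (isClassElt_classSum g)

theorem map_classSum {S : Type*} [CommRing S] (f : R →+* S) (g : G) :
    mapRingHom G f (classSum R g) = classSum S g := by
  refine ga_ext fun x => ?_
  simp only [classSum, coeff_mapRingHom, coeff_gaOfFun]
  split_ifs <;> simp

/-- The coefficient functional `z ↦ (∑ z_g χ g) / χ 1`. -/
noncomputable def omega (χ : G → ℂ) (z : MonoidAlgebra ℂ G) : ℂ :=
  (∑ g, z.coeff g * χ g) / χ 1

theorem omega_add (χ : G → ℂ) (a b : MonoidAlgebra ℂ G) :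
    omega χ (a + b) = omega χ a + omega χ b := by
  simp [omega, add_mul, Finset.sum_add_distrib, add_div]

theorem omega_sub (χ : G → ℂ) (a b : MonoidAlgebra ℂ G) :
    omega χ (a - b) = omega χ a - omega χ b := by
  simp [omega, sub_mul, Finset.sum_sub_distrib, sub_div]

theorem omega_smul (χ : G → ℂ) (c : ℂ) (a : MonoidAlgebra ℂ G) :
    omega χ (c • a) = c * omega χ a := by
  simp only [omega, MonoidAlgebra.coeff_smul, Finsupp.smul_apply, smul_eq_mul, mul_assoc,
    ← Finset.mul_sum, mul_div_assoc]

theorem omega_classSum {χ : G → ℂ} (hχ : IsClassFunction G χ) (g : G) :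
    omega χ (classSum ℂ g) = centralChar χ g := by
  classical
  rw [omega, centralChar, ← Char.card_isConj g]
  congr 1
  simp only [classSum, coeff_gaOfFun, ite_mul, one_mul, zero_mul]
  rw [← Finset.sum_filter, Finset.sum_congr rfl (g := fun _ => χ g) (fun x hx =>
    (Char.classFun_isConj hχ (Finset.mem_filter.mp hx).2).symm), Finset.sum_const, nsmul_eq_mul,
    Nat.card_eq_fintype_card, Fintype.card_subtype]

variable {χ : G → ℂ}

theorem rho_classElt {V : Type*} [AddCommGroup V] [Module ℂ V] [FiniteDimensional ℂ V]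
    (ρ : Representation ℂ G V) [ρ.IsIrreducible] {z : MonoidAlgebra ℂ G} (hz : IsClassElt z) :
    ρ.asAlgebraHom z = algebraMap ℂ (Module.End ℂ V) (omega ρ.character z) := by
  let T : V →ₗ[ℂ] V := ρ.asAlgebraHom z
  have hT : ∀ x : G, T ∘ₗ ρ x = ρ x ∘ₗ T := fun x => by
    rw [← Module.End.mul_eq_comp, ← Module.End.mul_eq_comp, ← Representation.asAlgebraHom_single_one]
    simp only [T, ← map_mul]
    rw [((isClassElt_iff z).mp hz x).eq]
  obtain ⟨c, hc⟩ := (Representation.IsIrreducible.algebraMap_intertwiningMap_bijective_of_isAlgClosed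
    (ρ := ρ)).surjective ⟨T, hT⟩
  have hTc : T = c • LinearMap.id := by
    have := congrArg Representation.IntertwiningMap.toLinearMap hc
    simp only [Representation.IntertwiningMap.algebraMap_apply,
      Representation.IntertwiningMap.toLinearMap_smul] at this
    rw [← this]
    rfl
  have htr : LinearMap.trace ℂ V T = ∑ g, z.coeff g * ρ.character g := by
    have hz' : z = ∑ g, single g (z.coeff g) := ga_ext fun g => by
      rw [coeff_sum_apply, Finset.sum_eq_single g] <;> simp +contextual
    conv_lhs => rw [show T = ρ.asAlgebraHom (∑ g, single g (z.coeff g)) by rw [← hz']]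
    simp [Representation.character]
  have hdim : ρ.character 1 ≠ 0 := Char.irr_one_ne_zero ⟨_, Char.isIrrCharacter_character ρ⟩
  have homega : omega ρ.character z = c := by
    rw [omega, ← htr, hTc, map_smul, LinearMap.trace_id, smul_eq_mul]
    rw [Representation.char_one] at hdim ⊢
    field_simp
  rw [homega]
  show T = _
  rw [hTc]
  rfl

theorem omega_mul (hχ : IsIrrCharacter G χ) {a b : MonoidAlgebra ℂ G} (ha : IsClassElt a)
    (hb : IsClassElt b) : omega χ (a * b) = omega χ a * omega χ b := by
  obtain ⟨n, ρ, hρ, rfl⟩ := hχ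
  have hne : Nontrivial (Fin n → ℂ) := by
    by_contra h
    rw [not_nontrivial_iff_subsingleton] at h
    have : Nontrivial (Subrepresentation ρ) := hρ.toNontrivial
    obtain ⟨x, y, hxy⟩ := exists_pair_ne (Subrepresentation ρ)
    exact hxy (Subrepresentation.toSubmodule_injective (Subsingleton.elim _ _))
  apply (algebraMap ℂ (Module.End ℂ (Fin n → ℂ))).injective
  rw [map_mul, ← rho_classElt ρ (ha.mul hb), ← rho_classElt ρ ha, ← rho_classElt ρ hb, map_mul]

theorem omega_one (hχ : IsIrrCharacter G χ) : omega χ 1 = 1 := by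
  have h1 : χ 1 ≠ 0 := Char.irr_one_ne_zero ⟨χ, hχ⟩
  rw [omega, Finset.sum_eq_single 1]
  · simp [MonoidAlgebra.one_def, h1]
  · intro g _ hg; simp [MonoidAlgebra.one_def, Finsupp.single_eq_of_ne hg]
  · simp

/-- The central character, as a homomorphism on the centre of the group algebra. -/
noncomputable def omegaHom (hχ : IsIrrCharacter G χ) :
    Subalgebra.center ℂ (MonoidAlgebra ℂ G) →ₐ[ℂ] ℂ where
  toFun z := omega χ z
  map_one' := omega_one hχ
  map_mul' a b := omega_mul hχ (mem_center_iff_isClassElt.mp a.2) (mem_center_iff_isClassElt.mp b.2)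
  map_zero' := by simp [omega]
  map_add' a b := omega_add χ a b
  commutes' c := by
    show omega χ (algebraMap ℂ (MonoidAlgebra ℂ G) c) = c
    rw [Algebra.algebraMap_eq_smul_one, omega_smul, omega_one hχ, mul_one]

/-- Central characters of integral class elements are algebraic integers. -/
theorem isIntegral_omega (hχ : IsIrrCharacter G χ) {z : MonoidAlgebra ℤ G} (hz : IsClassElt z) :
    IsIntegral ℤ (omega χ (mapRingHom G (Int.castRingHom ℂ) z)) := by
  obtain ⟨n, ρ, hρ, rfl⟩ := hχ
  have hne : Nontrivial (Fin n → ℂ) := by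
    by_contra h
    rw [not_nontrivial_iff_subsingleton] at h
    have : Nontrivial (Subrepresentation ρ) := hρ.toNontrivial
    obtain ⟨x, y, hxy⟩ := exists_pair_ne (Subrepresentation ρ)
    exact hxy (Subrepresentation.toSubmodule_injective (Subsingleton.elim _ _))
  have : Module.Finite ℤ (MonoidAlgebra ℤ G) := inferInstance
  have h := map_isIntegral_int (ρ.asAlgebraHom.toRingHom.comp (mapRingHom G (Int.castRingHom ℂ)))
    (IsIntegral.of_finite ℤ z)
  rw [RingHom.comp_apply, AlgHom.toRingHom_eq_coe, RingHom.coe_coe,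
    rho_classElt ρ (hz.map _)] at h
  exact (isIntegral_algebraMap_iff (RingHom.injective _)).mp h

theorem isIntegral_centralChar (hχ : IsIrrCharacter G χ) (g : G) :
    IsIntegral ℤ (centralChar χ g) := by
  have h := isIntegral_omega hχ (isClassElt_classSum (R := ℤ) g)
  rwa [map_classSum, omega_classSum (Char.isClassFunction_irr ⟨χ, hχ⟩)] at h

/-! ### The primitive central idempotents over `ℂ` -/

/-- The central idempotent of an irreducible character. -/
noncomputable def charIdem (χ : G → ℂ) : MonoidAlgebra ℂ G :=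
  gaOfFun fun g => (Nat.card G : ℂ)⁻¹ * (χ 1 * conj (χ g))

theorem isClassElt_charIdem (hχ : IsClassFunction G χ) : IsClassElt (charIdem χ) := fun g h => by
  simp only [charIdem, coeff_gaOfFun, hχ g h]

theorem omega_charIdem (χ ψ : IrrCharacter G) [Decidable (χ = ψ)] :
    omega (χ : G → ℂ) (charIdem (ψ : G → ℂ)) = if χ = ψ then 1 else 0 := by
  have h : omega (χ : G → ℂ) (charIdem (ψ : G → ℂ)) =
      (ψ : G → ℂ) 1 / (χ : G → ℂ) 1 * classInner (χ : G → ℂ) ψ := by
    simp only [omega, charIdem, coeff_gaOfFun, classInner, Finset.mul_sum, Finset.sum_div]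
    exact Finset.sum_congr rfl fun g _ => by ring
  rw [h, Char.classInner_irr]
  split_ifs with e
  · subst e
    rw [div_self (Char.irr_one_ne_zero χ), one_mul]
  · rw [mul_zero]

/-- An element of the centre is determined by the central characters. -/
theorem classElt_ext {a b : MonoidAlgebra ℂ G} (ha : IsClassElt a) (hb : IsClassElt b)
    (h : ∀ χ : IrrCharacter G, omega (χ : G → ℂ) a = omega (χ : G → ℂ) b) : a = b := by
  let f : G → ℂ := fun g => a.coeff g⁻¹ - b.coeff g⁻¹
  have hf : IsClassFunction G f := fun g k => by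
    simp only [f, mul_inv_rev, inv_inv, ← mul_assoc]
    rw [ha g⁻¹ k, hb g⁻¹ k]
  have h0 : f = 0 := by
    refine Char.classFun_eq_zero_of_perp hf fun χ => ?_
    have h1 := h χ
    rw [← sub_eq_zero, ← omega_sub, omega, div_eq_zero_iff] at h1
    have h2 := h1.resolve_right (Char.irr_one_ne_zero χ)
    rw [classInner, mul_eq_zero]
    right
    rw [← h2]
    refine Fintype.sum_equiv (Equiv.inv G) _ _ fun g => ?_
    simp [f, Char.irr_inv]
  refine ga_ext fun g => sub_eq_zero.mp ?_
  simpa [f] using congrFun h0 g⁻¹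

theorem classElt_expand [Fintype (IrrCharacter G)] {z : MonoidAlgebra ℂ G} (hz : IsClassElt z) :
    z = ∑ χ : IrrCharacter G, omega (χ : G → ℂ) z • charIdem (χ : G → ℂ) := by
  classical
  refine classElt_ext hz (mem_center_iff_isClassElt.mp (Subalgebra.sum_mem _ fun χ _ =>
    Subalgebra.smul_mem _ (mem_center_iff_isClassElt.mpr
      (isClassElt_charIdem (Char.isClassFunction_irr χ))) _)) fun ψ => ?_
  have hsum : ∀ (s : Finset (IrrCharacter G)) (f : IrrCharacter G → MonoidAlgebra ℂ G),
      omega (ψ : G → ℂ) (∑ χ ∈ s, f χ) = ∑ χ ∈ s, omega (ψ : G → ℂ) (f χ) := fun s f =>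
    map_sum (AddMonoidHom.mk' (omega (ψ : G → ℂ)) (omega_add _)) f s
  rw [hsum]
  simp [omega_smul, omega_charIdem]

/-- The coefficients of a central element in terms of its central characters. -/
theorem coeff_classElt [Fintype (IrrCharacter G)] {z : MonoidAlgebra ℂ G} (hz : IsClassElt z)
    (g : G) : z.coeff g = (Nat.card G : ℂ)⁻¹ *
      ∑ χ : IrrCharacter G, omega (χ : G → ℂ) z * ((χ : G → ℂ) 1 * conj ((χ : G → ℂ) g)) := by
  conv_lhs => rw [classElt_expand hz]
  simp only [coeff_sum_apply, MonoidAlgebra.coeff_smul, Finsupp.smul_apply, charIdem, coeff_gaOfFun,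
    smul_eq_mul, Finset.mul_sum]
  exact Finset.sum_congr rfl fun χ _ => by ring

end CfsgLib.Block
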