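import Cfsg.Agent.Lib.Block.Local
import Cfsg.Agent.Lib.Block.CentralChar

/-!
# Blocks through residues of central characters, block idempotents

`omegaLoc`, `omegaRes` : central characters on the centre of the group algebra over the local ring;
`blockCoeff_mem` (integrality), `blockIdem`, `isNilpotent_map_of_omegaRes`.
-/

open Finset MonoidAlgebra
open scoped ComplexConjugate

set_option linter.unusedSectionVars false

namespace CfsgLib.Block

open Cfsg

universe u

variable {p : ℕ} {M : Ideal AlgInt} [M.IsMaximal] {G : Type u} [Group G]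

/-! ### The block relation -/

theorem sameBlock_refl (χ : G → ℂ) : SameBlock M χ χ := fun g => by
  rw [sub_self]
  exact ⟨0, 1, M.zero_mem, Ideal.IsPrime.one_notMem inferInstance, by simp⟩

theorem memLocalIdeal_neg {z : ℂ} (h : MemLocalIdeal M z) : MemLocalIdeal M (-z) := by
  obtain ⟨a, b, ha, hb, rfl⟩ := h
  exact ⟨-a, b, M.neg_mem ha, hb, by push_cast; rw [neg_div]⟩

theorem memLocalIdeal_add {z w : ℂ} (h : MemLocalIdeal M z) (h' : MemLocalIdeal M w) :
    MemLocalIdeal M (z + w) := by
  obtain ⟨hz, hz0⟩ := memLocalIdeal_iff.mp h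
  obtain ⟨hw, hw0⟩ := memLocalIdeal_iff.mp h'
  refine memLocalIdeal_iff.mpr ⟨(locRing M).add_mem hz hw, ?_⟩
  have := map_add (res M) ⟨z, hz⟩ ⟨w, hw⟩
  rw [hz0, hw0, add_zero] at this
  exact this

theorem sameBlock_symm {χ ψ : G → ℂ} (h : SameBlock M χ ψ) : SameBlock M ψ χ := fun g => by
  have := memLocalIdeal_neg (h g)
  rwa [neg_sub] at this

theorem sameBlock_trans {χ ψ θ : G → ℂ} (h : SameBlock M χ ψ) (h' : SameBlock M ψ θ) :
    SameBlock M χ θ := fun g => by
  have := memLocalIdeal_add (h g) (h' g)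
  rwa [sub_add_sub_cancel] at this

theorem mem_blockOf {χ : G → ℂ} {ψ : IrrCharacter G} :
    ψ ∈ blockOf M χ ↔ SameBlock M χ (ψ : G → ℂ) := Iff.rfl

theorem self_mem_blockOf (χ : IrrCharacter G) : χ ∈ blockOf M (χ : G → ℂ) := sameBlock_refl _

theorem blockOf_eq {χ ψ : G → ℂ} (h : SameBlock M χ ψ) : blockOf M χ = blockOf M ψ := by
  ext θ
  exact ⟨fun h' => sameBlock_trans (sameBlock_symm h) h', fun h' => sameBlock_trans h h'⟩

theorem isPBlock_blockOf (χ : IrrCharacter G) : IsPBlock M (blockOf M (χ : G → ℂ)) := ⟨χ, rfl⟩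

theorem isPBlock_eq_blockOf {B : Set (IrrCharacter G)} (hB : IsPBlock M B) {χ : IrrCharacter G}
    (hχ : χ ∈ B) : B = blockOf M (χ : G → ℂ) := by
  obtain ⟨χ₀, rfl⟩ := hB
  exact blockOf_eq hχ

theorem isPBlock_nonempty {B : Set (IrrCharacter G)} (hB : IsPBlock M B) : B.Nonempty := by
  obtain ⟨χ₀, rfl⟩ := hB
  exact ⟨χ₀, self_mem_blockOf χ₀⟩

theorem isPBlock_sameBlock {B : Set (IrrCharacter G)} (hB : IsPBlock M B) {χ ψ : IrrCharacter G}
    (hχ : χ ∈ B) : ψ ∈ B ↔ SameBlock M (χ : G → ℂ) (ψ : G → ℂ) := by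
  rw [isPBlock_eq_blockOf hB hχ]; rfl

theorem isPBlock_eq_of_mem {B B' : Set (IrrCharacter G)} (hB : IsPBlock M B) (hB' : IsPBlock M B')
    {χ : IrrCharacter G} (h : χ ∈ B) (h' : χ ∈ B') : B = B' := by
  rw [isPBlock_eq_blockOf hB h, isPBlock_eq_blockOf hB' h']

/-- The principal character. -/
def oneChar (G : Type u) [Group G] : IrrCharacter G := ⟨_, Char.isIrrCharacter_one⟩

theorem principalBlock_eq : principalBlock M G = blockOf M (oneChar G : G → ℂ) := rfl

theorem isPBlock_principalBlock : IsPBlock M (principalBlock M G) := ⟨oneChar G, rfl⟩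

theorem one_mem_principalBlock : oneChar G ∈ principalBlock M G := sameBlock_refl _

/-- A union of blocks. -/
def IsBlockUnion (M : Ideal AlgInt) (S : Set (IrrCharacter G)) : Prop :=
  ∀ χ ∈ S, ∀ ψ : IrrCharacter G, SameBlock M (χ : G → ℂ) (ψ : G → ℂ) → ψ ∈ S

theorem IsBlockUnion.of_isPBlock {B : Set (IrrCharacter G)} (hB : IsPBlock M B) :
    IsBlockUnion M B := fun _ hχ _ h => (isPBlock_sameBlock hB hχ).mpr h

theorem IsBlockUnion.univ : IsBlockUnion M (Set.univ : Set (IrrCharacter G)) :=
  fun _ _ _ _ => Set.mem_univ _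

theorem IsBlockUnion.compl {S : Set (IrrCharacter G)} (hS : IsBlockUnion M S) :
    IsBlockUnion M Sᶜ := fun χ hχ ψ h hψ => hχ (hS ψ hψ χ (sameBlock_symm h))

/-! ### Central characters over the local ring -/

variable [Fintype G] [DecidableEq G]

variable (M) in
/-- Coefficients into `ℂ`. -/
noncomputable def toC : MonoidAlgebra (locRing M) G →+* MonoidAlgebra ℂ G :=
  mapRingHom G (locRing M).subtype

@[simp] theorem coeff_toC (z : MonoidAlgebra (locRing M) G) (g : G) :
    (toC M z).coeff g = (z.coeff g : ℂ) := by simp [toC]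

theorem toC_injective : Function.Injective (toC M (G := G)) := fun a b h => ga_ext fun g => by
  apply Subtype.ext
  rw [← coeff_toC, ← coeff_toC, h]

variable (M) in
/-- Reduction of coefficients. -/
noncomputable def toK : MonoidAlgebra (locRing M) G →+* MonoidAlgebra (ResField M) G :=
  mapRingHom G (res M)

@[simp] theorem coeff_toK (z : MonoidAlgebra (locRing M) G) (g : G) :
    (toK M z).coeff g = res M (z.coeff g) := by simp [toK]

theorem isClassElt_toC (z : Subalgebra.center (locRing M) (MonoidAlgebra (locRing M) G)) :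
    IsClassElt (toC M (z : MonoidAlgebra (locRing M) G)) :=
  (mem_center_iff_isClassElt.mp z.2).map _

theorem centralChar_mem (χ : IrrCharacter G) (g : G) : centralChar (χ : G → ℂ) g ∈ locRing M :=
  integral_mem M (isIntegral_centralChar χ.2 g)

variable (M) in
/-- The reduction of the central character. -/
noncomputable def centralRes (χ : IrrCharacter G) (g : G) : ResField M :=
  res M ⟨centralChar (χ : G → ℂ) g, centralChar_mem χ g⟩

theorem sameBlock_iff_centralRes {χ ψ : IrrCharacter G} :
    SameBlock M (χ : G → ℂ) (ψ : G → ℂ) ↔ ∀ g, centralRes M χ g = centralRes M ψ g := by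
  refine forall_congr' fun g => ?_
  exact memLocalIdeal_sub_iff (M := M) ⟨_, centralChar_mem χ g⟩ ⟨_, centralChar_mem ψ g⟩

section classes

variable [Fintype (ConjClasses G)]

/-- A chosen representative of a conjugacy class. -/
noncomputable def rep (C : ConjClasses G) : G := Quotient.out (s := IsConj.setoid G) C

theorem mk_rep (C : ConjClasses G) : ConjClasses.mk (rep C) = C :=
  Quotient.out_eq (s := IsConj.setoid G) C

theorem isConj_rep (g : G) : IsConj (rep (ConjClasses.mk g)) g :=
  ConjClasses.mk_eq_mk_iff_isConj.mp (mk_rep _)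

theorem classElt_eq_sum {R : Type*} [CommRing R] {z : MonoidAlgebra R G} (hz : IsClassElt z) :
    z = ∑ C : ConjClasses G, z.coeff (rep C) • classSum R (rep C) := by
  classical
  refine ga_ext fun g => ?_
  rw [coeff_sum_apply, Finset.sum_eq_single (ConjClasses.mk g)]
  · simp only [classSum, MonoidAlgebra.coeff_smul, Finsupp.smul_apply, coeff_gaOfFun, if_pos (isConj_rep g),
      smul_eq_mul, mul_one, hz.apply_eq_of_isConj (isConj_rep g)]
  · intro C _ hC
    have : ¬ IsConj (rep C) g := fun h => hC (by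
      rw [← mk_rep C]; exact ConjClasses.mk_eq_mk_iff_isConj.mpr h)
    simp only [classSum, MonoidAlgebra.coeff_smul, Finsupp.smul_apply, coeff_gaOfFun, if_neg this,
      smul_eq_mul, mul_zero]
  · simp

theorem omega_toC_eq (χ : IrrCharacter G) {z : MonoidAlgebra (locRing M) G} (hz : IsClassElt z) :
    omega (χ : G → ℂ) (toC M z) =
      ∑ C : ConjClasses G, (z.coeff (rep C) : ℂ) * centralChar (χ : G → ℂ) (rep C) := by
  have hz' : toC M z = ∑ C : ConjClasses G, (toC M z).coeff (rep C) • classSum ℂ (rep C) :=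
    classElt_eq_sum (hz.map _)
  rw [hz']
  have hsum : ∀ (s : Finset (ConjClasses G)) (f : ConjClasses G → MonoidAlgebra ℂ G),
      omega (χ : G → ℂ) (∑ C ∈ s, f C) = ∑ C ∈ s, omega (χ : G → ℂ) (f C) := fun s f =>
    map_sum (AddMonoidHom.mk' (omega (χ : G → ℂ)) (omega_add _)) f s
  rw [hsum]
  refine Finset.sum_congr rfl fun C _ => ?_
  rw [omega_smul, omega_classSum (Char.isClassFunction_irr χ), coeff_toC]

end classes

variable (M) in
/-- The central character on the centre of the group algebra over the local ring. -/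
noncomputable def omegaLoc (χ : IrrCharacter G) :
    Subalgebra.center (locRing M) (MonoidAlgebra (locRing M) G) →+* locRing M where
  toFun z := ⟨omega (χ : G → ℂ) (toC M (z : MonoidAlgebra (locRing M) G)), by
    classical
    have := Fintype.ofFinite (ConjClasses G)
    rw [omega_toC_eq χ (mem_center_iff_isClassElt.mp z.2)]
    exact Subring.sum_mem _ fun C _ =>
      Subring.mul_mem _ (SetLike.coe_mem _) (centralChar_mem χ _)⟩
  map_one' := Subtype.ext (by simp [omega_one χ.2])
  map_mul' a b := Subtype.ext (by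
    simp only [MulMemClass.coe_mul, map_mul]
    exact omega_mul χ.2 ((mem_center_iff_isClassElt.mp a.2).map _)
      ((mem_center_iff_isClassElt.mp b.2).map _))
  map_zero' := Subtype.ext (by simp [omega])
  map_add' a b := Subtype.ext (by simp [omega_add])

@[simp] theorem coe_omegaLoc (χ : IrrCharacter G)
    (z : Subalgebra.center (locRing M) (MonoidAlgebra (locRing M) G)) :
    (omegaLoc M χ z : ℂ) = omega (χ : G → ℂ) (toC M (z : MonoidAlgebra (locRing M) G)) := rfl

variable (M) in
/-- The reduced central character on the centre of the group algebra over the local ring. -/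
noncomputable def omegaRes (χ : IrrCharacter G) :
    Subalgebra.center (locRing M) (MonoidAlgebra (locRing M) G) →+* ResField M :=
  (res M).comp (omegaLoc M χ)

theorem omegaRes_classSum (χ : IrrCharacter G) (g : G) :
    omegaRes M χ ⟨classSum (locRing M) g, classSum_mem_center g⟩ = centralRes M χ g := by
  refine congrArg (res M) (Subtype.ext ?_)
  simp only [coe_omegaLoc, toC, map_classSum]
  exact omega_classSum (Char.isClassFunction_irr χ) g

theorem omegaRes_algebraMap (χ : IrrCharacter G) (c : locRing M) :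
    omegaRes M χ (algebraMap (locRing M) _ c) = res M c := by
  refine congrArg (res M) (Subtype.ext ?_)
  rw [coe_omegaLoc, Subalgebra.coe_algebraMap, Algebra.algebraMap_eq_smul_one]
  have : toC M (c • (1 : MonoidAlgebra (locRing M) G)) = (c : ℂ) • 1 := ga_ext fun g => by
    by_cases hg : 1 = g <;> simp [MonoidAlgebra.one_def, Finsupp.single_apply, hg]
  rw [this, omega_smul, omega_one χ.2, mul_one]

theorem omegaRes_sub (χ : IrrCharacter G)
    (a b : Subalgebra.center (locRing M) (MonoidAlgebra (locRing M) G)) :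
    omegaRes M χ (a - b) = omegaRes M χ a - omegaRes M χ b := map_sub (omegaRes M χ) a b

theorem omegaLoc_sub (χ : IrrCharacter G)
    (a b : Subalgebra.center (locRing M) (MonoidAlgebra (locRing M) G)) :
    omegaLoc M χ (a - b) = omegaLoc M χ a - omegaLoc M χ b := map_sub (omegaLoc M χ) a b

theorem sameBlock_iff_omegaRes {χ ψ : IrrCharacter G} :
    SameBlock M (χ : G → ℂ) (ψ : G → ℂ) ↔ omegaRes M χ = omegaRes M ψ := by
  refine ⟨fun h => RingHom.ext fun z => ?_, fun h => sameBlock_iff_centralRes.mpr fun g => by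
    rw [← omegaRes_classSum, h, omegaRes_classSum]⟩
  classical
  have := Fintype.ofFinite (ConjClasses G)
  have hz : z = ∑ C : ConjClasses G, algebraMap (locRing M) _
      ((z : MonoidAlgebra (locRing M) G).coeff (rep C)) *
        ⟨classSum (locRing M) (rep C), classSum_mem_center _⟩ := by
    apply Subtype.ext
    rw [AddSubmonoidClass.coe_finsetSum]
    conv_lhs => rw [classElt_eq_sum (mem_center_iff_isClassElt.mp z.2)]
    refine Finset.sum_congr rfl fun C _ => ?_
    rw [MulMemClass.coe_mul, Subalgebra.coe_algebraMap, Algebra.smul_def]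
  rw [hz, map_sum, map_sum]
  refine Finset.sum_congr rfl fun C _ => ?_
  rw [map_mul, map_mul, omegaRes_algebraMap, omegaRes_algebraMap, omegaRes_classSum,
    omegaRes_classSum, sameBlock_iff_centralRes.mp h]

/-! ### Integrality of block idempotents -/

theorem exists_separating (χ : IrrCharacter G) :
    ∃ u, ∀ ψ : IrrCharacter G, omegaRes M ψ u =
      @ite _ (SameBlock M (χ : G → ℂ) (ψ : G → ℂ)) (Classical.propDecidable _) 1 0 := by
  classical
  have := Fintype.ofFinite (IrrCharacter G)
  have h1 : ∀ ψ : IrrCharacter G, ∃ u, omegaRes M χ u = 1 ∧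
      (¬ SameBlock M (χ : G → ℂ) (ψ : G → ℂ) → omegaRes M ψ u = 0) := by
    intro ψ
    by_cases hψ : SameBlock M (χ : G → ℂ) (ψ : G → ℂ)
    · exact ⟨1, map_one _, fun h => absurd hψ h⟩
    · obtain ⟨g, hg⟩ := not_forall.mp (mt sameBlock_iff_centralRes.mpr hψ)
      obtain ⟨c, hc⟩ := res_surjective (M := M) (centralRes M ψ g)
      obtain ⟨d, hd⟩ := res_surjective (M := M) (centralRes M χ g - centralRes M ψ g)⁻¹
      refine ⟨(⟨classSum (locRing M) g, classSum_mem_center g⟩ - algebraMap _ _ c) *
        algebraMap _ _ d, ?_, fun _ => ?_⟩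
      · rw [map_mul, omegaRes_sub, omegaRes_classSum, omegaRes_algebraMap, omegaRes_algebraMap, hc, hd,
          mul_inv_cancel₀ (sub_ne_zero.mpr hg)]
      · rw [map_mul, omegaRes_sub, omegaRes_classSum, omegaRes_algebraMap, hc, sub_self, zero_mul]
  choose u hu using h1
  refine ⟨∏ ψ : IrrCharacter G, u ψ, fun θ => ?_⟩
  rw [map_prod]
  split_ifs with hθ
  · rw [← sameBlock_iff_omegaRes.mp hθ]
    exact Finset.prod_eq_one fun ψ _ => (hu ψ).1
  · exact Finset.prod_eq_zero (Finset.mem_univ θ) ((hu θ).2 hθ)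

theorem exists_indicator {S : Set (IrrCharacter G)} (hS : IsBlockUnion M S) :
    ∃ u, ∀ ψ : IrrCharacter G, omegaRes M ψ u = @ite _ (ψ ∈ S) (Classical.propDecidable _) 1 0 := by
  classical
  have := Fintype.ofFinite (IrrCharacter G)
  choose u hu using fun χ : IrrCharacter G => exists_separating (M := M) χ
  refine ⟨1 - ∏ χ ∈ Finset.univ.filter (· ∈ S), (1 - u χ), fun ψ => ?_⟩
  rw [omegaRes_sub, map_one, map_prod]
  split_ifs with hψ
  · rw [Finset.prod_eq_zero (i := ψ) (by simp [hψ]), sub_zero]
    rw [omegaRes_sub, map_one, hu, if_pos (sameBlock_refl _), sub_self]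
  · rw [Finset.prod_eq_one, sub_self]
    intro χ hχ
    rw [omegaRes_sub, map_one, hu, if_neg, sub_zero]
    exact fun h => hψ (hS χ (Finset.mem_filter.mp hχ).2 ψ h)

/-- Lifting to an element whose central characters are congruent modulo `|G|` times the maximal
ideal to the indicator of a union of blocks. -/
theorem exists_indicator_card (hM : IsPModular p M) {S : Set (IrrCharacter G)}
    (hS : IsBlockUnion M S) :
    ∃ (v : Subalgebra.center (locRing M) (MonoidAlgebra (locRing M) G))
      (y : IrrCharacter G → locRing M), (∀ ψ, res M (y ψ) = 0) ∧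
      ∀ ψ : IrrCharacter G, omegaLoc M ψ v =
        @ite _ (ψ ∈ S) (Classical.propDecidable _) 1 0 + (Nat.card G : locRing M) * y ψ := by
  classical
  have := Fintype.ofFinite (IrrCharacter G)
  obtain ⟨u, hu⟩ := exists_indicator hS
  have hcard : Nat.card G ≠ 0 := Nat.card_pos.ne'
  let e : IrrCharacter G → locRing M :=
    fun ψ => if ψ ∈ S then 1 - omegaLoc M ψ u else omegaLoc M ψ u
  have he : ∀ ψ, res M (e ψ) = 0 := fun ψ => by
    have h := hu ψ
    simp only [e]
    split_ifs with hψ
    · rw [if_pos hψ] at h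
      rw [map_sub, map_one, show res M (omegaLoc M ψ u) = 1 from h, sub_self]
    · rw [if_neg hψ] at h
      exact h
  choose N hN using fun ψ => exists_pow_eq_natCast_mul (M := M) hM (he ψ) hcard
  let n := ∑ ψ : IrrCharacter G, N ψ + 1
  refine ⟨1 - (1 - u ^ n) ^ n, ?_⟩
  have key : ∀ ψ : IrrCharacter G, ∃ y, res M y = 0 ∧ omegaLoc M ψ (1 - (1 - u ^ n) ^ n) =
      (if ψ ∈ S then 1 else 0) + (Nat.card G : locRing M) * y := by
    intro ψ
    obtain ⟨y, hy, hy0⟩ := hN ψ n
      (le_trans (Finset.single_le_sum (fun _ _ => Nat.zero_le _) (Finset.mem_univ ψ)) (Nat.le_succ _))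
    simp only [omegaLoc_sub, map_one, map_pow]
    simp only [e] at hy
    split_ifs with hψ
    · rw [if_pos hψ] at hy
      refine ⟨-((∑ i ∈ Finset.range n, omegaLoc M ψ u ^ i) ^ n * y), by
        rw [map_neg, map_mul, hy0, mul_zero, neg_zero], ?_⟩
      rw [← geom_sum_mul_neg (omegaLoc M ψ u) n, mul_pow, hy]
      ring
    · rw [if_neg hψ] at hy
      refine ⟨(∑ i ∈ Finset.range n, (1 - omegaLoc M ψ u ^ n) ^ i) * y, by
        rw [map_mul, hy0, mul_zero], ?_⟩
      rw [← geom_sum_mul_neg (1 - omegaLoc M ψ u ^ n) n, sub_sub_cancel, hy]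
      ring
  choose y hy0 hy using key
  exact ⟨y, hy0, hy⟩

theorem coeff_eq_blockCoeff_add [Fintype (IrrCharacter G)]
    {z : Subalgebra.center (locRing M) (MonoidAlgebra (locRing M) G)} {S : Set (IrrCharacter G)}
    {y : IrrCharacter G → locRing M}
    (h : ∀ ψ : IrrCharacter G, omegaLoc M ψ z =
        @ite _ (ψ ∈ S) (Classical.propDecidable _) 1 0 + (Nat.card G : locRing M) * y ψ)
    (g : G) : ((z : MonoidAlgebra (locRing M) G).coeff g : ℂ) = blockCoeff S g +
      ∑ ψ : IrrCharacter G, (y ψ : ℂ) * ((ψ : G → ℂ) 1 * conj ((ψ : G → ℂ) g)) := by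
  classical
  have hG : (Nat.card G : ℂ) ≠ 0 := Nat.cast_ne_zero.mpr Nat.card_pos.ne'
  rw [← coeff_toC, coeff_classElt (isClassElt_toC z)]
  have hval : ∀ ψ : IrrCharacter G, omega (ψ : G → ℂ) (toC M (z : MonoidAlgebra (locRing M) G)) =
      (if ψ ∈ S then 1 else 0) + (Nat.card G : ℂ) * (y ψ : ℂ) := fun ψ => by
    rw [← coe_omegaLoc, h ψ, Subring.coe_add, Subring.coe_mul, SubringClass.coe_natCast]
    congr 1
    split_ifs <;> rfl
  simp only [hval, add_mul, Finset.sum_add_distrib, mul_add, ite_mul, one_mul, zero_mul]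
  congr 1
  · rw [blockCoeff, finsum_mem_eq_toFinset_sum, ← Finset.sum_filter]
    congr 1
    refine Finset.sum_congr ?_ fun _ _ => rfl
    ext ψ
    simp
  · rw [Finset.mul_sum]
    refine Finset.sum_congr rfl fun ψ _ => ?_
    field_simp

theorem conj_irr_mem (χ : IrrCharacter G) (g : G) :
    (χ : G → ℂ) 1 * conj ((χ : G → ℂ) g) ∈ locRing M := by
  rw [← Char.irr_inv]
  exact integral_mem M ((Char.isCharacter_isIntegral (Char.isCharacter_irr χ) _).mul
    (Char.isCharacter_isIntegral (Char.isCharacter_irr χ) _))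

/-- The idempotent coefficients of a union of blocks are local integers. -/
theorem blockCoeff_mem (hM : IsPModular p M) {S : Set (IrrCharacter G)} (hS : IsBlockUnion M S)
    (g : G) : blockCoeff S g ∈ locRing M := by
  classical
  have := Fintype.ofFinite (IrrCharacter G)
  obtain ⟨v, y, -, hv⟩ := exists_indicator_card hM hS
  rw [eq_sub_of_add_eq (coeff_eq_blockCoeff_add hv g).symm]
  exact Subring.sub_mem _ (SetLike.coe_mem _) (Subring.sum_mem _ fun ψ _ =>
    Subring.mul_mem _ (SetLike.coe_mem _) (conj_irr_mem ψ g))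

theorem omega_gaOfFun_blockCoeff (S : Set (IrrCharacter G)) (χ : IrrCharacter G) :
    omega (χ : G → ℂ) (gaOfFun (blockCoeff S)) =
      @ite ℂ (χ ∈ S) (Classical.propDecidable _) 1 0 := by
  classical
  have := Fintype.ofFinite (IrrCharacter G)
  have : gaOfFun (blockCoeff S) = ∑ ψ ∈ Finset.univ.filter (· ∈ S), charIdem (ψ : G → ℂ) := by
    refine ga_ext fun g => ?_
    rw [coeff_sum_apply, coeff_gaOfFun, blockCoeff, finsum_mem_eq_toFinset_sum, Finset.mul_sum]
    refine Finset.sum_congr ?_ fun _ _ => rfl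
    ext ψ
    simp
  have hsum : ∀ (s : Finset (IrrCharacter G)) (f : IrrCharacter G → MonoidAlgebra ℂ G),
      omega (χ : G → ℂ) (∑ ψ ∈ s, f ψ) = ∑ ψ ∈ s, omega (χ : G → ℂ) (f ψ) := fun s f =>
    map_sum (AddMonoidHom.mk' (omega (χ : G → ℂ)) (omega_add _)) f s
  rw [this, hsum]
  simp [omega_charIdem]

theorem blockCoeff_conj (S : Set (IrrCharacter G)) (g h : G) :
    blockCoeff S (h * g * h⁻¹) = blockCoeff S g := by
  simp only [blockCoeff]
  congr 1
  exact finsum_congr fun χ => finsum_congr fun _ => by rw [Char.isClassFunction_irr χ g h]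

variable (M) in
/-- An element of the local ring with the given value, if there is one. -/
noncomputable def toLocOrZero (z : ℂ) : locRing M :=
  @dite _ (z ∈ locRing M) (Classical.propDecidable _) (fun h => ⟨_, h⟩) (fun _ => 0)

theorem coe_toLocOrZero {z : ℂ} (h : z ∈ locRing M) : (toLocOrZero M z : ℂ) = z := by
  rw [toLocOrZero, dif_pos h]

variable (M) in
/-- The idempotent of a union of blocks, over the local ring. -/
noncomputable def blockIdem (S : Set (IrrCharacter G)) :
    Subalgebra.center (locRing M) (MonoidAlgebra (locRing M) G) :=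
  ⟨gaOfFun fun g => toLocOrZero M (blockCoeff S g), mem_center_iff_isClassElt.mpr fun g h => by
    simp only [coeff_gaOfFun, blockCoeff_conj]⟩

theorem toC_blockIdem (hM : IsPModular p M) {S : Set (IrrCharacter G)} (hS : IsBlockUnion M S) :
    toC M (blockIdem M S : MonoidAlgebra (locRing M) G) = gaOfFun (blockCoeff S) :=
  ga_ext fun g => by simp [blockIdem, coe_toLocOrZero (blockCoeff_mem hM hS g)]

theorem coe_coeff_blockIdem (hM : IsPModular p M) {S : Set (IrrCharacter G)}
    (hS : IsBlockUnion M S) (g : G) :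
    ((blockIdem M S : MonoidAlgebra (locRing M) G).coeff g : ℂ) = blockCoeff S g := by
  rw [← coeff_toC, toC_blockIdem hM hS, coeff_gaOfFun]

theorem omegaLoc_blockIdem (hM : IsPModular p M) {S : Set (IrrCharacter G)}
    (hS : IsBlockUnion M S) (χ : IrrCharacter G) :
    omegaLoc M χ (blockIdem M S) = @ite _ (χ ∈ S) (Classical.propDecidable _) 1 0 := by
  apply Subtype.ext
  rw [coe_omegaLoc, toC_blockIdem hM hS, omega_gaOfFun_blockCoeff]
  split_ifs <;> rfl

theorem center_ext {a b : Subalgebra.center (locRing M) (MonoidAlgebra (locRing M) G)}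
    (h : ∀ χ : IrrCharacter G, omegaLoc M χ a = omegaLoc M χ b) : a = b :=
  Subtype.ext (toC_injective (classElt_ext ((mem_center_iff_isClassElt.mp a.2).map _)
    ((mem_center_iff_isClassElt.mp b.2).map _) fun χ => congrArg Subtype.val (h χ)))

theorem blockIdem_mul_self (hM : IsPModular p M) {S : Set (IrrCharacter G)}
    (hS : IsBlockUnion M S) : blockIdem M S * blockIdem M S = blockIdem M S :=
  center_ext fun χ => by
    rw [map_mul, omegaLoc_blockIdem hM hS]
    split_ifs <;> simp

theorem blockIdem_mul_eq_zero (hM : IsPModular p M) {B B' : Set (IrrCharacter G)}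
    (hB : IsPBlock M B) (hB' : IsPBlock M B') (h : B ≠ B') :
    blockIdem M B * blockIdem M B' = 0 :=
  center_ext fun χ => by
    rw [map_mul, omegaLoc_blockIdem hM (.of_isPBlock hB), omegaLoc_blockIdem hM (.of_isPBlock hB'),
      map_zero]
    split_ifs with h1 h2
    · exact absurd (isPBlock_eq_of_mem hB hB' h1 h2) h
    all_goals simp

theorem toK_eq_toK_of_omegaLoc_eq {a b : Subalgebra.center (locRing M) (MonoidAlgebra (locRing M) G)}
    {y : IrrCharacter G → locRing M} (hy : ∀ ψ, res M (y ψ) = 0)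
    (h : ∀ ψ, omegaLoc M ψ a = omegaLoc M ψ b + (Nat.card G : locRing M) * y ψ) :
    toK M (a : MonoidAlgebra (locRing M) G) = toK M (b : MonoidAlgebra (locRing M) G) := by
  classical
  have := Fintype.ofFinite (IrrCharacter G)
  have hG : (Nat.card G : ℂ) ≠ 0 := Nat.cast_ne_zero.mpr Nat.card_pos.ne'
  refine ga_ext fun g => ?_
  rw [coeff_toK, coeff_toK, ← sub_eq_zero, ← map_sub]
  have hdiff : (a : MonoidAlgebra (locRing M) G).coeff g - (b : MonoidAlgebra (locRing M) G).coeff g =
      ∑ ψ : IrrCharacter G, y ψ * ⟨_, conj_irr_mem (M := M) ψ g⟩ := by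
    apply Subtype.ext
    rw [AddSubgroupClass.coe_sub, ← coeff_toC, ← coeff_toC,
      coeff_classElt (isClassElt_toC a), coeff_classElt (isClassElt_toC b), ← mul_sub, ← Finset.sum_sub_distrib,
      AddSubmonoidClass.coe_finsetSum, Finset.mul_sum]
    refine Finset.sum_congr rfl fun ψ _ => ?_
    rw [← coe_omegaLoc, ← coe_omegaLoc, h ψ]
    push_cast
    field_simp
    ring
  rw [hdiff, map_sum]
  exact Finset.sum_eq_zero fun ψ _ => by rw [map_mul, hy, zero_mul]

theorem toK_pow_eq_zero (hM : IsPModular p M)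
    {z : Subalgebra.center (locRing M) (MonoidAlgebra (locRing M) G)}
    (hz : ∀ χ, omegaRes M χ z = 0) :
    ∃ N, toK M (z : MonoidAlgebra (locRing M) G) ^ N = 0 := by
  classical
  have := Fintype.ofFinite (IrrCharacter G)
  choose N hN using fun ψ => exists_pow_eq_natCast_mul (M := M) hM (x := omegaLoc M ψ z) (hz ψ)
    (Nat.card_pos (α := G)).ne'
  let n := ∑ ψ : IrrCharacter G, N ψ
  choose y hy hy0 using fun ψ => hN ψ n
    (Finset.single_le_sum (fun _ _ => Nat.zero_le _) (Finset.mem_univ ψ))
  refine ⟨n, ?_⟩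
  have := toK_eq_toK_of_omegaLoc_eq (a := z ^ n) (b := 0) hy0 fun ψ => by
    rw [map_pow, hy, map_zero, zero_add]
  rw [← map_pow]
  simpa using this

/-- A set of irreducible characters with local integral idempotent coefficients is a union of
blocks. -/
theorem isBlockUnion_of_blockCoeff_mem {S : Set (IrrCharacter G)}
    (hS : ∀ g, blockCoeff S g ∈ locRing M) : IsBlockUnion M S := by
  classical
  have he : toC M (blockIdem M S : MonoidAlgebra (locRing M) G) = gaOfFun (blockCoeff S) :=
    ga_ext fun g => by simp [blockIdem, coe_toLocOrZero (hS g)]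
  have hω : ∀ χ : IrrCharacter G, omegaRes M χ (blockIdem M S) = if χ ∈ S then 1 else 0 := fun χ => by
    have h : omegaLoc M χ (blockIdem M S) = if χ ∈ S then 1 else 0 := Subtype.ext (by
      rw [coe_omegaLoc, he, omega_gaOfFun_blockCoeff]
      split_ifs <;> rfl)
    rw [omegaRes, RingHom.comp_apply, h]
    split_ifs <;> simp
  intro χ hχ ψ hψ
  by_contra hψS
  have h := hω ψ
  rw [← sameBlock_iff_omegaRes.mp hψ, hω χ, if_pos hχ, if_neg hψS] at h
  exact one_ne_zero h

end CfsgLib.Block
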