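import Cfsg.Agent.Lib.Char.Zeros

/-!
# Non-zero cyclotomic integers: a lower bound for sums of squared absolute values
-/

open Finset
open scoped ComplexConjugate

namespace CfsgLib.Block

open CfsgLib.Char

/-- The ring of cyclotomic integers of level `n`. -/
def cycInt (n : ℕ) : Subring ℂ := Subring.closure {z : ℂ | z ^ n = 1}

theorem mem_cycInt_of_pow {n : ℕ} {z : ℂ} (h : z ^ n = 1) : z ∈ cycInt n := Subring.subset_closure h

theorem isIntegral_of_mem_cycInt {n : ℕ} (hn : n ≠ 0) {z : ℂ} (h : z ∈ cycInt n) : IsIntegral ℤ z := by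
  induction h using Subring.closure_induction with
  | mem x hx => exact isIntegral_of_pow_eq_one hn hx
  | zero => exact isIntegral_zero
  | one => exact isIntegral_one
  | add x y _ _ hx hy => exact hx.add hy
  | neg x _ hx => exact hx.neg
  | mul x y _ _ hx hy => exact hx.mul hy

theorem conj_mem_cycInt {n : ℕ} {z : ℂ} (h : z ∈ cycInt n) : conj z ∈ cycInt n := by
  have : cycInt n ≤ (cycInt n).comap (starRingEnd ℂ) := (Subring.closure_le).mpr fun x hx =>
    Subring.subset_closure (show (conj x) ^ n = 1 by rw [← map_pow, hx, map_one])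
  exact this h

/-- An embedding of the algebraic numbers on cyclotomic integers. -/
noncomputable def cycHom {n : ℕ} (hn : n ≠ 0) (φ : Alg →ₐ[ℚ] ℂ) : cycInt n →+* ℂ where
  toFun z := φ ⟨(z : ℂ), mem_alg_of_isIntegral (isIntegral_of_mem_cycInt hn z.2)⟩
  map_one' := by
    rw [← map_one φ]
    rfl
  map_mul' a b := by
    rw [← map_mul φ]
    rfl
  map_zero' := by
    rw [← map_zero φ]
    rfl
  map_add' a b := by
    rw [← map_add φ]
    rfl

/-- Ring homomorphisms agreeing on the roots of unity agree on cyclotomic integers. -/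
theorem cycInt_hom_ext {n : ℕ} (f g : cycInt n →+* ℂ)
    (h : ∀ (x : ℂ) (hx : x ^ n = 1), f ⟨x, mem_cycInt_of_pow hx⟩ = g ⟨x, mem_cycInt_of_pow hx⟩)
    (z : cycInt n) : f z = g z := by
  obtain ⟨z, hz⟩ := z
  induction hz using Subring.closure_induction with
  | mem x hx => exact h x hx
  | zero => exact (map_zero f).trans (map_zero g).symm
  | one => exact (map_one f).trans (map_one g).symm
  | add x y hx hy ihx ihy =>
    exact (map_add f ⟨x, hx⟩ ⟨y, hy⟩).trans ((congr_arg₂ (· + ·) ihx ihy).trans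
      (map_add g ⟨x, hx⟩ ⟨y, hy⟩).symm)
  | neg x hx ih =>
    exact (map_neg f ⟨x, hx⟩).trans ((congrArg Neg.neg ih).trans (map_neg g ⟨x, hx⟩).symm)
  | mul x y hx hy ihx ihy =>
    exact (map_mul f ⟨x, hx⟩ ⟨y, hy⟩).trans ((congr_arg₂ (· * ·) ihx ihy).trans
      (map_mul g ⟨x, hx⟩ ⟨y, hy⟩).symm)

/-- Non-zero cyclotomic integers whose squared absolute values sum to an integer `N` number at
most `N`, and all of them have absolute value one when they number exactly `N`. -/
theorem card_le_sum_normSq_and {ι : Type*} [Fintype ι] {n : ℕ} (hn : n ≠ 0) (x : ι → cycInt n)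
    (hx : ∀ i, (x i : ℂ) ≠ 0) {N : ℤ}
    (hN : ∑ i, (x i : ℂ) * conj (x i : ℂ) = (N : ℂ)) : (Fintype.card ι : ℤ) ≤ N ∧
      ((Fintype.card ι : ℤ) = N → ∀ i, (x i : ℂ) * conj (x i : ℂ) = 1) := by
  classical
  have : NeZero n := ⟨hn⟩
  choose φ hφ using fun m : (ZMod n)ˣ =>
    exists_embedding_of_coprime n hn (m : ZMod n).val (ZMod.val_coe_unit_coprime m)
  let y : (ZMod n)ˣ → ι → ℂ := fun m i => cycHom hn (φ m) (x i)
  have hroot : ∀ (m : (ZMod n)ˣ) (z : ℂ) (hz : z ^ n = 1),
      cycHom hn (φ m) ⟨z, mem_cycInt_of_pow hz⟩ = z ^ (m : ZMod n).val := fun m z hz =>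
    hφ m _ (Subtype.ext (by simpa using hz))
  let cj' : cycInt n →+* cycInt n :=
    { toFun := fun z => ⟨conj (z : ℂ), conj_mem_cycInt z.2⟩
      map_one' := Subtype.ext (by simp)
      map_mul' := fun a b => Subtype.ext (by simp)
      map_zero' := Subtype.ext (by simp)
      map_add' := fun a b => Subtype.ext (by simp) }
  have hconj : ∀ (m : (ZMod n)ˣ) (z : cycInt n),
      cycHom hn (φ m) (cj' z) = conj (cycHom hn (φ m) z) := fun m =>
    cycInt_hom_ext ((cycHom hn (φ m)).comp cj') ((starRingEnd ℂ).comp (cycHom hn (φ m))) fun z hz => by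
      have hz' : (conj z) ^ n = 1 := by rw [← map_pow, hz, map_one]
      show cycHom hn (φ m) ⟨conj z, _⟩ = conj (cycHom hn (φ m) ⟨z, _⟩)
      rw [hroot m z hz, map_pow]
      exact hroot m (conj z) hz'
  have hne : ∀ m i, y m i ≠ 0 := fun m i h => hx i (by
    have h1 : φ m ⟨(x i : ℂ), mem_alg_of_isIntegral (isIntegral_of_mem_cycInt hn (x i).2)⟩ = 0 := h
    rw [map_eq_zero] at h1
    exact congrArg Subtype.val h1)
  have hsum : ∀ m, ∑ i, y m i * conj (y m i) = (N : ℂ) := by
    intro m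
    have h1 : (∑ i, x i * cj' (x i)) = (N : cycInt n) := Subtype.ext (by
      rw [AddSubmonoidClass.coe_finsetSum, SubringClass.coe_intCast, ← hN]
      rfl)
    rw [← map_intCast (cycHom hn (φ m)) N, ← h1, map_sum]
    exact Finset.sum_congr rfl fun i _ => by rw [map_mul, hconj]
  -- the product over all conjugates is a positive integer
  have hint : ∀ m i, IsIntegral ℤ (y m i) := fun m i => by
    have h1 : IsIntegral ℤ (⟨(x i : ℂ), mem_alg_of_isIntegral (isIntegral_of_mem_cycInt hn (x i).2)⟩ : Alg) :=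
      (isIntegral_algebraMap_iff (algebraMap Alg ℂ).injective).mp (isIntegral_of_mem_cycInt hn (x i).2)
    exact h1.map ((φ m).restrictScalars ℤ)
  set P : ℂ := ∏ m : (ZMod n)ˣ, ∏ i, y m i * conj (y m i) with hP
  have hPint : IsIntegral ℤ P := IsIntegral.prod _ fun m _ => IsIntegral.prod _ fun i _ =>
    (hint m i).mul ((hint m i).map ((starRingEnd ℂ).toIntAlgHom))
  have hyR : ∀ m i, y m i ∈ cycInt n := by
    intro m i
    have key : ∀ z : cycInt n, cycHom hn (φ m) z ∈ cycInt n := by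
      rintro ⟨z, hz⟩
      induction hz using Subring.closure_induction with
      | mem u hu => exact hroot m u hu ▸ Subring.pow_mem _ (mem_cycInt_of_pow hu) _
      | zero => exact (map_zero (cycHom hn (φ m))).symm ▸ Subring.zero_mem _
      | one => exact (map_one (cycHom hn (φ m))).symm ▸ Subring.one_mem _
      | add u v hu hv iu iv =>
        exact (map_add (cycHom hn (φ m)) ⟨u, hu⟩ ⟨v, hv⟩).symm ▸ Subring.add_mem _ iu iv
      | neg u hu iu => exact (map_neg (cycHom hn (φ m)) ⟨u, hu⟩).symm ▸ Subring.neg_mem _ iu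
      | mul u v hu hv iu iv =>
        exact (map_mul (cycHom hn (φ m)) ⟨u, hu⟩ ⟨v, hv⟩).symm ▸ Subring.mul_mem _ iu iv
    exact key (x i)
  have hfix : ∀ ψ : Alg →ₐ[ℚ] ℂ, ψ ⟨P, mem_alg_of_isIntegral hPint⟩ = P := by
    intro ψ
    obtain ⟨m₀, hm₀, hψ⟩ := exists_twist ψ n hn
    let Y : (ZMod n)ˣ → ι → cycInt n := fun m i =>
      ⟨y m i, hyR m i⟩ * cj' ⟨y m i, hyR m i⟩
    have e : (⟨P, mem_alg_of_isIntegral hPint⟩ : Alg) =
        (⟨((∏ m : (ZMod n)ˣ, ∏ i, Y m i : cycInt n) : ℂ),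
          mem_alg_of_isIntegral (isIntegral_of_mem_cycInt hn (SetLike.coe_mem _))⟩ : Alg) :=
      Subtype.ext (by
        simp only [hP, SubmonoidClass.coe_finsetProd, Y, MulMemClass.coe_mul]
        rfl)
    rw [e]
    show cycHom hn ψ (∏ m : (ZMod n)ˣ, ∏ i, Y m i) = P
    set u₀ := ZMod.unitOfCoprime m₀ hm₀ with hu₀
    have hcomp : ∀ (m : (ZMod n)ˣ) (i : ι), cycHom hn ψ ⟨y m i, hyR m i⟩ = y (u₀ * m) i := by
      intro m i
      have hk : ∀ z : cycInt n, cycHom hn (φ m) z ∈ cycInt n := by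
        rintro ⟨z, hz⟩
        induction hz using Subring.closure_induction with
        | mem u hu => exact hroot m u hu ▸ Subring.pow_mem _ (mem_cycInt_of_pow hu) _
        | zero => exact (map_zero (cycHom hn (φ m))).symm ▸ Subring.zero_mem _
        | one => exact (map_one (cycHom hn (φ m))).symm ▸ Subring.one_mem _
        | add u v hu hv iu iv =>
          exact (map_add (cycHom hn (φ m)) ⟨u, hu⟩ ⟨v, hv⟩).symm ▸ Subring.add_mem _ iu iv
        | neg u hu iu => exact (map_neg (cycHom hn (φ m)) ⟨u, hu⟩).symm ▸ Subring.neg_mem _ iu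
        | mul u v hu hv iu iv =>
          exact (map_mul (cycHom hn (φ m)) ⟨u, hu⟩ ⟨v, hv⟩).symm ▸ Subring.mul_mem _ iu iv
      refine cycInt_hom_ext ((cycHom hn ψ).comp ((cycHom hn (φ m)).codRestrict (cycInt n) hk))
        (cycHom hn (φ (u₀ * m))) (fun z hz => ?_) (x i)
      have hz' : (z ^ (m : ZMod n).val) ^ n = 1 := by rw [← pow_mul, mul_comm, pow_mul, hz, one_pow]
      have h1 : ((cycHom hn (φ m)).codRestrict (cycInt n) hk) ⟨z, mem_cycInt_of_pow hz⟩ =
          (⟨z ^ (m : ZMod n).val, mem_cycInt_of_pow hz'⟩ : cycInt n) := Subtype.ext (hroot m z hz)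
      rw [RingHom.comp_apply, h1, hroot (u₀ * m) z hz]
      show ψ _ = _
      rw [hψ _ (Subtype.ext (by simpa using hz'))]
      show (z ^ (m : ZMod n).val) ^ m₀ = _
      rw [← pow_mul]
      rw [pow_eq_pow_mod _ hz, pow_eq_pow_mod ((u₀ * m : (ZMod n)ˣ) : ZMod n).val hz]
      congr 1
      show Nat.ModEq n _ _
      rw [← ZMod.natCast_eq_natCast_iff, Nat.cast_mul, ZMod.natCast_zmod_val, ZMod.natCast_zmod_val,
        Units.val_mul, hu₀, ZMod.coe_unitOfCoprime, mul_comm]
    rw [map_prod, hP]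
    refine Fintype.prod_equiv (Equiv.mulLeft u₀) _ _ fun m => ?_
    rw [map_prod]
    refine Finset.prod_congr rfl fun i _ => ?_
    simp only [Y, map_mul, Equiv.coe_mulLeft]
    congr 1
    · exact hcomp m i
    · rw [← hcomp m i]
      have hc : ∀ z : cycInt n, cycHom hn ψ (cj' z) = conj (cycHom hn ψ z) :=
        cycInt_hom_ext ((cycHom hn ψ).comp cj') ((starRingEnd ℂ).comp (cycHom hn ψ)) fun z hz => by
          have hz' : (conj z) ^ n = 1 := by rw [← map_pow, hz, map_one]
          show ψ _ = conj (ψ _)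
          rw [hψ _ (Subtype.ext (by rw [IntermediateField.coe_pow]; exact hz')),
            hψ _ (Subtype.ext (by simpa using hz)), map_pow]
          rfl
      exact hc _
  obtain ⟨z, hz⟩ := exists_int_of_fixed hPint hfix
  set a : (ZMod n)ˣ × ι → ℝ := fun q => ‖y q.1 q.2‖ ^ 2 with ha
  have hP' : P = ((∏ q : (ZMod n)ˣ × ι, a q : ℝ) : ℂ) := by
    rw [hP, Complex.ofReal_prod, Fintype.prod_prod_type]
    exact Finset.prod_congr rfl fun m _ => Finset.prod_congr rfl fun i _ => by
      rw [Complex.mul_conj', ← Complex.ofReal_pow]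
  have hpos : ∀ q ∈ (Finset.univ : Finset ((ZMod n)ˣ × ι)), 0 < a q := fun q _ =>
    pow_pos (norm_pos_iff.mpr (hne q.1 q.2)) 2
  have hzr : ∏ q : (ZMod n)ˣ × ι, a q = (z : ℝ) := by
    rw [hP'] at hz
    exact_mod_cast hz
  have h1 : (1 : ℝ) ≤ ∏ q : (ZMod n)ˣ × ι, a q := by
    have h0 := Finset.prod_pos hpos
    rw [hzr] at h0 ⊢
    have : (1 : ℤ) ≤ z := by exact_mod_cast h0
    exact_mod_cast this
  have h2 := card_le_sum_of_one_le_prod _ a hpos h1
  have h3 : ∑ q : (ZMod n)ˣ × ι, a q = (Fintype.card (ZMod n)ˣ : ℝ) * (N : ℝ) := by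
    rw [Fintype.sum_prod_type, Finset.sum_congr rfl (g := fun _ => (N : ℝ)) fun m _ => ?_,
      Finset.sum_const, Finset.card_univ, nsmul_eq_mul]
    have := hsum m
    simp only [Complex.mul_conj', ← Complex.ofReal_pow, ← Complex.ofReal_sum] at this
    exact_mod_cast this
  rw [h3, Finset.card_univ, Fintype.card_prod, Nat.cast_mul] at h2
  have h4 : (0 : ℝ) < Fintype.card (ZMod n)ˣ := by exact_mod_cast Fintype.card_pos
  have h5 := le_of_mul_le_mul_left h2 h4
  refine ⟨by exact_mod_cast h5, fun hcard i => ?_⟩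
  -- the equality case
  have hlog : ∀ q, Real.log (a q) ≤ a q - 1 := fun q => Real.log_le_sub_one_of_pos (hpos q (mem_univ _))
  have hsum0 : ∑ q, (a q - 1 - Real.log (a q)) ≤ 0 := by
    rw [Finset.sum_sub_distrib, Finset.sum_sub_distrib, h3, ← Real.log_prod (fun q hq => (hpos q hq).ne'),
      Finset.sum_const, Finset.card_univ, Fintype.card_prod, nsmul_eq_mul, mul_one, Nat.cast_mul]
    have hN' : (N : ℝ) = (Fintype.card ι : ℝ) := by rw [← hcard]; push_cast; rfl
    rw [hN', sub_self, zero_sub, neg_nonpos]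
    exact Real.log_nonneg h1
  have h6 := (Finset.sum_eq_zero_iff_of_nonneg fun q _ => sub_nonneg.mpr (hlog q)).mp
    (le_antisymm hsum0 (Finset.sum_nonneg fun q _ => sub_nonneg.mpr (hlog q))) (1, i) (mem_univ _)
  have h7 : a (1, i) = 1 := by
    by_contra hne'
    have := Real.log_lt_sub_one_of_pos (hpos (1, i) (mem_univ _)) hne'
    linarith
  have hid : y 1 i = (x i : ℂ) :=
    cycInt_hom_ext (cycHom hn (φ 1)) (cycInt n).subtype (fun z hz => by
      rw [hroot 1 z hz]
      show _ = z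
      conv_rhs => rw [← pow_one z]
      rw [pow_eq_pow_mod _ hz, pow_eq_pow_mod 1 hz, Units.val_one, ← Nat.cast_one,
        ZMod.val_natCast, Nat.mod_mod]) (x i)
  rw [← hid, Complex.mul_conj', ← Complex.ofReal_pow]
  exact_mod_cast h7

/-- Non-zero cyclotomic integers whose squared absolute values sum to an integer `N` number at
most `N`. -/
theorem card_le_sum_normSq {ι : Type*} [Fintype ι] {n : ℕ} (hn : n ≠ 0) (x : ι → cycInt n)
    (hx : ∀ i, (x i : ℂ) ≠ 0) {N : ℤ}
    (hN : ∑ i, (x i : ℂ) * conj (x i : ℂ) = (N : ℂ)) : (Fintype.card ι : ℤ) ≤ N :=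
  (card_le_sum_normSq_and hn x hx hN).1

/-- Equality case of `card_le_sum_normSq`. -/
theorem normSq_eq_one_of_card_eq {ι : Type*} [Fintype ι] {n : ℕ} (hn : n ≠ 0) (x : ι → cycInt n)
    (hx : ∀ i, (x i : ℂ) ≠ 0)
    (hN : ∑ i, (x i : ℂ) * conj (x i : ℂ) = ((Fintype.card ι : ℤ) : ℂ)) (i : ι) :
    (x i : ℂ) * conj (x i : ℂ) = 1 :=
  (card_le_sum_normSq_and hn x hx hN).2 rfl i

end CfsgLib.Block
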