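import Cfsg.Agent.Lib.Block.Subsection

/-!
# Consequences of the orthogonality of subsections
-/

open Finset MonoidAlgebra
open scoped ComplexConjugate

set_option linter.unusedSectionVars false

namespace CfsgLib.Block

open Cfsg

universe u

variable {p : ℕ} {M : Ideal AlgInt} [M.IsMaximal] {G : Type u} [Group G] [Fintype G] [DecidableEq G]
  [Fintype (IrrCharacter G)]

/-- In the principal block only the principal block of the centralizer contributes to a section. -/
theorem sum_principal_secFun (hM : IsPModular p M) {C : Subgroup G} [Fintype C]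
    [Fintype (IrrCharacter C)] {x : G} (hxp : ∃ k : ℕ, orderOf x = p ^ k)
    (hC : ∀ t : G, t ∈ C ↔ Commute t x) {y z : C} (hy : ¬ p ∣ orderOf y) (hz : ¬ p ∣ orderOf z) :
    ∑ᶠ χ ∈ principalBlock M G, (χ : G → ℂ) (x * (y : G)) * conj ((χ : G → ℂ) (x * (z : G))) =
      ∑ᶠ η ∈ principalBlock M C, (η : C → ℂ) y * conj ((η : C → ℂ) z) := by
  classical
  have hT : ∀ b : Set (IrrCharacter C),
      b ∈ ({principalBlock M C} : Finset (Set (IrrCharacter C))) ↔
        IsInducedBlock M C b (principalBlock M G) := by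
    intro b
    rw [Finset.mem_singleton]
    constructor
    · rintro rfl
      obtain ⟨B, hB⟩ := exists_induced_centralizer hM hxp hC (isPBlock_principalBlock (M := M) (G := C))
      rwa [(isInducedBlock_principal_iff hM hB).mpr rfl] at hB
    · intro hb
      exact (isInducedBlock_principal_iff hM hb).mp rfl
  have h := sum_mem_block_secFun hM hxp hC isPBlock_principalBlock _ hT hy hz
  rw [Finset.sum_singleton] at h
  rw [← h, finsum_mem_eq_toFinset_sum]
  exact Finset.sum_congr (by ext; simp) fun _ _ => rfl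

/-- Sum of squares of degrees in the principal block with a normal `p`-complement. -/
theorem sum_sq_principal_of_complement [Fintype (ConjClasses G)] (hM : IsPModular p M)
    (h : Cfsg.HasNormalPComplement p G) :
    ∑ χ ∈ (principalBlock M G).toFinite.toFinset, (χ : G → ℂ) 1 * (χ : G → ℂ) 1 =
      ((p ^ (Nat.card G).factorization p : ℕ) : ℂ) := by
  classical
  have hpf : Fact p.Prime := ⟨hM.1⟩
  set N := Cfsg.pResidual p G with hN
  have hr := blockRank_eq_sum_regInner hM
    (.of_isPBlock (isPBlock_principalBlock (M := M) (G := G)))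
  rw [(blockRank_principal_eq_one_iff hM).mpr h, Nat.cast_one] at hr
  have hcard : (Finset.univ.filter (fun x : G => ¬ p ∣ orderOf x)).card = Nat.card N := by
    rw [Nat.card_eq_fintype_card, Fintype.card_subtype]
    congr 1
    ext x
    simp [hN, mem_pResidual_iff_regular h]
  have hterm : ∀ χ ∈ principalBlock M G, (Nat.card G : ℂ) * regInner p χ χ =
      (Nat.card N : ℂ) * ((χ : G → ℂ) 1 * (χ : G → ℂ) 1) := by
    intro χ hχ
    rw [card_mul_regInner, Finset.sum_congr rfl fun x hx => ?_, Finset.sum_const, hcard, nsmul_eq_mul]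
    rw [Char.irr_inv, irr_eq_one_of_regular hM h hχ (Finset.mem_filter.mp hx).2, Char.conj_irr_one]
  have hNG : Nat.card G = Nat.card N * p ^ (Nat.card G).factorization p := by
    obtain ⟨S⟩ : Nonempty (Sylow p G) := inferInstance
    rw [← S.card_eq_multiplicity,
      ((CfsgLib.Fusion.hasNormalPComplement_iff_forall_sylow).mp h S).card_mul]
  have hN0 : (Nat.card N : ℂ) ≠ 0 := Nat.cast_ne_zero.mpr Nat.card_pos.ne'
  apply mul_left_cancel₀ hN0
  rw [← Nat.cast_mul, ← hNG, Finset.mul_sum, ← mul_one (Nat.card G : ℂ), hr, Finset.mul_sum]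
  refine Finset.sum_congr (by ext; simp) fun χ hχ => ?_
  exact (hterm χ (by simpa using hχ)).symm

theorem isPPart_one_mul {x : G} (hxp : ∃ k : ℕ, orderOf x = p ^ k) (hp : p ≠ 1) : IsPPart p x x :=
  ⟨1, mul_one x, Commute.one_right x, hxp, by simpa using hp⟩

/-- The number of characters of a block as a sum of regular ranks over subsections. -/
theorem card_block_eq_sum_rank (hM : IsPModular p M) {B : Set (IrrCharacter G)} (hB : IsPBlock M B)
    (X : Finset G) (hX : ∀ x ∈ X, ∃ k : ℕ, orderOf x = p ^ k)
    (hXrep : ∀ g : G, (∃ k : ℕ, orderOf g = p ^ k) → ∃! x, x ∈ X ∧ IsConj g x)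
    [∀ H : Subgroup G, Fintype H] :
    Nat.card B = ∑ x ∈ X,
      ∑ᶠ b ∈ {b : Set (IrrCharacter (Subgroup.centralizer ({x} : Set G))) |
        IsInducedBlock M (Subgroup.centralizer ({x} : Set G)) b B}, blockRank p b := by
  classical
  set F : G → ℂ := fun g => ∑ χ ∈ Finset.univ.filter (· ∈ B), (χ : G → ℂ) g * conj ((χ : G → ℂ) g)
    with hF
  have hFc : ∀ g c, F (c * g * c⁻¹) = F g := fun g c => by
    simp only [hF, Char.isClassFunction_irr _ g c]
  have hFsum : ∑ g : G, F g = (Nat.card G : ℂ) * (Nat.card B : ℂ) := by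
    rw [hF, Finset.sum_comm, Finset.sum_congr rfl (g := fun _ => (Nat.card G : ℂ)) fun χ _ => ?_,
      Finset.sum_const, nsmul_eq_mul, mul_comm]
    · congr 1
      rw [Nat.card_eq_fintype_card (α := B), ← Set.toFinset_card]
      congr 1
      refine congrArg Finset.card ?_
      ext; simp
    · have := Char.classInner_irr_self χ
      rw [classInner, inv_mul_eq_iff_eq_mul₀ (Nat.cast_ne_zero.mpr Nat.card_pos.ne'), mul_one] at this
      exact this
  choose π hπ using fun g : G => exists_isPPart (p := p) hM.1 g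
  have hπp : ∀ g, ∃ k : ℕ, orderOf (π g) = p ^ k := fun g => by
    obtain ⟨y, -, -, hk, -⟩ := hπ g
    exact hk
  choose r hr hr' using fun g : G => hXrep (π g) (hπp g)
  have hfib : ∀ u : G, (∃ k : ℕ, orderOf u = p ^ k) → ∀ c : G,
      ∑ g ∈ Finset.univ.filter (fun g => π g = u), F g =
        ∑ g ∈ Finset.univ.filter (fun g => π g = c * u * c⁻¹), F g := by
    intro u hu c
    refine Finset.sum_equiv (MulAut.conj c).toEquiv (fun g => ?_) fun g _ => ?_
    · simp only [Finset.mem_filter, Finset.mem_univ, true_and, MulEquiv.toEquiv_eq_coe,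
        EquivLike.coe_coe, MulAut.conj_apply]
      rw [isPPart_unique hM.1 (hπ (c * g * c⁻¹)) (isPPart_conj (hπ g) c)]
      exact ⟨fun e => by rw [e], fun e => mul_left_cancel (mul_right_cancel e)⟩
    · simp [hFc]
  have hfib1 : ∀ x ∈ X, ∑ g ∈ Finset.univ.filter (fun g => π g = x), F g =
      (Nat.card (Subgroup.centralizer ({x} : Set G)) : ℂ) *
        ((∑ᶠ b ∈ {b : Set (IrrCharacter (Subgroup.centralizer ({x} : Set G))) |
          IsInducedBlock M (Subgroup.centralizer ({x} : Set G)) b B}, blockRank p b : ℕ) : ℂ) := by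
    intro x hx
    set C := Subgroup.centralizer ({x} : Set G) with hCdef
    have hC : ∀ t : G, t ∈ C ↔ Commute t x := fun t => Subgroup.mem_centralizer_singleton_iff
    have := Fintype.ofFinite (IrrCharacter C)
    obtain ⟨k, hk⟩ := hX x hx
    let T : Finset (Set (IrrCharacter C)) := Finset.univ.filter (fun b => IsInducedBlock M C b B)
    have hT : ∀ b, b ∈ T ↔ IsInducedBlock M C b B := fun b => by simp [T]
    have hset : Finset.univ.filter (fun g => π g = x) =
        ((Finset.univ : Finset C).filter (fun y : C => ¬ p ∣ orderOf y)).image fun y : C => x * (y : G) := by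
      ext g
      simp only [Finset.mem_filter, Finset.mem_univ, true_and, Finset.mem_image]
      constructor
      · rintro rfl
        obtain ⟨y, hxy, hcom, -, hy⟩ := hπ g
        exact ⟨⟨y, (hC y).mpr hcom.symm⟩, by rwa [← Subgroup.orderOf_coe], hxy⟩
      · rintro ⟨y, hy, rfl⟩
        exact isPPart_unique hM.1 (hπ _) (isPPart_secElt hk (fun t => (hC t).mp t.2) hy)
    rw [hset, Finset.sum_image (fun a _ b _ h => Subtype.ext (mul_left_cancel h))]
    simp only [hF]
    rw [Finset.sum_congr rfl fun y hy => sum_mem_block_secFun hM (hX x hx) hC hB T hT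
      (Finset.mem_filter.mp hy).2 (Finset.mem_filter.mp hy).2, Finset.sum_comm,
      finsum_mem_eq_toFinset_sum, Nat.cast_sum, Finset.mul_sum]
    refine Finset.sum_congr (by ext; simp [T]) fun b hb => ?_
    rw [← sum_regular_norm_eq_rank hM (.of_isPBlock ((by simpa using hb : IsInducedBlock M C b B).1))]
    refine Finset.sum_congr rfl fun y _ => ?_
    rw [finsum_mem_eq_toFinset_sum]
    exact Finset.sum_congr (by ext; simp) fun _ _ => rfl
  have hGsum : ∑ g : G, F g = (Nat.card G : ℂ) * ((∑ x ∈ X,
      ∑ᶠ b ∈ {b : Set (IrrCharacter (Subgroup.centralizer ({x} : Set G))) |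
        IsInducedBlock M (Subgroup.centralizer ({x} : Set G)) b B}, blockRank p b : ℕ) : ℂ) := by
    rw [← Finset.sum_fiberwise_of_maps_to (t := X) (g := r) fun g _ => (hr g).1, Nat.cast_sum,
      Finset.mul_sum]
    refine Finset.sum_congr rfl fun x hx => ?_
    rw [← Finset.sum_fiberwise_of_maps_to (s := Finset.univ.filter (fun g => r g = x))
      (t := Finset.univ.filter (fun u => IsConj x u)) (g := π) fun g hg => by
        simp only [Finset.mem_filter, Finset.mem_univ, true_and] at hg ⊢
        subst hg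
        exact (hr g).2.symm]
    rw [Finset.sum_congr rfl (g := fun _ => ∑ g ∈ Finset.univ.filter (fun g => π g = x), F g)
      fun u hu => ?_, Finset.sum_const, hfib1 x hx, nsmul_eq_mul, ← mul_assoc, ← Nat.cast_mul]
    · congr 2
      rw [← Fintype.card_subtype, ← Nat.card_eq_fintype_card, Char.card_isConj,
        Subgroup.index_mul_card]
    · obtain ⟨c, hc⟩ := isConj_iff.mp (Finset.mem_filter.mp hu).2
      rw [hfib x (hX x hx) c, hc, Finset.filter_filter]
      refine Finset.sum_congr ?_ fun _ _ => rfl
      ext g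
      simp only [Finset.mem_filter, Finset.mem_univ, true_and, and_iff_right_iff_imp]
      intro hg
      exact ((hr' g) x ⟨hx, hg ▸ (isConj_iff.mpr ⟨c, hc⟩).symm⟩).symm
  rw [hFsum] at hGsum
  exact_mod_cast mul_left_cancel₀ (Nat.cast_ne_zero.mpr Nat.card_pos.ne') hGsum

end CfsgLib.Block
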