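import Cfsg.Agent.Lib.Block.FirstMain

/-!
# Classes with non-zero central character and defect groups
-/

open Finset

set_option linter.unusedSectionVars false

namespace CfsgLib.Block

open Cfsg

universe u

variable {G : Type u} [Group G] [Fintype G] [DecidableEq G] {p : ℕ} {M : Ideal AlgInt}
  [M.IsMaximal]

theorem commute_isPPart (hp : p.Prime) {g x u : G} (h : IsPPart p g x) (hu : Commute u g) :
    Commute u x := by
  have h' := isPPart_conj h u
  rw [hu.eq, mul_inv_cancel_right] at h'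
  exact mul_inv_eq_iff_eq_mul.mp (isPPart_unique hp h' h)

/-- A class with non-zero central character has an element centralizing the defect group, with
`p`-part in it. -/
theorem exists_conj_centralizing_defect (hM : IsPModular p M) {B : Set (IrrCharacter G)}
    (hB : IsPBlock M B) {P : Subgroup G} (hP : IsDefectGroup p M B P) {g : G}
    {χ : IrrCharacter G} (hχ : χ ∈ B) (hg : centralRes M χ g ≠ 0) :
    ∃ x : G, IsConj g x ∧ x ∈ Subgroup.centralizer (P : Set G) ∧
      ∀ z : G, IsPPart p x z → z ∈ P ∧ ∀ w ∈ P, z * w = w * z := by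
  classical
  have hpP := isPGroup_defectGroup hM hB hP
  set H := Subgroup.normalizer (P : Set G)
  obtain ⟨b, ⟨hb, hbD, hind⟩, -⟩ := existsUnique_normalizer_block hM hB hP
  obtain ⟨ξ, hξ⟩ := isPBlock_nonempty hb
  have h1 := (isInducedBlock_iff.mp hind).2.2 ξ hξ χ hχ (classBar M g)
  rw [omegaBar_resHK_eq_brMap hpP (centralizer_le_normalizer' P) le_rfl hM Subgroup.le_normalizer,
    omegaBar_classBar] at h1
  rw [← h1] at hg
  obtain ⟨h, hh, hω⟩ := exists_coeff_ne_zero_of_omegaBar_ne_zero hg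
  rw [coeff_brMap] at hh
  split_ifs at hh with hc
  · have hconj : IsConj g (h : G) := by
      by_contra hn
      exact hh (if_neg hn)
    refine ⟨h, hconj, hc, fun z hz => ?_⟩
    have hcomm : ∀ w ∈ P, Commute w z := fun w hw =>
      commute_isPPart hM.1 hz (Subgroup.mem_centralizer_iff.mp hc w hw)
    refine ⟨?_, fun w hw => (hcomm w hw).symm.eq⟩
    obtain ⟨y, hy, hzy, hk, hyr⟩ := hz
    have hzH : z ∈ H := centralizer_le_normalizer' P
      (Subgroup.mem_centralizer_iff.mpr fun w hw => (hcomm w hw).eq)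
    have hyH : y ∈ H := by
      rw [show y = z⁻¹ * (h : G) by rw [← hy, inv_mul_cancel_left]]
      exact mul_mem (inv_mem hzH) h.2
    have hpart : IsPPart p h ⟨z, hzH⟩ :=
      ⟨⟨y, hyH⟩, Subtype.ext hy, Subtype.ext hzy.eq, by
        rwa [← Subgroup.orderOf_coe], by rwa [← Subgroup.orderOf_coe]⟩
    by_contra hzP
    have h0 : (ξ : H → ℂ) h = 0 := irr_eq_zero_of_not_mem_defect hM hb hbD hpart (fun c hcz =>
      hzP ((Subgroup.mem_normalizer_iff.mp c.2 z).mpr (Subgroup.mem_subgroupOf.mp hcz))) hξ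
    refine hω ((centralRes_eq_zero_iff ξ h).mpr ?_)
    rw [centralChar, h0, mul_zero, zero_div]
    exact memLocalIdeal_iff.mpr ⟨zero_mem _, map_zero _⟩
  · exact absurd rfl hh

theorem exists_height_zero (hM : IsPModular p M) {B : Set (IrrCharacter G)} (hB : IsPBlock M B) :
    ∃ χ ∈ B, blockHeight p B (χ : G → ℂ) = 0 := by
  classical
  obtain ⟨g, hg⟩ := exists_defectClass hM hB
  obtain ⟨hgc, hgω⟩ := (isDefectClass_iff hM hB).mp hg
  obtain ⟨⟨χ, hχ, he⟩, -⟩ := isLeast_degVal hM hB hgc hgω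
  refine ⟨χ, hχ, ?_⟩
  simp only at he
  rw [blockHeight, (isLeast_degVal hM hB hgc hgω).csInf_eq, he, Nat.sub_self]

/-- An element of the centre of a defect group, times a defect class representative, has non-zero
central character. -/
theorem exists_centralRes_center_ne_zero (hM : IsPModular p M) {B : Set (IrrCharacter G)}
    (hB : IsPBlock M B) {P : Subgroup G} (hP : IsDefectGroup p M B P) {x : G} (hx : x ∈ P)
    (hxc : ∀ w ∈ P, x * w = w * x) :
    ∃ χ ∈ B, ∃ g₀ : G, IsPPart p (x * g₀) x ∧ centralRes M χ (x * g₀) ≠ 0 := by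
  classical
  have hpf : Fact p.Prime := ⟨hM.1⟩
  obtain ⟨g₀, hg, hgc, hgω⟩ := exists_isSylowCent_of_isDefectGroup hM hB hP
  obtain ⟨χ, hχ, h0⟩ := exists_height_zero hM hB
  obtain ⟨k, hk⟩ := isPGroup_defectGroup hM hB hP ⟨x, hx⟩
  have hxk : x ^ p ^ k = 1 := congrArg Subtype.val hk
  have hcomm : Commute x g₀ := hg.commute x hx
  have hreg := regular_of_coeffRes_ne_zero hM (.of_isPBlock hB) hgc
  have hpp : ∃ j : ℕ, orderOf x = p ^ j := by
    obtain ⟨j, -, hj⟩ := (Nat.dvd_prime_pow hM.1).mp (orderOf_dvd_of_pow_eq_one hxk)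
    exact ⟨j, hj⟩
  refine ⟨χ, hχ, g₀, ⟨g₀, rfl, hcomm, hpp, hreg⟩, ?_⟩
  set C₀ := Subgroup.centralizer ({g₀} : Set G)
  set C₁ := Subgroup.centralizer ({x * g₀} : Set G)
  have hle : C₁ ≤ C₀ := fun t ht => by
    have h1 : Commute t (x * g₀) := Subgroup.mem_centralizer_singleton_iff.mp ht
    have h2 : Commute t x := commute_isPPart hM.1 ⟨g₀, rfl, hcomm, hpp, hreg⟩ h1
    exact Subgroup.mem_centralizer_singleton_iff.mpr
      (by simpa using (h2.inv_right.mul_right h1).eq)
  have hm : ¬ p ∣ C₁.relIndex C₀ := by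
    have hPle : P ≤ C₁ := fun w hw => Subgroup.mem_centralizer_singleton_iff.mpr
      (Commute.mul_right (hxc w hw).symm (hg.commute w hw)).eq
    intro hdiv
    have h1 : C₁.relIndex C₀ * Nat.card C₁ = Nat.card C₀ := by
      rw [← Subgroup.relIndex_bot_left C₁, ← Subgroup.relIndex_bot_left C₀,
        mul_comm, Subgroup.relIndex_mul_relIndex _ _ _ bot_le hle]
    have h2 : p * Nat.card P ∣ Nat.card C₀ :=
      h1 ▸ Nat.mul_dvd_mul hdiv (Subgroup.card_dvd_of_le hPle)
    rw [hg.card_eq, ← pow_succ'] at h2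
    exact Nat.pow_succ_factorization_not_dvd Nat.card_pos.ne' hM.1 h2
  have hidx : C₁.index = C₁.relIndex C₀ * C₀.index := (Subgroup.relIndex_mul_index hle).symm
  have hloc : (⟨_, centralChar_mem χ (x * g₀)⟩ : locRing M) * irrLoc M χ g₀ =
      (C₁.relIndex C₀ : locRing M) * ⟨_, centralChar_mem χ g₀⟩ * irrLoc M χ (x * g₀) := by
    apply Subtype.ext
    simp only [MulMemClass.coe_mul, coe_irrLoc, SubringClass.coe_natCast, centralChar]
    rw [show Subgroup.centralizer ({x * g₀} : Set G) = C₁ from rfl, hidx]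
    push_cast
    ring
  have hres := congrArg (res M) hloc
  rw [map_mul, map_mul, map_mul, map_natCast, res_irr_regularPart hM χ hcomm hxk] at hres
  have hne : res M (irrLoc M χ g₀) ≠ 0 := by
    simpa using res_irr_ne_zero_of_height_zero hM hB hgc hgω hχ h0 (Commute.one_left g₀)
      (k := 0) (one_pow _)
  intro h
  change res M (⟨_, centralChar_mem χ (x * g₀)⟩ : locRing M) = 0 at h
  rw [h, zero_mul, eq_comm, mul_eq_zero, mul_eq_zero] at hres
  rcases hres with (h' | h') | h'
  · have := charP_resField hM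
    exact hm ((CharP.cast_eq_zero_iff _ p _).mp h')
  · exact hgω χ hχ h'
  · exact hne h'

/-- The centre of a defect group of an induced block is fused into that of the inducing block. -/
theorem exists_conj_center_defect (hM : IsPModular p M) {H : Subgroup G} [Fintype H]
    {b : Set (IrrCharacter H)} {B : Set (IrrCharacter G)} (hind : IsInducedBlock M H b B)
    {D : Subgroup H} (hD : IsDefectGroup p M b D) {P : Subgroup G} (hP : IsDefectGroup p M B P)
    {x : G} (hx : x ∈ P) (hxc : ∀ w ∈ P, x * w = w * x) :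
    ∃ g : G, g * x * g⁻¹ ∈ D.map H.subtype ∧
      ∀ w ∈ D.map H.subtype, (g * x * g⁻¹) * w = w * (g * x * g⁻¹) := by
  classical
  obtain ⟨χ, hχ, g₀, hpart, hne⟩ := exists_centralRes_center_ne_zero hM hind.2.1 hP hx hxc
  obtain ⟨ξ, hξ⟩ := isPBlock_nonempty hind.1
  rw [← omegaBar_classBar, ← (isInducedBlock_iff.mp hind).2.2 ξ hξ χ hχ] at hne
  obtain ⟨h, hh, hω⟩ := exists_coeff_ne_zero_of_omegaBar_ne_zero hne
  have hconj : IsConj (x * g₀) (h : G) := by
    by_contra hn
    exact hh (if_neg hn)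
  obtain ⟨y, hhy, -, hy⟩ := exists_conj_centralizing_defect hM hind.1 hD hξ hω
  obtain ⟨z, hz⟩ := exists_isPPart hM.1 y
  obtain ⟨hzD, hzc⟩ := hy z hz
  obtain ⟨c, hc⟩ := isConj_iff.mp (hconj.trans (H.subtype.map_isConj hhy))
  have h1 : c * x * c⁻¹ = (z : G) := by
    refine isPPart_unique hM.1 (g := (y : G)) ?_ ?_
    · rw [← show c * (x * g₀) * c⁻¹ = (y : G) from hc]
      exact isPPart_conj hpart c
    · obtain ⟨w, hw, hzw, hk, hr⟩ := hz
      exact ⟨w, congrArg Subtype.val hw, hzw.map H.subtype, by rwa [Subgroup.orderOf_coe],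
        by rwa [Subgroup.orderOf_coe]⟩
  refine ⟨c, h1 ▸ Subgroup.mem_map_of_mem _ hzD, ?_⟩
  rintro _ ⟨w, hw, rfl⟩
  rw [h1]
  exact congrArg Subtype.val (hzc w hw)

/-- Induction of blocks preserves and reflects defect zero. -/
theorem blockDefect_eq_zero_iff_of_induced (hM : IsPModular p M) {H : Subgroup G} [Fintype H]
    {b : Set (IrrCharacter H)} {B : Set (IrrCharacter G)} (hind : IsInducedBlock M H b B) :
    blockDefect p b = 0 ↔ blockDefect p B = 0 := by
  classical
  have hpf : Fact p.Prime := ⟨hM.1⟩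
  obtain ⟨D, hD⟩ := exists_defectGroup hM hind.1
  obtain ⟨P, hP⟩ := exists_defectGroup hM hind.2.1
  have key : ∀ {n : ℕ}, p ^ n = 1 → n = 0 := fun {n} h =>
    (Nat.pow_eq_one.mp h).resolve_left hM.1.ne_one
  constructor
  · intro h
    have hDb : D = ⊥ := Subgroup.card_eq_one.mp (by rw [defectGroup_card hM hind.1 hD, h, pow_zero])
    refine key ?_
    rw [← defectGroup_card hM hind.2.1 hP, Subgroup.card_eq_one]
    by_contra hne
    have : Nontrivial P := (Subgroup.nontrivial_iff_ne_bot P).mpr hne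
    have := (isPGroup_defectGroup hM hind.2.1 hP).center_nontrivial
    obtain ⟨⟨x, hx⟩, hx1⟩ := exists_ne (1 : Subgroup.center P)
    obtain ⟨g, hg, -⟩ := exists_conj_center_defect hM hind hD hP x.2 fun w hw =>
      congrArg Subtype.val ((Subgroup.mem_center_iff.mp hx) ⟨w, hw⟩).symm
    rw [hDb, Subgroup.map_bot, Subgroup.mem_bot, conj_eq_one_iff] at hg
    exact hx1 (Subtype.ext (Subtype.ext hg))
  · intro h
    obtain ⟨E, hE, hle⟩ := exists_defectGroup_ge hM hind hD
    have hEb : E = ⊥ := Subgroup.card_eq_one.mp (by rw [defectGroup_card hM hind.2.1 hE, h, pow_zero])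
    refine key ?_
    rw [← defectGroup_card hM hind.1 hD, Subgroup.card_eq_one]
    exact (Subgroup.map_eq_bot_iff_of_injective _ H.subtype_injective).mp (le_bot_iff.mp (hEb ▸ hle))

end CfsgLib.Block
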