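import Cfsg.Agent.Lib.Block.Contributions
import Cfsg.Agent.Lib.Block.DefectFusion

/-!
# The matrix of contributions of a subsection

`secContrib p x C b χ ψ` is `p ^ d(b)` times the contribution of the subsection `(x, b)` to the inner
product of `χ` and `ψ`: a hermitian matrix of cyclotomic integers, idempotent up to the factor `p ^ d(b)`;
its residues, and its divisibility by the height when the subsection is major.
-/

open Finset MonoidAlgebra
open scoped ComplexConjugate

set_option linter.unusedSectionVars false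

namespace CfsgLib.Block

open Cfsg

open scoped Pair

universe u

variable {p : ℕ} {M : Ideal AlgInt} [M.IsMaximal] {G : Type u} [Group G] [Fintype G] [DecidableEq G]
  [Fintype (IrrCharacter G)] {C : Subgroup G} [Fintype (IrrCharacter C)]

variable (p) in
open scoped Classical in
/-- The scaled contribution of the subsection. -/
noncomputable def secContrib (x : G) (C : Subgroup G) (b : Set (IrrCharacter C)) (χ ψ : IrrCharacter G) :
    ℂ :=
  (p : ℂ) ^ blockDefect p b * ((Nat.card C : ℂ)⁻¹ *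
    ∑ y ∈ Finset.univ.filter (fun y : C => ¬ p ∣ orderOf y),
      secFun x C χ y * conj (blockPart b (secFun x C ψ) y))

open scoped Classical in
variable (p M) in
/-- The degree weighted multiplicity in the block, modulo `M`. -/
noncomputable def secRes (hM : IsPModular p M) (b : Set (IrrCharacter C)) (χ : IrrCharacter G) :
    ResField M :=
  ∑ η ∈ Finset.univ.filter (· ∈ b),
    (resMult χ η : ResField M) * res M (degW p M hM C (blockDefect p b) η)

theorem res_degW_ne_zero (hM : IsPModular p M) {A : Type u} [Group A] [Fintype A]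
    {B : Set (IrrCharacter A)} {η : IrrCharacter A} (hη : η ∈ B) (h0 : blockHeight p B (η : A → ℂ) = 0) :
    res M (degW p M hM A (blockDefect p B) η) ≠ 0 := by
  classical
  have := Fintype.ofFinite (IrrCharacter A)
  have := charP_resField hM
  rw [degW, map_mul, map_natCast]
  refine mul_ne_zero ?_ (res_invNat_ne_zero hM _)
  rw [Ne, CharP.cast_eq_zero_iff (ResField M) p]
  have h1 := (blockHeight_eq_zero_iff hη).mp h0
  have hm : minDeg p B ≤ (Nat.card A).factorization p :=
    (minDeg_le (p := p) hη).trans (degVal_le_card η)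
  have h2 : degVal p η + blockDefect p B - (Nat.card A).factorization p = 0 := by
    show degVal p η + ((Nat.card A).factorization p - minDeg p B) - (Nat.card A).factorization p = 0
    omega
  rw [h2, pow_zero, one_mul]
  exact Nat.not_dvd_ordCompl hM.1 (charDegree_eq η).2

theorem le_degVal_add_blockDefect {A : Type u} [Group A] [Finite A] {B : Set (IrrCharacter A)}
    {η : IrrCharacter A} (hη : η ∈ B) :
    (Nat.card A).factorization p ≤ degVal p η + blockDefect p B := by
  have h2 := minDeg_le (p := p) hη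
  show _ ≤ _ + ((Nat.card A).factorization p - minDeg p B)
  omega

/-- A cyclotomic integer of `p`-power level and its conjugate have the same residue. -/
theorem exists_lift_conj (hM : IsPModular p M) {k : ℕ} {z : ℂ} (hz : z ∈ cycInt (p ^ k)) :
    ∃ L L' : locRing M, (L : ℂ) = z ∧ (L' : ℂ) = conj z ∧ res M L = res M L' := by
  have := charP_resField hM
  have : Fact p.Prime := ⟨hM.1⟩
  induction hz using Subring.closure_induction with
  | mem x hx =>
    have key : ∀ l : ℂ, l ^ p ^ k = 1 → ∃ L : locRing M, (L : ℂ) = l ∧ res M L = 1 := fun l hl => by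
      have hmem' : l ∈ locRing M :=
        integral_mem M (Char.isIntegral_of_pow_eq_one (pow_ne_zero _ hM.1.ne_zero) hl)
      refine ⟨⟨l, hmem'⟩, rfl, sub_eq_zero.mp (eq_zero_of_pow_eq_zero (n := p ^ k) ?_)⟩
      rw [sub_pow_char_pow, one_pow, ← map_pow,
        show (⟨l, hmem'⟩ : locRing M) ^ (p ^ k) = 1 from Subtype.ext (by simpa using hl), map_one,
        sub_self]
    obtain ⟨L, hL, hL1⟩ := key x hx
    obtain ⟨L', hL', hL1'⟩ := key (conj x) (by rw [← map_pow, hx, map_one])
    exact ⟨L, L', hL, hL', hL1.trans hL1'.symm⟩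
  | zero => exact ⟨0, 0, rfl, by simp, rfl⟩
  | one => exact ⟨1, 1, rfl, by simp, rfl⟩
  | add x y _ _ hx hy =>
    obtain ⟨L, L', h1, h2, h3⟩ := hx
    obtain ⟨N, N', h4, h5, h6⟩ := hy
    exact ⟨L + N, L' + N', by rw [Subring.coe_add, h1, h4], by rw [Subring.coe_add, h2, h5, map_add],
      by rw [map_add, map_add, h3, h6]⟩
  | neg x _ hx =>
    obtain ⟨L, L', h1, h2, h3⟩ := hx
    exact ⟨-L, -L', by rw [Subring.coe_neg, h1], by rw [Subring.coe_neg, h2, map_neg],
      by rw [map_neg, map_neg, h3]⟩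
  | mul x y _ _ hx hy =>
    obtain ⟨L, L', h1, h2, h3⟩ := hx
    obtain ⟨N, N', h4, h5, h6⟩ := hy
    exact ⟨L * N, L' * N', by rw [Subring.coe_mul, h1, h4],
      by rw [Subring.coe_mul, h2, h5, map_mul (starRingEnd ℂ)], by rw [map_mul, map_mul, h3, h6]⟩

section

variable {x : G} {k : ℕ} {b : Set (IrrCharacter C)} {B : Set (IrrCharacter G)}

theorem classInner_secFun (hC : ∀ t : C, Commute (t : G) x) {χ : IrrCharacter G}
    {c : IrrCharacter C → ℂ}
    (hc : ∀ t, secFun x C χ t = ∑ η : IrrCharacter C, c η * (η : C → ℂ) t) (η : IrrCharacter C) :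
    classInner (secFun x C χ) (η : C → ℂ) = c η := by
  classical
  rw [show secFun x C χ = ∑ ζ : IrrCharacter C, c ζ • (ζ : C → ℂ) from funext fun t => by
    simp [hc t, Finset.sum_apply], Char.classInner_sum_left]
  simp only [Char.classInner_smul_left, Char.classInner_irr, mul_ite, mul_one, mul_zero,
    Finset.sum_ite_eq', Finset.mem_univ, if_true]

open scoped Classical in
/-- The coefficients of a section in the centralizer. -/
theorem exists_secCoeff (hk : orderOf x = p ^ k) (hC : ∀ t : G, t ∈ C ↔ Commute t x) :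
    ∃ lam : IrrCharacter C → ℂ, (∀ η, lam η ^ p ^ k = 1) ∧ ∀ (χ : IrrCharacter G) (t : C),
      secFun x C χ t = ∑ η : IrrCharacter C, (resMult χ η : ℂ) * lam η * (η : C → ℂ) t := by
  have hC' : ∀ t : C, Commute (t : G) x := fun t => (hC t).mp t.2
  have hxC : x ∈ C := (hC x).mpr (Commute.refl x)
  set x' : C := ⟨x, hxC⟩ with hx'
  have hx'n : x' ^ p ^ k = 1 := Subtype.ext (by
    rw [Subgroup.coe_pow, OneMemClass.coe_one, hx']
    show x ^ p ^ k = 1
    rw [← hk, pow_orderOf_eq_one])
  choose lam hlam hlamt using fun η : IrrCharacter C =>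
    exists_central_scalar η (z := x') (fun t => Subtype.ext (hC' t).symm.eq) hx'n
  refine ⟨lam, hlam, fun χ t => ?_⟩
  show (χ : G → ℂ) ((x' * t : C) : G) = _
  rw [res_eq_sum_resMult]
  exact Finset.sum_congr rfl fun η _ => by rw [hlamt]; ring

open scoped Classical in
theorem blockPart_secFun_eq (hC : ∀ t : C, Commute (t : G) x) {χ : IrrCharacter G}
    {c : IrrCharacter C → ℂ}
    (hc : ∀ t, secFun x C χ t = ∑ η : IrrCharacter C, c η * (η : C → ℂ) t) (y : C) :
    blockPart b (secFun x C χ) y = ∑ η ∈ Finset.univ.filter (· ∈ b), c η * (η : C → ℂ) y := by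
  rw [blockPart_eq]
  exact Finset.sum_congr rfl fun η _ => by rw [classInner_secFun hC hc]

open scoped Classical in
/-- The contribution through the multiplicities. -/
theorem secContrib_eq_sum (hM : IsPModular p M) (hb : IsPBlock M b)
    (hC : ∀ t : C, Commute (t : G) x) {χ ψ : IrrCharacter G} {c c' : IrrCharacter C → ℂ}
    (hc : ∀ t, secFun x C χ t = ∑ η : IrrCharacter C, c η * (η : C → ℂ) t)
    (hc' : ∀ t, secFun x C ψ t = ∑ η : IrrCharacter C, c' η * (η : C → ℂ) t) :
    secContrib p x C b χ ψ = ∑ η ∈ Finset.univ.filter (· ∈ b), ∑ ζ ∈ Finset.univ.filter (· ∈ b),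
      c η * conj (c' ζ) * ((p : ℂ) ^ blockDefect p b * regInner p η ζ) := by
  have hC0 : (Nat.card C : ℂ) ≠ 0 := Nat.cast_ne_zero.mpr Nat.card_pos.ne'
  have key : ∀ η ζ : IrrCharacter C, (Nat.card C : ℂ)⁻¹ *
      ∑ y ∈ Finset.univ.filter (fun y : C => ¬ p ∣ orderOf y),
        (η : C → ℂ) y * conj ((ζ : C → ℂ) y) = regInner p η ζ := fun η ζ => by
    simp only [← Char.irr_inv ζ]
    rw [← card_mul_regInner, ← mul_assoc, inv_mul_cancel₀ hC0, one_mul]
  rw [Finset.sum_subset (Finset.subset_univ _) fun η _ hη => Finset.sum_eq_zero fun ζ hζ => by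
    rw [regInner_comm hM, regInner_eq_zero_of_not_mem hM (.of_isPBlock hb) (Finset.mem_filter.mp hζ).2
      (by simpa using hη), mul_zero, mul_zero]]
  have hy : ∀ y : C, secFun x C χ y * conj (blockPart b (secFun x C ψ) y) =
      ∑ η : IrrCharacter C, ∑ ζ ∈ Finset.univ.filter (· ∈ b),
        c η * conj (c' ζ) * ((η : C → ℂ) y * conj ((ζ : C → ℂ) y)) := fun y => by
    rw [blockPart_secFun_eq hC hc', hc, map_sum, Finset.sum_mul_sum]
    exact Finset.sum_congr rfl fun η _ => Finset.sum_congr rfl fun ζ _ => by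
      rw [map_mul (starRingEnd ℂ)]; ring
  rw [secContrib, Finset.sum_congr rfl fun y _ => hy y, Finset.sum_comm, Finset.mul_sum, Finset.mul_sum]
  refine Finset.sum_congr rfl fun η _ => ?_
  rw [Finset.sum_comm, Finset.mul_sum, Finset.mul_sum]
  refine Finset.sum_congr rfl fun ζ _ => ?_
  rw [← Finset.mul_sum, ← key]
  ring

open scoped Classical in
/-- The contribution through the regular parts of the sections. -/
theorem secContrib_eq_coeff (hM : IsPModular p M) (hb : IsPBlock M b)
    (hC : ∀ t : C, Commute (t : G) x) (χ ψ : IrrCharacter G) :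
    secContrib p x C b χ ψ = (p : ℂ) ^ blockDefect p b * ∑ θ ∈ Finset.univ.filter (· ∈ b),
      classInner (regFun p (secFun x C χ)) (θ : C → ℂ) *
        conj (classInner (regFun p (secFun x C ψ)) (θ : C → ℂ)) := by
  rw [secContrib]
  congr 1
  have hreg : ∀ θ : IrrCharacter C, classInner (regFun p (secFun x C χ)) (θ : C → ℂ) =
      (Nat.card C : ℂ)⁻¹ * ∑ y ∈ Finset.univ.filter (fun y : C => ¬ p ∣ orderOf y),
        secFun x C χ y * conj ((θ : C → ℂ) y) := fun θ => by
    rw [classInner, Finset.sum_filter]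
    congr 1
    refine Finset.sum_congr rfl fun y _ => ?_
    by_cases hy : p ∣ orderOf y <;> simp [regFun, hy]
  rw [Finset.sum_congr rfl fun y hy => by
    rw [blockPart_regular hM hb (isClassFunction_secFun hC ψ) (Finset.mem_filter.mp hy).2]]
  simp only [map_sum, map_mul, Finset.mul_sum]
  rw [Finset.sum_comm]
  refine Finset.sum_congr rfl fun θ _ => ?_
  rw [hreg θ, Finset.mul_sum, Finset.sum_mul]
  exact Finset.sum_congr rfl fun y _ => by ring

theorem conj_secContrib (hM : IsPModular p M) (hb : IsPBlock M b)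
    (hC : ∀ t : C, Commute (t : G) x) (χ ψ : IrrCharacter G) :
    conj (secContrib p x C b χ ψ) = secContrib p x C b ψ χ := by
  classical
  rw [secContrib_eq_coeff hM hb hC, secContrib_eq_coeff hM hb hC, map_mul, map_pow, map_natCast, map_sum]
  congr 1
  exact Finset.sum_congr rfl fun θ _ => by rw [map_mul, Complex.conj_conj, mul_comm]

variable (hM : IsPModular p M) (hk : orderOf x = p ^ k) (hC : ∀ t : G, t ∈ C ↔ Commute t x)
  (hb : IsInducedBlock M C b B)

include hM hk hC hb in
theorem secContrib_mem_cycInt (χ ψ : IrrCharacter G) : secContrib p x C b χ ψ ∈ cycInt (p ^ k) := by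
  classical
  obtain ⟨lam, hlam, hsec⟩ := exists_secCoeff hk hC
  rw [secContrib_eq_sum hM hb.1 (fun t => (hC t).mp t.2) (hsec χ) (hsec ψ)]
  refine Subring.sum_mem _ fun η hη => Subring.sum_mem _ fun ζ _ => ?_
  obtain ⟨z, hz, -⟩ := exists_scaled_regInner hM
    (le_degVal_add_blockDefect (p := p) (Finset.mem_filter.mp hη).2) ζ
  rw [hz]
  exact Subring.mul_mem _ (Subring.mul_mem _ (Subring.mul_mem _ (natCast_mem _ _) (mem_cycInt_of_pow (hlam η)))
    (conj_mem_cycInt (Subring.mul_mem _ (natCast_mem _ _) (mem_cycInt_of_pow (hlam ζ))))) (intCast_mem _ _)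

include hM hk hC hb in
open scoped Classical in
theorem sum_secContrib_mul_conj (χ : IrrCharacter G) :
    ∑ ψ ∈ Finset.univ.filter (· ∈ B), secContrib p x C b χ ψ * conj (secContrib p x C b χ ψ) =
        (p : ℂ) ^ blockDefect p b * secContrib p x C b χ χ ∧
      ∑ ψ ∈ Finset.univ.filter (· ∈ B), secContrib p x C b ψ ψ =
        (p : ℂ) ^ blockDefect p b * (blockRank p b : ℂ) := by
  obtain ⟨lam, hlam, hsec⟩ := exists_secCoeff hk hC
  have hC' : ∀ t : C, Commute (t : G) x := fun t => (hC t).mp t.2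
  have hxp : ∃ j : ℕ, orderOf x = p ^ j := ⟨k, hk⟩
  have hbb := hb.1
  have hS := IsBlockUnion.of_isPBlock hbb
  set s : Finset (IrrCharacter C) := Finset.univ.filter (· ∈ b) with hs
  set sB : Finset (IrrCharacter G) := Finset.univ.filter (· ∈ B) with hsB
  have hmem : ∀ {η}, η ∈ s ↔ η ∈ b := fun {η} => by simp [hs]
  let a : IrrCharacter G → IrrCharacter C → ℂ := fun χ ζ =>
    classInner (regFun p (secFun x C χ)) (ζ : C → ℂ)
  have ha : ∀ χ, ∀ ζ ∈ s, a χ ζ = ∑ η ∈ s, (resMult χ η : ℂ) * lam η * regInner p η ζ := by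
    intro χ ζ hζ
    have e : regFun p (secFun x C χ) =
        ∑ η : IrrCharacter C, ((resMult χ η : ℂ) * lam η) • regFun p (η : C → ℂ) := by
      funext t
      simp only [Finset.sum_apply, Pi.smul_apply, smul_eq_mul, regFun]
      by_cases ht : p ∣ orderOf t
      · simp [ht]
      · simp [ht, hsec χ t]
    simp only [a]
    rw [e, Char.classInner_sum_left]
    simp only [Char.classInner_smul_left]
    symm
    refine Finset.sum_subset (Finset.subset_univ _) fun η _ hη => ?_
    show _ * regInner p η ζ = 0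
    rw [regInner_comm hM, regInner_eq_zero_of_not_mem hM hS (hmem.mp hζ) (mt hmem.mpr hη), mul_zero]
  have haR : ∀ χ, ∀ θ ∈ s, ∑ ζ ∈ s, a χ ζ * regInner p ζ θ = a χ θ := by
    intro χ θ hθ
    rw [ha χ θ hθ, Finset.sum_congr rfl fun ζ hζ => by rw [ha χ ζ hζ, Finset.sum_mul],
      Finset.sum_comm]
    refine Finset.sum_congr rfl fun η hη => ?_
    rw [← sum_regInner_mul_regInner p η θ, Finset.mul_sum]
    refine Eq.trans (Finset.sum_congr rfl fun ζ _ => mul_assoc _ _ _) ?_
    refine Finset.sum_subset (Finset.subset_univ _) fun ζ _ hζ => ?_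
    rw [regInner_eq_zero_of_not_mem hM hS (hmem.mp hη) (mt hmem.mpr hζ), zero_mul, mul_zero]
  have ha0 : ∀ χ, χ ∉ B → ∀ θ ∈ s, a χ θ = 0 := by
    intro χ hχ θ hθ
    have e : ∀ y : C, ¬ p ∣ orderOf y → ∑ ζ ∈ s, a χ ζ * (ζ : C → ℂ) y = 0 := fun y hy => by
      rw [← blockPart_secFun_eq_zero hM hxp hC hb hχ hy,
        blockPart_regular hM hbb (isClassFunction_secFun hC' χ) hy]
    rw [← haR χ θ hθ]
    have hreg : ∀ ζ : IrrCharacter C, regInner p ζ θ = (Nat.card C : ℂ)⁻¹ *
        ∑ y ∈ Finset.univ.filter (fun y : C => ¬ p ∣ orderOf y),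
          (ζ : C → ℂ) y * (θ : C → ℂ) y⁻¹ := fun ζ => by
      rw [← card_mul_regInner, ← mul_assoc,
        inv_mul_cancel₀ (Nat.cast_ne_zero.mpr Nat.card_pos.ne'), one_mul]
    simp only [hreg, Finset.mul_sum]
    rw [Finset.sum_comm]
    refine Finset.sum_eq_zero fun y hy => ?_
    calc ∑ ζ ∈ s, a χ ζ * ((Nat.card C : ℂ)⁻¹ * ((ζ : C → ℂ) y * (θ : C → ℂ) y⁻¹))
        = ((Nat.card C : ℂ)⁻¹ * (θ : C → ℂ) y⁻¹) * ∑ ζ ∈ s, a χ ζ * (ζ : C → ℂ) y := by
          rw [Finset.mul_sum]
          exact Finset.sum_congr rfl fun ζ _ => by ring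
      _ = 0 := by rw [e y (Finset.mem_filter.mp hy).2, mul_zero]
  have hgram : ∀ η ∈ s, ∀ θ ∈ s, ∑ χ ∈ sB, a χ η * conj (a χ θ) = regInner p θ η := by
    intro η hη θ hθ
    rw [← sum_secCoeff hM hxp hC η θ]
    refine Finset.sum_subset (Finset.subset_univ _) fun χ _ hχ => ?_
    show a χ η * conj (a χ θ) = 0
    rw [ha0 χ (by simpa [hsB] using hχ) η hη, zero_mul]
  have hX : ∀ φ ψ, secContrib p x C b φ ψ =
      (p : ℂ) ^ blockDefect p b * ∑ θ ∈ s, a φ θ * conj (a ψ θ) := fun φ ψ =>
    secContrib_eq_coeff hM hbb hC' φ ψ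
  constructor
  · set q := (p : ℂ) ^ blockDefect p b with hq
    have hqc : conj q = q := by rw [hq, map_pow, map_natCast]
    calc ∑ ψ ∈ sB, secContrib p x C b χ ψ * conj (secContrib p x C b χ ψ)
        = q * q * ∑ θ ∈ s, ∑ ζ ∈ s, a χ θ * conj (a χ ζ) * ∑ ψ ∈ sB, a ψ ζ * conj (a ψ θ) := by
          simp only [hX, map_mul, hqc, map_sum, Complex.conj_conj, Finset.mul_sum, Finset.sum_mul]
          rw [Finset.sum_comm]
          rw [Finset.sum_congr rfl fun θ _ => Finset.sum_comm, Finset.sum_comm]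
          exact Finset.sum_congr rfl fun θ _ => Finset.sum_congr rfl fun ζ _ =>
            Finset.sum_congr rfl fun ψ _ => by ring
      _ = q * q * ∑ ζ ∈ s, (∑ θ ∈ s, a χ θ * regInner p θ ζ) * conj (a χ ζ) := by
          rw [Finset.sum_comm]
          congr 1
          refine Finset.sum_congr rfl fun ζ hζ => ?_
          rw [Finset.sum_mul]
          exact Finset.sum_congr rfl fun θ hθ => by rw [hgram ζ hζ θ hθ]; ring
      _ = q * secContrib p x C b χ χ := by
          rw [hX, Finset.sum_congr rfl fun ζ hζ => by rw [haR χ ζ hζ]]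
          ring
  · simp only [hX]
    rw [← Finset.mul_sum, Finset.sum_comm, blockRank_eq_sum_regInner hM hS]
    congr 1
    exact Finset.sum_congr rfl fun θ hθ => hgram θ hθ θ hθ

include hM hk hC hb in
/-- The residues of the contributions have rank one. -/
theorem exists_secContrib_res : ∃ κ : ResField M, κ ≠ 0 ∧ ∀ χ ψ : IrrCharacter G,
    ∀ L : locRing M, (L : ℂ) = secContrib p x C b χ ψ →
      res M L = κ * secRes p M hM b χ * secRes p M hM b ψ := by
  classical
  have := charP_resField hM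
  have hbb := hb.1
  obtain ⟨lam, hlam, hsec⟩ := exists_secCoeff hk hC
  obtain ⟨η₀, hη₀, h00⟩ := exists_height_zero hM hbb
  set d := blockDefect p b
  set s : Finset (IrrCharacter C) := Finset.univ.filter (· ∈ b) with hs
  have hmem : ∀ {η}, η ∈ s ↔ η ∈ b := fun {η} => by simp [hs]
  choose! z hz hzres using fun η (hη : η ∈ s) =>
    exists_scaled_regInner hM (le_degVal_add_blockDefect (p := p) (hmem.mp hη))
  set w : IrrCharacter C → ResField M := fun η => res M (degW p M hM C d η) with hw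
  have hN : ∀ η ∈ s, ∀ ζ ∈ s, w η * regN p M η₀ ζ = w ζ * regN p M η₀ η := by
    intro η hη ζ hζ
    rw [regN_congr hbb hη₀ (hmem.mp hη) ζ, regN_congr hbb hη₀ (hmem.mp hζ) η, hw]
    simp only
    rw [← hzres η hη ζ, ← hzres ζ hζ η]
    congr 1
    have : (z η ζ : ℂ) = (z ζ η : ℂ) := by rw [← hz η hη ζ, ← hz ζ hζ η, regInner_comm hM]
    exact_mod_cast this
  have hw0 : w η₀ ≠ 0 := res_degW_ne_zero hM hη₀ h00
  have hκ : regN p M η₀ η₀ ≠ 0 := (regN_ne_zero_iff hM hbb hη₀ hη₀).mpr fun θ hθ => by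
    rw [(blockHeight_eq_zero_iff hη₀).mp h00]
    exact minDeg_le hθ
  refine ⟨regN p M η₀ η₀ / w η₀, div_ne_zero hκ hw0, fun χ ψ L hL => ?_⟩
  have key : ∀ l : ℂ, l ^ p ^ k = 1 →
      ∃ L : locRing M, (L : ℂ) = l ∧ res M L = 1 := fun l hl => by
    have : Fact p.Prime := ⟨hM.1⟩
    have hmem' : l ∈ locRing M :=
      integral_mem M (Char.isIntegral_of_pow_eq_one (pow_ne_zero _ hM.1.ne_zero) hl)
    refine ⟨⟨l, hmem'⟩, rfl, sub_eq_zero.mp (eq_zero_of_pow_eq_zero (n := p ^ k) ?_)⟩
    rw [sub_pow_char_pow, one_pow, ← map_pow,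
      show (⟨l, hmem'⟩ : locRing M) ^ (p ^ k) = 1 from Subtype.ext (by simpa using hl), map_one, sub_self]
  choose L1 hL1 hL1r using fun η => key _ (hlam η)
  choose L2 hL2 hL2r using fun η => key (conj (lam η)) (by rw [← map_pow, hlam η, map_one])
  have e : L = ∑ η ∈ s, ∑ ζ ∈ s, ((resMult χ η : locRing M) * L1 η) *
      ((resMult ψ ζ : locRing M) * L2 ζ) * (z η ζ : locRing M) := by
    apply Subtype.ext
    rw [hL, secContrib_eq_sum hM hbb (fun t => (hC t).mp t.2) (hsec χ) (hsec ψ)]
    simp only [AddSubmonoidClass.coe_finsetSum, Subring.coe_mul, SubringClass.coe_natCast,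
      SubringClass.coe_intCast, hL1, hL2]
    refine Finset.sum_congr rfl fun η hη => Finset.sum_congr rfl fun ζ _ => ?_
    rw [hz η hη ζ, map_mul, map_natCast]
  rw [e]
  simp only [map_sum, map_mul, map_natCast, map_intCast, hL1r, hL2r, mul_one]
  rw [secRes, secRes, mul_assoc, Finset.sum_mul_sum, Finset.mul_sum]
  refine Finset.sum_congr rfl fun η hη => ?_
  rw [Finset.mul_sum]
  refine Finset.sum_congr rfl fun ζ hζ => ?_
  have h1 := hN η₀ (hmem.mpr hη₀) ζ hζ
  rw [hzres η hη ζ, ← regN_congr hbb hη₀ (hmem.mp hη) ζ]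
  have h2 : regN p M η₀ ζ = regN p M η₀ η₀ / w η₀ * w ζ := by
    field_simp
    linear_combination h1
  rw [h2]
  simp only [hw]
  ring

end

open scoped Classical in
/-- The degree weighted multiplicity of a height zero character is a unit, in every subsection. -/
theorem secRes_ne_zero (hM : IsPModular p M) {x : G} (hxp : ∃ k : ℕ, orderOf x = p ^ k)
    (hC : ∀ t : G, t ∈ C ↔ Commute t x) {b : Set (IrrCharacter C)} {B : Set (IrrCharacter G)}
    (hb : IsInducedBlock M C b B) {χ : IrrCharacter G}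
    (hχ : χ ∈ B) (h0 : blockHeight p B (χ : G → ℂ) = 0) : secRes p M hM b χ ≠ 0 := by
  obtain ⟨k, hk⟩ := hxp
  have hpf : Fact p.Prime := ⟨hM.1⟩
  rw [secRes]
  set Q := Subgroup.zpowers x with hQdef
  have hQ : IsPGroup p Q := IsPGroup.of_card (n := k) (by rw [Nat.card_zpowers, hk])
  have hCQ : C = CQ Q := by
    ext t
    rw [hC, CQ, hQdef, Subgroup.zpowers_eq_closure, Subgroup.centralizer_closure]
    exact Subgroup.mem_centralizer_singleton_iff.symm
  subst hCQ
  obtain ⟨hbb, hB, hω⟩ := isInducedBlock_iff.mp hb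
  have hQC : Q ≤ CQ Q := by
    rw [hQdef, Subgroup.zpowers_le]; exact (hC x).mpr (Commute.refl x)
  have hfQ : IsBrauerPair p M Q b := ⟨hQ, hbb⟩
  have hpair : IsBrauerPairOf p M B Q b :=
    (CfsgLib.Block.isBrauerPairOf_iff hM hQ hbb hB).mpr fun ξ hξ χ' hχ' z => by
      rw [← hω ξ hξ χ' hχ' z,
        omegaBar_resHK_eq_brMap hQ le_rfl (centralizer_le_normalizer' _) hM hQC ξ z]
      rfl
  obtain ⟨D, hD⟩ := exists_defectGroup hM hbb
  have hDp := isPGroup_defectGroup hM hbb hD
  set R := Q ⊔ D.map (CQ Q).subtype with hR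
  obtain ⟨g, hg⟩ : ∃ g, NSub p M Q b R g :=
    ((isLocalBlock_self hbb).conjLE_iff hM hfQ hD hDp).mp (conjLE_of_le le_rfl)
  have hgB : IsBrauerPairOf p M B R g := (hg.isBrauerPairOf_iff hM).mpr hpair
  obtain ⟨c, hc, hne⟩ := hg.nv_mem hM (nv_of_height_zero hM hχ h0 hgB)
  have hcC : c ∈ CQ Q := cq_mono le_sup_left hc
  -- expand the functional
  have hexp : trB M χ (eG M b * single c 1) =
      ∑ t : CQ Q, coeffRes M b t * res M (irrLoc M χ ((t : G) * c)) := by
    rw [trB]
    simp only [coeff_mul_single', mul_one]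
    refine (Fintype.sum_equiv (Equiv.mulRight c⁻¹) _ (fun g => (eG M b).coeff g * res M (irrLoc M χ (g * c)))
      fun g => by simp).trans ?_
    rw [← Finset.sum_subset (Finset.subset_univ (Finset.univ.filter (fun g : G => g ∈ CQ Q)))
      fun g _ hg => by rw [suppIn_eG b g (by simpa using hg), zero_mul],
      Finset.sum_subtype (p := fun g => g ∈ CQ Q) _ (fun g => by simp)]
    exact Finset.sum_congr rfl fun t _ => by rw [coeff_eG]
  have hθc : IsCharacter _ (fun t : CQ Q => (χ : G → ℂ) (t : G)) :=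
    Char.isCharacter_comp (Char.isCharacter_irr χ) (CQ Q).subtype
  have e : (∑ t : CQ Q, (blockIdem M b : MonoidAlgebra (locRing M) _).coeff t * irrLoc M χ ((t : G) * c)) =
      ∑ η ∈ Finset.univ.filter (· ∈ b), (resMult χ η : locRing M) * irrLoc M η ⟨c, hcC⟩ := by
    apply Subtype.ext
    rw [AddSubmonoidClass.coe_finsetSum, AddSubmonoidClass.coe_finsetSum]
    simp only [Subring.coe_mul, coe_irrLoc, Subring.coe_natCast,
      coe_coeff_blockIdem hM (IsBlockUnion.of_isPBlock hbb)]
    refine Eq.trans (blockPart_eq_sum b (Char.isClassFunction_of_isCharacter hθc) ⟨c, hcC⟩).symm ?_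
    rw [blockPart_eq]
    refine Finset.sum_congr rfl fun η _ => ?_
    exact congrArg (fun z : ℂ => z * _) (Classical.choose_spec (Char.classInner_char_irr_nat
      (Char.isCharacter_comp (Char.isCharacter_irr χ) (CQ Q).subtype) η))
  -- the defect group centralizes `c`
  obtain ⟨q, hq⟩ : p ^ blockDefect p b ∣ Nat.card (Subgroup.centralizer ({⟨c, hcC⟩} : Set (CQ Q))) := by
    rw [← defectGroup_card hM hbb hD]
    refine Subgroup.card_dvd_of_le fun u hu => Subgroup.mem_centralizer_singleton_iff.mpr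
      (Subtype.ext ?_)
    exact Subgroup.mem_centralizer_iff.mp hc _ (le_sup_right (a := Q) (Subgroup.mem_map_of_mem _ hu))
  obtain ⟨η₀, hη₀⟩ := isPBlock_nonempty hbb
  intro hzero
  apply hne
  rw [hexp]
  have h1 := congrArg (res M) e
  simp only [map_sum, map_mul, map_natCast] at h1
  refine Eq.trans ?_ (h1.trans ?_)
  · rfl
  · rw [Finset.sum_congr rfl (g := fun η => centralRes M η₀ ⟨c, hcC⟩ * (q : ResField M) *
      ((resMult χ η : ResField M) * res M (degW p M hM (CQ Q) (blockDefect p b) η))) fun η hη => ?_,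
      ← Finset.mul_sum, hzero, mul_zero]
    have hηb := (Finset.mem_filter.mp hη).2
    rw [res_irr_eq_degW hM (le_degVal_add_blockDefect (p := p) hηb) hq,
      centralRes_eq_of_mem hbb hηb hη₀]
    ring

theorem class_term_eq {n z i c g d t q : ℂ} (hcard : n * z = c) (hidx : i * z = g) (hw : t * g = d * q)
    (hc : c ≠ 0) (hz : z ≠ 0) (hd : d ≠ 0) (v f : ℂ) :
    q * (c⁻¹ * (n * (v * f))) = t * (i * v / d * f) := by
  subst hcard hidx
  have hn : n ≠ 0 := left_ne_zero_of_mul hc
  field_simp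
  linear_combination (-(v * f)) * hw

/-- In a major subsection a row of contributions is divisible by `p` to the power of the height,
and after division its residues are those at the height zero members. -/
theorem exists_major_lift (hM : IsPModular p M) {x : G} {k : ℕ} (hk : orderOf x = p ^ k)
    (hC : ∀ t : G, t ∈ C ↔ Commute t x) {b : Set (IrrCharacter C)} {B : Set (IrrCharacter G)}
    (hb : IsInducedBlock M C b B) (hd : blockDefect p b = blockDefect p B) {χ ψ : IrrCharacter G}
    (hχ : χ ∈ B) (hψ : ψ ∈ B) :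
    ∃ L : locRing M, secContrib p x C b χ ψ = (p : ℂ) ^ blockHeight p B (χ : G → ℂ) * (L : ℂ) ∧
      (blockHeight p B (ψ : G → ℂ) = 0 → res M L ≠ 0) ∧
      (0 < blockHeight p B (ψ : G → ℂ) → res M L = 0) := by
  classical
  have := charP_resField hM
  have hxp : ∃ j : ℕ, orderOf x = p ^ j := ⟨k, hk⟩
  have hC' : ∀ t : C, Commute (t : G) x := fun t => (hC t).mp t.2
  have hb' := hb
  obtain ⟨hbb, hB, -⟩ := hb
  set d := blockDefect p B with hdd
  obtain ⟨lam, hlam, hsec⟩ := exists_secCoeff hk hC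
  have hint : ∀ (ψ : IrrCharacter G) (y : C), IsIntegral ℤ (conj (blockPart b (secFun x C ψ) y)) := by
    intro ψ y
    refine IsIntegral.map (starRingEnd ℂ).toIntAlgHom ?_
    rw [blockPart_secFun_eq hC' (hsec ψ) y]
    exact IsIntegral.sum _ fun η _ => ((isIntegral_algebraMap (R := ℤ) (A := ℂ) (x := (resMult ψ η : ℤ))).mul
      (Char.isIntegral_of_pow_eq_one (pow_ne_zero _ hM.1.ne_zero) (hlam η))).mul (irr_isIntegral η y)
  let F : IrrCharacter G → IrrCharacter G → locRing M := fun χ ψ =>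
    ∑ K ∈ Finset.univ.filter (fun K : ConjClasses C => ¬ p ∣ orderOf (rep K)),
      ⟨_, centralChar_mem χ (x * ((rep K : C) : G))⟩ * ⟨_, integral_mem M (hint ψ (rep K))⟩
  have hF : ∀ χ ∈ B, ∀ χ' ∈ B, ∀ ψ, res M (F χ ψ) = res M (F χ' ψ) := by
    intro χ hχ χ' hχ' ψ
    simp only [F, map_sum, map_mul]
    refine Finset.sum_congr rfl fun K _ => congrArg (· * _) ?_
    exact centralRes_eq_of_mem hB hχ hχ' _
  have hX : ∀ χ ∈ B, ∀ ψ, secContrib p x C b χ ψ = (degW p M hM G d χ : ℂ) * (F χ ψ : ℂ) := by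
    intro χ hχ ψ
    simp only [secContrib, F, AddSubmonoidClass.coe_finsetSum, Subring.coe_mul]
    rw [← Finset.sum_fiberwise_of_maps_to (s := Finset.univ.filter (fun y : C => ¬ p ∣ orderOf y))
      (g := ConjClasses.mk) (t := Finset.univ.filter (fun K : ConjClasses C => ¬ p ∣ orderOf (rep K)))
      fun y hy => ?_, Finset.mul_sum, Finset.mul_sum, Finset.mul_sum]
    · refine Finset.sum_congr rfl fun K hK => ?_
      have hKreg := (Finset.mem_filter.mp hK).2
      have hfil : (Finset.univ.filter (fun y : C => ¬ p ∣ orderOf y)).filter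
          (fun y => ConjClasses.mk y = K) = Finset.univ.filter (fun y => IsConj (rep K) y) := by
        ext y
        simp only [Finset.mem_filter, Finset.mem_univ, true_and]
        constructor
        · rintro ⟨-, h⟩
          exact ConjClasses.mk_eq_mk_iff_isConj.mp ((mk_rep K).trans h.symm)
        · intro h
          obtain ⟨c, hc⟩ := isConj_iff.mp h
          refine ⟨by rw [← hc, orderOf_conj_eq]; exact hKreg, ?_⟩
          rw [← mk_rep K]; exact ConjClasses.mk_eq_mk_iff_isConj.mpr h.symm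
      have hconst : ∀ y ∈ Finset.univ.filter (fun y => IsConj (rep K) y),
          secFun x C χ y * conj (blockPart b (secFun x C ψ) y) =
          secFun x C χ (rep K) * conj (blockPart b (secFun x C ψ) (rep K)) := by
        intro y hy
        have h := (Finset.mem_filter.mp hy).2
        rw [Char.classFun_isConj (isClassFunction_secFun hC' χ) h]
        congr 2
        rw [blockPart_secFun_eq hC' (hsec ψ), blockPart_secFun_eq hC' (hsec ψ)]
        exact Finset.sum_congr rfl fun η _ => by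
          rw [Char.classFun_isConj (Char.isClassFunction_irr η) h]
      rw [hfil, Finset.sum_congr rfl hconst, Finset.sum_const, nsmul_eq_mul]
      have hcard : ((Finset.univ.filter (fun y => IsConj (rep K) y)).card : ℂ) *
          (Nat.card (Subgroup.centralizer ({rep K} : Set C)) : ℂ) = (Nat.card C : ℂ) := by
        rw [← Fintype.card_subtype, ← Nat.card_eq_fintype_card, Char.card_isConj, ← Nat.cast_mul,
          Subgroup.index_mul_card]
      have hcent := card_centralizer_secElt hM.1 hxp hC hKreg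
      have hidx : ((Subgroup.centralizer ({x * ((rep K : C) : G)} : Set G)).index : ℂ) *
          (Nat.card (Subgroup.centralizer ({rep K} : Set C)) : ℂ) = (Nat.card G : ℂ) := by
        rw [← hcent, ← Nat.cast_mul, Subgroup.index_mul_card]
      have hw := coe_degW hM (d := d) (η := χ) (le_degVal_add_blockDefect (p := p) hχ)
      have hC0 : (Nat.card C : ℂ) ≠ 0 := Nat.cast_ne_zero.mpr Nat.card_pos.ne'
      have hG0 : (Nat.card G : ℂ) ≠ 0 := Nat.cast_ne_zero.mpr Nat.card_pos.ne'
      have hZ0 : (Nat.card (Subgroup.centralizer ({rep K} : Set C)) : ℂ) ≠ 0 :=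
        Nat.cast_ne_zero.mpr Nat.card_pos.ne'
      have h1 : (χ : G → ℂ) 1 ≠ 0 := Char.irr_one_ne_zero χ
      rw [hd]
      simp only [centralChar]
      show _ = _ * (_ * (χ : G → ℂ) (x * ((rep K : C) : G)) / _ * _)
      rw [show secFun x C χ (rep K) = (χ : G → ℂ) (x * ((rep K : C) : G)) from rfl]
      exact class_term_eq hcard hidx hw hC0 hZ0 h1 _ _
    · refine Finset.mem_filter.mpr ⟨Finset.mem_univ _, ?_⟩
      obtain ⟨c, hc⟩ := isConj_iff.mp (ConjClasses.mk_eq_mk_iff_isConj.mp (mk_rep (ConjClasses.mk y)))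
      rw [← orderOf_conj_eq c, hc]
      exact (Finset.mem_filter.mp hy).2
  have hpow : ∀ χ ∈ B, ∃ U : locRing M, res M U ≠ 0 ∧
      degW p M hM G d χ = (p : locRing M) ^ blockHeight p B (χ : G → ℂ) * U := by
    intro χ hχ
    refine ⟨(ordCompl[p] (charDegree (χ : G → ℂ)) : ℕ) *
      invNat hM (Nat.not_dvd_ordCompl hM.1 (Nat.card_pos.ne' : Nat.card G ≠ 0)), ?_, ?_⟩
    · rw [map_mul, map_natCast]
      refine mul_ne_zero ?_ (res_invNat_ne_zero hM _)
      rw [Ne, CharP.cast_eq_zero_iff (ResField M) p]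
      exact Nat.not_dvd_ordCompl hM.1 (charDegree_eq χ).2
    · rw [degW, ← mul_assoc, Nat.cast_mul, Nat.cast_pow]
      congr 3
      have h1 := minDeg_le (p := p) hχ
      have hm : minDeg p B ≤ (Nat.card G).factorization p := h1.trans (degVal_le_card χ)
      show degVal p χ + ((Nat.card G).factorization p - minDeg p B) - (Nat.card G).factorization p =
        degVal p χ - minDeg p B
      omega
  obtain ⟨U, hU, hUe⟩ := hpow χ hχ
  refine ⟨U * F χ ψ, ?_, ?_⟩
  · rw [hX χ hχ ψ, hUe]
    simp only [Subring.coe_mul, Subring.coe_pow, SubringClass.coe_natCast]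
    ring
  -- compare with a height zero member
  obtain ⟨χ₀, hχ₀, h0⟩ := exists_height_zero hM hB
  obtain ⟨U₀, hU₀, hUe₀⟩ := hpow χ₀ hχ₀
  obtain ⟨κ, hκ, hres⟩ := exists_secContrib_res hM hk hC hb'
  have hkey : ∀ φ, res M U₀ * res M (F χ₀ φ) = κ * secRes p M hM b χ₀ * secRes p M hM b φ := fun φ => by
    rw [← map_mul]
    refine hres χ₀ φ _ ?_
    rw [hX χ₀ hχ₀ φ, hUe₀, h0, pow_zero, one_mul]
    rfl
  refine ⟨fun hψ0 => ?_, fun hψpos => ?_⟩
  · rw [map_mul, hF χ hχ χ₀ hχ₀ ψ]
    refine mul_ne_zero hU fun h => ?_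
    have h2 := hkey ψ
    rw [h, mul_zero] at h2
    exact mul_ne_zero (mul_ne_zero hκ (secRes_ne_zero hM hxp hC hb' hχ₀ h0))
      (secRes_ne_zero hM hxp hC hb' hψ hψ0) h2.symm
  · -- the residue at a member of positive height vanishes
    have hS : secRes p M hM b ψ = 0 := by
      obtain ⟨V, -, hVe⟩ := hpow ψ hψ
      obtain ⟨L, L', hL, hL', hLL'⟩ := exists_lift_conj (M := M) hM (secContrib_mem_cycInt hM hk hC hb' ψ χ₀)
      have h2 := hres ψ χ₀ L hL
      have h3 : res M L = 0 := by
        have : L = (p : locRing M) ^ blockHeight p B (ψ : G → ℂ) * V * F ψ χ₀ := Subtype.ext (by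
          rw [hL, hX ψ hψ χ₀, hVe]
          simp only [Subring.coe_mul])
        rw [this, map_mul, map_mul, map_pow, map_natCast, CharP.cast_eq_zero, zero_pow hψpos.ne',
          zero_mul, zero_mul]
      rw [h3] at h2
      have h4 := secRes_ne_zero hM hxp hC hb' hχ₀ h0
      exact (mul_eq_zero.mp ((mul_eq_zero.mp h2.symm).resolve_right h4)).resolve_left hκ
    rw [map_mul, hF χ hχ χ₀ hχ₀ ψ]
    have h2 := hkey ψ
    rw [hS, mul_zero, mul_eq_zero] at h2
    rw [h2.resolve_left hU₀, mul_zero]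

end CfsgLib.Block
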