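import Cfsg.Agent.Lib.Block.MaxPairs

/-!
# The first main theorem
-/

open Finset MonoidAlgebra
open scoped ComplexConjugate

set_option linter.unusedSectionVars false

namespace CfsgLib.Block

open Cfsg

open scoped Pair

universe u

variable {p : ℕ} {M : Ideal AlgInt} [M.IsMaximal] {G : Type u} [Group G] [Fintype G] [DecidableEq G]

theorem centralRes_conj_elt (χ : IrrCharacter G) (g c : G) :
    centralRes M χ (c * g * c⁻¹) = centralRes M χ g := by
  refine congrArg (res M) (Subtype.ext ?_)
  show centralChar _ _ = centralChar _ _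
  rw [centralChar, centralChar, Char.isClassFunction_irr,
    ← show MulAut.conj c g = c * g * c⁻¹ from rfl, ← centralizer_map_singleton (MulAut.conj c),
    show (Subgroup.map (MulAut.conj c).toMonoidHom (Subgroup.centralizer ({g} : Set G))).index = _ from
      Subgroup.index_map_equiv _ (MulAut.conj c)]

theorem IsSylowCent.conj_elt {g : G} {D : Subgroup G} (h : IsSylowCent p g D) (c : G) :
    IsSylowCent p (c * g * c⁻¹) (cjS c D) := by
  refine ⟨?_, ?_⟩
  · rintro _ ⟨v, hv, rfl⟩
    exact (h.commute v hv).map (MulAut.conj c).toMonoidHom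
  · rw [Subgroup.card_map_of_injective (f := (MulAut.conj c).toMonoidHom) (MulAut.conj c).injective,
      h.card_eq]
    congr 2
    rw [← show MulAut.conj c g = c * g * c⁻¹ from rfl, ← centralizer_map_singleton (MulAut.conj c),
      Subgroup.card_map_of_injective (f := (MulAut.conj c).toMonoidHom) (MulAut.conj c).injective]

/-- A `p`-group centralizing `x` with no larger one in its normalizer is Sylow in the centralizer. -/
theorem isSylowCent_of_normalizer [Fact p.Prime] {x : G} {Q : Subgroup G} (hQ : IsPGroup p Q)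
    (hQx : ∀ u ∈ Q, Commute u x) (h : ∀ S : Subgroup G, IsPGroup p S → Q ≤ S →
      S ≤ Subgroup.normalizer (Q : Set G) → (∀ s ∈ S, Commute s x) → S = Q) :
    IsSylowCent p x Q := by
  have hle : Q ≤ Subgroup.centralizer ({x} : Set G) := fun u hu =>
    Subgroup.mem_centralizer_singleton_iff.mpr (hQx u hu).eq
  obtain ⟨P, hP⟩ := (hQ.of_equiv (Subgroup.subgroupOfEquivOfLe hle).symm).exists_le_sylow
  have hE := isSylowCent_map P
  rcases (show Q ≤ (P : Subgroup _).map (Subgroup.centralizer ({x} : Set G)).subtype from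
    fun u hu => ⟨⟨u, hle hu⟩, hP hu, rfl⟩).lt_or_eq with hlt | heq
  · exfalso
    have h1 := lt_normalizer_inf hE.isPGroup hlt
    exact h1.ne (h _ (hE.isPGroup.to_le inf_le_right) h1.le inf_le_left
      fun s hs => hE.commute s hs.2).symm
  · rwa [heq]

/-- Blocks with a common defect group are separated by the classes having it as Sylow subgroup of
the centralizer. -/
theorem eq_of_centralRes_eq_on_defect (hM : IsPModular p M) {B B' : Set (IrrCharacter G)}
    (hB : IsPBlock M B) (hB' : IsPBlock M B') {D : Subgroup G} (hD : IsDefectGroup p M B D)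
    (hD' : IsDefectGroup p M B' D) {χ χ' : IrrCharacter G} (hχ : χ ∈ B) (hχ' : χ' ∈ B')
    (h : ∀ g, IsSylowCent p g D → centralRes M χ g = centralRes M χ' g) : B = B' := by
  classical
  have hpf : Fact p.Prime := ⟨hM.1⟩
  have key : omegaBar M χ (blockBar M B) = omegaBar M χ' (blockBar M B) := by
    rw [zk_eq_sum (blockBar M B), map_sum, map_sum]
    refine Finset.sum_congr rfl fun C _ => ?_
    rw [omegaBar_smul, omegaBar_smul, omegaBar_classBar, omegaBar_classBar]
    by_cases hc : (blockBar M B : MonoidAlgebra (ResField M) G).coeff (rep C) = 0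
    · rw [hc, zero_mul, zero_mul]
    congr 1
    rw [coeff_blockBar] at hc
    obtain ⟨E, hE⟩ := exists_isSylowCent p (rep C)
    have hED : ConjLE E D := coeff_ne_zero_le_defect hM hB hD hE.isPGroup hc hE.commute
    suffices ∀ {B₁ : Set (IrrCharacter G)} {χ₁ : IrrCharacter G}, IsPBlock M B₁ →
        IsDefectGroup p M B₁ D → χ₁ ∈ B₁ → centralRes M χ₁ (rep C) ≠ 0 →
        centralRes M χ (rep C) = centralRes M χ' (rep C) by
      by_cases h1 : centralRes M χ (rep C) = 0
      · by_cases h2 : centralRes M χ' (rep C) = 0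
        · rw [h1, h2]
        · exact this hB' hD' hχ' h2
      · exact this hB hD hχ h1
    intro B₁ χ₁ hB₁ hD₁ hχ₁ hne
    obtain ⟨g, hg, hgc, -⟩ := exists_isSylowCent_of_isDefectGroup hM hB₁ hD₁
    obtain ⟨y, hy⟩ := hED.exists_eq (sylowCent_conjLE hM hB₁ hgc hχ₁ hne hg hE).card_le
    have h3 := h (y * rep C * y⁻¹) (by rw [← hy]; exact hE.conj_elt y)
    rwa [centralRes_conj_elt, centralRes_conj_elt] at h3
  rw [omegaBar_blockBar hM (.of_isPBlock hB), omegaBar_blockBar hM (.of_isPBlock hB), if_pos hχ] at key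
  split_ifs at key with hmem
  · exact isPBlock_eq_of_mem hB hB' hmem hχ'
  · exact absurd key one_ne_zero

variable {P H : Subgroup G}

/-- A normal `p`-subgroup of `H` lies in the image of each defect group. -/
theorem le_map_defectGroup (hM : IsPModular p M) (hP : IsPGroup p P) (hPH : P ≤ H)
    (hN : H ≤ Subgroup.normalizer (P : Set G)) {b : Set (IrrCharacter H)} (hb : IsPBlock M b)
    {D : Subgroup H} (hD : IsDefectGroup p M b D) : P ≤ D.map H.subtype := by
  have : (P.subgroupOf H).Normal := Subgroup.normal_subgroupOf_iff hPH |>.mpr fun a c ha hc =>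
    (Subgroup.mem_normalizer_iff.mp (hN hc) a).mp ha
  intro u hu
  exact ⟨⟨u, hPH hu⟩, normal_le_defectGroup hM hb hD
    (hP.of_equiv (Subgroup.subgroupOfEquivOfLe hPH).symm) (Subgroup.mem_subgroupOf.mpr hu), rfl⟩

/-- A block of a local subgroup inducing a block with defect group `P` has defect group `P`. -/
theorem isDefectGroup_of_induces (hM : IsPModular p M) (hPH : P ≤ H)
    (hN : H ≤ Subgroup.normalizer (P : Set G)) {b : Set (IrrCharacter H)}
    {B : Set (IrrCharacter G)} (hind : IsInducedBlock M H b B) (hD : IsDefectGroup p M B P) :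
    IsDefectGroup p M b (P.subgroupOf H) := by
  obtain ⟨Q, hQ⟩ := exists_defectGroup hM hind.1
  have hP := isPGroup_defectGroup hM hind.2.1 hD
  obtain ⟨E, hE, hle⟩ := exists_defectGroup_ge hM hind hQ
  have hPQ := le_map_defectGroup hM hP hPH hN hind.1 hQ
  have hcard : Nat.card E = Nat.card P := by
    rw [defectGroup_card hM hind.2.1 hE, defectGroup_card hM hind.2.1 hD]
  have heq : P = Q.map H.subtype := Subgroup.eq_of_le_of_card_ge hPQ
    (hcard ▸ Nat.card_le_card_of_injective _ (Subgroup.inclusion_injective hle))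
  rwa [heq, ← Subgroup.comap_subtype, Subgroup.comap_map_eq_self_of_injective (Subgroup.subtype_injective H)]

/-- Some block of a local subgroup induces `B` when the Brauer map does not kill it. -/
theorem exists_block_inducing (hM : IsPModular p M) (hP : IsPGroup p P) (hPH : P ≤ H)
    (hC : Subgroup.centralizer (P : Set G) ≤ H) (hN : H ≤ Subgroup.normalizer (P : Set G))
    {B : Set (IrrCharacter G)} (hB : IsPBlock M B) {x : G}
    (hx : x ∈ Subgroup.centralizer (P : Set G)) (hxc : coeffRes M B x ≠ 0) :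
    ∃ b : Set (IrrCharacter H), IsInducedBlock M H b B := by
  classical
  set z := brMap M hM hP hC hN (blockBar M B) with hz
  have hne : ∃ ξ, omegaBar M ξ z ≠ 0 := by
    by_contra hall
    push Not at hall
    obtain ⟨N, hN'⟩ := isNilpotent_of_omegaBar hM hall
    have hid : IsIdempotentElem z := by
      show _ = _
      rw [hz, ← map_mul, blockBar_mul_self hM (.of_isPBlock hB)]
    have h0 : z = 0 := by rw [← hid.pow_succ_eq N, pow_succ, hN', zero_mul]
    have := coeff_brMap hM hP hC hN (blockBar M B) ⟨x, hC hx⟩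
    rw [← hz, h0, if_pos hx, coeff_blockBar] at this
    exact hxc (by simpa using this.symm)
  obtain ⟨ξ, hξ⟩ := hne
  obtain ⟨B₁, hB₁⟩ := exists_inducedBlock hP hC hN hM hPH (isPBlock_blockOf ξ)
  obtain ⟨-, hB₁', hω⟩ := isInducedBlock_iff.mp hB₁
  obtain ⟨χ, hχ⟩ := isPBlock_nonempty hB₁'
  rw [hz, ← omegaBar_resHK_eq_brMap hP hC hN hM hPH, hω ξ (self_mem_blockOf ξ) χ hχ,
    omegaBar_blockBar hM (.of_isPBlock hB)] at hξ
  split_ifs at hξ with hmem
  · exact ⟨_, isPBlock_eq_of_mem hB hB₁' hmem hχ ▸ hB₁⟩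
  · exact absurd rfl hξ

theorem exists_induced_iff_conjLE (hM : IsPModular p M) (hP : IsPGroup p P) (hPH : P ≤ H)
    (hC : Subgroup.centralizer (P : Set G) ≤ H) (hN : H ≤ Subgroup.normalizer (P : Set G))
    {B : Set (IrrCharacter G)} (hB : IsPBlock M B) {D : Subgroup G} (hD : IsDefectGroup p M B D) :
    (∃ b : Set (IrrCharacter H), IsInducedBlock M H b B) ↔ ConjLE P D := by
  constructor
  · rintro ⟨b, hb⟩
    obtain ⟨Q, hQ⟩ := exists_defectGroup hM hb.1
    obtain ⟨E, hE, hle⟩ := exists_defectGroup_ge hM hb hQ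
    obtain ⟨c, hc⟩ := defectGroup_conj hM hB hE hD
    refine ConjLE.trans (conjLE_of_le ((le_map_defectGroup hM hP hPH hN hb.1 hQ).trans hle)) ⟨c, ?_⟩
    exact hc.le
  · intro h
    obtain ⟨x, hx, hxc⟩ := (brauer_blockIdem_ne_zero_iff hM hB hD hP).mpr h
    exact exists_block_inducing hM hP hPH hC hN hB hx hxc

section normalizer

variable (hP : IsPGroup p P)

local notation "NP" => Subgroup.normalizer (P : Set G)

theorem isSylowCent_normalizer_lift [Fact p.Prime] {g : NP}
    (hg : IsSylowCent p g (P.subgroupOf NP)) (hP : IsPGroup p P) : IsSylowCent p (g : G) P := by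
  refine isSylowCent_of_normalizer hP (fun u hu => ?_) fun S hS hPS hSN hSg => ?_
  · exact (hg.commute ⟨u, Subgroup.le_normalizer hu⟩ (Subgroup.mem_subgroupOf.mpr hu)).map
      (Subgroup.subtype NP)
  · obtain ⟨c, hc⟩ := conjLE_iff.mp (hg.conjLE (hS.of_equiv (Subgroup.subgroupOfEquivOfLe hSN).symm)
      fun u hu => Subtype.ext (hSg u (Subgroup.mem_subgroupOf.mp hu)).eq)
    refine le_antisymm (fun s hs => ?_) hPS
    have h1 := Subgroup.mem_subgroupOf.mp (hc ⟨s, hSN hs⟩ (Subgroup.mem_subgroupOf.mpr hs))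
    have h2 := (Subgroup.mem_normalizer_iff.mp c.2 s).mpr (by simpa using h1)
    exact h2

include hP in
/-- On classes with Sylow centralizer `P` the Brauer map at `P` gives the class sum of the
normalizer. -/
theorem brMap_classBar_of_isSylowCent (hM : IsPModular p M) {g : NP}
    (hg : IsSylowCent p (g : G) P) :
    brMap M hM hP (centralizer_le_normalizer' P) le_rfl (classBar M (g : G)) = classBar M g := by
  classical
  have hpf : Fact p.Prime := ⟨hM.1⟩
  refine Subtype.ext (ga_ext fun h => ?_)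
  rw [coeff_brMap]
  simp only [classBar, classSum, coeff_gaOfFun]
  have hgC : ∀ {h : NP}, IsConj g h → (h : G) ∈ Subgroup.centralizer (P : Set G) := by
    intro h hgh
    obtain ⟨c, rfl⟩ := isConj_iff.mp hgh
    rw [Subgroup.coe_mul, Subgroup.coe_mul, InvMemClass.coe_inv]
    exact (mem_centralizer_conj_iff c.2).mpr
      (Subgroup.mem_centralizer_iff.mpr fun u hu => (hg.commute u hu).eq)
  by_cases hgh : IsConj g h
  · have hG : IsConj (g : G) (h : G) := (Subgroup.subtype NP).map_isConj hgh
    rw [if_pos (hgC hgh), if_pos hgh, if_pos hG]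
  · rw [if_neg hgh]
    split_ifs with h1 h2
    · exfalso
      obtain ⟨n, hn, hnh⟩ := exists_normalizer_conj_of_isSylowCent hg h2 h1
      exact hgh (isConj_iff.mpr ⟨⟨n, hn⟩, Subtype.ext hnh⟩)
    · rfl
    · rfl

include hP in
theorem exists_induced_normalizer (hM : IsPModular p M) {b : Set (IrrCharacter NP)}
    (hb : IsPBlock M b) (hD : IsDefectGroup p M b (P.subgroupOf NP)) :
    ∃ B : Set (IrrCharacter G), IsPBlock M B ∧ IsDefectGroup p M B P ∧ IsInducedBlock M NP b B := by
  classical
  have hpf : Fact p.Prime := ⟨hM.1⟩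
  obtain ⟨B, hB⟩ := exists_inducedBlock hP (centralizer_le_normalizer' P) le_rfl hM
    Subgroup.le_normalizer hb
  obtain ⟨-, hB', hω⟩ := isInducedBlock_iff.mp hB
  refine ⟨B, hB', ?_, hB⟩
  obtain ⟨g, hg, -, hgω⟩ := exists_isSylowCent_of_isDefectGroup hM hb hD
  obtain ⟨ξ, hξ⟩ := isPBlock_nonempty hb
  obtain ⟨χ, hχ⟩ := isPBlock_nonempty hB'
  have hG := isSylowCent_normalizer_lift hg hP
  have hne : centralRes M χ (g : G) ≠ 0 := by
    rw [← omegaBar_classBar, ← hω ξ hξ χ hχ,
      omegaBar_resHK_eq_brMap hP (centralizer_le_normalizer' P) le_rfl hM Subgroup.le_normalizer,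
      brMap_classBar_of_isSylowCent hP hM hG, omegaBar_classBar]
    exact hgω ξ hξ
  obtain ⟨D, hD'⟩ := exists_defectGroup hM hB'
  obtain ⟨g', hg', hg'c, -⟩ := exists_isSylowCent_of_isDefectGroup hM hB' hD'
  have hDP : ConjLE D P := sylowCent_conjLE hM hB' hg'c hχ hne hg' hG
  have hPD : ConjLE P D := (exists_induced_iff_conjLE hM hP Subgroup.le_normalizer
    (centralizer_le_normalizer' P) le_rfl hB' hD').mp ⟨b, hB⟩
  obtain ⟨c, hc⟩ := hDP.exists_eq hPD.card_le
  exact hc ▸ isDefectGroup_conj hM hB' hD' c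

theorem existsUnique_normalizer_block (hM : IsPModular p M) {B : Set (IrrCharacter G)}
    (hB : IsPBlock M B) (hD : IsDefectGroup p M B P) :
    ∃! b : Set (IrrCharacter NP),
      IsPBlock M b ∧ IsDefectGroup p M b (P.subgroupOf NP) ∧ IsInducedBlock M NP b B := by
  classical
  have hpf : Fact p.Prime := ⟨hM.1⟩
  have hP := isPGroup_defectGroup hM hB hD
  obtain ⟨b, hb⟩ := (exists_induced_iff_conjLE hM hP Subgroup.le_normalizer
    (centralizer_le_normalizer' P) le_rfl hB hD).mpr (conjLE_of_le le_rfl)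
  refine ⟨b, ⟨hb.1, isDefectGroup_of_induces hM Subgroup.le_normalizer le_rfl hb hD, hb⟩,
    fun b' hb' => ?_⟩
  obtain ⟨χ, hχ⟩ := isPBlock_nonempty hB
  obtain ⟨ξ, hξ⟩ := isPBlock_nonempty hb.1
  obtain ⟨ξ', hξ'⟩ := isPBlock_nonempty hb'.1
  refine eq_of_centralRes_eq_on_defect hM hb'.1 hb.1 hb'.2.1
    (isDefectGroup_of_induces hM Subgroup.le_normalizer le_rfl hb hD) hξ' hξ fun g hg => ?_
  have key : ∀ {c : Set (IrrCharacter NP)} {η : IrrCharacter NP}, η ∈ c →
      IsInducedBlock M NP c B → centralRes M η g = centralRes M χ (g : G) := by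
    intro c η hη hc
    rw [← omegaBar_classBar (χ := χ), ← (isInducedBlock_iff.mp hc).2.2 η hη χ hχ,
      omegaBar_resHK_eq_brMap hP (centralizer_le_normalizer' P) le_rfl hM Subgroup.le_normalizer,
      brMap_classBar_of_isSylowCent hP hM (isSylowCent_normalizer_lift hg hP), omegaBar_classBar]
  rw [key hξ' hb'.2.2, key hξ hb]

end normalizer

theorem omG_eq_omG_trC (hM : IsPModular p M) (hP : IsPGroup p P) (hPH : P ≤ H)
    (hN : H ≤ Subgroup.normalizer (P : Set G)) (ξ : IrrCharacter H)
    (y : MonoidAlgebra (ResField M) G) : omG M ξ y = omG M ξ (trC P y) := by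
  classical
  refine Finset.sum_congr rfl fun C _ => ?_
  by_cases hC : ((rep C : H) : G) ∈ Subgroup.centralizer (P : Set G)
  · rw [coeff_trC _ hC]
  · rw [centralRes_eq_zero_of_not_mem_centralizer hP hN hM hPH ξ hC, mul_zero, mul_zero]

theorem emb_one_apply {N : Subgroup G} {R : Type*} [CommRing R] {g : G} (hg : g ∈ N) :
    (emb (1 : MonoidAlgebra R N) : MonoidAlgebra R G).coeff g = (1 : MonoidAlgebra R G).coeff g := by
  rw [show g = ((⟨g, hg⟩ : N) : G) from rfl, coeff_emb_coe]
  simp only [MonoidAlgebra.one_def, MonoidAlgebra.coeff_single, Finsupp.single_apply]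
  by_cases h1 : (1 : N) = ⟨g, hg⟩
  · have h2 : (1 : G) = g := congrArg Subtype.val h1
    simp [h1, h2]
  · have h2 : ¬ (1 : G) = g := fun e => h1 (Subtype.ext e)
    simp [h1, h2]

/-- A character of a local subgroup gives one of the normalizer inducing the same block. -/
theorem exists_normalizer_functional (hM : IsPModular p M) (hP : IsPGroup p P) (hPH : P ≤ H)
    (hC : Subgroup.centralizer (P : Set G) ≤ H) (hN : H ≤ Subgroup.normalizer (P : Set G))
    {B : Set (IrrCharacter G)} {c : Set (IrrCharacter H)} (hc : IsInducedBlock M H c B)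
    {η : IrrCharacter H} (hη : η ∈ c) :
    ∃ θ : IrrCharacter (Subgroup.normalizer (P : Set G)),
      (∀ z : ZK M (Subgroup.normalizer (P : Set G)), omegaBar M θ z = omG M η
        (emb (z : MonoidAlgebra (ResField M) (Subgroup.normalizer (P : Set G))) :
          MonoidAlgebra (ResField M) G)) ∧
      IsInducedBlock M (Subgroup.normalizer (P : Set G))
        (blockOf M (θ : Subgroup.normalizer (P : Set G) → ℂ)) B := by
  classical
  let F : MonoidAlgebra (ResField M) (Subgroup.normalizer (P : Set G)) → ResField M := fun z =>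
    omG M η (emb z : MonoidAlgebra (ResField M) G)
  have hcl : ∀ z : ZK M (Subgroup.normalizer (P : Set G)), CInv (Subgroup.normalizer (P : Set G))
      (emb (z : MonoidAlgebra (ResField M) (Subgroup.normalizer (P : Set G))) :
        MonoidAlgebra (ResField M) G) :=
    fun z => cinv_of_commute fun s hs =>
      commute_single_emb (mem_center_iff_isClassElt.mp z.2) ⟨s, hs⟩
  have hmul : ∀ y y' : ZK M (Subgroup.normalizer (P : Set G)),
      F ((y * y' : ZK M (Subgroup.normalizer (P : Set G))) : _) = F (y : _) * F (y' : _) := by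
    intro y y'
    simp only [F]
    rw [MulMemClass.coe_mul, emb_mul, omG_eq_omG_trC hM hP hPH hN,
      trC_mul hM hP ((hcl y).mono Subgroup.le_normalizer) ((hcl y').mono Subgroup.le_normalizer),
      omG_mul η (fun g hg => suppIn_trC _ g fun h => hg (hC h))
        (fun g hg => suppIn_trC _ g fun h => hg (hC h))
        (((hcl y).mono hN).trC hN) (((hcl y').mono hN).trC hN),
      ← omG_eq_omG_trC hM hP hPH hN, ← omG_eq_omG_trC hM hP hPH hN]
  let φ : ZK M (Subgroup.normalizer (P : Set G)) →+* ResField M :=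
    { toFun := fun z => F (z : _)
      map_one' := by
        simp only [F, OneMemClass.coe_one]
        rw [omG_congr η fun g hg => emb_one_apply (hN hg), omG_one]
      map_mul' := hmul
      map_zero' := by
        simp only [F, ZeroMemClass.coe_zero]
        rw [omG_congr η (y' := 0) fun g hg => ?_, omG_zero]
        simp [emb]
      map_add' := fun y y' => by
        simp only [F, ← omG_add]
        refine omG_congr η fun g hg => ?_
        rw [show g = ((⟨g, hN hg⟩ : Subgroup.normalizer (P : Set G)) : G) from rfl,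
          MonoidAlgebra.coeff_add, Finsupp.add_apply, coeff_emb_coe, coeff_emb_coe, coeff_emb_coe]
        simp }
  obtain ⟨θ, hθ⟩ := exists_omegaBar_eq hM φ fun a => by
    show F _ = a
    simp only [F, Algebra.algebraMap_eq_smul_one, SetLike.val_smul, OneMemClass.coe_one]
    rw [omG_congr η (y' := a • 1) fun g hg => ?_, omG_smul, omG_one, mul_one]
    rw [MonoidAlgebra.coeff_smul, Finsupp.smul_apply, ← emb_one_apply (hN hg),
      show g = ((⟨g, hN hg⟩ : Subgroup.normalizer (P : Set G)) : G) from rfl, coeff_emb_coe,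
      coeff_emb_coe, MonoidAlgebra.coeff_smul, Finsupp.smul_apply]
  refine ⟨θ, fun z => (RingHom.congr_fun hθ z).symm, ?_⟩
  obtain ⟨-, hB, hω⟩ := isInducedBlock_iff.mp hc
  obtain ⟨χ, hχ⟩ := isPBlock_nonempty hB
  rw [isPBlock_eq_blockOf hB hχ]
  refine isInducedBlock_blockOf fun z => ?_
  rw [← hθ, ← hω η hη χ hχ z]
  show F _ = _
  refine omG_eq η _ _ fun k => ?_
  rw [coeff_resHK, show (k : G) = ((⟨(k : G), hN k.2⟩ : Subgroup.normalizer (P : Set G)) : G) from rfl,
    coeff_emb_coe, coeff_resHK]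

/-- Extended first main theorem, uniqueness up to conjugation under the normalizer. -/
theorem exists_conj_of_induced_defect (hM : IsPModular p M) (hPH : P ≤ H)
    (hC : Subgroup.centralizer (P : Set G) ≤ H) (hN : H ≤ Subgroup.normalizer (P : Set G))
    (hHn : ∀ n ∈ Subgroup.normalizer (P : Set G), ∀ g, g ∈ H ↔ n * g * n⁻¹ ∈ H)
    {B : Set (IrrCharacter G)} (hD : IsDefectGroup p M B P) {b b' : Set (IrrCharacter H)}
    (hb : IsInducedBlock M H b B) (hb' : IsInducedBlock M H b' B) :
    ∃ n ∈ Subgroup.normalizer (P : Set G), conjSet n H H b = b' := by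
  classical
  have hP := isPGroup_defectGroup hM hb.2.1 hD
  obtain ⟨ξ, hξ⟩ := isPBlock_nonempty hb.1
  obtain ⟨ξ', hξ'⟩ := isPBlock_nonempty hb'.1
  obtain ⟨θ, hθ, hθB⟩ := exists_normalizer_functional hM hP hPH hC hN hb hξ
  obtain ⟨θ', hθ', hθ'B⟩ := exists_normalizer_functional hM hP hPH hC hN hb' hξ'
  have heq : omegaBar M θ = omegaBar M θ' := omegaBar_eq_of_sameBlock (by
    have := (existsUnique_normalizer_block hM hb.2.1 hD).unique
      ⟨hθB.1, isDefectGroup_of_induces hM Subgroup.le_normalizer le_rfl hθB hD, hθB⟩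
      ⟨hθ'B.1, isDefectGroup_of_induces hM Subgroup.le_normalizer le_rfl hθ'B hD, hθ'B⟩
    exact (this ▸ self_mem_blockOf θ' :
      θ' ∈ blockOf M (θ : Subgroup.normalizer (P : Set G) → ℂ)))
  let Orb : Finset (Set (IrrCharacter H)) :=
    (Finset.univ : Finset (Subgroup.normalizer (P : Set G))).image
      fun n : Subgroup.normalizer (P : Set G) => conjSet (n : G) H H b
  have hblk : ∀ c ∈ Orb, IsPBlock M c := by
    intro c hc
    obtain ⟨n, -, rfl⟩ := Finset.mem_image.mp hc
    exact isPBlock_conjSet (hHn n n.2) hb.1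
  have hstab : ∀ n ∈ Subgroup.normalizer (P : Set G), ∀ c ∈ Orb, conjSet n H H c ∈ Orb := by
    intro n hn c hc
    obtain ⟨m, -, rfl⟩ := Finset.mem_image.mp hc
    refine Finset.mem_image.mpr ⟨⟨n * m, mul_mem hn m.2⟩, Finset.mem_univ _, ?_⟩
    refine eG_inj hM (isPBlock_conjSet (hHn _ (mul_mem hn m.2)) hb.1)
      (isPBlock_conjSet (hHn n hn) (isPBlock_conjSet (hHn m m.2) hb.1)) ?_
    rw [eG_conjSet (hHn _ (mul_mem hn m.2)), eG_conjSet (hHn n hn), eG_conjSet (hHn m m.2), cj_cj]
  set y : MonoidAlgebra (ResField M) G := ∑ c ∈ Orb, eG M c with hy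
  have hyN : CInv (Subgroup.normalizer (P : Set G)) y := by
    refine cinv_iff_cj.mpr fun n hn => ga_ext fun g => ?_
    simp only [coeff_cj, hy, coeff_sum_apply]
    refine Finset.sum_bij' (fun c _ => conjSet n H H c) (fun c _ => conjSet n⁻¹ H H c)
      (fun c hc => hstab n hn c hc) (fun c hc => hstab _ (inv_mem hn) c hc) (fun c hc => ?_)
      (fun c hc => ?_) (fun c hc => ?_)
    · refine eG_inj hM (isPBlock_conjSet (hHn _ (inv_mem hn)) (isPBlock_conjSet (hHn n hn) (hblk c hc)))
        (hblk c hc) ?_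
      rw [eG_conjSet (hHn _ (inv_mem hn)), eG_conjSet (hHn n hn), cj_cj, inv_mul_cancel, cj_one]
    · refine eG_inj hM (isPBlock_conjSet (hHn n hn) (isPBlock_conjSet (hHn _ (inv_mem hn)) (hblk c hc)))
        (hblk c hc) ?_
      rw [eG_conjSet (hHn n hn), eG_conjSet (hHn _ (inv_mem hn)), cj_cj, mul_inv_cancel, cj_one]
    · rw [eG_conjSet (hHn n hn), coeff_cj]
  have hval : ∀ {c : Set (IrrCharacter H)} {η : IrrCharacter H}, IsPBlock M c → η ∈ c →
      omG M η y = if c ∈ Orb then 1 else 0 := by
    intro c η hc hη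
    rw [hy, omG_sum, ← Finset.sum_ite_eq (s := Orb) c fun _ => (1 : ResField M)]
    refine Finset.sum_congr rfl fun d hd => ?_
    rw [omG_eG hM (hblk d hd)]
    by_cases hcd : c = d
    · subst hcd; rw [if_pos hη, if_pos rfl]
    · rw [if_neg fun h => hcd (isPBlock_eq_of_mem hc (hblk d hd) hη h), if_neg hcd]
  have hy' : ∀ η : IrrCharacter H, omG M η y = omG M η
      (emb ((cenOf M y hyN : ZK M (Subgroup.normalizer (P : Set G))) :
        MonoidAlgebra (ResField M) (Subgroup.normalizer (P : Set G))) : MonoidAlgebra (ResField M) G) :=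
    fun η => omG_congr η fun g hg => by
      rw [show g = ((⟨g, hN hg⟩ : Subgroup.normalizer (P : Set G)) : G) from rfl, coeff_emb_coe,
        coeff_cenOf]
  have h1 : omG M ξ' y = omG M ξ y := by rw [hy' ξ', hy' ξ, ← hθ', ← hθ, heq]
  have hbO : b ∈ Orb := by
    refine Finset.mem_image.mpr ⟨⟨1, one_mem _⟩, Finset.mem_univ _, ?_⟩
    have e : eG M (conjSet (1 : G) H H b) = eG M b :=
      (eG_conjSet (hHn 1 (one_mem _)) b).trans (cj_one _)
    exact eG_inj hM (isPBlock_conjSet (hHn 1 (one_mem _)) hb.1) hb.1 e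
  rw [hval hb'.1 hξ', hval hb.1 hξ, if_pos hbO] at h1
  split_ifs at h1 with hmem
  · obtain ⟨n, -, hn⟩ := Finset.mem_image.mp hmem
    exact ⟨n, n.2, hn⟩
  · exact absurd h1 zero_ne_one

/-- The principal block has full defect. -/
theorem isDefectGroup_principal_iff (hM : IsPModular p M) (D : Subgroup G) :
    IsDefectGroup p M (principalBlock M G) D ↔ ∃ S : Sylow p G, (S : Subgroup G) = D := by
  have hpf : Fact p.Prime := ⟨hM.1⟩
  have hd : blockDefect p (principalBlock M G) = (Nat.card G).factorization p := by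
    rw [blockDefect, show sInf ((fun χ : IrrCharacter G =>
      (charDegree (χ : G → ℂ)).factorization p) '' principalBlock M G) = 0 from ?_, Nat.sub_zero]
    refine Nat.le_zero.mp (Nat.sInf_le ⟨oneChar G, one_mem_principalBlock, ?_⟩)
    simp [oneChar, charDegree]
  constructor
  · intro h
    refine ⟨Sylow.ofCard D ?_, Sylow.coe_ofCard _ _⟩
    rw [defectGroup_card hM isPBlock_principalBlock h, hd]
  · rintro ⟨S, rfl⟩
    obtain ⟨D₀, hD₀⟩ := exists_defectGroup hM (isPBlock_principalBlock (M := M) (G := G))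
    have hc : Nat.card D₀ = p ^ (Nat.card G).factorization p := by
      rw [defectGroup_card hM isPBlock_principalBlock hD₀, hd]
    obtain ⟨g, hg⟩ := MulAction.exists_smul_eq G (Sylow.ofCard D₀ hc) S
    have := isDefectGroup_conj hM isPBlock_principalBlock hD₀ g
    rwa [← hg, Sylow.coe_subgroup_smul, Sylow.coe_ofCard]

end CfsgLib.Block
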