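import Cfsg.Agent.Lib.Block.LocalDefect
import Cfsg.Agent.Lib.Block.FirstMain

/-!
# The Brauer correspondence over subgroups containing the normalizer
-/

open Finset MonoidAlgebra

set_option linter.unusedSectionVars false

namespace CfsgLib.Block

open Cfsg

universe u

open scoped Pair

variable {p : ℕ} {M : Ideal AlgInt} [M.IsMaximal] {G : Type u} [Group G] [Fintype G] [DecidableEq G]
  {P H K : Subgroup G}

/-- An idempotent of the centre of a subgroup, inside the group algebra, has a character with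
value one. -/
theorem exists_omG_eq_one (hM : IsPModular p M) {y : MonoidAlgebra (ResField M) G}
    (hys : SuppIn K y) (hyc : CInv K y) (hyy : y * y = y) {g : G} (hg : y.coeff g ≠ 0) :
    ∃ θ : IrrCharacter K, omG M θ y = 1 := by
  classical
  have hgK : g ∈ K := by
    by_contra h
    exact hg (hys g h)
  by_contra hall
  push Not at hall
  have h01 : ∀ θ : IrrCharacter K, omG M θ y = 0 := fun θ => by
    have h := omG_mul θ hys hys hyc hyc
    rw [hyy] at h
    rcases eq_or_ne (omG M θ y) 0 with h0 | h0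
    · exact h0
    · exact absurd (mul_right_cancel₀ h0 (h.symm.trans (one_mul _).symm)) (hall θ)
  obtain ⟨N, hN⟩ := isNilpotent_of_omegaBar hM (z := cenOf M y hyc) fun θ => by
    rw [omG_cenOf, h01]
  have hye : y = emb (cenOf M y hyc : MonoidAlgebra (ResField M) K) :=
    (eq_emb_of_suppIn hys).trans (congrArg emb (ga_ext fun k => rfl))
  have hid : IsIdempotentElem (cenOf M y hyc) := Subtype.ext (ga_ext fun k => by
    rw [MulMemClass.coe_mul, ← coeff_emb_coe (H := K) (R := ResField M), emb_mul, ← hye, hyy]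
    rfl)
  have h0 : cenOf M y hyc = 0 := by rw [← hid.pow_succ_eq N, pow_succ, hN, zero_mul]
  have := coeff_cenOf y hyc ⟨g, hgK⟩
  rw [h0] at this
  exact hg (by simpa using this.symm)

/-- An idempotent of the centre of a subgroup is the one of a block when its character values
are. -/
theorem eq_eG_of_omG (hM : IsPModular p M) {b : Set (IrrCharacter K)} (hb : IsPBlock M b)
    {y : MonoidAlgebra (ResField M) G} (hys : SuppIn K y) (hyc : CInv K y) (hyy : y * y = y)
    (h : ∀ θ : IrrCharacter K, omG M θ y = omG M θ (eG M b)) : y = eG M b := by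
  have hye : y = emb (cenOf M y hyc : MonoidAlgebra (ResField M) K) :=
    (eq_emb_of_suppIn hys).trans (congrArg emb (ga_ext fun k => rfl))
  have hid : cenOf M y hyc * cenOf M y hyc = cenOf M y hyc := Subtype.ext (ga_ext fun k => by
    rw [MulMemClass.coe_mul, ← coeff_emb_coe (H := K) (R := ResField M), emb_mul, ← hye, hyy]
    rfl)
  have heq : cenOf M y hyc = blockBar M b :=
    eq_of_omegaBar_eq_of_idem hM hid (blockBar_mul_self hM (.of_isPBlock hb)) fun θ => by
      rw [omG_cenOf, h, eG, omG_emb]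
  conv_lhs => rw [hye, heq]
  rfl

local notation "NP" => Subgroup.normalizer (P : Set G)

theorem omG_zk (θ : IrrCharacter K) (w : ZK M G) :
    omG M θ (w : MonoidAlgebra (ResField M) G) = omegaBar M θ (resHK M K w) :=
  omG_eq θ _ _ fun k => coeff_resHK w k

theorem exists_functional (hM : IsPModular p M) (hP : IsPGroup p P) (hNH : NP ≤ H)
    (θ : IrrCharacter NP) :
    ∃ η : IrrCharacter H, ∀ w : ZK M H,
      omegaBar M η w = omG M θ (emb (w : MonoidAlgebra (ResField M) H) : MonoidAlgebra (ResField M) G) := by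
  classical
  let F : MonoidAlgebra (ResField M) H → ResField M := fun z =>
    omG M θ (emb z : MonoidAlgebra (ResField M) G)
  have hcl : ∀ z : ZK M H, CInv H (emb (z : MonoidAlgebra (ResField M) H) : MonoidAlgebra (ResField M) G) :=
    fun z => cinv_of_commute fun s hs =>
      commute_single_emb (mem_center_iff_isClassElt.mp z.2) ⟨s, hs⟩
  have hCN : Subgroup.centralizer (P : Set G) ≤ NP := centralizer_le_normalizer' P
  let φ : ZK M H →+* ResField M :=
    { toFun := fun z => F (z : _)
      map_one' := by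
        simp only [F, OneMemClass.coe_one]
        rw [omG_congr θ fun g hg => emb_one_apply (hNH hg), omG_one]
      map_mul' := fun y y' => by
        simp only [F]
        rw [MulMemClass.coe_mul, emb_mul, omG_eq_omG_trC hM hP Subgroup.le_normalizer le_rfl,
          trC_mul hM hP ((hcl y).mono (Subgroup.le_normalizer.trans hNH))
            ((hcl y').mono (Subgroup.le_normalizer.trans hNH)),
          omG_mul θ (fun g hg => suppIn_trC _ g fun h => hg (hCN h))
            (fun g hg => suppIn_trC _ g fun h => hg (hCN h))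
            (((hcl y).mono hNH).trC le_rfl) (((hcl y').mono hNH).trC le_rfl),
          ← omG_eq_omG_trC hM hP Subgroup.le_normalizer le_rfl,
          ← omG_eq_omG_trC hM hP Subgroup.le_normalizer le_rfl]
      map_zero' := by
        simp only [F, ZeroMemClass.coe_zero]
        rw [omG_congr θ (y' := 0) fun g hg => ?_, omG_zero]
        simp [emb]
      map_add' := fun y y' => by
        simp only [F, ← omG_add]
        refine omG_congr θ fun g hg => ?_
        rw [show g = ((⟨g, hNH hg⟩ : H) : G) from rfl,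
          MonoidAlgebra.coeff_add, Finsupp.add_apply, coeff_emb_coe, coeff_emb_coe, coeff_emb_coe]
        simp }
  obtain ⟨η, hη⟩ := exists_omegaBar_eq hM φ fun a => by
    show F _ = a
    simp only [F, Algebra.algebraMap_eq_smul_one, SetLike.val_smul, OneMemClass.coe_one]
    rw [omG_congr θ (y' := a • 1) fun g hg => ?_, omG_smul, omG_one, mul_one]
    rw [MonoidAlgebra.coeff_smul, Finsupp.smul_apply, ← emb_one_apply (hNH hg),
      show g = ((⟨g, hNH hg⟩ : H) : G) from rfl, coeff_emb_coe,
      coeff_emb_coe, MonoidAlgebra.coeff_smul, Finsupp.smul_apply]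
  exact ⟨η, fun w => (RingHom.congr_fun hη w).symm⟩

/-- The intermediate block induces the same block. -/
theorem induces_of_functional (hNH : NP ≤ H) {θ : IrrCharacter NP}
    {b : Set (IrrCharacter NP)} (hθ : θ ∈ b) {η : IrrCharacter H}
    (hη : ∀ w : ZK M H, omegaBar M η w =
      omG M θ (emb (w : MonoidAlgebra (ResField M) H) : MonoidAlgebra (ResField M) G))
    {B : Set (IrrCharacter G)} (hB : IsInducedBlock M NP b B) :
    IsInducedBlock M H (blockOf M (η : H → ℂ)) B := by
  obtain ⟨-, hB', hω⟩ := isInducedBlock_iff.mp hB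
  refine isInducedBlock_iff.mpr ⟨isPBlock_blockOf η, hB', fun η' hη' χ hχ z => ?_⟩
  rw [← omegaBar_eq_of_sameBlock (hη' : SameBlock M (η : H → ℂ) (η' : H → ℂ)), hη,
    omG_congr θ (y' := (z : MonoidAlgebra (ResField M) G)) fun g hg => ?_, omG_zk, hω θ hθ χ hχ]
  rw [show g = ((⟨g, hNH hg⟩ : H) : G) from rfl, coeff_emb_coe, coeff_resHK]

theorem trC_eG_idem (hM : IsPModular p M) (hP : IsPGroup p P) (hNH : NP ≤ H)
    {c : Set (IrrCharacter H)} (hc : IsPBlock M c) :
    SuppIn NP (trC P (eG M c)) ∧ CInv NP (trC P (eG M c)) ∧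
      trC P (eG M c) * trC P (eG M c) = trC P (eG M c) := by
  refine ⟨fun g hg => suppIn_trC _ g fun h => hg (centralizer_le_normalizer' P h),
    ((cinv_eG c).mono hNH).trC le_rfl, ?_⟩
  rw [← trC_mul hM hP ((cinv_eG c).mono (Subgroup.le_normalizer.trans hNH))
    ((cinv_eG c).mono (Subgroup.le_normalizer.trans hNH)), eG_mul_self hM hc]

/-- The Brauer image of a block with defect group `P` is the block of the normalizer. -/
theorem trC_blockBar_eq_eG (hM : IsPModular p M) {B : Set (IrrCharacter G)}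
    (hD : IsDefectGroup p M B P) {b : Set (IrrCharacter NP)} (hb : IsInducedBlock M NP b B) :
    trC P (blockBar M B : MonoidAlgebra (ResField M) G) = eG M b := by
  classical
  have hB := hb.2.1
  have hP := isPGroup_defectGroup hM hB hD
  refine eq_eG_of_omG hM hb.1 (fun g hg => suppIn_trC _ g fun h => hg (centralizer_le_normalizer' P h))
    ((cinv_of_central _ _).trC le_rfl)
    (by rw [← trC_mul hM hP (cinv_of_central _ _) (cinv_of_central _ _), ← MulMemClass.coe_mul,
      blockBar_mul_self hM (.of_isPBlock hB)]) fun θ => ?_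
  obtain ⟨B', hB'⟩ := exists_inducedBlock hP (centralizer_le_normalizer' P) le_rfl hM
    Subgroup.le_normalizer (isPBlock_blockOf (M := M) θ)
  obtain ⟨χ, hχ⟩ := isPBlock_nonempty hB'.2.1
  rw [← omG_eq_omG_trC hM hP Subgroup.le_normalizer le_rfl, omG_zk,
    (isInducedBlock_iff.mp hB').2.2 θ (self_mem_blockOf θ) χ hχ,
    omegaBar_blockBar hM (.of_isPBlock hB), omG_eG hM hb.1]
  by_cases hθ : θ ∈ b
  · rw [if_pos hθ]
    rw [← isPBlock_eq_blockOf hb.1 hθ] at hB'
    rw [if_pos (inducedBlock_unique hb hB' ▸ hχ)]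
  · rw [if_neg hθ, if_neg]
    intro hχB
    rw [isPBlock_eq_of_mem hB'.2.1 hB hχ hχB] at hB'
    apply hθ
    rw [(existsUnique_normalizer_block hM hB hD).unique
      ⟨hb.1, isDefectGroup_of_induces hM Subgroup.le_normalizer le_rfl hb hD, hb⟩
      ⟨hB'.1, isDefectGroup_of_induces hM Subgroup.le_normalizer le_rfl hB' hD, hB'⟩]
    exact self_mem_blockOf θ

theorem exists_correspondent (hM : IsPModular p M) (hP : IsPGroup p P) (hNH : NP ≤ H)
    {c : Set (IrrCharacter H)} (hc : IsPBlock M c)
    (hD : IsDefectGroup p M c (P.subgroupOf H)) :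
    ∃ B b, IsDefectGroup p M B P ∧ IsInducedBlock M NP b B ∧ trC P (eG M c) = eG M b := by
  classical
  have hpf : Fact p.Prime := ⟨hM.1⟩
  have hPH : P ≤ H := Subgroup.le_normalizer.trans hNH
  obtain ⟨hys, hyc, hyy⟩ := trC_eG_idem hM hP hNH hc
  have hp' : IsPGroup p (P.subgroupOf H) := hP.of_equiv (Subgroup.subgroupOfEquivOfLe hPH).symm
  obtain ⟨x, hx, hxc⟩ := (brauer_blockIdem_ne_zero_iff hM hc hD hp').mpr (conjLE_of_le le_rfl)
  have hxP : (x : G) ∈ CQ P := Subgroup.mem_centralizer_iff.mpr fun u hu =>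
    congrArg Subtype.val (Subgroup.mem_centralizer_iff.mp hx ⟨u, hPH hu⟩ hu)
  have hne : (trC P (eG M c)).coeff (x : G) ≠ 0 := by rw [coeff_trC _ hxP, coeff_eG]; exact hxc
  have key : ∀ θ : IrrCharacter NP, omG M θ (trC P (eG M c)) ≠ 0 →
      ∃ B, IsDefectGroup p M B P ∧ IsInducedBlock M NP (blockOf M (θ : NP → ℂ)) B ∧
        IsInducedBlock M H c B := by
    intro θ hθ
    have h1 : omG M θ (eG M c) = 1 := by
      have h := omG_mul θ hys hys hyc hyc
      rw [hyy] at h
      rw [omG_eq_omG_trC hM hP Subgroup.le_normalizer le_rfl]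
      exact mul_right_cancel₀ hθ (h.symm.trans (one_mul _).symm)
    have hbD : IsDefectGroup p M (blockOf M (θ : NP → ℂ)) (P.subgroupOf NP) := by
      have hb := isPBlock_blockOf (M := M) θ
      obtain ⟨C, -, hC⟩ := Finset.exists_ne_zero_of_sum_ne_zero hθ
      set g : NP := rep C with hg
      have hgP : (g : G) ∈ CQ P := by
        by_contra h
        exact left_ne_zero_of_mul hC (suppIn_trC _ _ h)
      have hgc : coeffRes M c ⟨(g : G), hNH g.2⟩ ≠ 0 := by
        rw [← coeff_eG]
        exact fun h => left_ne_zero_of_mul hC ((coeff_trC _ hgP).trans h)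
      have hS : IsSylowCent p (g : G) P := by
        refine isSylowCent_of_normalizer hP
          (fun u hu => Subgroup.mem_centralizer_iff.mp hgP u hu) fun S hS hPS hSN hSg => ?_
        have hSH : S ≤ H := hSN.trans hNH
        have h2 := (coeff_ne_zero_le_defect hM hc hD
          (hS.of_equiv (Subgroup.subgroupOfEquivOfLe hSH).symm) hgc
          fun u hu => Subtype.ext (hSg u (Subgroup.mem_subgroupOf.mp hu)).eq).card_le
        rw [Nat.card_congr (Subgroup.subgroupOfEquivOfLe hSH).toEquiv,
          Nat.card_congr (Subgroup.subgroupOfEquivOfLe hPH).toEquiv] at h2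
        exact (Subgroup.eq_of_le_of_card_ge hPS h2).symm
      obtain ⟨D, hDb⟩ := exists_defectGroup hM hb
      obtain ⟨g', hg', hg'c, -⟩ := exists_isSylowCent_of_isDefectGroup hM hb hDb
      obtain ⟨E, hE⟩ := exists_isSylowCent p g
      have hDE := (sylowCent_conjLE hM hb hg'c (self_mem_blockOf θ) (right_ne_zero_of_mul hC) hg' hE).card_le
      have hEP := (hS.conjLE (hE.isPGroup.map (Subgroup.subtype NP)) (by
        rintro _ ⟨u, hu, rfl⟩
        exact (hE.commute u hu).map (Subgroup.subtype NP))).card_le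
      rw [Subgroup.card_map_of_injective Subtype.val_injective] at hEP
      have hn : (P.subgroupOf NP).Normal :=
        Subgroup.normal_subgroupOf_iff_le_normalizer Subgroup.le_normalizer |>.mpr le_rfl
      have hPD := normal_le_defectGroup hM hb hDb (Q := P.subgroupOf NP)
        (hP.of_equiv (Subgroup.subgroupOfEquivOfLe Subgroup.le_normalizer).symm)
      rwa [Subgroup.eq_of_le_of_card_ge hPD]
      rw [Nat.card_congr (Subgroup.subgroupOfEquivOfLe Subgroup.le_normalizer).toEquiv]
      exact hDE.trans hEP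
    obtain ⟨B, -, hBP, hB⟩ := exists_induced_normalizer hP hM (isPBlock_blockOf θ) hbD
    obtain ⟨η, hη⟩ := exists_functional hM hP hNH θ
    refine ⟨B, hBP, hB, ?_⟩
    have hηc : η ∈ c := by
      by_contra h
      have h2 := hη (blockBar M c)
      rw [omegaBar_blockBar hM (.of_isPBlock hc), if_neg h, ← eG, h1] at h2
      exact zero_ne_one h2
    rw [isPBlock_eq_blockOf hc hηc]
    exact induces_of_functional hNH (self_mem_blockOf θ) hη hB
  obtain ⟨θ₀, hθ₀⟩ := exists_omG_eq_one hM hys hyc hyy hne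
  obtain ⟨B, hBP, hb, hcB⟩ := key θ₀ (by rw [hθ₀]; exact one_ne_zero)
  refine ⟨B, _, hBP, hb, eq_eG_of_omG hM hb.1 hys hyc hyy fun θ => ?_⟩
  rw [omG_eG hM hb.1]
  by_cases hθ : θ ∈ blockOf M (θ₀ : NP → ℂ)
  · rw [if_pos hθ, omG_congr_block hb.1 hθ (self_mem_blockOf θ₀), hθ₀]
  · rw [if_neg hθ]
    by_contra hne'
    obtain ⟨B', hB'P, hb', hcB'⟩ := key θ hne'
    rw [← inducedBlock_unique hcB hcB'] at hb' hB'P
    apply hθ
    rw [(existsUnique_normalizer_block hM hb.2.1 hBP).unique
      ⟨hb.1, isDefectGroup_of_induces hM Subgroup.le_normalizer le_rfl hb hBP, hb⟩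
      ⟨hb'.1, isDefectGroup_of_induces hM Subgroup.le_normalizer le_rfl hb' hB'P, hb'⟩]
    exact self_mem_blockOf θ

/-- The Brauer correspondence, upwards. -/
theorem existsUnique_correspondent_up (hM : IsPModular p M) (hP : IsPGroup p P) (hNH : NP ≤ H)
    {c : Set (IrrCharacter H)} (hc : IsPBlock M c) (hD : IsDefectGroup p M c (P.subgroupOf H)) :
    ∃! B : Set (IrrCharacter G), IsPBlock M B ∧ IsDefectGroup p M B P ∧
      trC P (blockBar M B : MonoidAlgebra (ResField M) G) = trC P (eG M c) := by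
  obtain ⟨B, b, hBP, hb, hcb⟩ := exists_correspondent hM hP hNH hc hD
  refine ⟨B, ⟨hb.2.1, hBP, (trC_blockBar_eq_eG hM hBP hb).trans hcb.symm⟩, ?_⟩
  rintro B' ⟨hB', hB'P, heq⟩
  obtain ⟨b', -, -, hb'⟩ := (existsUnique_normalizer_block hM hB' hB'P).exists
  rw [trC_blockBar_eq_eG hM hB'P hb', hcb] at heq
  rw [eG_inj hM hb'.1 hb.1 heq] at hb'
  exact inducedBlock_unique hb' hb

/-- The Brauer correspondence, downwards. -/
theorem existsUnique_correspondent_down (hM : IsPModular p M) (hP : IsPGroup p P) (hNH : NP ≤ H)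
    {B : Set (IrrCharacter G)} (hB : IsPBlock M B) (hBP : IsDefectGroup p M B P) :
    ∃! c : Set (IrrCharacter H), IsPBlock M c ∧ IsDefectGroup p M c (P.subgroupOf H) ∧
      trC P (blockBar M B : MonoidAlgebra (ResField M) G) = trC P (eG M c) := by
  classical
  have hpf : Fact p.Prime := ⟨hM.1⟩
  have hPH : P ≤ H := Subgroup.le_normalizer.trans hNH
  obtain ⟨b, -, -, hb⟩ := (existsUnique_normalizer_block hM hB hBP).exists
  obtain ⟨θ, hθ⟩ := isPBlock_nonempty hb.1
  obtain ⟨η, hη⟩ := exists_functional hM hP hNH θ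
  set c := blockOf M (η : H → ℂ) with hcdef
  have hc : IsPBlock M c := isPBlock_blockOf η
  have hcB : IsInducedBlock M H c B := induces_of_functional hNH hθ hη hb
  have h1 : omG M θ (eG M c) = 1 := by
    rw [eG, ← hη, omegaBar_blockBar hM (.of_isPBlock hc), if_pos (self_mem_blockOf η)]
  obtain ⟨D, hD⟩ := exists_defectGroup hM hc
  have hcP : IsDefectGroup p M c (P.subgroupOf H) := by
    have hp' : IsPGroup p (P.subgroupOf H) := hP.of_equiv (Subgroup.subgroupOfEquivOfLe hPH).symm
    have h2 : ConjLE (P.subgroupOf H) D := by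
      refine (brauer_blockIdem_ne_zero_iff hM hc hD hp').mp ?_
      rw [omG_eq_omG_trC hM hP Subgroup.le_normalizer le_rfl] at h1
      obtain ⟨C, -, hC⟩ := Finset.exists_ne_zero_of_sum_ne_zero (h1.trans_ne one_ne_zero)
      have hgP : ((rep C : NP) : G) ∈ CQ P := by
        by_contra h
        exact left_ne_zero_of_mul hC (suppIn_trC _ _ h)
      refine ⟨⟨_, hNH (rep C).2⟩, Subgroup.mem_centralizer_iff.mpr fun u hu => Subtype.ext
        (Subgroup.mem_centralizer_iff.mp hgP _ hu), ?_⟩
      rw [← coeff_eG]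
      exact fun h => left_ne_zero_of_mul hC ((coeff_trC _ hgP).trans h)
    obtain ⟨E, hE, hDE⟩ := exists_defectGroup_ge hM hcB hD
    have h3 := Nat.card_le_card_of_injective _ (Subgroup.inclusion_injective hDE)
    rw [Subgroup.card_map_of_injective Subtype.val_injective, defectGroup_card hM hB hE,
      ← defectGroup_card hM hB hBP,
      ← Nat.card_congr (Subgroup.subgroupOfEquivOfLe hPH).toEquiv] at h3
    obtain ⟨u, hu⟩ := h2.exists_eq h3
    have hback : cjS u⁻¹ D = P.subgroupOf H := by
      rw [← hu]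
      show cjS u⁻¹ (cjS u _) = _
      rw [cjS_cjS, inv_mul_cancel, cjS_one]
    exact hback ▸ isDefectGroup_conj hM hc hD u⁻¹
  obtain ⟨B₁, b₁, -, hb₁, hcb⟩ := exists_correspondent hM hP hNH hc hcP
  have hθb₁ : θ ∈ b₁ := by
    by_contra h
    have h2 := omG_eG hM hb₁.1 θ
    rw [if_neg h, ← hcb, ← omG_eq_omG_trC hM hP Subgroup.le_normalizer le_rfl, h1] at h2
    exact one_ne_zero h2
  rw [isPBlock_eq_of_mem hb₁.1 hb.1 hθb₁ hθ] at hcb
  refine ⟨c, ⟨hc, hcP, (trC_blockBar_eq_eG hM hBP hb).trans hcb.symm⟩, ?_⟩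
  rintro c' ⟨hc', -, heq⟩
  rw [trC_blockBar_eq_eG hM hBP hb] at heq
  have h2 : omG M θ (eG M c') = 1 := by
    rw [omG_eq_omG_trC hM hP Subgroup.le_normalizer le_rfl, ← heq, omG_eG hM hb.1, if_pos hθ]
  rw [eG, ← hη, omegaBar_blockBar hM (.of_isPBlock hc')] at h2
  split_ifs at h2 with hmem
  · exact isPBlock_eq_blockOf hc' hmem
  · exact absurd h2 zero_ne_one

/-- Congruence of coefficients on the centralizer, as an equation of Brauer images. -/
theorem forall_congr_iff_trC_eq (hM : IsPModular p M) {B : Set (IrrCharacter G)}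
    (hB : IsPBlock M B) {c : Set (IrrCharacter H)} (hc : IsPBlock M c) :
    (∀ x ∈ CQ P, MemLocalIdeal M (blockCoeff B x - subgroupBlockCoeff H c x)) ↔
      trC P (blockBar M B : MonoidAlgebra (ResField M) G) = trC P (eG M c) := by
  classical
  have h1 : ∀ x, (eG M c).coeff x = res M ⟨_, subgroupBlockCoeff_mem hM hc x⟩ := by
    intro x
    by_cases hx : x ∈ H
    · refine (coeff_eG c ⟨x, hx⟩).trans (congrArg (res M) (Subtype.ext ?_))
      rw [coe_coeff_blockIdem hM (.of_isPBlock hc)]
      exact (subgroupBlockCoeff_coe c ⟨x, hx⟩).symm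
    · rw [suppIn_eG c x hx]
      symm
      rw [← map_zero (res M)]
      exact congrArg _ (Subtype.ext (subgroupBlockCoeff_of_notMem c hx))
  have h2 : ∀ x, (blockBar M B : MonoidAlgebra (ResField M) G).coeff x =
      res M ⟨_, blockCoeff_mem hM (.of_isPBlock hB) x⟩ := fun x => by
    rw [coeff_blockBar]
    exact congrArg (res M) (Subtype.ext (coe_coeff_blockIdem hM (.of_isPBlock hB) x))
  constructor
  · intro h
    refine ga_ext fun x => ?_
    by_cases hx : x ∈ CQ P
    · rw [coeff_trC _ hx, coeff_trC _ hx, h1, h2]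
      exact (memLocalIdeal_sub_iff _ _).mp (h x hx)
    · rw [suppIn_trC _ x hx, suppIn_trC _ x hx]
  · intro h x hx
    refine (memLocalIdeal_sub_iff ⟨_, blockCoeff_mem hM (.of_isPBlock hB) x⟩
      ⟨_, subgroupBlockCoeff_mem hM hc x⟩).mpr ?_
    rw [← h1, ← h2, ← coeff_trC (R := P) _ hx, h, coeff_trC _ hx]

end CfsgLib.Block
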