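import Cfsg.Agent.Lib.Block.CycloTrace
import Mathlib.RingTheory.Polynomial.Cyclotomic.Eval

/-!
# Totally positive cyclotomic integers of prime power level

A cyclotomic integer of level `p ^ (k + 1)` that is divisible by `p ^ h` in the local ring at a maximal
ideal over `p` is divisible by it among cyclotomic integers; the conjugates of a totally positive one sum
to at least their number.
-/

open Finset
open scoped ComplexConjugate

set_option linter.unusedSectionVars false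

namespace CfsgLib.Block

open Cfsg

variable {p : ℕ} [hp : Fact p.Prime] {k : ℕ}

/-- Cyclotomic integers are rational integers modulo `1 - ζ`. -/
theorem exists_int_add_one_sub_root_mul {z : ℂ} (hz : z ∈ cycInt (p ^ (k + 1))) :
    ∃ a : ℤ, ∃ w ∈ cycInt (p ^ (k + 1)), z = (a : ℂ) + (1 - pRoot p k) * w := by
  induction hz using Subring.closure_induction with
  | mem x hx =>
    obtain ⟨i, -, rfl⟩ := (isPrimitiveRoot_pRoot p k).eq_pow_of_pow_eq_one hx
    refine ⟨1, -∑ j ∈ Finset.range i, pRoot p k ^ j, Subring.neg_mem _ (Subring.sum_mem _ fun j _ =>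
      Subring.pow_mem _ (mem_cycInt_of_pow (isPrimitiveRoot_pRoot p k).pow_eq_one) _), ?_⟩
    have h := mul_neg_geom_sum (pRoot p k) i
    rw [Int.cast_one]
    linear_combination h
  | zero => exact ⟨0, 0, Subring.zero_mem _, by simp⟩
  | one => exact ⟨1, 0, Subring.zero_mem _, by simp⟩
  | add x y _ _ hx hy =>
    obtain ⟨a, w, hw, rfl⟩ := hx
    obtain ⟨b, v, hv, rfl⟩ := hy
    exact ⟨a + b, w + v, Subring.add_mem _ hw hv, by push_cast; ring⟩
  | neg x _ hx =>
    obtain ⟨a, w, hw, rfl⟩ := hx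
    exact ⟨-a, -w, Subring.neg_mem _ hw, by push_cast; ring⟩
  | mul x y _ _ hx hy =>
    obtain ⟨a, w, hw, rfl⟩ := hx
    obtain ⟨b, v, hv, rfl⟩ := hy
    refine ⟨a * b, (a : ℂ) * v + (b : ℂ) * w + (1 - pRoot p k) * w * v, ?_, by push_cast; ring⟩
    have h1 : 1 - pRoot p k ∈ cycInt (p ^ (k + 1)) :=
      Subring.sub_mem _ (Subring.one_mem _) (mem_cycInt_of_pow (isPrimitiveRoot_pRoot p k).pow_eq_one)
    exact Subring.add_mem _ (Subring.add_mem _ (Subring.mul_mem _ (intCast_mem _ _) hv)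
      (Subring.mul_mem _ (intCast_mem _ _) hw)) (Subring.mul_mem _ (Subring.mul_mem _ h1 hw) hv)

/-- `p` is a unit times a power of `1 - ζ`. -/
theorem exists_one_sub_root_pow : ∃ u ∈ cycInt (p ^ (k + 1)), ∃ v ∈ cycInt (p ^ (k + 1)),
    u * v = 1 ∧ ∃ e : ℕ, 0 < e ∧ (p : ℂ) = (1 - pRoot p k) ^ e * u := by
  classical
  set n := p ^ (k + 1) with hn
  set ζ := pRoot p k with hζdef
  have hζ := isPrimitiveRoot_pRoot p k
  have hn1 : 1 < n := Nat.one_lt_pow k.succ_ne_zero hp.out.one_lt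
  have hmem : ∀ j : ℕ, ζ ^ j ∈ cycInt n := fun j => Subring.pow_mem _ (mem_cycInt_of_pow hζ.pow_eq_one) _
  have hne : (1 - ζ) ≠ 0 := sub_ne_zero.mpr (hζ.ne_one hn1).symm
  have key : ∀ μ ∈ primitiveRoots n ℂ, ∃ u ∈ cycInt n, ∃ v ∈ cycInt n, u * v = 1 ∧ 1 - μ = (1 - ζ) * u := by
    intro μ hμ
    have hμ' := (mem_primitiveRoots (Nat.zero_lt_of_lt hn1)).mp hμ
    obtain ⟨a, -, rfl⟩ := hζ.eq_pow_of_pow_eq_one hμ'.pow_eq_one
    obtain ⟨j, -, hj⟩ := hμ'.eq_pow_of_pow_eq_one hζ.pow_eq_one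
    set u := ∑ i ∈ Finset.range a, ζ ^ i with hu
    set v := ∑ i ∈ Finset.range j, (ζ ^ a) ^ i with hv
    have e1 : 1 - ζ ^ a = (1 - ζ) * u := (mul_neg_geom_sum ζ a).symm
    have e2 : 1 - ζ = (1 - ζ ^ a) * v := by
      rw [hv, mul_neg_geom_sum, hj]
    refine ⟨u, Subring.sum_mem _ fun i _ => hmem i, v, Subring.sum_mem _ fun i _ => by
      rw [← pow_mul]; exact hmem _, ?_, e1⟩
    apply mul_left_cancel₀ hne
    rw [mul_one, ← mul_assoc, ← e1]
    exact e2.symm
  choose! u hu v hv huv hμu using key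
  refine ⟨∏ μ ∈ primitiveRoots n ℂ, u μ, Subring.prod_mem _ hu, ∏ μ ∈ primitiveRoots n ℂ, v μ,
    Subring.prod_mem _ hv, ?_, (primitiveRoots n ℂ).card, ?_, ?_⟩
  · rw [← Finset.prod_mul_distrib, Finset.prod_eq_one huv]
  · exact Finset.card_pos.mpr ⟨ζ, (mem_primitiveRoots (Nat.zero_lt_of_lt hn1)).mpr hζ⟩
  · rw [← Finset.prod_const, ← Finset.prod_mul_distrib,
      Finset.prod_congr rfl fun μ hμ => (hμu μ hμ).symm]
    have h := Polynomial.eval_one_cyclotomic_prime_pow (R := ℂ) (p := p) k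
    rw [← h, Polynomial.cyclotomic_eq_prod_X_sub_primitiveRoots hζ, Polynomial.eval_prod]
    simp only [Polynomial.eval_sub, Polynomial.eval_X, Polynomial.eval_C]
    rfl

variable {M : Ideal AlgInt} [M.IsMaximal]

/-- A cyclotomic integer divisible by `p ^ h` locally is divisible by it. -/
theorem mem_cycInt_of_pow_mul (hM : IsPModular p M) (h : ℕ) {z : ℂ}
    (hz : z ∈ cycInt (p ^ (k + 1))) (L : locRing M) (hL : z = (p : ℂ) ^ h * (L : ℂ)) :
    (L : ℂ) ∈ cycInt (p ^ (k + 1)) := by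
  classical
  have := charP_resField hM
  induction h generalizing L with
  | zero => rw [pow_zero, one_mul] at hL; exact hL ▸ hz
  | succ h ih =>
    have hy : ((p * L : locRing M) : ℂ) ∈ cycInt (p ^ (k + 1)) := ih (p * L) (by
      rw [hL, Subring.coe_mul, SubringClass.coe_natCast, pow_succ]; ring)
    rw [Subring.coe_mul, SubringClass.coe_natCast] at hy
    obtain ⟨u, hu, v, hv, huv, e, he, hpe⟩ := exists_one_sub_root_pow (p := p) (k := k)
    set π := 1 - pRoot p k with hπ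
    have hroot := (isPrimitiveRoot_pRoot p k).pow_eq_one
    have hn0 : p ^ (k + 1) ≠ 0 := pow_ne_zero _ hp.out.ne_zero
    obtain ⟨R, hR, hR0⟩ : ∃ R : locRing M, (R : ℂ) = π ∧ res M R = 0 := by
      have hmem' : pRoot p k ∈ locRing M := integral_mem M (Char.isIntegral_of_pow_eq_one hn0 hroot)
      have h1 : res M ⟨pRoot p k, hmem'⟩ = 1 := by
        refine sub_eq_zero.mp (eq_zero_of_pow_eq_zero (n := p ^ (k + 1)) ?_)
        rw [sub_pow_char_pow, one_pow, ← map_pow,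
          show (⟨pRoot p k, hmem'⟩ : locRing M) ^ (p ^ (k + 1)) = 1 from Subtype.ext (by simpa using hroot),
          map_one, sub_self]
      exact ⟨1 - ⟨pRoot p k, hmem'⟩, rfl, by rw [map_sub, map_one, h1, sub_self]⟩
    have hπ0 : π ≠ 0 := sub_ne_zero.mpr
      ((isPrimitiveRoot_pRoot p k).ne_one (Nat.one_lt_pow k.succ_ne_zero hp.out.one_lt)).symm
    have hπm : π ∈ cycInt (p ^ (k + 1)) := Subring.sub_mem _ (Subring.one_mem _) (mem_cycInt_of_pow hroot)
    have key : ∀ j ≤ e, ∃ w ∈ cycInt (p ^ (k + 1)), (p : ℂ) * (L : ℂ) = π ^ j * w := by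
      intro j hj
      induction j with
      | zero => exact ⟨_, hy, by rw [pow_zero, one_mul]⟩
      | succ j ihj =>
        obtain ⟨w, hw, hwe⟩ := ihj (by omega)
        obtain ⟨i, hi⟩ : ∃ i, e = j + 1 + i := ⟨e - (j + 1), by omega⟩
        obtain ⟨U, hU⟩ : ∃ U : locRing M, (U : ℂ) = u := ⟨⟨u, integral_mem M (isIntegral_of_mem_cycInt hn0 hu)⟩, rfl⟩
        have hw' : w = ((R * (R ^ i * U * L) : locRing M) : ℂ) := by
          apply mul_left_cancel₀ (pow_ne_zero j hπ0)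
          rw [← hwe, hpe, hi]
          simp only [Subring.coe_mul, Subring.coe_pow, hR, hU]
          ring
        obtain ⟨a, w', hw'm, ha⟩ := exists_int_add_one_sub_root_mul hw
        obtain ⟨W', hW'⟩ : ∃ W' : locRing M, (W' : ℂ) = w' :=
          ⟨⟨w', integral_mem M (isIntegral_of_mem_cycInt hn0 hw'm)⟩, rfl⟩
        have ha' : (a : locRing M) = R * (R ^ i * U * L) - R * W' := Subtype.ext (by
          rw [AddSubgroupClass.coe_sub, ← hw', Subring.coe_mul, hR, hW', SubringClass.coe_intCast, ha]; ring)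
        have ha0 : (a : ResField M) = 0 := by
          rw [← map_intCast (res M) a, ha']
          simp [hR0]
        obtain ⟨t, rfl⟩ := (CharP.intCast_eq_zero_iff (ResField M) p a).mp ha0
        refine ⟨π ^ (e - 1) * u * t + w', Subring.add_mem _ (Subring.mul_mem _ (Subring.mul_mem _
          (Subring.pow_mem _ hπm _) hu) (intCast_mem _ _)) hw'm, ?_⟩
        rw [hwe, ha, show (((p : ℤ) * t : ℤ) : ℂ) = π ^ e * u * t by push_cast; rw [hpe]]
        obtain ⟨e', rfl⟩ : ∃ e', e = e' + 1 := ⟨e - 1, by omega⟩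
        rw [Nat.add_sub_cancel]
        ring
    obtain ⟨w, hw, hwe⟩ := key e le_rfl
    have : (L : ℂ) = v * w := by
      apply mul_left_cancel₀ (Nat.cast_ne_zero.mpr hp.out.ne_zero : (p : ℂ) ≠ 0)
      rw [hwe, hpe]
      linear_combination (-(π ^ e) * w) * huv
    exact this ▸ Subring.mul_mem _ hv hw

/-- An automorphism of level `p ^ (k + 1)` on cyclotomic integers. -/
theorem pAut_mem_cycInt {a : ℕ} (ha : a.Coprime p) {z : ℂ} (hz : z ∈ cycInt (p ^ (k + 1))) :
    pAut p k a z ∈ cycInt (p ^ (k + 1)) := by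
  induction hz using Subring.closure_induction with
  | mem x hx => exact pAut_root ha hx ▸ Subring.pow_mem _ (mem_cycInt_of_pow hx) _
  | zero => exact (map_zero (pAut p k a)).symm ▸ Subring.zero_mem _
  | one => exact (map_one (pAut p k a)).symm ▸ Subring.one_mem _
  | add x y _ _ hx hy => exact (map_add (pAut p k a) x y).symm ▸ Subring.add_mem _ hx hy
  | neg x _ hx => exact (map_neg (pAut p k a) x).symm ▸ Subring.neg_mem _ hx
  | mul x y _ _ hx hy => exact (map_mul (pAut p k a) x y).symm ▸ Subring.mul_mem _ hx hy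

theorem coprime_of_unit (m : (ZMod (p ^ (k + 1)))ˣ) : (m : ZMod (p ^ (k + 1))).val.Coprime p :=
  (ZMod.val_coe_unit_coprime m).coprime_dvd_right (dvd_pow_self p k.succ_ne_zero)

/-- The conjugates of a totally positive cyclotomic integer sum to at least their number. -/
theorem card_le_sum_of_totally_pos {z : ℂ} (hz : z ∈ cycInt (p ^ (k + 1)))
    (r : (ZMod (p ^ (k + 1)))ˣ → ℝ) (hr : ∀ m, 0 < r m)
    (he : ∀ m : (ZMod (p ^ (k + 1)))ˣ, pAut p k (m : ZMod (p ^ (k + 1))).val z = (r m : ℂ)) :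
    (Fintype.card (ZMod (p ^ (k + 1)))ˣ : ℝ) ≤ ∑ m, r m := by
  classical
  have hn0 : p ^ (k + 1) ≠ 0 := pow_ne_zero _ hp.out.ne_zero
  have : NeZero (p ^ (k + 1)) := ⟨hn0⟩
  let y : (ZMod (p ^ (k + 1)))ˣ → cycInt (p ^ (k + 1)) := fun m =>
    ⟨pAut p k (m : ZMod (p ^ (k + 1))).val z, pAut_mem_cycInt (coprime_of_unit m) hz⟩
  set P : ℂ := ∏ m : (ZMod (p ^ (k + 1)))ˣ, (y m : ℂ) with hP
  have hPint : IsIntegral ℤ P := IsIntegral.prod _ fun m _ => isIntegral_of_mem_cycInt hn0 (y m).2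
  have hfix : ∀ ψ : Char.Alg →ₐ[ℚ] ℂ, ψ ⟨P, Char.mem_alg_of_isIntegral hPint⟩ = P := by
    intro ψ
    obtain ⟨m₀, hm₀, hψ⟩ := Char.exists_twist ψ _ hn0
    set u₀ := ZMod.unitOfCoprime m₀ hm₀ with hu₀
    have e : (⟨P, Char.mem_alg_of_isIntegral hPint⟩ : Char.Alg) =
        (⟨((∏ m : (ZMod (p ^ (k + 1)))ˣ, y m : cycInt (p ^ (k + 1))) : ℂ),
          Char.mem_alg_of_isIntegral (isIntegral_of_mem_cycInt hn0 (SetLike.coe_mem _))⟩ : Char.Alg) :=
      Subtype.ext (by simp [hP])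
    rw [e]
    show cycHom hn0 ψ (∏ m : (ZMod (p ^ (k + 1)))ˣ, y m) = P
    rw [map_prod, hP]
    refine Fintype.prod_equiv (Equiv.mulLeft u₀) _ _ fun m => ?_
    let σ : cycInt (p ^ (k + 1)) →+* cycInt (p ^ (k + 1)) := ((pAut p k (m : ZMod (p ^ (k + 1))).val).toRingHom.comp (cycInt (p ^ (k + 1))).subtype).codRestrict
      (cycInt (p ^ (k + 1))) fun x => pAut_mem_cycInt (coprime_of_unit m) x.2
    refine cycInt_hom_ext ((cycHom hn0 ψ).comp σ)
      (((pAut p k ((u₀ * m : (ZMod (p ^ (k + 1)))ˣ) : ZMod (p ^ (k + 1))).val).toRingHom).comp (cycInt (p ^ (k + 1))).subtype)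
      (fun x hx => ?_) ⟨z, hz⟩
    show ψ ⟨pAut p k (m : ZMod (p ^ (k + 1))).val x, _⟩ = pAut p k ((u₀ * m : (ZMod (p ^ (k + 1)))ˣ) : ZMod (p ^ (k + 1))).val x
    have h1 : pAut p k (m : ZMod (p ^ (k + 1))).val x = x ^ (m : ZMod (p ^ (k + 1))).val := pAut_root (coprime_of_unit m) hx
    have h2 : (x ^ (m : ZMod (p ^ (k + 1))).val) ^ (p ^ (k + 1)) = 1 := by rw [← pow_mul, mul_comm, pow_mul, hx, one_pow]
    rw [hψ _ (Subtype.ext (by rw [IntermediateField.coe_pow]; exact (congrArg (· ^ (p ^ (k + 1))) h1).trans h2))]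
    show (pAut p k (m : ZMod (p ^ (k + 1))).val x) ^ m₀ = _
    rw [h1, pAut_root (coprime_of_unit _) hx, ← pow_mul, pow_eq_pow_mod _ hx,
      pow_eq_pow_mod ((u₀ * m : (ZMod (p ^ (k + 1)))ˣ) : ZMod (p ^ (k + 1))).val hx]
    congr 1
    show Nat.ModEq (p ^ (k + 1)) _ _
    rw [← ZMod.natCast_eq_natCast_iff, Nat.cast_mul, ZMod.natCast_zmod_val, ZMod.natCast_zmod_val,
      Units.val_mul, hu₀, ZMod.coe_unitOfCoprime, mul_comm]
  obtain ⟨c, hc⟩ := Char.exists_int_of_fixed hPint hfix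
  have hPr : P = ((∏ m, r m : ℝ) : ℂ) := by
    rw [hP, Complex.ofReal_prod]
    exact Finset.prod_congr rfl fun m _ => he m
  have hpos : 0 < ∏ m, r m := Finset.prod_pos fun m _ => hr m
  have hcr : ∏ m, r m = (c : ℝ) := by rw [hPr] at hc; exact_mod_cast hc
  rw [hcr] at hpos
  have h1 : (1 : ℤ) ≤ c := by exact_mod_cast hpos
  exact Char.card_le_sum_of_one_le_prod Finset.univ r (fun m _ => hr m) (hcr ▸ by exact_mod_cast h1)

end CfsgLib.Block
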