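import Cfsg.Agent.Lib.Block.NilpotentChar
import Cfsg.Agent.Lib.Coprime.FpfAction

/-!
# Pairs below a maximal pair on a cyclic group

Induced blocks of centralizers as pairs, and the stabilizers and local blocks of the pairs below a
maximal pair with cyclic group.
-/

open Finset MonoidAlgebra

set_option linter.unusedSectionVars false

namespace CfsgLib.Block

open Cfsg
open scoped Pair

universe u

variable {p : ℕ} {M : Ideal AlgInt} [M.IsMaximal] {G : Type u} [Group G] [Fintype G] [DecidableEq G]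
  [Fintype (IrrCharacter G)] {P Q R : Subgroup G}

/-- In a cyclic group the subgroups are ordered by the divisibility of their orders. -/
theorem le_of_card_dvd_of_cyclic {A B V : Subgroup G} (hV : IsCyclic V) (hA : A ≤ V) (hB : B ≤ V)
    (h : Nat.card A ∣ Nat.card B) : A ≤ B := by
  classical
  intro a ha
  set S := Finset.univ.filter (fun v : V => v ^ Nat.card B = 1) with hS
  have hsub : Finset.univ.image (fun b : B => (⟨b, hB b.2⟩ : V)) ⊆ S := by
    intro v hv
    obtain ⟨b, -, rfl⟩ := Finset.mem_image.mp hv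
    exact Finset.mem_filter.mpr ⟨Finset.mem_univ _, Subtype.ext
      (congrArg Subtype.val (pow_card_eq_one' (x := b)) : _)⟩
  have hcard : S.card ≤ (Finset.univ.image (fun b : B => (⟨b, hB b.2⟩ : V))).card := by
    rw [Finset.card_image_of_injective (f := fun b : B => (⟨b, hB b.2⟩ : V)) _ (fun b b' hbb => Subtype.ext (congrArg (fun v : V => (v : G)) hbb)),
      Finset.card_univ, ← Nat.card_eq_fintype_card]
    exact IsCyclic.card_pow_eq_one_le Nat.card_pos
  have haS : (⟨a, hA ha⟩ : V) ∈ S := by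
    obtain ⟨k, hk⟩ := h
    refine Finset.mem_filter.mpr ⟨Finset.mem_univ _, Subtype.ext ?_⟩
    rw [SubmonoidClass.coe_pow, hk, pow_mul,
      show a ^ Nat.card A = 1 from congrArg Subtype.val (pow_card_eq_one' (x := (⟨a, ha⟩ : A))),
      one_pow, OneMemClass.coe_one]
  rw [← Finset.eq_of_subset_of_card_le hsub hcard] at haS
  obtain ⟨b, -, hb⟩ := Finset.mem_image.mp haS
  rw [← show (b : G) = a from congrArg Subtype.val hb]
  exact b.2

/-- A regular element centralizing a non-trivial subgroup of a cyclic `p`-group centralizes it. -/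
theorem commute_of_fix_cyclic (hp : p.Prime) {V Q₀ : Subgroup G} (hVp : IsPGroup p V)
    (hV : IsCyclic V) (hQ : Q₀ ≤ V) (hQ1 : Q₀ ≠ ⊥) {y : G}
    (hy : y ∈ Subgroup.normalizer (V : Set G)) (hreg : ¬ p ∣ orderOf y)
    (hfix : ∀ v ∈ Q₀, Commute y v) : ∀ v ∈ V, Commute y v := by
  have : Fact p.Prime := ⟨hp⟩
  have : IsMulCommutative V := ⟨⟨fun a b => (IsCyclic.commGroup (α := V)).mul_comm a b⟩⟩
  obtain ⟨k, hk⟩ := IsPGroup.iff_card.mp hVp
  have hcop : (orderOf y).Coprime (Nat.card V) := by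
    rw [hk]; exact ((hp.coprime_iff_not_dvd.mpr hreg).symm).pow_right _
  refine CfsgLib.Coprime.commute_of_fix_prime_order hy hcop fun v hv hprime => hfix v ?_
  obtain ⟨j, hj⟩ := IsPGroup.iff_card.mp (hVp.to_le hQ)
  have hj0 : j ≠ 0 := fun h => hQ1 (Subgroup.eq_bot_of_card_eq _ (by rw [hj, h, pow_zero]))
  have hov : orderOf v = p := by
    have h1 : orderOf v ∣ p ^ k := hk ▸ Subgroup.orderOf_dvd_natCard V hv
    exact (Nat.prime_dvd_prime_iff_eq hprime hp).mp (hprime.dvd_of_dvd_pow h1)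
  exact le_of_card_dvd_of_cyclic hV (Subgroup.zpowers_le.mpr hv) hQ
    (by rw [Nat.card_zpowers, hov, hj]; exact dvd_pow_self p hj0) (Subgroup.mem_zpowers v)

/-- A block of the centralizer of a `p`-subgroup in its own centralizer gives a pair exactly when
it induces the block. -/
theorem isBrauerPairOf_iff_induced (hM : IsPModular p M) {B : Set (IrrCharacter G)}
    (hB : IsPBlock M B) (hQ : IsPGroup p Q) (hQC : Q ≤ CQ Q) {b : Set (IrrCharacter (CQ Q))} :
    IsBrauerPairOf p M B Q b ↔ IsInducedBlock M (CQ Q) b B := by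
  classical
  constructor
  · intro h
    refine isInducedBlock_iff.mpr ⟨h.1.2, hB, fun ξ hξ χ hχ z => ?_⟩
    rw [omegaBar_resHK_eq_brMap hQ le_rfl (centralizer_le_normalizer' _) hM hQC ξ z]
    exact (CfsgLib.Block.isBrauerPairOf_iff hM hQ h.1.2 hB).mp h ξ hξ χ hχ z
  · intro h
    obtain ⟨hb, -, hω⟩ := isInducedBlock_iff.mp h
    refine (CfsgLib.Block.isBrauerPairOf_iff hM hQ hb hB).mpr fun ξ hξ χ hχ z => ?_
    rw [← hω ξ hξ χ hχ z,
      omegaBar_resHK_eq_brMap hQ le_rfl (centralizer_le_normalizer' _) hM hQC ξ z]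
    rfl

/-- Induction inside a subgroup, in terms of reduced central characters. -/
theorem memLocalIdeal_inducedIn_iff {H K : Subgroup G} (hKH : K ≤ H) (ξ : IrrCharacter K)
    (χ : IrrCharacter H) (h : H) :
    MemLocalIdeal M (inducedCentralCharIn H K (ξ : K → ℂ) (h : G) - centralChar (χ : H → ℂ) h) ↔
      omG M ξ (emb (classBar M h : MonoidAlgebra (ResField M) H) : MonoidAlgebra (ResField M) G) =
        omegaBar M χ (classBar M h) := by
  classical
  have hT : ∀ x c : K, c * x * c⁻¹ ∈ {k : K | ∃ x : H, (x : G) * (k : G) * (x : G)⁻¹ = (h : G)} ↔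
      x ∈ {k : K | ∃ x : H, (x : G) * (k : G) * (x : G)⁻¹ = (h : G)} := by
    intro x c
    constructor
    · rintro ⟨y, hy⟩
      refine ⟨y * ⟨c, hKH c.2⟩, ?_⟩
      rw [← hy]
      push_cast
      group
    · rintro ⟨y, hy⟩
      refine ⟨y * (⟨c, hKH c.2⟩ : H)⁻¹, ?_⟩
      rw [← hy]
      push_cast
      group
  rw [omG_eq ξ _ (toKC M (setSum M _ hT)) fun k => ?_, omegaBar_classBar]
  · exact memLocalIdeal_finsum_sub (M := M) _ hT ξ ⟨_, centralChar_mem χ h⟩
  · rw [show (k : G) = ((⟨k, hKH k.2⟩ : H) : G) from rfl, coeff_emb_coe]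
    have hiff : (∃ x : H, (x : G) * (k : G) * (x : G)⁻¹ = (h : G)) ↔
        IsConj h (⟨k, hKH k.2⟩ : H) := by
      rw [isConj_comm, isConj_iff]
      exact exists_congr fun x => by rw [Subtype.ext_iff]; push_cast; rfl
    simp only [coe_toKC, coeff_toK, setSum, classBar, classSum, coeff_gaOfFun, Set.mem_setOf_eq,
      hiff]
    split_ifs <;> simp

/-- A normal inclusion of pairs inside the centralizer is a block induction. -/
theorem isInducedBlockIn_of_nSub (hM : IsPModular p M) {f : Set (IrrCharacter (CQ Q))}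
    {e : Set (IrrCharacter (CQ R))} (h : NSub p M Q f R e) (hR : R ≤ CQ Q) :
    IsInducedBlockIn M (CQ Q) (CQ R) e f := by
  classical
  refine ⟨h.pairR.2, h.pairL.2, fun ξ hξ χ hχ t => ?_⟩
  rw [memLocalIdeal_inducedIn_iff (cq_mono h.le)]
  have hc : CInv (CQ Q)
      (emb (classBar M t : MonoidAlgebra (ResField M) (CQ Q)) : MonoidAlgebra (ResField M) G) :=
    cinv_of_commute fun s hs =>
      commute_single_emb (mem_center_iff_isClassElt.mp (classBar M t).2) ⟨s, hs⟩
  rw [h.omG_eq hM hξ hχ (suppIn_emb _) hc (hc.mono hR), omG_emb]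

/-- Induction inside a subgroup determines the block. -/
theorem inducedBlockIn_unique {H K : Subgroup G} (hKH : K ≤ H) {e : Set (IrrCharacter K)}
    {f f' : Set (IrrCharacter H)} (h : IsInducedBlockIn M H K e f)
    (h' : IsInducedBlockIn M H K e f') : f = f' := by
  classical
  obtain ⟨ξ, hξ⟩ := isPBlock_nonempty h.1
  obtain ⟨χ, hχ⟩ := isPBlock_nonempty h.2.1
  obtain ⟨χ', hχ'⟩ := isPBlock_nonempty h'.2.1
  have : SameBlock M (χ : H → ℂ) (χ' : H → ℂ) := sameBlock_iff_omegaBar.mpr (RingHom.ext fun z => by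
    rw [zk_eq_sum z, map_sum, map_sum]
    refine Finset.sum_congr rfl fun C _ => ?_
    rw [omegaBar_smul, omegaBar_smul,
      ← (memLocalIdeal_inducedIn_iff hKH ξ χ _).mp (h.2.2 ξ hξ χ hχ _),
      ← (memLocalIdeal_inducedIn_iff hKH ξ χ' _).mp (h'.2.2 ξ hξ χ' hχ' _)])
  exact isPBlock_eq_of_mem h.2.1 h'.2.1 ((isPBlock_sameBlock h.2.1 hχ).mpr this) hχ'

variable {B : Set (IrrCharacter G)} {c : Set (IrrCharacter (CQ P))}
  {f : Set (IrrCharacter (CQ Q))}

/-- A pair of a block on a defect group is maximal. -/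
theorem isMaximal_of_defect (hM : IsPModular p M) (hP : IsDefectGroup p M B P)
    (hc : IsBrauerPairOf p M B P c) : IsMaximalBrauerPair p M B P c := by
  refine ⟨hc, fun R g hg hle => ?_⟩
  obtain ⟨D, d, hd, hRD⟩ := exists_maximal_above hM R g hg
  have h1 := defectGroup_card hM hc.2.1 hP
  have h2 := defectGroup_card hM hc.2.1 (isDefectGroup_of_maximal hM hd)
  exact (Subgroup.eq_of_le_of_card_ge (SubpairLE.le hle)
    (by rw [h1, ← h2]; exact Subgroup.card_le_of_le (SubpairLE.le hRD))).symm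

/-- The block below a maximal pair with abelian group has that group as defect group. -/
theorem isDefectGroup_below_abelian (hM : IsPModular p M) (hmax : IsMaximalBrauerPair p M B P c)
    (hPC : P ≤ CQ Q) (h : NSub p M Q f P c) :
    IsDefectGroup p M f (P.subgroupOf (CQ Q)) := by
  classical
  have he := hmax.1.1
  have hle : SubpairLE p M Q f P c := SubpairLE.step hM h
  have hLC := isLocalBlock_self (M := M) (Q := Q) h.pairL.2
  obtain ⟨D, hD⟩ := exists_defectGroup hM hLC.block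
  have h1 := hLC.inf_conjLE hM h.pairL he hle hD
  rw [inf_eq_left.mpr hPC] at h1
  obtain ⟨x, -, hDx⟩ := hLC.exists_conj_le hM h.pairL hmax hle hD
  refine isDefectGroup_of_conjLE_card hM hLC.block hD h1 ?_
  have h2 := Subgroup.card_le_of_le hDx
  rw [card_cjS, Subgroup.card_map_of_injective Subtype.val_injective] at h2
  rwa [card_subgroupOf_eq hPC]

/-- The block below a maximal pair with cyclic group is nilpotent. -/
theorem isNilpotentBlock_below_cyclic (hM : IsPModular p M)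
    (hmax : IsMaximalBrauerPair p M B P c) (hcyc : IsCyclic P) (hQ1 : Q ≠ ⊥) (hPC : P ≤ CQ Q)
    (h : NSub p M Q f P c) : IsNilpotentBlock p M f := by
  classical
  have hpf : Fact p.Prime := ⟨hM.1⟩
  have := Fintype.ofFinite (IrrCharacter (CQ Q))
  refine ⟨h.pairL.2, fun R g hg x hxN _ hxreg => ?_⟩
  have hdef := isDefectGroup_below_abelian hM hmax hPC h
  obtain ⟨D, d, hd, hRD⟩ := exists_maximal_above hM R g hg
  have hDdef := isDefectGroup_of_maximal hM hd
  obtain ⟨y, hy⟩ := defectGroup_conj hM h.pairL.2 hdef hDdef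
  have hQP : Q ≤ P := h.le
  set Q' : Subgroup (CQ Q) := Q.subgroupOf (CQ Q) with hQ'
  have hQ'c : ∀ v ∈ Q', ∀ t : CQ Q, Commute t v := fun v hv t => Subtype.ext
    (Subgroup.mem_centralizer_iff.mp t.2 _ (Subgroup.mem_subgroupOf.mp hv)).symm
  have hQ'D : Q' ≤ D := by
    rw [← hy]
    intro v hv
    exact ⟨v, hQP (Subgroup.mem_subgroupOf.mp hv), by
      simp [MulAut.conj_apply, (hQ'c v hv y).eq]⟩
  have hDc : IsCyclic D := by
    rw [← hy]
    have : IsCyclic (P.subgroupOf (CQ Q)) :=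
      isCyclic_of_surjective _ (Subgroup.subgroupOfEquivOfLe hPC).symm.surjective
    exact isCyclic_of_surjective _ (MonoidHom.subgroupMap_surjective _ _)
  have hDp : IsPGroup p D := hd.1.1.1
  have hRD' : R ≤ D := SubpairLE.le hRD
  rw [Subgroup.mem_centralizer_iff]
  intro r hr
  obtain ⟨i, hi⟩ := IsPGroup.iff_card.mp (hDp.to_le hRD')
  obtain ⟨j, hj⟩ := IsPGroup.iff_card.mp (hDp.to_le hQ'D)
  obtain hij | hji := le_total i j
  · have hrQ : r ∈ Q' :=
      le_of_card_dvd_of_cyclic hDc hRD' hQ'D (by rw [hi, hj]; exact pow_dvd_pow p hij) hr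
    exact (hQ'c r hrQ x).symm.eq
  · have hQR : Q' ≤ R :=
      le_of_card_dvd_of_cyclic hDc hQ'D hRD' (by rw [hi, hj]; exact pow_dvd_pow p hji)
    have hQ'1 : Q' ≠ ⊥ := fun h0 => hQ1 <| by
      rw [hQ', Subgroup.subgroupOf_eq_bot] at h0
      exact (eq_bot_iff.mpr fun v hv => h0.le_bot ⟨hv, hQP hv |> fun hvP => hPC hvP⟩)
    exact (commute_of_fix_cyclic hM.1 (hDp.to_le hRD')
      (isCyclic_of_injective (Subgroup.inclusion hRD') (Subgroup.inclusion_injective hRD'))
      hQR hQ'1 hxN hxreg (fun v hv => hQ'c v hv x) r hr).symm.eq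

/-- The pair of a stabilized conjugate. -/
theorem stabilizesBlock_of_cjP_eq (hM : IsPModular p M) {n : G} (hf : IsPBlock M f)
    (h : cjP n (⟨Q, f⟩ : BrauerPairIdx G) = ⟨Q, f⟩) :
    n ∈ Subgroup.normalizer (Q : Set G) ∧ StabilizesBlock (CQ Q) f n := by
  classical
  have hn : n ∈ Subgroup.normalizer (Q : Set G) :=
    mem_normalizer_of_cjS_eq (congrArg Sigma.fst h)
  refine ⟨hn, (stabilizesBlock_iff hM hn hf).mpr ?_⟩
  have h1 := congrArg (fun a : BrauerPairIdx G => eG M a.2) h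
  exact (eG_conjBlock n f).symm.trans h1

theorem cjP_eq_of_stabilizes (hM : IsPModular p M) {n : G}
    (hn : n ∈ Subgroup.normalizer (Q : Set G)) (hf : IsPBlock M f)
    (h : StabilizesBlock (CQ Q) f n) : cjP n (⟨Q, f⟩ : BrauerPairIdx G) = ⟨Q, f⟩ :=
  pair_ext hM (isPBlock_conjBlock n hf) hf (cjS_eq_of_mem_normalizer hn)
    ((eG_conjBlock n f).trans ((stabilizesBlock_iff hM hn hf).mp h))

/-- The stabilizer of a pair below a maximal pair with abelian group. -/
theorem stabilizer_below_le (hM : IsPModular p M) (hmax : IsMaximalBrauerPair p M B P c)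
    (hPC : P ≤ CQ Q) (h : NSub p M Q f P c) {T : Subgroup G}
    (hT : ∀ g, g ∈ T ↔ g ∈ Subgroup.normalizer (P : Set G) ∧ StabilizesBlock (CQ P) c g)
    {x : G} (hxN : x ∈ Subgroup.normalizer (Q : Set G)) (hx : StabilizesBlock (CQ Q) f x) :
    x ∈ T ⊔ CQ Q := by
  classical
  have hpf : Fact p.Prime := ⟨hM.1⟩
  have := Fintype.ofFinite (IrrCharacter (CQ Q))
  have hdef := isDefectGroup_below_abelian hM hmax hPC h
  have hf := h.pairL.2
  have hLC := isLocalBlock_self (M := M) (Q := Q) hf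
  have hco : ∀ t : CQ Q, blockCoeff f t = subgroupBlockCoeff (CQ Q) f (t : G) := fun t =>
    (subgroupBlockCoeff_coe f t).symm
  have hconj : ∀ n : G, cjP n (⟨Q, f⟩ : BrauerPairIdx G) = ⟨Q, f⟩ →
      NSub p M Q f (cjS n P) (conjBlock P n c) := by
    intro n hn
    have h1 : NSub p M (cjP n (⟨Q, f⟩ : BrauerPairIdx G)).1 (cjP n (⟨Q, f⟩ : BrauerPairIdx G)).2
        (cjS n P) (conjBlock P n c) := h.conj hM n
    rw [hn] at h1
    exact h1
  have hxe := cjP_eq_of_stabilizes hM hxN hf hx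
  have hx1 := hconj x hxe
  set Pd := cjS x P with hPd
  have hPdC : Pd ≤ CQ Q := fun u hu => by
    rw [Subgroup.mem_centralizer_iff]
    intro v hv
    have h2 := Subgroup.mem_centralizer_iff.mp (hPC (mem_cjS.mp hu)) (x⁻¹ * v * x)
      ((Subgroup.mem_normalizer_iff''.mp hxN v).mp hv)
    calc v * u = x * ((x⁻¹ * v * x) * (x⁻¹ * u * x)) * x⁻¹ := by group
      _ = x * ((x⁻¹ * u * x) * (x⁻¹ * v * x)) * x⁻¹ := by rw [h2]
      _ = u * v := by group
  have hpP := hmax.1.1.1
  have hPdle : ConjLE (Pd.subgroupOf (CQ Q)) (P.subgroupOf (CQ Q)) := by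
    refine (hLC.conjLE_iff hM h.pairL hdef
      ((hpP.map _).of_equiv (Subgroup.subgroupOfEquivOfLe hPdC).symm)).mpr ?_
    rw [Subgroup.map_subgroupOf_eq_of_le hPdC, sup_eq_right.mpr hx1.le]
    exact ⟨_, hx1⟩
  obtain ⟨c0, hc0⟩ := hPdle
  have hback : cjS (c0 : G) Pd = P := by
    refine Subgroup.eq_of_le_of_card_ge ?_ (by rw [card_cjS, hPd, card_cjS])
    rintro _ ⟨u, hu, rfl⟩
    exact hc0 ⟨⟨u, hPdC hu⟩, hu, rfl⟩
  set y := (c0 : G) * x with hy
  have hyP : cjS y P = P := by rw [hy, ← cjS_cjS, ← hPd, hback]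
  have hc0f : cjP (c0 : G) (⟨Q, f⟩ : BrauerPairIdx G) = ⟨Q, f⟩ :=
    cjP_eq_of_stabilizes hM (centralizer_le_normalizer' Q c0.2) hf
      ((stabilizesBlock_iff hM (centralizer_le_normalizer' Q c0.2) hf).mpr
        (cinv_iff_cj.mp (cinv_eG f) _ c0.2))
  have hye : cjP y (⟨Q, f⟩ : BrauerPairIdx G) = ⟨Q, f⟩ := by
    rw [hy, ← cjP_cjP hM _ _ hf, hxe, hc0f]
  have hyN := mem_normalizer_of_cjS_eq hyP
  set c' := conjSet y (CQ P) (CQ P) c with hc'
  have hyc : cjP y (⟨P, c⟩ : BrauerPairIdx G) = ⟨P, c'⟩ := cjP_eq_of_mem hM hyN hmax.1.1.2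
  have hy1 : NSub p M Q f P c' := by
    have h1 : NSub p M Q f (cjP y (⟨P, c⟩ : BrauerPairIdx G)).1
        (cjP y (⟨P, c⟩ : BrauerPairIdx G)).2 := hconj y hye
    rw [hyc] at h1
    exact h1
  obtain ⟨n, hn, hne⟩ := hLC.exists_conj_defect hM hco hPC hdef hy1 h
  have hfix : cjP (n * y) (⟨P, c⟩ : BrauerPairIdx G) = ⟨P, c⟩ := by
    rw [← cjP_cjP hM _ _ hmax.1.1.2, hyc, hne]
  have hmem : n * y ∈ T := (hT _).mpr (stabilizesBlock_of_cjP_eq hM hmax.1.1.2 hfix)
  have hxeq : x = ((c0 : G)⁻¹ * n⁻¹) * (n * y) := by rw [hy]; group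
  rw [hxeq]
  exact mul_mem (mul_mem (inv_mem (le_sup_right (a := T) c0.2)) (inv_mem (le_sup_right (a := T) hn)))
    (le_sup_left (b := CQ Q) hmem)

/-- The stabilizer of a maximal pair with cyclic group lies in those of the pairs below it. -/
theorem le_stabilizer_below (hM : IsPModular p M) (hmax : IsMaximalBrauerPair p M B P c)
    (hcyc : IsCyclic P) (h : NSub p M Q f P c) {g : G}
    (hgN : g ∈ Subgroup.normalizer (P : Set G)) (hg : StabilizesBlock (CQ P) c g) :
    g ∈ Subgroup.normalizer (Q : Set G) ∧ StabilizesBlock (CQ Q) f g := by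
  classical
  have hgP := cjS_eq_of_mem_normalizer hgN
  have hgQP : cjS g Q ≤ P := (cjS_mono h.le).trans hgP.le
  have hgQ : cjS g Q = Q := Subgroup.eq_of_le_of_card_ge
    (le_of_card_dvd_of_cyclic hcyc hgQP h.le (by rw [card_cjS])) (by rw [card_cjS])
  have hN := mem_normalizer_of_cjS_eq hgQ
  refine ⟨hN, stabilizesBlock_of_cjP_eq hM h.pairL.2 |> fun k => (k ?_).2⟩
  have h1 : Below p M P c (cjP g (⟨Q, f⟩ : BrauerPairIdx G)) := by
    have h2 : Relation.ReflTransGen (NormalSubpairRel p M) (cjP g (⟨Q, f⟩ : BrauerPairIdx G))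
        (cjP g (⟨P, c⟩ : BrauerPairIdx G)) := SubpairLE.conj hM g (SubpairLE.step hM h)
    rw [cjP_eq_of_stabilizes hM hgN hmax.1.1.2 hg] at h2
    exact h2
  rw [cjP_eq_of_mem hM hN h.pairL.2] at h1 ⊢
  congr 1
  exact SubpairLE.unique hM hmax.1.1 h1 (SubpairLE.step hM h)

/-- The elements of the stabilizer centralizing a non-trivial subgroup centralize the cyclic
group. -/
theorem inf_centralizer_below (hM : IsPModular p M) (hmax : IsMaximalBrauerPair p M B P c)
    (hcyc : IsCyclic P) (hQP : Q ≤ P) (hQ1 : Q ≠ ⊥) {T : Subgroup G}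
    (hT : ∀ g, g ∈ T ↔ g ∈ Subgroup.normalizer (P : Set G) ∧ StabilizesBlock (CQ P) c g) :
    T ⊓ CQ Q = CQ P := by
  classical
  have hpf : Fact p.Prime := ⟨hM.1⟩
  have he := hmax.1.1
  have hPCP : P ≤ CQ P := fun u hu => Subgroup.mem_centralizer_iff.mpr fun v hv =>
    congrArg Subtype.val ((IsCyclic.commGroup (α := P)).mul_comm ⟨v, hv⟩ ⟨u, hu⟩)
  refine le_antisymm ?_ (le_inf (fun u hu => (hT u).mpr ⟨centralizer_le_normalizer' P hu,
    (stabilizesBlock_iff hM (centralizer_le_normalizer' P hu) he.2).mpr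
      (cinv_iff_cj.mp (cinv_eG c) u hu)⟩) (cq_mono hQP))
  rintro t ⟨htT, htQ⟩
  have hPT : P ≤ T := fun u hu => (hT u).mpr ⟨Subgroup.le_normalizer hu,
    (stabilizesBlock_iff hM (Subgroup.le_normalizer hu) he.2).mpr
      (cinv_iff_cj.mp (cinv_self_eG c) u hu)⟩
  obtain ⟨FT, hL, -⟩ := exists_stabilizerBlock hM he hT
  have hdefT : IsDefectGroup p M FT (P.subgroupOf T) := by
    obtain ⟨D, hD⟩ := exists_defectGroup hM hL.block
    obtain ⟨x, hx, hDx⟩ := hL.exists_conj_le hM he hmax Relation.ReflTransGen.refl hD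
    have h1 := hL.inf_conjLE hM he he Relation.ReflTransGen.refl hD
    rw [inf_eq_left.mpr hPT] at h1
    refine isDefectGroup_of_conjLE_card hM hL.block hD h1 ?_
    have h2 := Subgroup.card_le_of_le hDx
    rw [card_cjS, Subgroup.card_map_of_injective Subtype.val_injective] at h2
    rwa [card_subgroupOf_eq hPT]
  obtain ⟨u', w', huw', -, ⟨a, ha⟩, hw'⟩ :=
    exists_isPPart (p := p) hM.1 (⟨t, htT, htQ⟩ : (T ⊓ CQ Q : Subgroup G))
  set u := (u' : G) with hu
  set w := (w' : G) with hwdef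
  have huw : u * w = t := congrArg Subtype.val huw'
  have hw : ¬ p ∣ orderOf w := by rwa [hwdef, Subgroup.orderOf_coe]
  have hwmem : w ∈ T ⊓ CQ Q := w'.2
  have huP : u ∈ CQ P := by
    have h1 := hL.pElement_le hM he hPT hdefT u'.2.1 (g := u) (by rw [hu, Subgroup.orderOf_coe, ha])
    rwa [sup_eq_right.mpr hPCP] at h1
  have hwP : w ∈ CQ P := Subgroup.mem_centralizer_iff.mpr fun v hv =>
    (commute_of_fix_cyclic hM.1 he.1 hcyc hQP hQ1 ((hT w).mp hwmem.1).1 hw
      (fun q hq => (Subgroup.mem_centralizer_iff.mp hwmem.2 q hq).symm) v hv).symm.eq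
  rw [← huw]
  exact mul_mem huP hwP

/-- The index of a normalized subgroup in its product with a subgroup. -/
theorem relIndex_sup_of_le_normalizer {T C : Subgroup G}
    (h : T ≤ Subgroup.normalizer (C : Set G)) : C.relIndex (T ⊔ C) = (T ⊓ C).relIndex T := by
  have hK : T ⊔ C ≤ Subgroup.normalizer (C : Set G) := sup_le h Subgroup.le_normalizer
  have : (C.subgroupOf (T ⊔ C)).Normal :=
    Subgroup.normal_subgroupOf_of_le_normalizer hK
  have h1 := Subgroup.relIndex_sup_left (H := T.subgroupOf (T ⊔ C)) (K := C.subgroupOf (T ⊔ C))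
  rw [← Subgroup.subgroupOf_sup le_sup_right le_sup_left, Subgroup.relIndex_subgroupOf le_sup_left,
    Subgroup.relIndex_subgroupOf (sup_le le_sup_right le_sup_left), sup_comm C T] at h1
  rw [h1, inf_comm, Subgroup.inf_relIndex_right]

end CfsgLib.Block
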