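import Cfsg.Agent.Lib.Block.SubsectionSum
import Cfsg.Agent.Lib.Block.CyclicPairs
import Cfsg.Agent.Lib.Block.Rank

/-!
# Inner products in a block, along the elements of a defect group

For a maximal pair `(P, e)`: `δ(χ,ψ)` is the sum over `y ∈ P` of the contribution of the subsection at
`y` divided by the number of elements of `P` fused to `y`.
-/

open Finset MonoidAlgebra
open scoped ComplexConjugate

set_option linter.unusedSectionVars false

namespace CfsgLib.Block

open Cfsg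
open scoped Pair

universe u

variable {p : ℕ} {M : Ideal AlgInt} [M.IsMaximal] {G : Type u} [Group G] [Fintype G] [DecidableEq G]
  {P : Subgroup G} {e : Set (IrrCharacter (CQ P))}

/-- The pair below the maximal one on the cyclic group of an element. -/
noncomputable def lowPair (hM : IsPModular p M) (he : IsBrauerPair p M P e) (y : P) : BrauerPairIdx G :=
  ⟨Subgroup.zpowers (y : G), (exists_subpairLE hM he _ (Subgroup.zpowers_le.mpr y.2)).choose⟩

theorem lowPair_fst (hM : IsPModular p M) (he : IsBrauerPair p M P e) (y : P) :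
    (lowPair hM he y).1 = Subgroup.zpowers (y : G) := rfl

theorem lowPair_below (hM : IsPModular p M) (he : IsBrauerPair p M P e) (y : P) :
    Below p M P e (lowPair hM he y) :=
  (exists_subpairLE hM he _ (Subgroup.zpowers_le.mpr y.2)).choose_spec.2

theorem lowPair_pairOf (hM : IsPModular p M) {B : Set (IrrCharacter G)}
    (hmax : IsMaximalBrauerPair p M B P e) (y : P) :
    IsBrauerPairOf p M B (lowPair hM hmax.1.1 y).1 (lowPair hM hmax.1.1 y).2 :=
  (SubpairLE.isBrauerPairOf_iff hM (lowPair_below hM hmax.1.1 y)).mp hmax.1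

theorem exists_pElement_orderOf (he : IsBrauerPair p M P e) (y : P) (hp : p.Prime) :
    ∃ k : ℕ, orderOf (y : G) = p ^ k := by
  have : Fact p.Prime := ⟨hp⟩
  obtain ⟨k, hk⟩ := IsPGroup.iff_orderOf.mp he.1 y
  exact ⟨k, by rw [Subgroup.orderOf_coe, hk]⟩

theorem cjP_mul (hM : IsPModular p M) (n m : G) {a : BrauerPairIdx G} (ha : IsPBlock M a.2) :
    cjP n (cjP m a) = cjP (n * m) a := by
  obtain ⟨Q, f⟩ := a
  exact cjP_cjP hM n m ha

theorem cjS_zpowers (n v : G) : cjS n (Subgroup.zpowers v) = Subgroup.zpowers (n * v * n⁻¹) :=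
  MonoidHom.map_zpowers _ _

open scoped Classical in
/-- The elements of `P` fused to `y` in the block. -/
noncomputable def fusClass (hM : IsPModular p M) (he : IsBrauerPair p M P e) (y : P) : Finset P :=
  Finset.univ.filter fun z => ∃ g : G, g * (y : G) * g⁻¹ = (z : G) ∧
    Below p M P e (cjP g (lowPair hM he y))

theorem mem_fusClass (hM : IsPModular p M) (he : IsBrauerPair p M P e) {y z : P} :
    z ∈ fusClass hM he y ↔ ∃ g : G, g * (y : G) * g⁻¹ = (z : G) ∧
      cjP g (lowPair hM he y) = lowPair hM he z := by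
  classical
  simp only [fusClass, Finset.mem_filter, Finset.mem_univ, true_and]
  refine exists_congr fun g => and_congr_right fun hg => ⟨fun h => ?_, fun h => h ▸ lowPair_below hM he z⟩
  refine below_ext hM he h (lowPair_below hM he z) ?_
  show cjS g (Subgroup.zpowers (y : G)) = Subgroup.zpowers (z : G)
  rw [cjS_zpowers, hg]

/-- The centralizer of an element fixes the pairs on its cyclic group. -/
theorem cjP_fix_of_commute (hM : IsPModular p M) {u n : G} {a : BrauerPairIdx G}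
    (ha : a.1 = Subgroup.zpowers u) (hb : IsPBlock M a.2) (hn : Commute n u) : cjP n a = a := by
  obtain ⟨b, rfl⟩ := exists_eq_pairMk ha
  exact conjBlock_eq_of_mem hM hb (centralizer_le_normalizer' _ (mem_cq_zpowers_iff.mpr hn))
    (cinv_iff_cj.mp (cinv_eG b) n (mem_cq_zpowers_iff.mpr hn))

theorem self_mem_fusClass (hM : IsPModular p M) (he : IsBrauerPair p M P e) (y : P) :
    y ∈ fusClass hM he y :=
  (mem_fusClass hM he).mpr ⟨1, by group,
    cjP_fix_of_commute hM rfl (isBrauerPair_of_below hM he (lowPair_below hM he y)).2 (Commute.one_left _)⟩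

theorem fusClass_eq_of_mem (hM : IsPModular p M) (he : IsBrauerPair p M P e) {y z : P}
    (h : z ∈ fusClass hM he y) : fusClass hM he z = fusClass hM he y := by
  obtain ⟨g, hg, hgl⟩ := (mem_fusClass hM he).mp h
  have hby := (isBrauerPair_of_below hM he (lowPair_below hM he y)).2
  have hback : cjP g⁻¹ (lowPair hM he z) = lowPair hM he y := by
    rw [← hgl]
    exact conjBlock_inv hM g hby
  ext w
  rw [mem_fusClass hM he, mem_fusClass hM he]
  constructor
  · rintro ⟨n, hn, hnl⟩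
    refine ⟨n * g, ?_, ?_⟩
    · rw [← hn, ← hg]; group
    · rw [← cjP_mul hM _ _ (a := lowPair hM he y) hby]
      exact (congrArg (cjP n) hgl).trans hnl
  · rintro ⟨n, hn, hnl⟩
    refine ⟨n * g⁻¹, ?_, ?_⟩
    · rw [← hn, ← hg]; group
    · rw [← cjP_mul hM _ _ (a := lowPair hM he z) (isBrauerPair_of_below hM he (lowPair_below hM he z)).2]
      exact (congrArg (cjP n) hback).trans hnl

variable [Fintype (IrrCharacter G)]

open scoped Classical in
/-- The inner product in the block, over the elements of the defect group. -/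
theorem sum_secSum_fused (hM : IsPModular p M) {B : Set (IrrCharacter G)}
    (hmax : IsMaximalBrauerPair p M B P e) [Fintype P] {χ ψ : IrrCharacter G} (hχ : χ ∈ B)
    (hψ : ψ ∈ B) :
    ∑ y : P, secSum p χ ψ (y : G) (lowPair hM hmax.1.1 y) /
      ((Nat.card (CQ (Subgroup.zpowers (y : G))) : ℂ) * ((fusClass hM hmax.1.1 y).card : ℂ)) =
      if χ = ψ then 1 else 0 := by
  have hpf : Fact p.Prime := ⟨hM.1⟩
  letI := Fintype.ofFinite (BrauerPairIdx G)
  have hB := hmax.1.2.1
  set he := hmax.1.1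
  have hbl : ∀ y : P, IsPBlock M (lowPair hM he y).2 := fun y => (lowPair_pairOf hM hmax y).1.2
  let Pr : Finset (G × BrauerPairIdx G) := Finset.univ.filter fun s =>
    (∃ k : ℕ, orderOf s.1 = p ^ k) ∧ s.2.1 = Subgroup.zpowers s.1 ∧ IsBrauerPairOf p M B s.2.1 s.2.2
  let φ : G × P → G × BrauerPairIdx G := fun s =>
    (s.1 * (s.2 : G) * s.1⁻¹, cjP s.1 (lowPair hM he s.2))
  let W : P → ℂ := fun y =>
    ((Nat.card (CQ (Subgroup.zpowers (y : G))) : ℂ) * ((fusClass hM he y).card : ℂ))⁻¹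
  have hφ : ∀ s : G × P, φ s ∈ Pr := fun s => by
    obtain ⟨k, hk⟩ := exists_pElement_orderOf he s.2 hM.1
    refine Finset.mem_filter.mpr ⟨Finset.mem_univ _, ⟨k, ?_⟩, ?_,
      IsBrauerPairOf.conj hM _ (lowPair_pairOf hM hmax s.2)⟩
    · show orderOf (s.1 * (s.2 : G) * s.1⁻¹) = _
      rw [orderOf_conj_eq, hk]
    · show cjS s.1 (Subgroup.zpowers (s.2 : G)) = _
      rw [cjS_zpowers]
  -- each fibre has total weight one
  have hfib : ∀ π ∈ Pr, ∑ s ∈ Finset.univ.filter (fun s : G × P => φ s = π), W s.2 = 1 := by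
    intro π hπ
    obtain ⟨-, -, hπ1, hπ2⟩ := Finset.mem_filter.mp hπ
    obtain ⟨u, a⟩ := π
    obtain ⟨s0, hs0⟩ : ∃ s, φ s = (u, a) := by
      dsimp only at hπ1 hπ2 ⊢
      obtain ⟨b, rfl⟩ := exists_eq_pairMk hπ1
      dsimp only at hπ2
      obtain ⟨x, hx⟩ := exists_conj_subpairLE hM hmax hπ2
      have hxP : x * u * x⁻¹ ∈ P :=
        SubpairLE.le hx (Subgroup.mem_map_of_mem (MulAut.conj x).toMonoidHom (Subgroup.mem_zpowers u))
      refine ⟨(x⁻¹, ⟨_, hxP⟩), Prod.ext (by show x⁻¹ * (x * u * x⁻¹) * x⁻¹⁻¹ = u; group) ?_⟩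
      have hl : lowPair hM he ⟨_, hxP⟩ = cjP x ⟨Subgroup.zpowers u, b⟩ :=
        below_ext hM he (lowPair_below hM he _) hx
          ((lowPair_fst hM he _).trans (cjS_zpowers x u).symm)
      show cjP x⁻¹ (lowPair hM he ⟨_, hxP⟩) = _
      rw [hl]
      exact conjBlock_inv hM x hπ2.1.2
    obtain ⟨g0, y0⟩ := s0
    have hu : g0 * (y0 : G) * g0⁻¹ = u := congrArg Prod.fst hs0
    have ha : cjP g0 (lowPair hM he y0) = a := congrArg Prod.snd hs0
    have hW : ∀ z ∈ fusClass hM he y0, W z = W y0 := by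
      intro z hz
      obtain ⟨g, hg, -⟩ := (mem_fusClass hM he).mp hz
      simp only [W]
      rw [fusClass_eq_of_mem hM he hz,
        show CQ (Subgroup.zpowers (z : G)) = CQ (cjS g (Subgroup.zpowers (y0 : G))) by
          rw [cjS_zpowers, hg]]
      congr 3
      exact Nat.card_congr
        { toFun := fun t => ⟨g⁻¹ * t * g, inv_conj_mem_cq_iff.mp t.2⟩
          invFun := fun t => ⟨g * t * g⁻¹, inv_conj_mem_cq_iff.mpr (by simpa [mul_assoc] using t.2)⟩
          left_inv := fun t => Subtype.ext (by simp [mul_assoc])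
          right_inv := fun t => Subtype.ext (by simp [mul_assoc]) }
    -- the fibre is a union of cosets, one for each fused element
    choose n hn hnl using fun z : fusClass hM he y0 => (mem_fusClass hM he).mp z.2
    have hset : Finset.univ.filter (fun s : G × P => φ s = (u, a)) =
        Finset.univ.image fun s : fusClass hM he y0 × CQ (Subgroup.zpowers (y0 : G)) =>
          (g0 * (s.2 : G) * (n s.1)⁻¹, (s.1 : P)) := by
      ext ⟨g, z⟩
      simp only [Finset.mem_filter, Finset.mem_univ, true_and, Finset.mem_image, Prod.mk.injEq]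
      constructor
      · intro hgz
        have hu' : g * (z : G) * g⁻¹ = u := congrArg Prod.fst hgz
        have ha' : cjP g (lowPair hM he z) = a := congrArg Prod.snd hgz
        have hzmem : z ∈ fusClass hM he y0 := (mem_fusClass hM he).mpr ⟨g⁻¹ * g0, by
          calc g⁻¹ * g0 * (y0 : G) * (g⁻¹ * g0)⁻¹ = g⁻¹ * (g0 * (y0 : G) * g0⁻¹) * g := by group
            _ = g⁻¹ * (g * (z : G) * g⁻¹) * g := by rw [hu, hu']
            _ = (z : G) := by group, by
          rw [← cjP_mul hM _ _ (hbl y0)]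
          show cjP g⁻¹ (cjP g0 (lowPair hM he y0)) = _
          rw [ha, ← ha']
          exact conjBlock_inv hM g (hbl z)⟩
        refine ⟨(⟨z, hzmem⟩, ⟨g0⁻¹ * g * n ⟨z, hzmem⟩, mem_cq_zpowers_iff.mpr ?_⟩), ?_, rfl⟩
        · show g0⁻¹ * g * n ⟨z, hzmem⟩ * (y0 : G) = (y0 : G) * (g0⁻¹ * g * n ⟨z, hzmem⟩)
          calc g0⁻¹ * g * n ⟨z, hzmem⟩ * (y0 : G)
              = g0⁻¹ * g * (n ⟨z, hzmem⟩ * (y0 : G) * (n ⟨z, hzmem⟩)⁻¹) * n ⟨z, hzmem⟩ := by group
            _ = g0⁻¹ * (g * (z : G) * g⁻¹) * g * n ⟨z, hzmem⟩ := by rw [hn ⟨z, hzmem⟩]; group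
            _ = g0⁻¹ * (g0 * (y0 : G) * g0⁻¹) * g * n ⟨z, hzmem⟩ := by rw [hu', hu]
            _ = (y0 : G) * (g0⁻¹ * g * n ⟨z, hzmem⟩) := by group
        · show g0 * (g0⁻¹ * g * n ⟨z, hzmem⟩) * (n ⟨z, hzmem⟩)⁻¹ = g
          group
      · rintro ⟨⟨⟨z', hz'⟩, ⟨t, ht⟩⟩, rfl, rfl⟩
        have hty : Commute t (y0 : G) := mem_cq_zpowers_iff.mp ht
        have h1 : (n ⟨z', hz'⟩)⁻¹ * (z' : G) * n ⟨z', hz'⟩ = (y0 : G) :=
          (congrArg (fun w => (n ⟨z', hz'⟩)⁻¹ * w * n ⟨z', hz'⟩) (hn ⟨z', hz'⟩).symm).trans (by group)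
        refine Prod.ext ?_ ?_
        · show g0 * t * (n ⟨z', hz'⟩)⁻¹ * (z' : G) * (g0 * t * (n ⟨z', hz'⟩)⁻¹)⁻¹ = u
          calc _ = g0 * t * ((n ⟨z', hz'⟩)⁻¹ * (z' : G) * n ⟨z', hz'⟩) * t⁻¹ * g0⁻¹ := by group
            _ = g0 * (t * (y0 : G) * t⁻¹) * g0⁻¹ := by rw [h1]; group
            _ = u := by rw [hty.eq, mul_inv_cancel_right, hu]
        · show cjP (g0 * t * (n ⟨z', hz'⟩)⁻¹) (lowPair hM he z') = a
          rw [← cjP_mul hM _ _ (hbl z')]
          show cjP (g0 * t) (cjP (n ⟨z', hz'⟩)⁻¹ (lowPair hM he z')) = a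
          rw [show cjP (n ⟨z', hz'⟩)⁻¹ (lowPair hM he z') = lowPair hM he y0 by
            rw [← hnl ⟨z', hz'⟩]; exact conjBlock_inv hM _ (hbl y0), ← cjP_mul hM _ _ (hbl y0)]
          show cjP g0 (cjP t (lowPair hM he y0)) = a
          rw [cjP_fix_of_commute hM rfl (hbl y0) hty, ha]
    rw [hset, Finset.sum_image, Finset.sum_congr rfl fun s _ => hW s.1 s.1.2, Finset.sum_const,
      Finset.card_univ, Fintype.card_prod, Fintype.card_coe, nsmul_eq_mul, Nat.cast_mul,
      ← Nat.card_eq_fintype_card (α := CQ (Subgroup.zpowers (y0 : G)))]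
    · simp only [W]
      rw [mul_comm ((fusClass hM he y0).card : ℂ)]
      exact mul_inv_cancel₀ (mul_ne_zero (Nat.cast_ne_zero.mpr Nat.card_pos.ne')
        (Nat.cast_ne_zero.mpr (Finset.card_pos.mpr ⟨y0, self_mem_fusClass hM he y0⟩).ne'))
    · rintro ⟨z, t⟩ - ⟨z', t'⟩ - h
      obtain ⟨h1, h2⟩ := Prod.mk.injEq _ _ _ _ ▸ h
      obtain rfl : z = z' := Subtype.ext h2
      exact Prod.ext rfl (Subtype.ext (mul_left_cancel (mul_right_cancel h1)))
  have hG : (Nat.card G : ℂ) ≠ 0 := Nat.cast_ne_zero.mpr Nat.card_pos.ne'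
  have htot : ∑ π ∈ Pr, secSum p χ ψ π.1 π.2 = if χ = ψ then (Nat.card G : ℂ) else 0 := by
    refine Eq.trans ?_ (sum_secSum_eq hM hB hχ hψ)
    refine Finset.sum_finset_product' (f := fun u a => secSum p χ ψ u a) Pr _ _ fun s => ?_
    simp only [Pr, Finset.mem_filter, Finset.mem_univ, true_and]
  apply mul_left_cancel₀ hG
  calc (Nat.card G : ℂ) * ∑ y : P, secSum p χ ψ (y : G) (lowPair hM he y) /
        ((Nat.card (CQ (Subgroup.zpowers (y : G))) : ℂ) * ((fusClass hM he y).card : ℂ))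
      = ∑ s : G × P, W s.2 * secSum p χ ψ (φ s).1 (φ s).2 := by
        rw [Fintype.sum_prod_type, Finset.mul_sum, Finset.sum_comm]
        refine Finset.sum_congr rfl fun y _ => ?_
        rw [Finset.sum_congr rfl (g := fun _ => W y * secSum p χ ψ (y : G) (lowPair hM he y))
          fun g _ => by simp only [φ]; rw [secSum_cjP], Finset.sum_const, Finset.card_univ,
          ← Nat.card_eq_fintype_card, nsmul_eq_mul, div_eq_mul_inv]
        simp only [W]
        ring
    _ = ∑ π ∈ Pr, secSum p χ ψ π.1 π.2 := by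
        rw [← Finset.sum_fiberwise_of_maps_to (t := Pr) (g := φ) fun s _ => hφ s]
        refine Finset.sum_congr rfl fun π hπ => ?_
        rw [Finset.sum_congr rfl (g := fun s : G × P => W s.2 * secSum p χ ψ π.1 π.2) fun s hs => by
          rw [(Finset.mem_filter.mp hs).2], ← Finset.sum_mul, hfib π hπ, one_mul]
    _ = _ := by rw [htot]; split_ifs <;> simp

/-- The contributions of a subsection sum to the regular rank of its block. -/
theorem sum_secSum_eq_rank (hM : IsPModular p M) {B : Set (IrrCharacter G)}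
    [DecidablePred (· ∈ B)] {u : G} (hu : ∃ k : ℕ, orderOf u = p ^ k) {a : BrauerPairIdx G}
    (ha : a.1 = Subgroup.zpowers u) (hpair : IsBrauerPairOf p M B a.1 a.2) :
    ∑ χ ∈ Finset.univ.filter (· ∈ B), secSum p χ χ u a =
      (Nat.card (CQ a.1) : ℂ) * (blockRank p a.2 : ℂ) := by
  classical
  obtain ⟨b, rfl⟩ := exists_eq_pairMk ha
  dsimp only at hpair ⊢
  have := Fintype.ofFinite (IrrCharacter (CQ (Subgroup.zpowers u)))
  have hC : ∀ t : G, t ∈ CQ (Subgroup.zpowers u) ↔ Commute t u := fun t => mem_cq_zpowers_iff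
  have hC' : ∀ t : CQ (Subgroup.zpowers u), Commute (t : G) u := fun t => (hC t).mp t.2
  have hind := (isBrauerPairOf_zpowers_iff hM hpair.2.1 hu).mp hpair
  rw [Finset.sum_subset (Finset.subset_univ _) fun χ _ hχ => ?_]
  · rw [← sum_regular_norm_eq_rank hM (.of_isPBlock hpair.1.2)]
    simp only [secSum]
    rw [Finset.sum_comm]
    refine (Finset.sum_bij (fun (w : CQ (Subgroup.zpowers u)) _ => (w : G)) (fun w hw => ?_) (fun w _ w' _ h => Subtype.ext h)
      (fun s hs => ?_) fun w hw => ?_).symm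
    · exact Finset.mem_filter.mpr ⟨Finset.mem_univ _, w.2, by
        rw [Subgroup.orderOf_coe]; exact (Finset.mem_filter.mp hw).2⟩
    · obtain ⟨-, hs1, hs2⟩ := Finset.mem_filter.mp hs
      exact ⟨⟨s, hs1⟩, Finset.mem_filter.mpr ⟨Finset.mem_univ _, by
        rwa [← Subgroup.orderOf_coe]⟩, rfl⟩
    · simp only [secPart_eq_blockPart b hC']
      rw [sum_blockPart_mul_conj hM hu hC hpair.1.2 hpair.1.2 (Finset.mem_filter.mp hw).2
        (Finset.mem_filter.mp hw).2, if_pos rfl]
  · rw [secSum]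
    refine Finset.sum_eq_zero fun s hs => ?_
    obtain ⟨-, hs1, hs2⟩ := Finset.mem_filter.mp hs
    have h0 := blockPart_secFun_eq_zero hM hu hC hind (by simpa using hχ) (y := (⟨s, hs1⟩ : CQ (Subgroup.zpowers u)))
      (by rwa [← Subgroup.orderOf_coe])
    rw [← secPart_eq_blockPart _ hC'] at h0
    rw [h0, zero_mul]

/-- At the identity the contribution is that of the regular elements. -/
theorem secSum_one_eq (hM : IsPModular p M) {B : Set (IrrCharacter G)}
    (hmax : IsMaximalBrauerPair p M B P e) {χ ψ : IrrCharacter G} (hχ : χ ∈ B) (hψ : ψ ∈ B) :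
    secSum p χ ψ 1 (lowPair hM hmax.1.1 1) = (Nat.card G : ℂ) * regInner p χ ψ := by
  classical
  set he := hmax.1.1
  have hC' : ∀ t : CQ (Subgroup.zpowers (1 : G)), Commute (t : G) 1 := fun t => Commute.one_right _
  have hC : ∀ t : G, t ∈ CQ (Subgroup.zpowers (1 : G)) ↔ Commute t 1 := fun t => mem_cq_zpowers_iff
  have := Fintype.ofFinite (IrrCharacter (CQ (Subgroup.zpowers (1 : G))))
  have hu : ∃ k : ℕ, orderOf (1 : G) = p ^ k := ⟨0, by simp⟩
  obtain ⟨b, hb⟩ := exists_eq_pairMk (a := lowPair hM he 1) (Q := Subgroup.zpowers (1 : G)) rfl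
  have hpair := lowPair_pairOf hM hmax 1
  rw [hb] at hpair ⊢
  have hval : ∀ (θ : IrrCharacter G), θ ∈ B → ∀ s : CQ (Subgroup.zpowers (1 : G)), ¬ p ∣ orderOf s →
      secPart θ 1 ⟨_, b⟩ (s : G) = (θ : G → ℂ) (s : G) := by
    intro θ hθ s hs
    rw [secPart_eq_blockPart b hC']
    rw [show (θ : G → ℂ) (s : G) = secFun 1 (CQ (Subgroup.zpowers (1 : G))) θ s by simp [secFun],
      secFun_eq_sum_blockPart hM hC' θ s (Finset.univ.filter fun f : Set (IrrCharacter (CQ (Subgroup.zpowers (1 : G)))) => IsPBlock M f) (by simp)]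
    symm
    refine Finset.sum_eq_single b (fun f hf hne => ?_) fun h => absurd
      (Finset.mem_filter.mpr ⟨Finset.mem_univ _, hpair.1.2⟩) h
    have hfb := (Finset.mem_filter.mp hf).2
    obtain ⟨B', hB'⟩ := exists_induced_centralizer hM hu hC hfb
    refine blockPart_secFun_eq_zero hM hu hC hB' (fun hmem => hne ?_) hs
    have hfB : IsInducedBlock M _ f B :=
      isPBlock_eq_of_mem hmax.1.2.1 hB'.2.1 hθ hmem ▸ hB'
    have hfp := (isBrauerPairOf_zpowers_iff hM hmax.1.2.1 hu).mpr hfB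
    obtain ⟨x, hx⟩ := exists_conj_subpairLE hM hmax hfp
    have e1 : cjP x (⟨_, f⟩ : BrauerPairIdx G) = lowPair hM he 1 :=
      below_ext hM he hx (lowPair_below hM he 1) (by
        show cjS x (Subgroup.zpowers (1 : G)) = Subgroup.zpowers ((1 : P) : G)
        rw [cjS_zpowers, OneMemClass.coe_one, mul_one, mul_inv_cancel])
    rw [cjP_fix_of_commute hM rfl hfb (Commute.one_right x), hb] at e1
    exact eq_of_heq (Sigma.mk.inj_iff.mp e1).2
  rw [secSum, card_mul_regInner]
  refine Finset.sum_congr ?_ fun s hs => ?_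
  · ext s
    simp only [Finset.mem_filter, Finset.mem_univ, true_and]
    exact ⟨fun h => h.2, fun h => ⟨(hC s).mpr (Commute.one_right s), h⟩⟩
  · have hs' := (Finset.mem_filter.mp hs).2
    have hsC : s ∈ CQ (Subgroup.zpowers (1 : G)) := (hC s).mpr (Commute.one_right s)
    have hreg : ¬ p ∣ orderOf (⟨s, hsC⟩ : CQ (Subgroup.zpowers (1 : G))) := by
      rwa [← Subgroup.orderOf_coe]
    rw [show secPart χ 1 ⟨_, b⟩ s = _ from hval χ hχ ⟨s, hsC⟩ hreg,
      show secPart ψ 1 ⟨_, b⟩ s = _ from hval ψ hψ ⟨s, hsC⟩ hreg, Char.irr_inv]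

end CfsgLib.Block

namespace CfsgLib.Block

open Cfsg
open scoped Pair ComplexConjugate

universe v

variable {p : ℕ} {M : Ideal AlgInt} [M.IsMaximal] {G : Type v} [Group G] [Fintype G] [DecidableEq G]
  [Fintype (IrrCharacter G)]

/-- In a subsection whose block has a unit row the contributions have rank one. -/
theorem secSum_mul_conj_of_unitRow (hM : IsPModular p M) {B : Set (IrrCharacter G)} {u : G}
    (hu : ∃ k : ℕ, orderOf u = p ^ k) {a : BrauerPairIdx G} (ha : a.1 = Subgroup.zpowers u)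
    (hpair : IsBrauerPairOf p M B a.1 a.2) (hrow : HasUnitRow p a.2) (χ ψ : IrrCharacter G) :
    secSum p χ ψ u a * conj (secSum p χ ψ u a) = secSum p χ χ u a * secSum p ψ ψ u a := by
  classical
  obtain ⟨b, rfl⟩ := exists_eq_pairMk ha
  dsimp only at hpair hrow ⊢
  have := Fintype.ofFinite (IrrCharacter (CQ (Subgroup.zpowers u)))
  have hC' : ∀ t : CQ (Subgroup.zpowers u), Commute (t : G) u := fun t => mem_cq_zpowers_iff.mp t.2
  obtain ⟨η₀, -, hd, -⟩ := hrow
  choose d hdd using hd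
  have hform : ∀ θ : IrrCharacter G, ∃ A : ℂ, ∀ s : CQ (Subgroup.zpowers u), ¬ p ∣ orderOf s →
      secPart θ u ⟨Subgroup.zpowers u, b⟩ (s : G) = A * (η₀ : CQ (Subgroup.zpowers u) → ℂ) s := by
    intro θ
    refine ⟨∑ η ∈ Finset.univ.filter (· ∈ b),
      classInner (regFun p (secFun u (CQ (Subgroup.zpowers u)) θ)) (η : CQ (Subgroup.zpowers u) → ℂ) *
        (if h : η ∈ b then (d η h : ℂ) else 0), fun s hs => ?_⟩
    rw [secPart_eq_blockPart b hC', blockPart_regular hM hpair.1.2 (isClassFunction_secFun hC' θ) hs,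
      Finset.sum_mul]
    refine Finset.sum_congr rfl fun η hη => ?_
    have hηb := (Finset.mem_filter.mp hη).2
    rw [dif_pos hηb, hdd η hηb s hs]
    ring
  choose A hA using hform
  obtain ⟨N, hN⟩ : ∃ N : ℂ, ∀ θ θ' : IrrCharacter G,
      secSum p θ θ' u ⟨Subgroup.zpowers u, b⟩ = A θ * conj (A θ') * N := by
    refine ⟨∑ s ∈ Finset.univ.filter (fun s : CQ (Subgroup.zpowers u) => ¬ p ∣ orderOf s),
      (η₀ : CQ (Subgroup.zpowers u) → ℂ) s * conj ((η₀ : CQ (Subgroup.zpowers u) → ℂ) s),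
      fun θ θ' => ?_⟩
    rw [secSum, Finset.mul_sum]
    refine (Finset.sum_bij (fun (w : CQ (Subgroup.zpowers u)) _ => (w : G)) (fun w hw => ?_)
      (fun w _ w' _ h => Subtype.ext h) (fun s hs => ?_) fun w hw => ?_).symm
    · exact Finset.mem_filter.mpr ⟨Finset.mem_univ _, w.2, by
        rw [Subgroup.orderOf_coe]; exact (Finset.mem_filter.mp hw).2⟩
    · obtain ⟨-, hs1, hs2⟩ := Finset.mem_filter.mp hs
      exact ⟨⟨s, hs1⟩, Finset.mem_filter.mpr ⟨Finset.mem_univ _, by
        rwa [← Subgroup.orderOf_coe]⟩, rfl⟩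
    · rw [hA θ w (Finset.mem_filter.mp hw).2, hA θ' w (Finset.mem_filter.mp hw).2,
        map_mul (starRingEnd ℂ)]
      ring
  have hNr : conj (∑ s ∈ Finset.univ.filter (fun s : G => s ∈ CQ (Subgroup.zpowers u) ∧ ¬ p ∣ orderOf s),
      secPart χ u ⟨Subgroup.zpowers u, b⟩ s * conj (secPart ψ u ⟨Subgroup.zpowers u, b⟩ s)) =
      secSum p ψ χ u ⟨Subgroup.zpowers u, b⟩ := by
    rw [secSum, map_sum]
    exact Finset.sum_congr rfl fun s _ => by rw [map_mul (starRingEnd ℂ), Complex.conj_conj, mul_comm]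
  have hc : conj (secSum p χ ψ u ⟨Subgroup.zpowers u, b⟩) = secSum p ψ χ u ⟨Subgroup.zpowers u, b⟩ := hNr
  rw [hc, hN, hN, hN, hN]
  ring

/-- The residue of the scaled inner product of regular parts with a character of least degree
exponent does not vanish. -/
theorem exists_scaled_regInner_ne_zero (hM : IsPModular p M) [Fintype (ConjClasses G)]
    {B : Set (IrrCharacter G)} (hB : IsPBlock M B) {χ ψ : IrrCharacter G} (hχ : χ ∈ B) (hψ : ψ ∈ B)
    (hψ0 : blockHeight p B (ψ : G → ℂ) = 0) :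
    ∃ z : ℤ, (p : ℂ) ^ blockDefect p B * regInner p χ ψ = z ∧ z ≠ 0 ∧
      (blockHeight p B (χ : G → ℂ) = 0 → ¬ (p : ℤ) ∣ z) := by
  have hle : (Nat.card G).factorization p ≤ degVal p χ + blockDefect p B := by
    have h2 := minDeg_le (p := p) hχ
    show _ ≤ _ + ((Nat.card G).factorization p - minDeg p B)
    omega
  obtain ⟨z, hz, hzr⟩ := exists_scaled_regInner hM hle ψ
  have hN : regN p M χ ψ ≠ 0 := (regN_ne_zero_iff hM hB hχ hψ).mpr fun θ hθ => by
    rw [(blockHeight_eq_zero_iff hψ).mp hψ0]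
    exact minDeg_le hθ
  obtain ⟨R, hR, hRres⟩ := exists_regN_lift (p := p) (M := M) χ ψ
  have hreg : regInner p χ ψ ≠ 0 := fun h0 => by
    rw [h0, mul_zero, mul_eq_zero, or_iff_left (Char.irr_one_ne_zero χ)] at hR
    exact hN (by rw [← hRres, show R = 0 from Subtype.ext hR, map_zero])
  refine ⟨z, hz, fun h0 => ?_, fun h0χ hdiv => ?_⟩
  · rw [h0, Int.cast_zero, mul_eq_zero] at hz
    exact hz.elim (pow_ne_zero _ (Nat.cast_ne_zero.mpr hM.1.ne_zero)) hreg
  · have := charP_resField hM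
    rw [(CharP.intCast_eq_zero_iff (ResField M) p z).mpr hdiv] at hzr
    refine mul_ne_zero ?_ hN hzr.symm
    rw [degW, map_mul, map_natCast]
    refine mul_ne_zero ?_ (res_invNat_ne_zero hM _)
    rw [Ne, CharP.cast_eq_zero_iff (ResField M) p]
    have h1 := (blockHeight_eq_zero_iff hχ).mp h0χ
    have hm : minDeg p B ≤ (Nat.card G).factorization p :=
      (minDeg_le (p := p) hχ).trans (degVal_le_card χ)
    have h2 : degVal p χ + blockDefect p B - (Nat.card G).factorization p = 0 := by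
      show degVal p χ + ((Nat.card G).factorization p - minDeg p B) - (Nat.card G).factorization p = 0
      omega
    rw [h2, pow_zero, one_mul]
    exact Nat.not_dvd_ordCompl hM.1 (charDegree_eq χ).2

end CfsgLib.Block
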