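import Cfsg.Agent.Lib.Block.Fusion

/-!
# Saturation of the fusion system of a block
-/

open Finset MonoidAlgebra
open scoped ComplexConjugate

set_option linter.unusedSectionVars false

namespace CfsgLib.Block

open Cfsg
open Cfsg.FusionSystem (normalizerIn centralizerIn extender)

universe u

open scoped Pair

variable {p : ℕ} {M : Ideal AlgInt} [M.IsMaximal] {G : Type u} [Group G] [Fintype G] [DecidableEq G]
  {Q R P : Subgroup G} {e : Set (IrrCharacter (CQ P))}

/-! ### Pairs inside the group of a local block -/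

/-- The centralizer seen inside a subgroup. -/
def cqInT {T : Subgroup G} (hC : CQ R ≤ T) (hR : R ≤ T) : CQ R ≃* CQ (R.subgroupOf T) where
  toFun c := ⟨⟨(c : G), hC c.2⟩, Subgroup.mem_centralizer_iff.mpr fun u hu =>
    Subtype.ext (Subgroup.mem_centralizer_iff.mp c.2 _ hu)⟩
  invFun c := ⟨((c : T) : G), Subgroup.mem_centralizer_iff.mpr fun u hu =>
    congrArg Subtype.val (Subgroup.mem_centralizer_iff.mp c.2 ⟨u, hR hu⟩ hu)⟩
  left_inv _ := rfl
  right_inv _ := rfl
  map_mul' _ _ := rfl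

theorem isBrauerPairOf_inT (hM : IsPModular p M) {f : Set (IrrCharacter (CQ Q))}
    (hf : IsPBlock M f) {T : Subgroup G} {F : Set (IrrCharacter T)} (hF : IsPBlock M F)
    (hco : ∀ t : T, blockCoeff F t = subgroupBlockCoeff (CQ Q) f (t : G))
    (hC : CQ R ≤ T) (hR : R ≤ T) {g : Set (IrrCharacter (CQ R))} (h : NSub p M Q f R g) :
    IsBrauerPairOf p M F (R.subgroupOf T) (irrEquiv (cqInT hC hR) '' g) := by
  classical
  refine ⟨⟨h.pairR.1.of_equiv (Subgroup.subgroupOfEquivOfLe hR).symm,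
    isPBlock_image_irrEquiv _ h.pairR.2⟩, hF, ?_⟩
  rintro _ ⟨ξ, hξ, rfl⟩
  have h1 := (brauerOmega_sub_iff hM h.le hf ξ).mpr (h.one ξ hξ)
  have heq : brauerOmega (R.subgroupOf T) (blockCoeff F)
      ((irrEquiv (cqInT hC hR) ξ : IrrCharacter (CQ (R.subgroupOf T))) : _ → ℂ) =
      brauerOmega R (subgroupBlockCoeff (CQ Q) f) (ξ : CQ R → ℂ) := by
    simp only [brauerOmega, finsum_eq_sum_of_fintype]
    refine (Fintype.sum_equiv (cqInT hC hR).toEquiv _ _ fun c => ?_).symm
    simp only [irrEquiv_apply, MulEquiv.toEquiv_eq_coe, EquivLike.coe_coe,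
      MulEquiv.symm_apply_apply, ← map_one (cqInT hC hR)]
    congr 2
    exact (hco ⟨(c : G), hC c.2⟩).symm
  rw [heq]
  exact h1

theorem coeff_eG_inT {T : Subgroup G} (hC : CQ R ≤ T) (hR : R ≤ T) (g : Set (IrrCharacter (CQ R)))
    (t : T) :
    (eG M (irrEquiv (cqInT hC hR) '' g) : MonoidAlgebra (ResField M) T).coeff t =
      (eG M g).coeff (t : G) := by
  classical
  by_cases ht : (t : G) ∈ CQ R
  · obtain ⟨c, hc⟩ : ∃ c : CQ R, (c : G) = (t : G) := ⟨⟨(t : G), ht⟩, rfl⟩
    have ht' : t = ((cqInT hC hR c : CQ (R.subgroupOf T)) : T) := Subtype.ext hc.symm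
    rw [ht', coeff_eG, coeffRes_image_irrEquiv]
    exact (coeff_eG g c).symm
  · rw [suppIn_eG _ t fun h => ht ((cqInT hC hR).symm ⟨t, h⟩).2, suppIn_eG g _ ht]

/-- Every pair above `(Q, f)` inside `T` lies below one on a defect group of the local block. -/
theorem IsLocalBlock.exists_defect_above (hM : IsPModular p M) {f : Set (IrrCharacter (CQ Q))}
    {T : Subgroup G} {F : Set (IrrCharacter T)} (hL : IsLocalBlock M Q f T F)
    (hco : ∀ t : T, blockCoeff F t = subgroupBlockCoeff (CQ Q) f (t : G))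
    (R : Subgroup G) (hR : R ≤ T) (g : Set (IrrCharacter (CQ R))) (h : NSub p M Q f R g) :
    ∃ (D : Subgroup G) (d : Set (IrrCharacter (CQ D))), D ≤ T ∧ NSub p M Q f D d ∧
      SubpairLE p M R g D d ∧ IsDefectGroup p M F (D.subgroupOf T) := by
  induction hn : Nat.card G - Nat.card R using Nat.strong_induction_on generalizing R with
  | _ n ih =>
    have hC : CQ R ≤ T := (cq_mono h.le).trans hL.le
    by_cases hmax : HMax p M (R.subgroupOf T) (irrEquiv (cqInT hC hR) '' g)
    · exact ⟨R, g, hR, h, Relation.ReflTransGen.refl, isDefectGroup_of_maximal hM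
        ((isMaximalBrauerPair_iff hM).mpr
          ⟨isBrauerPairOf_inT hM h.pairL.2 hL.block hco hC hR h, hmax⟩)⟩
    · simp only [HMax, not_forall] at hmax
      obtain ⟨S, hS, hlt, hSN, hstab, x, hx, hne⟩ := hmax
      set S' := S.map T.subtype with hS'
      have hRS : R ≤ S' := fun u hu => ⟨⟨u, hR hu⟩, hlt.le hu, rfl⟩
      have hS'N : S' ≤ Subgroup.normalizer (R : Set G) := by
        rintro _ ⟨s, hs, rfl⟩
        rw [Subgroup.mem_normalizer_iff]
        intro u
        constructor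
        · exact fun hu => (Subgroup.mem_normalizer_iff.mp (hSN hs) ⟨u, hR hu⟩).mp hu
        · intro hu
          have hu' : u ∈ T := by
            have := mul_mem (mul_mem (inv_mem s.2) (hR hu)) s.2
            simpa [mul_assoc] using this
          exact (Subgroup.mem_normalizer_iff.mp (hSN hs) ⟨u, hu'⟩).mpr hu
      have hstab' : CInv S' (eG M g) := by
        rintro _ ⟨s, hs, rfl⟩ u
        by_cases hu : u ∈ T
        · have h1 := hstab s hs ⟨u, hu⟩
          rw [coeff_eG_inT, coeff_eG_inT] at h1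
          exact h1
        · rw [suppIn_eG g u fun h' => hu (hC h'), suppIn_eG g _ fun h' => hu ?_]
          have := mul_mem (mul_mem (inv_mem s.2) (hC h')) s.2
          simpa [mul_assoc] using this
      have hx' : (x : G) ∈ CQ S' := Subgroup.mem_centralizer_iff.mpr fun _ ⟨s, hs, hse⟩ =>
        hse ▸ congrArg Subtype.val (Subgroup.mem_centralizer_iff.mp hx s hs)
      rw [coeff_eG_inT] at hne
      obtain ⟨g', hg'⟩ := exists_nSub_above hM h.pairR (hS.map _) hRS hS'N hstab' hx' hne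
      have hlt' : Nat.card R < Nat.card S' := by
        refine (Subgroup.card_le_of_le hRS).lt_of_ne fun heq => hlt.ne ?_
        rw [Subgroup.eq_of_le_of_card_ge hRS heq.ge, hS', Subgroup.subgroupOf,
          Subgroup.comap_map_eq_self_of_injective T.subtype_injective]
      have hle : Nat.card S' ≤ Nat.card G := Nat.card_le_card_of_injective _ Subtype.val_injective
      obtain ⟨D, d, hDT, hD, hDle, hdef⟩ := ih _ (by omega) S' (Subgroup.map_subtype_le S) g'
        (h.trans hM hg' ((Subgroup.map_subtype_le S).trans hL.norm)) rfl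
      exact ⟨D, d, hDT, hD, (SubpairLE.step hM hg').trans hDle, hdef⟩

/-- Pairs above `(Q, f)` on a defect group of the local block are conjugate in `T`. -/
theorem IsLocalBlock.exists_conj_defect (hM : IsPModular p M) {f : Set (IrrCharacter (CQ Q))}
    {T : Subgroup G} {F : Set (IrrCharacter T)} (hL : IsLocalBlock M Q f T F)
    (hco : ∀ t : T, blockCoeff F t = subgroupBlockCoeff (CQ Q) f (t : G)) {D : Subgroup G}
    (hDT : D ≤ T) (hD : IsDefectGroup p M F (D.subgroupOf T))
    {g g' : Set (IrrCharacter (CQ D))} (hg : NSub p M Q f D g) (hg' : NSub p M Q f D g') :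
    ∃ n ∈ T, cjP n ⟨D, g⟩ = (⟨D, g'⟩ : BrauerPairIdx G) := by
  classical
  have hC : CQ D ≤ T := (cq_mono hg.le).trans hL.le
  have hmax : IsMaximalBrauerPair p M F (D.subgroupOf T) (irrEquiv (cqInT hC hDT) '' g) := by
    refine ⟨isBrauerPairOf_inT hM hg.pairL.2 hL.block hco hC hDT hg, fun S h hS hle => ?_⟩
    obtain ⟨D', d, hd, hSD⟩ := exists_maximal_above hM S h hS
    obtain ⟨c, hc⟩ := defectGroup_conj hM hL.block hD (isDefectGroup_of_maximal hM hd)
    have hcard : Nat.card D' ≤ Nat.card (D.subgroupOf T) := by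
      rw [← hc, Subgroup.card_map_of_injective (MulAut.conj c).injective]
    have h1 := SubpairLE.le hle
    exact le_antisymm ((SubpairLE.le hSD).trans
      (Subgroup.eq_of_le_of_card_ge (h1.trans (SubpairLE.le hSD)) hcard).ge) h1
  obtain ⟨n, hn, hne⟩ :=
    exists_conjN_eq hM hmax (isBrauerPairOf_inT hM hg'.pairL.2 hL.block hco hC hDT hg')
  have hnD : (n : G) ∈ Subgroup.normalizer (D : Set G) := by
    rw [Subgroup.mem_normalizer_iff]
    intro u
    constructor
    · intro hu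
      exact (Subgroup.mem_normalizer_iff.mp hn ⟨u, hDT hu⟩).mp hu
    · intro hu
      have hu' : u ∈ T := by
        have := mul_mem (mul_mem (inv_mem n.2) (hDT hu)) n.2
        simpa [mul_assoc] using this
      exact (Subgroup.mem_normalizer_iff.mp hn ⟨u, hu'⟩).mpr hu
  refine ⟨n, n.2, pair_ext hM (isPBlock_conjBlock _ hg.pairR.2) hg'.pairR.2
    (cjS_eq_of_mem_normalizer hnD) ?_⟩
  refine (eG_conjBlock (n : G) g).trans (ga_ext fun x => ?_)
  rw [coeff_cj]
  by_cases hx : x ∈ T
  · have h1 := congrArg (fun y : MonoidAlgebra (ResField M) T => y.coeff ⟨x, hx⟩)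
      (eG_conjN (M := M) hn (irrEquiv (cqInT hC hDT) '' g))
    simp only [hne, coeff_cj, coeff_eG_inT] at h1
    exact h1.symm
  · rw [suppIn_eG g' x fun h => hx (hC h), suppIn_eG g _ fun h => hx ?_]
    have := mul_mem (mul_mem n.2 (hC h)) (inv_mem n.2)
    simpa [mul_assoc] using this

/-! ### The extension axiom -/

/-- The local block of `(P ∩ N(Q)) C(Q)`, with defect group its intersection with `P`. -/
theorem exists_norm_block (hM : IsPModular p M) (he : IsBrauerPair p M P e)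
    {f : Set (IrrCharacter (CQ Q))} (hle : SubpairLE p M Q f P e)
    (hdefC : IsDefectGroup p M f ((P ⊓ CQ Q).subgroupOf (CQ Q))) :
    ∃ FT : Set (IrrCharacter ((P ⊓ Subgroup.normalizer (Q : Set G)) ⊔ CQ Q : Subgroup G)),
      IsLocalBlock M Q f _ FT ∧
      (∀ t : ((P ⊓ Subgroup.normalizer (Q : Set G)) ⊔ CQ Q : Subgroup G),
        blockCoeff FT t = subgroupBlockCoeff (CQ Q) f (t : G)) ∧
      CInv ((P ⊓ Subgroup.normalizer (Q : Set G)) ⊔ CQ Q) (eG M f) ∧
      IsDefectGroup p M FT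
        ((P ⊓ ((P ⊓ Subgroup.normalizer (Q : Set G)) ⊔ CQ Q)).subgroupOf _) := by
  classical
  have hpf : Fact p.Prime := ⟨hM.1⟩
  have hf := isBrauerPair_of_below hM he hle
  have hgle := SubpairLE.le hle
  set T : Subgroup G := (P ⊓ Subgroup.normalizer (Q : Set G)) ⊔ CQ Q with hTdef
  have hCT : CQ Q ≤ T := le_sup_right
  have hQT : Q ≤ T := (le_inf hgle Subgroup.le_normalizer).trans le_sup_left
  have hTN : T ≤ Subgroup.normalizer (Q : Set G) :=
    sup_le inf_le_right (centralizer_le_normalizer' Q)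
  obtain ⟨gN, hgN, hgNle⟩ := SubpairLE.exists_nSub_mid hM he hle
    (le_inf hgle Subgroup.le_normalizer) inf_le_left inf_le_right
  have hst : CInv T (eG M f) := cinv_sup hgN.stab (cinv_eG f)
  obtain ⟨FT, hL, hco⟩ := exists_localBlock hM hf.1 hCT hQT hTN hf.2
    fun t ht => cinv_iff_cj.mp hst t ht
  refine ⟨FT, hL, hco, hst, ?_⟩
  -- `P ⊓ T` is a defect group
  obtain ⟨D, hD⟩ := exists_defectGroup hM hL.block
  have hinf := hL.inf_conjLE hM hf he hle hD
  have hPT : P ⊓ Subgroup.normalizer (Q : Set G) ≤ P ⊓ T :=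
  le_inf inf_le_left le_sup_left
  suffices hdefT : IsDefectGroup p M FT ((P ⊓ T).subgroupOf T) from hdefT
  refine isDefectGroup_of_conjLE_card hM hL.block hD hinf ?_
  set D' := D.map T.subtype with hD'
  have hpD' : IsPGroup p D' := (isPGroup_defectGroup hM hL.block hD).map _
  have hcD : Nat.card D = Nat.card D' :=
    (Subgroup.card_map_of_injective Subtype.val_injective).symm
  -- the part in `C(Q)`
  obtain ⟨gD, hgD⟩ :=
    (hL.conjLE_iff hM hf hD (isPGroup_defectGroup hM hL.block hD)).mp (conjLE_of_le le_rfl)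
  have hLC := isLocalBlock_self (M := M) (Q := Q) hf.2
  have hsub : D' ⊓ CQ Q ≤ D' := inf_le_left
  have hE : ConjLE ((D' ⊓ CQ Q).subgroupOf (CQ Q)) ((P ⊓ CQ Q).subgroupOf (CQ Q)) := by
    refine (hLC.conjLE_iff hM hf hdefC
      ((hpD'.to_le hsub).of_equiv (Subgroup.subgroupOfEquivOfLe inf_le_right).symm)).mpr ?_
    rw [Subgroup.map_subgroupOf_eq_of_le inf_le_right]
    obtain ⟨g1, hg1, -⟩ := SubpairLE.exists_nSub_mid hM hgD.pairR (SubpairLE.step hM hgD)
      le_sup_left (sup_le le_sup_left (hsub.trans le_sup_right))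
      (sup_le Subgroup.le_normalizer (inf_le_right.trans (centralizer_le_normalizer' Q)))
    exact ⟨g1, hg1⟩
  have h1 : Nat.card (D' ⊓ CQ Q : Subgroup G) ≤ Nat.card (P ⊓ CQ Q : Subgroup G) := by
    have := hE.card_le
    rwa [card_subgroupOf_inf, card_subgroupOf_inf] at this
  have hDT : D' ≤ T := Subgroup.map_subtype_le D
  have hrel : (CQ Q).relIndex D' ≤ (CQ Q).relIndex (P ⊓ T) := by
    have hn : (CQ Q).relIndex T ≤ (CQ Q).relIndex (P ⊓ T) := by
      have hN : P ⊓ T ≤ Subgroup.normalizer (CQ Q : Set G) := fun u hu => by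
        rw [Subgroup.mem_normalizer_iff]
        exact fun h => cq_conj_iff (hTN hu.2) h
      have hT' : T = (P ⊓ T) ⊔ CQ Q := le_antisymm
        (sup_le (hPT.trans le_sup_left) le_sup_right) (sup_le inf_le_right hCT)
      have hNn : ((CQ Q).subgroupOf T).Normal :=
        (Subgroup.normal_subgroupOf_iff_le_normalizer hCT).mpr fun u hu => by
          rw [Subgroup.mem_normalizer_iff]
          exact fun h => cq_conj_iff (hTN hu) h
      have h1 := Subgroup.relIndex_sup_right (H := (P ⊓ T).subgroupOf T) (K := (CQ Q).subgroupOf T)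
      rw [← Subgroup.subgroupOf_sup inf_le_right hCT, ← hT', Subgroup.subgroupOf_self,
        Subgroup.relIndex_top_right, Subgroup.relIndex_subgroupOf inf_le_right] at h1
      exact h1.le
    exact (Subgroup.relIndex_le_of_le_right hDT Subgroup.index_ne_zero_of_finite).trans hn
  have e1 : Nat.card D' = Nat.card (D' ⊓ CQ Q : Subgroup G) * (CQ Q).relIndex D' := by
    rw [← Subgroup.inf_relIndex_right, inf_comm (CQ Q), ← card_subgroupOf_eq (inf_le_left : D' ⊓ CQ Q ≤ D'),
      Subgroup.relIndex, Subgroup.card_mul_index]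
  have e2 : Nat.card (P ⊓ T : Subgroup G) =
      Nat.card (P ⊓ T ⊓ CQ Q : Subgroup G) * (CQ Q).relIndex (P ⊓ T) := by
    rw [← Subgroup.inf_relIndex_right, inf_comm (CQ Q), ← card_subgroupOf_eq
      (inf_le_left : P ⊓ T ⊓ CQ Q ≤ P ⊓ T), Subgroup.relIndex, Subgroup.card_mul_index]
  have hPC : P ⊓ T ⊓ CQ Q = P ⊓ CQ Q := by
    rw [inf_assoc, inf_eq_right.mpr hCT]
  rw [card_subgroupOf_inf, hcD, e1, e2, hPC]
  exact Nat.mul_le_mul h1 hrel

/-- The extender of a map is carried into `(P ∩ N(Q)) C(Q)`. -/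
theorem extender_bound {g : G} {φ : R →* G} (hg : ∀ u : R, φ u = g * (u : G) * g⁻¹)
    (hQ : cjS g R = Q) {n : G} (hn : n ∈ extender P R φ) :
    n ∈ P ⊓ Subgroup.normalizer (R : Set G) ∧
      g * n * g⁻¹ ∈ (P ⊓ Subgroup.normalizer (Q : Set G)) ⊔ CQ Q := by
  subst hQ
  set T : Subgroup G := (P ⊓ Subgroup.normalizer (cjS g R : Set G)) ⊔ CQ (cjS g R) with hTdef
  have hCT : CQ (cjS g R) ≤ T := le_sup_right
  induction hn using Subgroup.closure_induction with
  | mem n hn =>
    obtain ⟨hnP, hnR, h, hh, heq⟩ := hn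
    have hc : h⁻¹ * (g * n * g⁻¹) ∈ CQ (cjS g R) := by
      rw [Subgroup.mem_centralizer_iff]
      rintro _ ⟨x, hx, rfl⟩
      have hx' := (Subgroup.mem_normalizer_iff.mp hnR x).mp hx
      have h2 := heq ⟨x, hx⟩ hx'
      rw [hg, hg] at h2
      simp only [MulEquiv.coe_toMonoidHom, MulAut.conj_apply]
      set w := h⁻¹ * (g * n * g⁻¹) with hw
      have h3 : w * (g * x * g⁻¹) * w⁻¹ = g * x * g⁻¹ := by
        calc w * (g * x * g⁻¹) * w⁻¹ = h⁻¹ * (g * (n * x * n⁻¹) * g⁻¹) * h := by rw [hw]; group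
          _ = g * x * g⁻¹ := by rw [h2]; group
      exact (mul_inv_eq_iff_eq_mul.mp h3).symm
    have hhN : h ∈ Subgroup.normalizer (cjS g R : Set G) := by
      have h2 : g * n * g⁻¹ ∈ Subgroup.normalizer (cjS g R : Set G) := by
        rw [mem_normalizer_cjS_iff]
        simpa [mul_assoc] using hnR
      have h4 := mul_mem h2 (inv_mem (centralizer_le_normalizer' (cjS g R) hc))
      simpa [mul_assoc] using h4
    refine ⟨⟨hnP, hnR⟩, ?_⟩
    have h5 := mul_mem ((le_sup_left : _ ≤ T) ⟨hh, hhN⟩) (hCT hc)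
    rwa [mul_inv_cancel_left] at h5
  | one => exact ⟨one_mem _, by simp⟩
  | mul a b _ _ ha hb =>
    refine ⟨mul_mem ha.1 hb.1, ?_⟩
    have := mul_mem ha.2 hb.2
    simpa [mul_assoc] using this
  | inv a _ ha =>
    refine ⟨inv_mem ha.1, ?_⟩
    have := inv_mem ha.2
    simpa [mul_assoc] using this

theorem exists_extension (hM : IsPModular p M) (he : IsBrauerPair p M P e) {g : G} {φ : R →* G}
    (hg : ∀ u : R, φ u = g * (u : G) * g⁻¹) (hRP : R ≤ P) {f0 : Set (IrrCharacter (CQ R))}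
    (hf0 : SubpairLE p M R f0 P e) {f : Set (IrrCharacter (CQ Q))}
    (hgf0 : cjP g ⟨R, f0⟩ = (⟨Q, f⟩ : BrauerPairIdx G)) (hle : SubpairLE p M Q f P e)
    (hdefC : IsDefectGroup p M f ((P ⊓ CQ Q).subgroupOf (CQ Q))) :
    ∃ z ∈ CQ Q, ∃ fE : Set (IrrCharacter (CQ (extender P R φ))),
      SubpairLE p M (extender P R φ) fE P e ∧ Below p M P e (cjP (z * g) ⟨extender P R φ, fE⟩) := by
  classical
  have hQ : cjS g R = Q := congrArg Sigma.fst hgf0
  have hgle := SubpairLE.le hle
  have hf := isBrauerPair_of_below hM he hle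
  obtain ⟨FT, hL, hco, hst, hdefT⟩ := exists_norm_block hM he hle hdefC
  set T : Subgroup G := (P ⊓ Subgroup.normalizer (Q : Set G)) ⊔ CQ Q with hTdef
  have hCT : CQ Q ≤ T := le_sup_right
  have hQT : Q ≤ T := (le_inf hgle Subgroup.le_normalizer).trans le_sup_left
  have hTN : T ≤ Subgroup.normalizer (Q : Set G) :=
    sup_le inf_le_right (centralizer_le_normalizer' Q)
  set E := extender P R φ with hE
  have hEle : ∀ n ∈ E, n ∈ P ⊓ Subgroup.normalizer (R : Set G) ∧ g * n * g⁻¹ ∈ T :=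
    fun n hn => extender_bound hg hQ hn
  have hREx : R ≤ E := fun x hx => Subgroup.subset_closure ⟨hRP hx, Subgroup.le_normalizer hx,
    φ ⟨x, hx⟩, by
      rw [hg]
      exact hgle (hQ ▸ conj_mem_cjS.mpr hx), fun y hy => by
      rw [hg, hg, hg]; group⟩
  obtain ⟨fE, hfE, hfEle⟩ := SubpairLE.exists_nSub_mid hM he hf0 hREx
    (fun n hn => (hEle n hn).1.1) (fun n hn => (hEle n hn).1.2)
  have hN1 : NSub p M Q f (cjS g E) (conjBlock E g fE) := by
    have h1 : NSub p M (cjP g (⟨R, f0⟩ : BrauerPairIdx G)).1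
        (cjP g (⟨R, f0⟩ : BrauerPairIdx G)).2 (cjS g E) (conjBlock E g fE) := hfE.conj hM g
    rw [hgf0] at h1
    exact h1
  have hN1T : cjS g E ≤ T := by
    rintro _ ⟨n, hn, rfl⟩
    exact (hEle n hn).2
  obtain ⟨D1, d1, hD1T, hd1, hd1le, hD1⟩ := hL.exists_defect_above hM hco _ hN1T _ hN1
  obtain ⟨c, hc⟩ := defectGroup_conj hM hL.block hD1 hdefT
  have hc' : cjS (c : G) D1 = P ⊓ T := by
    have := congrArg (Subgroup.map T.subtype) hc
    rw [Subgroup.map_map, Subgroup.map_subgroupOf_eq_of_le inf_le_right] at this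
    rw [← this]
    conv_lhs => rw [← Subgroup.map_subgroupOf_eq_of_le hD1T]
    show Subgroup.map _ (Subgroup.map _ _) = _
    rw [Subgroup.map_map]
    rfl
  obtain ⟨gPT, hgPT, hgPTle⟩ := SubpairLE.exists_nSub_mid hM he hle
    (le_inf hgle hQT) inf_le_left (inf_le_right.trans hTN)
  have hfix : ∀ t ∈ T, cjP t ⟨Q, f⟩ = (⟨Q, f⟩ : BrauerPairIdx G) := fun t ht =>
    conjBlock_eq_of_mem hM hf.2 (hTN ht) (cinv_iff_cj.mp hst t ht)
  have hd1' : NSub p M Q f (cjS (c : G) D1) (conjBlock D1 c d1) := by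
    have h1 : NSub p M (cjP (c : G) (⟨Q, f⟩ : BrauerPairIdx G)).1
        (cjP (c : G) (⟨Q, f⟩ : BrauerPairIdx G)).2 (cjS (c : G) D1) (conjBlock D1 c d1) :=
      hd1.conj hM (c : G)
    rw [hfix _ c.2] at h1
    exact h1
  have hex : ∃ t ∈ T, Below p M P e (cjP t ⟨cjS g E, conjBlock E g fE⟩) := by
    have key : ∀ (D' : Subgroup G) (d' : Set (IrrCharacter (CQ D'))), D' = P ⊓ T →
        NSub p M Q f D' d' → ∃ n ∈ T, Below p M P e (cjP n ⟨D', d'⟩) := by
      rintro D' d' rfl hd'
      obtain ⟨n, hn, hne⟩ := hL.exists_conj_defect hM hco inf_le_right hdefT hd' hgPT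
      exact ⟨n, hn, by rw [hne]; exact hgPTle⟩
    obtain ⟨n, hn, hne⟩ := key _ _ hc' hd1'
    refine ⟨n * c, mul_mem hn c.2, ?_⟩
    have h1 : Relation.ReflTransGen (NormalSubpairRel p M)
        (cjP (n * c) ⟨cjS g E, conjBlock E g fE⟩) (cjP (n * c) ⟨D1, d1⟩) :=
      SubpairLE.conj hM _ hd1le
    refine h1.trans ?_
    rw [← cjP_cjP hM n c hd1.pairR.2]
    exact hne
  obtain ⟨t, ht, htb⟩ := hex
  -- split off an element of `P`
  have hT2 : ∃ u ∈ P, ∃ z ∈ CQ Q, t = u * z := by
    have hN : P ⊓ Subgroup.normalizer (Q : Set G) ≤ Subgroup.normalizer (CQ Q : Set G) := fun u hu => by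
      rw [Subgroup.mem_normalizer_iff]
      exact fun h => cq_conj_iff hu.2 h
    have ht' : t ∈ ((P ⊓ Subgroup.normalizer (Q : Set G)) ⊔ CQ Q : Subgroup G) := ht
    rw [← SetLike.mem_coe, Subgroup.coe_mul_of_left_le_normalizer_right _ _ hN] at ht'
    obtain ⟨u, hu, z, hz, rfl⟩ := ht'
    exact ⟨u, hu.1, z, hz, rfl⟩
  obtain ⟨u, hu, z, hz, rfl⟩ := hT2
  have hb : Below p M P e (cjP (u⁻¹ * (u * z) * g) ⟨E, fE⟩) := by
    have h1 := below_conj hM htb (cjP_top_of_mem hM he (inv_mem hu))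
    have e1 : cjP (u * z) (⟨cjS g E, conjBlock E g fE⟩ : BrauerPairIdx G) =
        cjP (u * z * g) ⟨E, fE⟩ := cjP_cjP hM (u * z) g hfE.pairR.2
    rw [e1, cjP_cjP hM u⁻¹ _ hfE.pairR.2, ← mul_assoc] at h1
    exact h1
  rw [inv_mul_cancel_left] at hb
  exact ⟨z, hz, fE, hfEle, hb⟩

theorem receptive_of_defect (hM : IsPModular p M) {B : Set (IrrCharacter G)}
    {F : FusionSystem P} (hF : IsBlockFusionSystemOn p M B P e F)
    (hfc : F.IsFullyCentralized Q) : F.IsReceptive Q := by
  classical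
  have he := hF.1.1.1
  refine ⟨hfc.1, fun R φ hφ hrange => ?_⟩
  obtain ⟨hRP, g, hg, hgle, f0, hf0, hgf0⟩ := (hF.2 R φ).mp hφ
  obtain rfl : cjS g R = Q := (range_eq_cjS hg).symm.trans hrange
  obtain ⟨z, hz, fE, hfEle, hb⟩ := exists_extension hM he hg hRP hf0 (Q := cjS g R)
    (f := conjBlock R g f0) rfl hgf0 ((isFullyCentralized_iff hM hF hgf0).mp hfc)
  refine ⟨(MulAut.conj (z * g)).toMonoidHom.comp (extender P R φ).subtype, (hF.2 _ _).mpr
    ⟨SubpairLE.le hfEle, z * g, fun _ => rfl, SubpairLE.le hb, fE, hfEle, hb⟩,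
    fun x hR hN => ?_⟩
  rw [hg]
  simp only [MonoidHom.comp_apply, MulEquiv.coe_toMonoidHom, MulAut.conj_apply, Subgroup.coe_subtype]
  have hcz : (g * x * g⁻¹) * z = z * (g * x * g⁻¹) :=
    Subgroup.mem_centralizer_iff.mp hz _ (conj_mem_cjS.mpr hR)
  calc z * g * x * (z * g)⁻¹ = (z * (g * x * g⁻¹)) * z⁻¹ := by group
    _ = g * x * g⁻¹ := by rw [← hcz, mul_inv_cancel_right]

/-- Fully normalized subgroups are fully centralized. -/
theorem isFullyCentralized_of_fullyNormalized (hM : IsPModular p M) {B : Set (IrrCharacter G)}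
    {F : FusionSystem P} (hF : IsBlockFusionSystemOn p M B P e F)
    (hfn : F.IsFullyNormalized Q) : F.IsFullyCentralized Q := by
  classical
  have hmax := hF.1
  have he := hmax.1.1
  obtain ⟨f, hf, hle⟩ := exists_subpairLE hM he Q hfn.1
  obtain ⟨T, hT⟩ := exists_stab_subgroup hM hf.2
  obtain ⟨FT, hL, -⟩ := exists_stabilizerBlock hM hf hT
  have hdefT := (isFullyNormalized_iff hM hF hle hT hL).mp hfn
  rw [← inf_stabilizer_eq hM he hle hf hT] at hdefT
  have hLC := isLocalBlock_self (M := M) (Q := Q) hf.2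
  refine (isFullyCentralized_iff hM hF hle).mpr ?_
  obtain ⟨D, hD⟩ := exists_defectGroup hM hLC.block
  refine isDefectGroup_of_conjLE_card hM hLC.block hD (hLC.inf_conjLE hM hf he hle hD) ?_
  set D' := D.map (CQ Q).subtype with hD'
  have hD'T : D' ≤ T := (Subgroup.map_subtype_le D).trans hL.le
  have hpD := isPGroup_defectGroup hM hLC.block hD
  obtain ⟨gD, hgD⟩ := (hLC.conjLE_iff hM hf hD hpD).mp (conjLE_of_le le_rfl)
  have hc : ConjLE (D'.subgroupOf T) ((P ⊓ T).subgroupOf T) := by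
    refine (hL.conjLE_iff hM hf hdefT
      ((hpD.map _).of_equiv (Subgroup.subgroupOfEquivOfLe hD'T).symm)).mpr ?_
    rw [Subgroup.map_subgroupOf_eq_of_le hD'T]
    exact ⟨gD, hgD⟩
  obtain ⟨c, hc⟩ := hc
  have h1 : cjS (c : G) D' ≤ P ⊓ CQ Q := by
    rintro _ ⟨u, hu, rfl⟩
    have h2 : (c * ⟨u, hD'T hu⟩ * c⁻¹ : T) ∈ (P ⊓ T).subgroupOf T := hc ⟨⟨u, hD'T hu⟩, hu, rfl⟩
    exact ⟨(Subgroup.mem_subgroupOf.mp h2).1,
      (cq_conj_iff (hL.norm c.2) u).mp (Subgroup.map_subtype_le D hu)⟩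
  have h3 := Subgroup.card_le_of_le h1
  rw [card_cjS, hD', Subgroup.card_map_of_injective Subtype.val_injective] at h3
  exact h3.trans (card_subgroupOf_inf P (CQ Q)).ge

/-- The automorphisms of `P` in the system are induced by the stabilizer of `e`. -/
theorem mem_autGroup_top_iff (hM : IsPModular p M) {B : Set (IrrCharacter G)}
    {F : FusionSystem P} (hF : IsBlockFusionSystemOn p M B P e F) {T : Subgroup G}
    (hT : ∀ y, y ∈ T ↔ y ∈ Subgroup.normalizer (P : Set G) ∧ StabilizesBlock (CQ P) e y)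
    {α : MulAut P} :
    α ∈ F.autGroup P ↔ ∃ y ∈ T, ∀ x : P, ((α x : P) : G) = y * x * y⁻¹ := by
  classical
  have he := hF.1.1.1
  constructor
  · intro hα
    induction hα using Subgroup.closure_induction with
    | mem β hβ =>
      obtain ⟨-, g, hg, -, f, hf, hgf⟩ := (hF.2 P _).mp hβ
      obtain rfl : f = e := SubpairLE.unique hM he hf Relation.ReflTransGen.refl
      have hn : cjS g P = P := by
        rw [← range_eq_cjS hg]
        ext y
        simp only [MonoidHom.mem_range, MonoidHom.comp_apply, Subgroup.coe_subtype,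
          MulEquiv.coe_toMonoidHom]
        exact ⟨fun ⟨x, hx⟩ => hx ▸ (β x).2,
          fun hy => ⟨β.symm ⟨y, hy⟩, by rw [MulEquiv.apply_symm_apply]⟩⟩
      have hgN := mem_normalizer_of_cjS_eq hn
      refine ⟨g, (hT g).mpr ⟨hgN, (stabilizesBlock_iff hM hgN he.2).mpr ?_⟩, fun x => hg x⟩
      rw [← eG_conjBlock g f]
      have key : ∀ (S : Subgroup G) (h : Set (IrrCharacter (CQ S))), S = P →
          SubpairLE p M S h P f → eG M h = eG M f := by
        rintro S h rfl hS
        rw [SubpairLE.unique hM he hS Relation.ReflTransGen.refl]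
      exact key _ _ hn hgf
    | one => exact ⟨1, one_mem _, by simp⟩
    | mul a b _ _ ha hb =>
      obtain ⟨y, hy, ha⟩ := ha
      obtain ⟨y', hy', hb⟩ := hb
      exact ⟨y * y', mul_mem hy hy', fun x => by
        rw [MulAut.mul_apply, ha, hb]; group⟩
    | inv a _ ha =>
      obtain ⟨y, hy, ha⟩ := ha
      refine ⟨y⁻¹, inv_mem hy, fun x => ?_⟩
      have h1 := ha (a⁻¹ x)
      rw [MulAut.apply_inv_self] at h1
      rw [h1]; group
  · rintro ⟨y, hy, hα⟩
    refine Subgroup.subset_closure ((hF.2 P _).mpr ⟨le_rfl, y, hα, ?_, e,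
      Relation.ReflTransGen.refl, ?_⟩)
    · exact (cjS_eq_of_mem_normalizer ((hT y).mp hy).1).le
    · show Below p M P e (cjP y ⟨P, e⟩)
      rw [conjBlock_eq_of_mem hM he.2 ((hT y).mp hy).1
        ((stabilizesBlock_iff hM ((hT y).mp hy).1 he.2).mp ((hT y).mp hy).2)]
      exact Relation.ReflTransGen.refl

theorem fullyAutomized_top (hM : IsPModular p M) {B : Set (IrrCharacter G)}
    {F : FusionSystem P} (hF : IsBlockFusionSystemOn p M B P e F) : F.IsFullyAutomized p P := by
  classical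
  have hpf : Fact p.Prime := ⟨hM.1⟩
  have hmax := hF.1
  have he := hmax.1.1
  obtain ⟨T, hT⟩ := exists_stab_subgroup hM he.2
  obtain ⟨FT, hL, -⟩ := exists_stabilizerBlock hM he hT
  have hPT : P ≤ T := fun u hu => (hT u).mpr ⟨Subgroup.le_normalizer hu,
    (stabilizesBlock_iff hM (Subgroup.le_normalizer hu) he.2).mpr
      (cinv_iff_cj.mp (cinv_self_eG e) u hu)⟩
  have hdef : IsDefectGroup p M FT (P.subgroupOf T) := by
    obtain ⟨D, hD⟩ := exists_defectGroup hM hL.block
    obtain ⟨x, hx, hDx⟩ := hL.exists_conj_le hM he hmax Relation.ReflTransGen.refl hD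
    have h1 := hL.inf_conjLE hM he he Relation.ReflTransGen.refl hD
    rw [inf_eq_left.mpr hPT] at h1
    refine isDefectGroup_of_conjLE_card hM hL.block hD h1 ?_
    have h2 := Subgroup.card_le_of_le hDx
    rw [card_cjS, Subgroup.card_map_of_injective Subtype.val_injective] at h2
    rwa [card_subgroupOf_eq hPT]
  refine ⟨le_rfl, ?_⟩
  have hle : autInducedBy P P ≤ F.autGroup P := by
    rw [← CfsgLib.Fusion.inn_eq_autInducedBy]
    exact CfsgLib.Fusion.inn_le_autGroup le_rfl
  have hInd : ∀ α, α ∈ autInducedBy P P ↔ ∃ u ∈ P, ∀ x : P, ((α x : P) : G) = u * x * u⁻¹ := by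
    intro α
    rw [CfsgLib.Fusion.mem_autInducedBy_iff]
    refine exists_congr fun u => and_congr_right fun _ => ?_
    exact ⟨fun h x => (CfsgLib.Fusion.autFun_coe α x).symm.trans (h x x.2),
      fun h x hx => (CfsgLib.Fusion.autFun_coe α ⟨x, hx⟩).trans (h ⟨x, hx⟩)⟩
  have hpI : IsPGroup p (autInducedBy P P) := by
    intro α
    obtain ⟨u, hu, hα⟩ := (hInd α).mp α.2
    obtain ⟨k, hk⟩ := he.1 ⟨u, hu⟩
    refine ⟨k, Subtype.ext (MulEquiv.ext fun x => Subtype.ext ?_)⟩
    have hpow : ∀ n : ℕ, ((((α : MulAut P) ^ n) x : P) : G) = u ^ n * x * (u ^ n)⁻¹ := by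
      intro n
      induction n with
      | zero => simp
      | succ n ih => rw [pow_succ', MulAut.mul_apply, hα, ih, pow_succ']; group
    rw [SubmonoidClass.coe_pow, hpow]
    have hk' : u ^ p ^ k = 1 := congrArg Subtype.val hk
    simp [hk']
  refine ⟨⟨(autInducedBy P P).subgroupOf (F.autGroup P),
    hpI.of_equiv (Subgroup.subgroupOfEquivOfLe hle).symm, fun {S} hS hle' => ?_⟩, rfl⟩
  refine le_antisymm (fun s hs => ?_) hle'
  obtain ⟨y, hy, hsy⟩ := (mem_autGroup_top_iff hM hF hT).mp s.2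
  obtain ⟨k, hk⟩ := hS ⟨s, hs⟩
  have hsk : (s : MulAut P) ^ p ^ k = 1 := congrArg Subtype.val (congrArg Subtype.val hk)
  -- replace `y` by a `p`-element inducing the same automorphism
  set a := (orderOf y).factorization p
  set m := ordCompl[p] (orderOf y) with hm
  have hy0 : orderOf y ≠ 0 := (orderOf_pos y).ne'
  obtain ⟨j, -, hj⟩ := Nat.exists_mul_mod_eq_one_of_coprime
    (n := m) (k := p ^ (a + k + 1)) ((Nat.coprime_ordCompl hM.1 hy0).symm.pow_right _)
    (Nat.one_lt_pow (by omega) hM.1.one_lt)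
  have hpow : ∀ n : ℕ, ∀ x : P, ((((s : MulAut P) ^ n) x : P) : G) = y ^ n * x * (y ^ n)⁻¹ := by
    intro n x
    induction n with
    | zero => simp
    | succ n ih => rw [pow_succ', MulAut.mul_apply, hsy, ih, pow_succ']; group
  have hse : (s : MulAut P) ^ (m * j) = s := by
    rw [← Nat.div_add_mod (m * j) (p ^ (a + k + 1)), hj, pow_succ, pow_mul,
      show a + k + 1 = k + (a + 1) by ring, pow_add, pow_mul, hsk]
    simp
  have hord : (y ^ (m * j)) ^ p ^ a = 1 := by
    rw [← pow_mul, show m * j * p ^ a = (p ^ a * m) * j by ring, pow_mul,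
      Nat.ordProj_mul_ordCompl_eq_self, pow_orderOf_eq_one, one_pow]
  obtain ⟨a', -, ha'⟩ := (Nat.dvd_prime_pow hM.1).mp (orderOf_dvd_of_pow_eq_one hord)
  have hmem := hL.pElement_le hM he hPT hdef (pow_mem hy _) ha'
  rw [← SetLike.mem_coe, Subgroup.coe_mul_of_left_le_normalizer_right _ _ (fun v hv => by
    rw [Subgroup.mem_normalizer_iff]
    exact fun h => cq_conj_iff (Subgroup.le_normalizer hv) h)] at hmem
  obtain ⟨v, hv, z, hz, hvz⟩ := hmem
  refine (hInd _).mpr ⟨v, hv, fun x => ?_⟩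
  have h1 := hpow (m * j) x
  rw [hse, ← hvz] at h1
  show (((s : MulAut P) x : P) : G) = _
  rw [h1]
  have hzx : z * (x : G) = (x : G) * z := (Subgroup.mem_centralizer_iff.mp hz _ x.2).symm
  calc v * z * (x : G) * (v * z)⁻¹ = v * (z * (x : G)) * z⁻¹ * v⁻¹ := by group
    _ = v * (x : G) * v⁻¹ := by rw [hzx]; group

theorem isSaturated_blockFusion (hM : IsPModular p M) {B : Set (IrrCharacter G)}
    {F : FusionSystem P} (hF : IsBlockFusionSystemOn p M B P e F) : F.IsSaturated p := by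
  have hpf : Fact p.Prime := ⟨hM.1⟩
  exact CfsgLib.Fusion.isSaturated_of_top hF.1.1.1.1 (fullyAutomized_top hM hF)
    fun Q hQ => receptive_of_defect hM hF (isFullyCentralized_of_fullyNormalized hM hF hQ)

/-- Automorphisms in the system come from the stabilizer of the pair. -/
theorem exists_of_mem_autGroup (hM : IsPModular p M) {B : Set (IrrCharacter G)}
    {F : FusionSystem P} (hF : IsBlockFusionSystemOn p M B P e F) (hRP : R ≤ P) {α : MulAut R}
    (hα : α ∈ F.autGroup R) :
    ∃ f : Set (IrrCharacter (CQ R)), SubpairLE p M R f P e ∧ ∃ y ∈ Subgroup.normalizer (R : Set G),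
      StabilizesBlock (CQ R) f y ∧ ∀ x : R, ((α x : R) : G) = y * x * y⁻¹ := by
  classical
  have he := hF.1.1.1
  obtain ⟨φ, hφ, hφα⟩ := (CfsgLib.Fusion.mem_autGroup_iff hRP).mp hα
  obtain ⟨-, g, hg, -, f, hf, hgf⟩ := (hF.2 R φ).mp hφ
  have hval : ∀ x : R, ((α x : R) : G) = g * x * g⁻¹ := fun x => by
    rw [← hg x, hφα x, CfsgLib.Fusion.autFun_coe]
  have hn : cjS g R = R := by
    ext y
    rw [mem_cjS]
    constructor
    · intro h
      have h1 := (α ⟨_, h⟩).2
      rw [hval] at h1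
      simpa [mul_assoc] using h1
    · intro hy
      have h1 := hval (α.symm ⟨y, hy⟩)
      rw [MulEquiv.apply_symm_apply] at h1
      have h2 : g⁻¹ * y * g = ((α.symm ⟨y, hy⟩ : R) : G) :=
        (congrArg (g⁻¹ * · * g) h1).trans (by group)
      rw [h2]
      exact (α.symm ⟨y, hy⟩).2
  have hgN := mem_normalizer_of_cjS_eq hn
  have hfb := isBrauerPair_of_below hM he hf
  refine ⟨f, hf, g, hgN, (stabilizesBlock_iff hM hgN hfb.2).mpr ?_, hval⟩
  rw [← eG_conjBlock g f]
  have key : ∀ (S : Subgroup G) (h : Set (IrrCharacter (CQ S))), S = R →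
      SubpairLE p M S h P e → eG M h = eG M f := by
    rintro S h rfl hS
    rw [SubpairLE.unique hM he hS hf]
  exact key _ _ hn hgf

/-- A block is nilpotent exactly when its fusion system is that of `P`. -/
theorem isNilpotentBlock_iff_inner (hM : IsPModular p M) {B : Set (IrrCharacter G)}
    {F : FusionSystem P} (hF : IsBlockFusionSystemOn p M B P e F) :
    IsNilpotentBlock p M B ↔ ∀ Q : Subgroup G, F.Hom Q = (innerFusionSystem P).Hom Q := by
  classical
  have hpf : Fact p.Prime := ⟨hM.1⟩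
  have hmax := hF.1
  have he := hmax.1.1
  constructor
  · intro hnil
    have hS := isSaturated_blockFusion hM hF
    have hle : F ≤ innerFusionSystem P := by
      refine CfsgLib.Fusion.le_of_autGroup_le he.1 hS fun R hR => ?_
      have hfn : F.IsFullyNormalized R := by
        rcases hR with rfl | hR
        · exact CfsgLib.Fusion.isFullyNormalized_self
        · exact hR.2.1
      have hauto : F.IsFullyAutomized p R := by
        refine CfsgLib.Fusion.fullyAutomized_of_top he.1 (fullyAutomized_top hM hF) (fun Q hQ =>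
          receptive_of_defect hM hF (isFullyCentralized_of_fullyNormalized hM hF hQ)) R hfn
      have hRP := hfn.1
      have hp : IsPGroup p (F.autGroup R) := by
        intro α
        obtain ⟨f, hf, y, hyN, hyS, hval⟩ := exists_of_mem_autGroup hM hF hRP α.2
        have hBf : IsBrauerPairOf p M B R f := (SubpairLE.isBrauerPairOf_iff hM hf).mp hmax.1
        set a := (orderOf y).factorization p
        have hy0 : orderOf y ≠ 0 := (orderOf_pos y).ne'
        obtain ⟨T, hT⟩ := exists_stab_subgroup hM hBf.1.2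
        have hyT : y ^ p ^ a ∈ T := pow_mem ((hT y).mpr ⟨hyN, hyS⟩) _
        have hreg : IsPRegular p (y ^ p ^ a) := by
          intro hd
          rw [orderOf_pow_of_dvd (pow_ne_zero _ hM.1.ne_zero) (Nat.ordProj_dvd _ _)] at hd
          exact Nat.not_dvd_ordCompl hM.1 hy0 hd
        have hcen := hnil.2 R f hBf _ ((hT _).mp hyT).1 ((hT _).mp hyT).2 hreg
        refine ⟨a, Subtype.ext (MulEquiv.ext fun x => Subtype.ext ?_)⟩
        have hpow : ∀ n : ℕ, ((((α : MulAut R) ^ n) x : R) : G) = y ^ n * x * (y ^ n)⁻¹ := by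
          intro n
          induction n with
          | zero => simp
          | succ n ih => rw [pow_succ', MulAut.mul_apply, hval, ih, pow_succ']; group
        rw [SubmonoidClass.coe_pow, hpow, ← Subgroup.mem_centralizer_iff.mp hcen _ x.2]
        simp
      obtain ⟨-, S, hS'⟩ := hauto
      have htop : (S : Subgroup (F.autGroup R)) = ⊤ := by
        refine (S.is_maximal' ?_ le_top).symm
        exact hp.to_subgroup ⊤
      intro α hα
      have hmem : (⟨α, hα⟩ : F.autGroup R) ∈ (autInducedBy P R).subgroupOf (F.autGroup R) := by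
        rw [← hS', htop]; trivial
      obtain ⟨u, hu, huα⟩ := CfsgLib.Fusion.mem_autInducedBy_iff.mp (Subgroup.mem_subgroupOf.mp hmem)
      refine Subgroup.subset_closure ⟨hRP, u, hu, fun x => ?_⟩
      exact (CfsgLib.Fusion.autFun_coe α x).symm.trans (huα x x.2)
    intro Q
    refine Set.Subset.antisymm (hle Q) ?_
    rintro φ ⟨hQ, u, hu, hφ⟩
    have := F.conj_mem hQ hu
    rwa [show φ = conjHom Q u from MonoidHom.ext fun x => hφ x]
  · intro hin
    refine ⟨hmax.1.2.1, fun Q f hQf y hyN hyS hreg => ?_⟩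
    obtain ⟨x, hx⟩ := exists_conj_subpairLE hM hmax hQf
    have hxb := isBrauerPair_of_below hM he hx
    set y' := x * y * x⁻¹ with hy'
    have hy'N : y' ∈ Subgroup.normalizer (cjS x Q : Set G) := by
      rw [mem_normalizer_cjS_iff]; simpa [hy', mul_assoc] using hyN
    have hfix : cjP y' ⟨cjS x Q, conjBlock Q x f⟩ =
        (⟨cjS x Q, conjBlock Q x f⟩ : BrauerPairIdx G) := by
      refine conjBlock_eq_of_mem hM hxb.2 hy'N ?_
      rw [show eG M (conjBlock Q x f : Set (IrrCharacter (CQ (cjS x Q)))) = cj x (eG M f) from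
        eG_conjBlock x f, cj_cj, hy', inv_mul_cancel_right, ← cj_cj,
        (stabilizesBlock_iff hM hyN hQf.1.2).mp hyS]
    have hmap : conjHom (cjS x Q) y' ∈ F.Hom (cjS x Q) :=
      (hF.2 _ _).mpr ⟨SubpairLE.le hx, y', fun _ => rfl,
        (cjS_eq_of_mem_normalizer hy'N).trans_le (SubpairLE.le hx), _, hx,
        show Below p M P e (cjP y' ⟨cjS x Q, conjBlock Q x f⟩) by rw [hfix]; exact hx⟩
    rw [hin] at hmap
    obtain ⟨-, u, hu, huy⟩ := hmap
    rw [Subgroup.mem_centralizer_iff]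
    intro q hq
    obtain ⟨k, hk⟩ := he.1 ⟨u, hu⟩
    have hk' : u ^ p ^ k = 1 := congrArg Subtype.val hk
    -- both induce the same automorphism
    have hiter : ∀ n : ℕ, ∀ w ∈ cjS x Q, y' ^ n * w * (y' ^ n)⁻¹ = u ^ n * w * (u ^ n)⁻¹ := by
      intro n
      induction n with
      | zero => simp
      | succ n ih =>
        intro w hw
        have h1 : y' * w * y'⁻¹ = u * w * u⁻¹ := huy ⟨w, hw⟩
        have h2 := ih (y' * w * y'⁻¹) ((Subgroup.mem_normalizer_iff.mp hy'N w).mp hw)
        rw [pow_succ, pow_succ]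
        calc y' ^ n * y' * w * (y' ^ n * y')⁻¹ = y' ^ n * (y' * w * y'⁻¹) * (y' ^ n)⁻¹ := by group
          _ = u ^ n * (u * w * u⁻¹) * (u ^ n)⁻¹ := by rw [h2, h1]
          _ = u ^ n * u * w * (u ^ n * u)⁻¹ := by group
    have hcop : (p ^ k).Coprime (orderOf y') := by
      rw [hy', orderOf_conj_eq]
      exact (hM.1.coprime_iff_not_dvd.mpr hreg).pow_left _
    rcases Nat.lt_or_ge 1 (orderOf y') with h1 | h1
    · obtain ⟨j, -, hj⟩ := Nat.exists_mul_mod_eq_one_of_coprime hcop h1
      have h2 := hiter (p ^ k * j) (x * q * x⁻¹) (conj_mem_cjS.mpr hq)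
      rw [← pow_mod_orderOf, hj, pow_one, pow_mul u, hk', one_pow, one_mul, inv_one, mul_one, hy']
        at h2
      have h3 : y * q * y⁻¹ = q := by
        calc y * q * y⁻¹ = x⁻¹ * ((x * y * x⁻¹) * (x * q * x⁻¹) * (x * y * x⁻¹)⁻¹) * x := by group
          _ = q := by rw [h2]; group
      exact (mul_inv_eq_iff_eq_mul.mp h3).symm
    · have : y' = 1 := orderOf_eq_one_iff.mp (le_antisymm h1 (orderOf_pos y'))
      rw [hy'] at this
      have hy1 : y = 1 := by
        calc y = x⁻¹ * (x * y * x⁻¹) * x := by group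
          _ = 1 := by rw [this]; group
      rw [hy1, one_mul, mul_one]

end CfsgLib.Block
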