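import Cfsg.Agent.Lib.Block.CentralDefect
import Cfsg.Agent.Lib.Block.Contrib
import Cfsg.Agent.Lib.Block.Correspondence
import Cfsg.Agent.Lib.Block.CycloTotPos
import Cfsg.Agent.Lib.Block.FusedSum
import Cfsg.Agent.Lib.Block.FusionSat

/-!
# Heights, the inertial index and the centre of a defect group

For a maximal pair `(P, e)` with inertial index `[T : P C(P)]` the height `h` of a member of the block
satisfies `p ^ h * |Z(P)| ≤ [T : P C(P)] * |P|`: the contributions of the major subsections at the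
elements of the centre are `p ^ h` times totally positive algebraic integers.
-/

open Finset MonoidAlgebra
open scoped ComplexConjugate

set_option linter.unusedSectionVars false

namespace CfsgLib.Block

open Cfsg
open Cfsg.FusionSystem (extender)
open scoped Pair

universe u

variable {p : ℕ} {M : Ideal AlgInt} [M.IsMaximal] {G : Type u} [Group G] [Fintype G] [DecidableEq G]
  [Fintype (IrrCharacter G)]

theorem eG_cjP_snd (n : G) (a : BrauerPairIdx G) : eG M (cjP n a).2 = cj n (eG M a.2) :=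
  eG_conjBlock n a.2

theorem eq_zero_of_sum_mul_conj {ι : Type*} {s : Finset ι} {f : ι → ℂ}
    (h : ∑ i ∈ s, f i * conj (f i) = 0) {i : ι} (hi : i ∈ s) : f i = 0 := by
  simp only [Complex.mul_conj, ← Complex.ofReal_sum, Complex.ofReal_eq_zero] at h
  exact Complex.normSq_eq_zero.mp
    ((Finset.sum_eq_zero_iff_of_nonneg fun i _ => Complex.normSq_nonneg _).mp h i hi)

/-- A block of `P C(P)` inducing `B` gives a pair on `P` with the same stabilizer. -/
theorem exists_pair_of_sup_block (hM : IsPModular p M) {P H : Subgroup G} (hP : IsPGroup p P)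
    (hH : H = P ⊔ Subgroup.centralizer (P : Set G)) {b : Set (IrrCharacter H)}
    {B : Set (IrrCharacter G)} (hind : IsInducedBlock M H b B) :
    ∃ e : Set (IrrCharacter (CQ P)), IsBrauerPairOf p M B P e ∧
      ∀ g ∈ Subgroup.normalizer (P : Set G), (StabilizesBlock (CQ P) e g ↔ ∀ θ ∈ b,
        ∀ θ' : IrrCharacter H, (∀ h h' : H, (h' : G) = g * h * g⁻¹ →
          (θ' : H → ℂ) h' = (θ : H → ℂ) h) → θ' ∈ b) := by
  classical
  have hpf : Fact p.Prime := ⟨hM.1⟩
  have := Fintype.ofFinite (IrrCharacter H)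
  have hb := hind.1
  have hPH : P ≤ H := hH ▸ le_sup_left
  have hCH : CQ P ≤ H := hH ▸ le_sup_right
  have hHN : H ≤ Subgroup.normalizer (P : Set G) :=
    hH ▸ sup_le Subgroup.le_normalizer (centralizer_le_normalizer' P)
  have hys : SuppIn (CQ P) (eG M b) := trC_eG_eq_self hM hP hPH hHN hb ▸ suppIn_trC _
  obtain ⟨g₀, hg₀⟩ : ∃ g, (eG M b).coeff g ≠ 0 := by
    by_contra hall
    push Not at hall
    obtain ⟨ξ, hξ⟩ := isPBlock_nonempty hb
    have h1 := omG_eG hM hb ξ
    rw [if_pos hξ, show eG M b = 0 from ga_ext fun g => by simp [hall g], omG_zero] at h1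
    exact zero_ne_one h1
  obtain ⟨η, hη⟩ :=
    exists_omG_eq_one hM hys ((cinv_eG b).mono hCH) (eG_mul_self hM hb) hg₀
  set e := blockOf M (η : CQ P → ℂ) with hedef
  have he : IsBrauerPair p M P e := ⟨hP, isPBlock_blockOf η⟩
  have hHfix : CInv H (eG M e) := by
    subst hH
    exact cinv_sup (cinv_self_eG e) (cinv_eG e)
  obtain ⟨F, hL, -⟩ := exists_localBlock hM hP hCH hPH hHN he.2 (cinv_iff_cj.mp hHfix)
  obtain rfl : F = b := by
    by_contra hne
    have h1 := eG_mul_eq_zero (G := G) hM hb hL.block (Ne.symm hne)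
    rw [hL.eq] at h1
    have h2 := omG_mul η hys (suppIn_eG e) ((cinv_eG b).mono hCH) (cinv_eG e)
    rw [h1, omG_zero, hη, omG_eG hM he.2, if_pos (self_mem_blockOf η), mul_one] at h2
    exact zero_ne_one h2
  obtain ⟨ξ, hξ⟩ := isPBlock_nonempty hb
  have hpair : IsBrauerPairOf p M B P e := by
    obtain ⟨-, hB, hω⟩ := isInducedBlock_iff.mp hind
    refine (isBrauerPairOf_iff_omG hM).mpr ⟨he, hB, fun η' hη' χ hχ z => ?_⟩
    rw [← hω ξ hξ χ hχ z, ← hL.omG_emb_eq hM he hPH hη' hξ]
    refine omG_congr η' fun g hg => ?_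
    rw [show g = ((⟨g, hCH hg⟩ : H) : G) from rfl, coeff_emb_coe, coeff_resHK]
  refine ⟨e, hpair, fun g hg => ?_⟩
  have hHconj : ∀ u, u ∈ H ↔ g * u * g⁻¹ ∈ H := by
    have hmap : ∀ m ∈ Subgroup.normalizer (P : Set G), ∀ u ∈ H, m * u * m⁻¹ ∈ H := by
      intro m hm u hu
      subst hH
      have h1 : cjS m (P ⊔ CQ P) ≤ P ⊔ CQ P := by
        show Subgroup.map _ _ ≤ _
        rw [Subgroup.map_sup]
        refine sup_le_sup (fun u hu => ?_) (fun u hu => ?_)
        · obtain ⟨v, hv, rfl⟩ := hu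
          exact (Subgroup.mem_normalizer_iff.mp hm v).mp hv
        · obtain ⟨v, hv, rfl⟩ := hu
          exact (cq_conj_iff hm v).mp hv
      exact h1 (conj_mem_cjS.mpr hu)
    exact fun u => ⟨hmap g hg u, fun h => by simpa [mul_assoc] using hmap _ (inv_mem hg) _ h⟩
  rw [stabilizesBlock_iff hM hg he.2, ← hL.eq, ← eG_conjSet hHconj]
  constructor
  · intro h θ hθ θ' hv
    rw [← eG_inj hM (isPBlock_conjSet hHconj hb) hb h]
    exact ⟨θ, hθ, hv⟩
  · intro h
    congr 1
    have hsub : conjSet g H H F ⊆ F := by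
      rintro θ' ⟨θ, hθ, hv⟩
      exact h θ hθ θ' hv
    obtain ⟨θ, hθ⟩ := isPBlock_nonempty (isPBlock_conjSet hHconj hb)
    exact isPBlock_eq_of_mem (isPBlock_conjSet hHconj hb) hb hθ (hsub hθ)

variable {B : Set (IrrCharacter G)} {P : Subgroup G} {e : Set (IrrCharacter (CQ P))}

/-- The subsections at the central elements of the defect group are major. -/
theorem exists_major_lowPair (hM : IsPModular p M) (hmax : IsMaximalBrauerPair p M B P e) {y : P}
    (hy : y ∈ Subgroup.center P) :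
    ∃ b : Set (IrrCharacter (CQ (Subgroup.zpowers (y : G)))),
      lowPair hM hmax.1.1 y = ⟨Subgroup.zpowers (y : G), b⟩ ∧
      IsInducedBlock M (CQ (Subgroup.zpowers (y : G))) b B ∧ blockDefect p b = blockDefect p B ∧
      P ≤ CQ (Subgroup.zpowers (y : G)) ∧
      IsDefectGroup p M b ((P ⊓ CQ (Subgroup.zpowers (y : G))).subgroupOf _) := by
  classical
  obtain ⟨b, hb⟩ := exists_eq_pairMk (a := lowPair hM hmax.1.1 y) (Q := Subgroup.zpowers (y : G)) rfl
  have hpair := lowPair_pairOf hM hmax y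
  have hle := lowPair_below hM hmax.1.1 y
  rw [hb] at hpair hle
  dsimp only at hpair
  have hPC : P ≤ CQ (Subgroup.zpowers (y : G)) := fun v hv =>
    mem_cq_zpowers_iff.mpr (congrArg Subtype.val (Subgroup.mem_center_iff.mp hy ⟨v, hv⟩))
  have hB := hmax.1.2.1
  have hind := (isBrauerPairOf_zpowers_iff hM hB (exists_pElement_orderOf hmax.1.1 y hM.1)).mp hpair
  have hL := isLocalBlock_self (M := M) (Q := Subgroup.zpowers (y : G)) hpair.1.2
  obtain ⟨D, hD⟩ := exists_defectGroup hM hpair.1.2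
  have h1 := hL.inf_conjLE hM hpair.1 hmax.1.1 hle hD
  obtain ⟨x, -, hx⟩ := hL.exists_conj_le hM hpair.1 hmax hle hD
  have h2 := Subgroup.card_le_of_le hx
  rw [card_cjS, Subgroup.card_map_of_injective Subtype.val_injective] at h2
  have hle' : Nat.card D ≤ Nat.card ((P ⊓ CQ (Subgroup.zpowers (y : G))).subgroupOf
      (CQ (Subgroup.zpowers (y : G)))) := by
    rwa [card_subgroupOf_inf, inf_eq_left.mpr hPC]
  have hdef := isDefectGroup_of_conjLE_card hM hpair.1.2 hD h1 hle'
  refine ⟨b, hb, hind, ?_, hPC, hdef⟩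
  have h3 := defectGroup_card hM hpair.1.2 hdef
  rw [card_subgroupOf_inf, inf_eq_left.mpr hPC,
    defectGroup_card hM hB (isDefectGroup_of_maximal hM hmax)] at h3
  exact (Nat.pow_right_injective hM.1.two_le h3).symm

/-- Central elements fused in the block are fused by the stabilizer of the maximal pair. -/
theorem exists_stab_of_fused_center (hM : IsPModular p M) (hmax : IsMaximalBrauerPair p M B P e)
    {y z : P} (hy : y ∈ Subgroup.center P) (hz : z ∈ Subgroup.center P)
    (h : z ∈ fusClass hM hmax.1.1 y) :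
    ∃ n : G, (n ∈ Subgroup.normalizer (P : Set G) ∧ StabilizesBlock (CQ P) e n) ∧
      n * (y : G) * n⁻¹ = (z : G) := by
  classical
  have he := hmax.1.1
  obtain ⟨g, hg, hgl⟩ := (mem_fusClass hM he).mp h
  obtain ⟨f0, hf0, -, -, hPR, -⟩ := exists_major_lowPair hM hmax hy
  obtain ⟨f, hf, -, -, -, hdef⟩ := exists_major_lowPair hM hmax hz
  have hle0 := lowPair_below hM he y
  have hle := lowPair_below hM he z
  rw [hf0, hf] at hgl
  rw [hf0] at hle0
  rw [hf] at hle
  let φ : Subgroup.zpowers (y : G) →* G :=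
    (MulAut.conj g).toMonoidHom.comp (Subgroup.zpowers (y : G)).subtype
  obtain ⟨w, hw, fE, hfE, hbelow⟩ := exists_extension hM he (φ := φ) (fun _ => rfl)
    (Subgroup.zpowers_le.mpr y.2) hle0 hgl hle hdef
  have hE : extender P (Subgroup.zpowers (y : G)) φ = P := by
    refine le_antisymm (fun v hv => (extender_bound (φ := φ) (g := g) (fun _ => rfl) rfl hv).1.1)
      fun v hv => Subgroup.subset_closure ⟨hv, centralizer_le_normalizer' _ (hPR hv), 1, one_mem _,
        fun x hx => ?_⟩
    have hc : v * (x : G) * v⁻¹ = (x : G) := by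
      rw [← Subgroup.mem_centralizer_iff.mp (hPR hv) x x.2, mul_inv_cancel_right]
    rw [one_mul, inv_one, mul_one]
    exact congrArg φ (Subtype.ext hc)
  have key : ∀ (E' : Subgroup G) (a : Set (IrrCharacter (CQ E'))), E' = P →
      SubpairLE p M E' a P e → Below p M P e (cjP (w * g) ⟨E', a⟩) →
      cjP (w * g) ⟨P, e⟩ = (⟨P, e⟩ : BrauerPairIdx G) := by
    intro E' a hE' h1 h2
    subst hE'
    obtain rfl := SubpairLE.eq_of_eq hM h1
    have h3 : cjS (w * g) E' = E' :=
      Subgroup.eq_of_le_of_card_ge (SubpairLE.le h2) (card_cjS (w * g) E').ge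
    obtain ⟨f', hf'⟩ := exists_eq_pairMk (a := cjP (w * g) (⟨E', a⟩ : BrauerPairIdx G)) h3
    rw [hf'] at h2 ⊢
    rw [SubpairLE.eq_of_eq hM h2]
  have hfix := key _ fE hE hfE hbelow
  have hN : w * g ∈ Subgroup.normalizer (P : Set G) :=
    mem_normalizer_of_cjS_eq (congrArg Sigma.fst hfix)
  refine ⟨w * g, ⟨hN, (stabilizesBlock_iff hM hN he.2).mpr ?_⟩, ?_⟩
  · have h5 := congrArg (fun a : BrauerPairIdx G => eG M a.2) hfix
    simp only [eG_cjP_snd] at h5
    exact h5
  · calc w * g * (y : G) * (w * g)⁻¹ = w * (g * (y : G) * g⁻¹) * w⁻¹ := by group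
      _ = (z : G) := by rw [hg, (mem_cq_zpowers_iff.mp hw).eq, mul_inv_cancel_right]

open scoped Classical in
/-- A class of the fusion meets the centre in at most the inertial index many elements. -/
theorem card_fusClass_center_le (hM : IsPModular p M) (hmax : IsMaximalBrauerPair p M B P e)
    {T : Subgroup G}
    (hT : ∀ g, g ∈ T ↔ g ∈ Subgroup.normalizer (P : Set G) ∧ StabilizesBlock (CQ P) e g) (y : P) :
    ((fusClass hM hmax.1.1 y).filter (· ∈ Subgroup.center P)).card ≤
      (P ⊔ CQ P).relIndex T := by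
  set S := (fusClass hM hmax.1.1 y).filter (· ∈ Subgroup.center P) with hS
  rcases S.eq_empty_or_nonempty with h0 | ⟨y₀, hy₀⟩
  · simp [h0]
  obtain ⟨hy₀f, hy₀c⟩ := Finset.mem_filter.mp hy₀
  have hex : ∀ z : S, ∃ n : T, (n : G) * (y₀ : G) * (n : G)⁻¹ = ((z : P) : G) := fun z => by
    obtain ⟨hzf, hzc⟩ := Finset.mem_filter.mp z.2
    rw [← fusClass_eq_of_mem hM hmax.1.1 hy₀f] at hzf
    obtain ⟨n, hn, hne⟩ := exists_stab_of_fused_center hM hmax hy₀c hzc hzf
    exact ⟨⟨n, (hT n).mpr hn⟩, hne⟩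
  choose n hn using hex
  have hfix : ∀ t ∈ P ⊔ CQ P, Commute t (y₀ : G) := by
    intro t ht
    refine mem_cq_zpowers_iff.mp (sup_le (fun v hv => ?_) (cq_mono (Subgroup.zpowers_le.mpr y₀.2)) ht)
    exact mem_cq_zpowers_iff.mpr (congrArg Subtype.val (Subgroup.mem_center_iff.mp hy₀c ⟨v, hv⟩))
  rw [← Fintype.card_coe, ← Nat.card_eq_fintype_card, Subgroup.relIndex, Subgroup.index]
  refine Nat.card_le_card_of_injective
    (fun z => ((n z : T) : T ⧸ (P ⊔ CQ P).subgroupOf T)) fun z z' hzz => Subtype.ext (Subtype.ext ?_)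
  have h1 := hfix _ (Subgroup.mem_subgroupOf.mp (QuotientGroup.eq.mp hzz))
  rw [← hn z, ← hn z']
  have h2 : ((n z : T) : G)⁻¹ * (n z' : G) * (y₀ : G) * (((n z : T) : G)⁻¹ * (n z' : G))⁻¹ = (y₀ : G) := by
    rw [mul_inv_eq_iff_eq_mul]
    simpa [Subgroup.coe_mul, Subgroup.coe_inv] using h1.eq
  calc ((n z : T) : G) * (y₀ : G) * ((n z : T) : G)⁻¹
      = ((n z : T) : G) * (((n z : T) : G)⁻¹ * (n z' : G) * (y₀ : G) *
          (((n z : T) : G)⁻¹ * (n z' : G))⁻¹) * ((n z : T) : G)⁻¹ := by rw [h2]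
    _ = (n z' : G) * (y₀ : G) * ((n z' : G))⁻¹ := by group

open scoped Classical in
/-- The diagonal contribution is the scaled squared norm of the part in the block. -/
theorem secContrib_self_eq_secSum (hM : IsPModular p M) {Q : Subgroup G}
    [Fintype (IrrCharacter (CQ Q))] {b : Set (IrrCharacter (CQ Q))} (hb : IsPBlock M b) {u : G}
    (hu : ∀ t : CQ Q, Commute (t : G) u) (χ : IrrCharacter G) :
    secContrib p u (CQ Q) b χ χ =
      (p : ℂ) ^ blockDefect p b * ((Nat.card (CQ Q) : ℂ)⁻¹ * secSum p χ χ u ⟨Q, b⟩) := by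
  have hS := IsBlockUnion.of_isPBlock hb
  set c : IrrCharacter (CQ Q) → ℂ := fun η => classInner (secFun u (CQ Q) χ) (η : CQ Q → ℂ) with hc
  have hexp : ∀ t, secFun u (CQ Q) χ t = ∑ η : IrrCharacter (CQ Q), c η * (η : CQ Q → ℂ) t := fun t => by
    have h := congrFun (Char.classFun_expand (isClassFunction_secFun hu χ)) t
    simpa only [Finset.sum_apply, Pi.smul_apply, smul_eq_mul] using h
  have hbp : ∀ t, blockPart b (secFun u (CQ Q) χ) t =
      ∑ η ∈ Finset.univ.filter (· ∈ b), c η * (η : CQ Q → ℂ) t := blockPart_secFun_eq hu hexp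
  rw [secContrib]
  congr 2
  refine Eq.trans ?_ (Finset.sum_bij (fun (w : CQ Q) _ => (w : G)) (fun w hw => ?_)
    (fun w _ w' _ h => Subtype.ext h) (fun s hs => ?_) fun w hw => ?_)
    (b := ∑ y ∈ Finset.univ.filter (fun y : CQ Q => ¬ p ∣ orderOf y),
      blockPart b (secFun u (CQ Q) χ) y * conj (blockPart b (secFun u (CQ Q) χ) y))
  · -- the other blocks are orthogonal on the regular elements
    rw [← sub_eq_zero, ← Finset.sum_sub_distrib]
    have hd : ∀ y, secFun u (CQ Q) χ y - blockPart b (secFun u (CQ Q) χ) y =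
        ∑ η ∈ Finset.univ.filter (fun η => η ∉ b), c η * (η : CQ Q → ℂ) y := fun y => by
      rw [hexp, hbp, ← Finset.sum_filter_add_sum_filter_not Finset.univ (· ∈ b), add_sub_cancel_left]
    rw [Finset.sum_congr rfl fun y _ => by rw [← sub_mul, hd]]
    simp only [hbp, map_sum, map_mul, Finset.sum_mul_sum]
    rw [Finset.sum_comm]
    refine Finset.sum_eq_zero fun η hη => ?_
    rw [Finset.sum_comm]
    refine Finset.sum_eq_zero fun ζ hζ => ?_
    have h0 : ∑ y ∈ Finset.univ.filter (fun y : CQ Q => ¬ p ∣ orderOf y),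
        (η : CQ Q → ℂ) y * conj ((ζ : CQ Q → ℂ) y) = 0 := by
      simp only [← Char.irr_inv ζ]
      rw [← card_mul_regInner, regInner_comm hM, regInner_eq_zero_of_not_mem hM hS
        (Finset.mem_filter.mp hζ).2 (Finset.mem_filter.mp hη).2, mul_zero]
    calc ∑ y ∈ Finset.univ.filter (fun y : CQ Q => ¬ p ∣ orderOf y),
          c η * (η : CQ Q → ℂ) y * (conj (c ζ) * conj ((ζ : CQ Q → ℂ) y))
        = c η * conj (c ζ) * ∑ y ∈ Finset.univ.filter (fun y : CQ Q => ¬ p ∣ orderOf y),
            (η : CQ Q → ℂ) y * conj ((ζ : CQ Q → ℂ) y) := by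
          rw [Finset.mul_sum]
          exact Finset.sum_congr rfl fun y _ => by ring
      _ = 0 := by rw [h0, mul_zero]
  · exact Finset.mem_filter.mpr ⟨Finset.mem_univ _, w.2, by
      rw [Subgroup.orderOf_coe]; exact (Finset.mem_filter.mp hw).2⟩
  · obtain ⟨-, hs1, hs2⟩ := Finset.mem_filter.mp hs
    exact ⟨⟨s, hs1⟩, Finset.mem_filter.mpr ⟨Finset.mem_univ _, by
      rwa [← Subgroup.orderOf_coe]⟩, rfl⟩
  · rw [secPart_eq_blockPart b hu]

/-- The automorphisms raise the element of a subsection to powers. -/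
theorem pAut_secContrib (hM : IsPModular p M) [hp : Fact p.Prime] {k : ℕ} {x : G} {C : Subgroup G}
    [Fintype (IrrCharacter C)] (hC : ∀ t : C, Commute (t : G) x) (hxC : x ∈ C)
    (hx : x ^ p ^ (k + 1) = 1) {a : ℕ} (ha : a.Coprime p) {b : Set (IrrCharacter C)}
    (hb : IsPBlock M b) (χ ψ : IrrCharacter G) :
    pAut p k a (secContrib p x C b χ ψ) = secContrib p (x ^ a) C b χ ψ := by
  classical
  set x' : C := ⟨x, hxC⟩ with hx'
  have hx'n : x' ^ p ^ (k + 1) = 1 := Subtype.ext (by simpa [hx'] using hx)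
  choose lam hlam hlamt using fun η : IrrCharacter C =>
    exists_central_scalar η (z := x') (fun t => Subtype.ext (hC t).symm.eq) hx'n
  have hpow : ∀ (η : IrrCharacter C) (n : ℕ) (t : C),
      (η : C → ℂ) (x' ^ n * t) = lam η ^ n * (η : C → ℂ) t := by
    intro η n
    induction n with
    | zero => simp
    | succ n ih => intro t; rw [pow_succ', mul_assoc, hlamt, ih, pow_succ', mul_assoc]
  have hsec : ∀ (n : ℕ) (θ : IrrCharacter G) (t : C), secFun (x ^ n) C θ t =
      ∑ η : IrrCharacter C, (resMult θ η : ℂ) * lam η ^ n * (η : C → ℂ) t := fun n θ t => by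
    show (θ : G → ℂ) (x ^ n * (t : G)) = _
    rw [show x ^ n * (t : G) = ((x' ^ n * t : C) : G) by simp [hx'], res_eq_sum_resMult]
    exact Finset.sum_congr rfl fun η _ => by rw [hpow]; ring
  have hsec1 : ∀ (θ : IrrCharacter G) (t : C), secFun x C θ t =
      ∑ η : IrrCharacter C, (resMult θ η : ℂ) * lam η * (η : C → ℂ) t := fun θ t => by
    have h := hsec 1 θ t
    simpa only [pow_one] using h
  rw [secContrib_eq_sum hM hb hC (hsec1 χ) (hsec1 ψ),
    secContrib_eq_sum hM hb (fun t => (hC t).pow_right a) (hsec a χ) (hsec a ψ)]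
  simp only [map_sum]
  refine Finset.sum_congr rfl fun η hη => Finset.sum_congr rfl fun ζ _ => ?_
  obtain ⟨z, hz, -⟩ := exists_scaled_regInner hM
    (le_degVal_add_blockDefect (p := p) (Finset.mem_filter.mp hη).2) ζ
  rw [hz, map_mul (starRingEnd ℂ), map_natCast, map_mul (starRingEnd ℂ), map_natCast, map_pow]
  simp only [map_mul, map_natCast, map_intCast]
  rw [pAut_root ha (hlam η), pAut_root ha (by rw [← map_pow, hlam ζ, map_one])]

open scoped Classical in
/-- The norm of the contribution of a subsection of a pair, divided by the order of the centralizer. -/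
noncomputable def secNorm (p : ℕ) (χ : IrrCharacter G) (u : G) (a : BrauerPairIdx G) : ℝ :=
  (∑ s ∈ Finset.univ.filter (fun s : G => s ∈ CQ a.1 ∧ ¬ p ∣ orderOf s),
    Complex.normSq (secPart χ u a s)) / Nat.card (CQ a.1)

theorem secNorm_nonneg (χ : IrrCharacter G) (u : G) (a : BrauerPairIdx G) : 0 ≤ secNorm p χ u a :=
  div_nonneg (Finset.sum_nonneg fun _ _ => Complex.normSq_nonneg _) (Nat.cast_nonneg _)

theorem coe_secNorm (χ : IrrCharacter G) (u : G) (a : BrauerPairIdx G) :
    (secNorm p χ u a : ℂ) = secSum p χ χ u a / (Nat.card (CQ a.1) : ℂ) := by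
  classical
  rw [secNorm, Complex.ofReal_div, Complex.ofReal_natCast, Complex.ofReal_sum, secSum]
  congr 1
  exact Finset.sum_congr rfl fun s _ => (Complex.mul_conj _).symm

theorem secNorm_cjP (χ : IrrCharacter G) (n u : G) (a : BrauerPairIdx G) :
    secNorm p χ (n * u * n⁻¹) (cjP n a) = secNorm p χ u a := by
  apply Complex.ofReal_injective
  rw [coe_secNorm, coe_secNorm, secSum_cjP]
  congr 2
  exact Nat.card_congr
    { toFun := fun t => ⟨n⁻¹ * t * n, inv_conj_mem_cq_iff.mp t.2⟩
      invFun := fun t => ⟨n * t * n⁻¹, inv_conj_mem_cq_iff.mpr (by simpa [mul_assoc] using t.2)⟩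
      left_inv := fun t => Subtype.ext (by simp [mul_assoc])
      right_inv := fun t => Subtype.ext (by simp [mul_assoc]) }

/-- The major contributions at the centre sum to at most the inertial index. -/
theorem sum_secNorm_center_le (hM : IsPModular p M) (hmax : IsMaximalBrauerPair p M B P e)
    {T : Subgroup G}
    (hT : ∀ g, g ∈ T ↔ g ∈ Subgroup.normalizer (P : Set G) ∧ StabilizesBlock (CQ P) e g)
    {χ : IrrCharacter G} (hχ : χ ∈ B) :
    ∑ z : Subgroup.center P, secNorm p χ ((z : P) : G) (lowPair hM hmax.1.1 (z : P)) ≤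
      ((P ⊔ CQ P).relIndex T : ℝ) := by
  classical
  have he := hmax.1.1
  set τ : P → ℝ := fun y => secNorm p χ (y : G) (lowPair hM he y) with hτ
  have hfus : ∀ y z : P, z ∈ fusClass hM he y → τ z = τ y := by
    intro y z hz
    obtain ⟨g, hg, hgl⟩ := (mem_fusClass hM he).mp hz
    simp only [hτ]
    rw [← hgl, ← hg, secNorm_cjP]
  have hsum : ∑ y : P, τ y / ((fusClass hM he y).card : ℝ) = 1 := by
    have h := sum_secSum_fused hM hmax hχ hχ
    rw [if_pos rfl] at h
    apply Complex.ofReal_injective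
    rw [Complex.ofReal_one, ← h, Complex.ofReal_sum]
    refine Finset.sum_congr rfl fun y _ => ?_
    rw [Complex.ofReal_div, Complex.ofReal_natCast, coe_secNorm, div_div]
    rfl
  set Z : Finset P := Finset.univ.filter (· ∈ Subgroup.center P) with hZ
  have h1 : ∑ z : Subgroup.center P, τ (z : P) = ∑ z ∈ Z, τ z := by
    rw [Finset.sum_subtype (p := fun z => z ∈ Subgroup.center P) Z (fun z => by simp [hZ]) τ]
  have h2 : ∑ z ∈ Z, τ z = ∑ y : P,
      (((fusClass hM he y).filter (· ∈ Subgroup.center P)).card : ℝ) *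
        (τ y / ((fusClass hM he y).card : ℝ)) := by
    have h3 : ∀ z ∈ Z, τ z = ∑ y : P,
        if z ∈ fusClass hM he y then τ y / ((fusClass hM he y).card : ℝ) else 0 := by
      intro z _
      have hs : Finset.univ.filter (fun y => z ∈ fusClass hM he y) = fusClass hM he z := by
        ext y
        simp only [Finset.mem_filter, Finset.mem_univ, true_and]
        exact ⟨fun h => fusClass_eq_of_mem hM he h ▸ self_mem_fusClass hM he y,
          fun h => fusClass_eq_of_mem hM he h ▸ self_mem_fusClass hM he z⟩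
      rw [← Finset.sum_filter, hs, Finset.sum_congr rfl fun y hy => by
        rw [hfus z y hy, fusClass_eq_of_mem hM he hy], Finset.sum_const, nsmul_eq_mul]
      have : ((fusClass hM he z).card : ℝ) ≠ 0 :=
        Nat.cast_ne_zero.mpr (Finset.card_pos.mpr ⟨z, self_mem_fusClass hM he z⟩).ne'
      field_simp
    rw [Finset.sum_congr rfl h3, Finset.sum_comm]
    refine Finset.sum_congr rfl fun y _ => ?_
    rw [← Finset.sum_filter, Finset.sum_const, nsmul_eq_mul]
    congr 3
    ext z
    simp [hZ, and_comm]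
  show ∑ z : Subgroup.center P, τ (z : P) ≤ _
  rw [h1, h2]
  calc _ ≤ ∑ y : P, ((P ⊔ CQ P).relIndex T : ℝ) * (τ y / ((fusClass hM he y).card : ℝ)) :=
        Finset.sum_le_sum fun y _ => mul_le_mul_of_nonneg_right
          (Nat.cast_le.mpr (card_fusClass_center_le hM hmax hT y))
          (div_nonneg (secNorm_nonneg χ _ _) (Nat.cast_nonneg _))
    _ = _ := by rw [← Finset.mul_sum, hsum, mul_one]

/-- The height, the inertial index and the centre of the defect group. -/
theorem pow_height_mul_card_center_le (hM : IsPModular p M) (hmax : IsMaximalBrauerPair p M B P e)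
    {T : Subgroup G}
    (hT : ∀ g, g ∈ T ↔ g ∈ Subgroup.normalizer (P : Set G) ∧ StabilizesBlock (CQ P) e g)
    {χ : IrrCharacter G} (hχ : χ ∈ B) :
    p ^ blockHeight p B (χ : G → ℂ) * Nat.card (Subgroup.center P) ≤
      (P ⊔ CQ P).relIndex T * p ^ blockDefect p B := by
  classical
  have hp : Fact p.Prime := ⟨hM.1⟩
  have he := hmax.1.1
  have hB := hmax.1.2.1
  set d := blockDefect p B with hd
  set h := blockHeight p B (χ : G → ℂ) with hh
  have hcard : Nat.card P = p ^ d := defectGroup_card hM hB (isDefectGroup_of_maximal hM hmax)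
  obtain ⟨ψ, hψ, hψ0⟩ := exists_height_zero hM hB
  have hp0 : (p : ℂ) ≠ 0 := Nat.cast_ne_zero.mpr hM.1.ne_zero
  have hpr : (0 : ℝ) < (p : ℝ) := Nat.cast_pos.mpr hM.1.pos
  set n := p ^ (d + 1) with hn
  have : NeZero n := ⟨pow_ne_zero _ hM.1.ne_zero⟩
  set W : Subgroup.center P → ℝ := fun z =>
    (p : ℝ) ^ d * secNorm p χ ((z : P) : G) (lowPair hM he (z : P)) / (p : ℝ) ^ h with hW
  have hpos : ∀ z, 0 < W z ∧ (W z : ℂ) ∈ cycInt (p ^ (d + 1)) ∧
      ∀ a : ℕ, a.Coprime p → pAut p d a (W z : ℂ) = (W (z ^ a) : ℂ) := by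
    rintro ⟨z, hz⟩
    obtain ⟨b, hb, hind, hbd, -, -⟩ := exists_major_lowPair hM hmax hz
    have := Fintype.ofFinite (IrrCharacter (CQ (Subgroup.zpowers (z : G))))
    obtain ⟨k, hk⟩ := exists_pElement_orderOf he z hM.1
    have hkd : k ≤ d := by
      have h1 : orderOf (z : G) ∣ p ^ d := by
        rw [Subgroup.orderOf_coe, ← hcard]
        exact orderOf_dvd_natCard z
      rw [hk] at h1
      exact (Nat.pow_dvd_pow_iff_le_right hM.1.one_lt).mp h1
    have hC : ∀ t : G, t ∈ CQ (Subgroup.zpowers (z : G)) ↔ Commute t (z : G) :=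
      fun t => mem_cq_zpowers_iff
    have hC' : ∀ t : CQ (Subgroup.zpowers (z : G)), Commute (t : G) (z : G) := fun t => (hC t).mp t.2
    have hzn : (z : G) ^ p ^ (d + 1) = 1 := by
      rw [← orderOf_dvd_iff_pow_eq_one, hk]
      exact pow_dvd_pow p (by omega)
    -- the values as contributions
    have hval : ∀ a : ℕ, a.Coprime p →
        secContrib p ((z : G) ^ a) (CQ (Subgroup.zpowers (z : G))) b χ χ =
          (p : ℂ) ^ d * (secNorm p χ (((z ^ a : P)) : G) (lowPair hM he (z ^ a)) : ℂ) := by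
      intro a ha
      have hzz : Subgroup.zpowers ((z ^ a : P) : G) = Subgroup.zpowers (z : G) := by
        rw [Subgroup.coe_pow]
        refine le_antisymm (Subgroup.zpowers_le.mpr (Subgroup.pow_mem _ (Subgroup.mem_zpowers _) a))
          (Subgroup.zpowers_le.mpr ?_)
        obtain ⟨j, hj⟩ := exists_pow_eq_self_of_coprime
          (show a.Coprime (orderOf (z : G)) from hk ▸ ha.pow_right k)
        exact Subgroup.mem_zpowers_iff.mpr ⟨(j : ℤ), by rw [zpow_natCast, hj]⟩
      have hl : lowPair hM he (z ^ a) = lowPair hM he z :=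
        below_ext hM he (lowPair_below hM he _) (lowPair_below hM he z) hzz
      rw [secContrib_self_eq_secSum hM hind.1 (fun t => (hC' t).pow_right a), hbd, hl, hb,
        coe_secNorm, Subgroup.coe_pow, div_eq_inv_mul]
    obtain ⟨L, hL, -, -⟩ := exists_major_lift hM hk hC hind hbd hχ hχ
    have hmem : secContrib p (z : G) (CQ (Subgroup.zpowers (z : G))) b χ χ ∈ cycInt (p ^ (d + 1)) := by
      refine Subring.closure_le.mpr (fun w (hw : w ^ p ^ k = 1) => mem_cycInt_of_pow ?_)
        (secContrib_mem_cycInt hM hk hC hind χ χ)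
      obtain ⟨i, hi⟩ : ∃ i, d + 1 = k + i := ⟨d + 1 - k, by omega⟩
      rw [hi, pow_add, pow_mul, hw, one_pow]
    have h1 := hval 1 (Nat.coprime_one_left p)
    rw [pow_one, pow_one] at h1
    have hWe : ((W ⟨z, hz⟩ : ℝ) : ℂ) = secContrib p (z : G) (CQ (Subgroup.zpowers (z : G))) b χ χ /
        (p : ℂ) ^ h := by
      rw [h1, hW]
      push_cast
      rfl
    refine ⟨?_, ?_, fun a ha => ?_⟩
    · have hne : secNorm p χ (z : G) (lowPair hM he z) ≠ 0 := by
        intro h0
        rw [h0, Complex.ofReal_zero, mul_zero] at h1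
        obtain ⟨hrow, -⟩ := sum_secContrib_mul_conj hM hk hC hind χ
        rw [h1, mul_zero] at hrow
        obtain ⟨L', hL', hL'0, -⟩ := exists_major_lift hM hk hC hind hbd hχ hψ
        refine hL'0 hψ0 ?_
        have hsc := eq_zero_of_sum_mul_conj hrow (Finset.mem_filter.mpr ⟨Finset.mem_univ ψ, hψ⟩)
        rw [hsc] at hL'
        rw [show L' = 0 from Subtype.ext ((mul_eq_zero.mp hL'.symm).resolve_left (pow_ne_zero _ hp0)),
          map_zero]
      exact div_pos (mul_pos (pow_pos hpr d) ((secNorm_nonneg χ _ _).lt_of_ne' hne)) (pow_pos hpr h)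
    · rw [hWe, hL, mul_div_assoc, mul_comm, div_mul_cancel₀ _ (pow_ne_zero _ hp0)]
      exact mem_cycInt_of_pow_mul hM h hmem L hL
    · rw [hWe, map_div₀, map_pow, map_natCast, pAut_secContrib hM hC' ((hC _).mpr (Commute.refl _))
        hzn ha hind.1, hval a ha, hW]
      push_cast
      rfl
  have hbound : ∀ z, (Fintype.card (ZMod n)ˣ : ℝ) ≤ ∑ m : (ZMod n)ˣ, W (z ^ (m : ZMod n).val) := fun z =>
    card_le_sum_of_totally_pos (hpos z).2.1 _ (fun m => (hpos _).1)
      fun m => (hpos z).2.2 _ (coprime_of_unit m)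
  have hsum := Finset.sum_le_sum (fun z (_ : z ∈ Finset.univ) => hbound z)
  rw [Finset.sum_const, nsmul_eq_mul, Finset.sum_comm, Finset.card_univ] at hsum
  have hperm : ∀ m : (ZMod n)ˣ, ∑ z : Subgroup.center P, W (z ^ (m : ZMod n).val) = ∑ z, W z := by
    intro m
    have hco : (Nat.card (Subgroup.center P)).Coprime (m : ZMod n).val := by
      refine Nat.Coprime.coprime_dvd_left ?_ (((coprime_of_unit m).pow_right d).symm)
      exact hcard ▸ Subgroup.card_subgroup_dvd_card _
    exact Fintype.sum_equiv (powCoprime hco) _ _ fun z => rfl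
  rw [Finset.sum_congr rfl fun m _ => hperm m, Finset.sum_const, nsmul_eq_mul, Finset.card_univ,
    mul_comm] at hsum
  have hu : (0 : ℝ) < (Fintype.card (ZMod n)ˣ : ℝ) := Nat.cast_pos.mpr Fintype.card_pos
  have h2 := le_of_mul_le_mul_left hsum hu
  have h3 := sum_secNorm_center_le hM hmax hT hχ
  have h4 : ∑ z, W z = (p : ℝ) ^ d / (p : ℝ) ^ h *
      ∑ z : Subgroup.center P, secNorm p χ ((z : P) : G) (lowPair hM he (z : P)) := by
    rw [Finset.mul_sum]
    exact Finset.sum_congr rfl fun z _ => by simp only [hW]; ring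
  rw [h4] at h2
  have h5 : (0 : ℝ) ≤ (p : ℝ) ^ d / (p : ℝ) ^ h := (div_pos (pow_pos hpr d) (pow_pos hpr h)).le
  have h6 := h2.trans (mul_le_mul_of_nonneg_left h3 h5)
  rw [← Nat.card_eq_fintype_card, div_mul_eq_mul_div, le_div_iff₀ (pow_pos hpr h)] at h6
  have h7 : ((p ^ h * Nat.card (Subgroup.center P) : ℕ) : ℝ) ≤
      (((P ⊔ CQ P).relIndex T * p ^ d : ℕ) : ℝ) := by
    push_cast
    linarith
  exact_mod_cast h7

end CfsgLib.Block
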