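import Cfsg.Agent.Lib.Block.StarFun
import Cfsg.Agent.Lib.Block.HeightCenter
import Cfsg.Agent.Lib.Block.TraceFun
import Mathlib.GroupTheory.FiniteAbelian.Duality
import Mathlib.RingTheory.RootsOfUnity.AlgebraicallyClosed
import Mathlib.Analysis.Complex.Polynomial.Basic
import Mathlib.GroupTheory.GroupAction.Quotient

/-!
# The characters of `P / foc` acting on a block

For a maximal pair `(P, e)` a linear character of `P` trivial on the focal subgroup gives weights on
the subsections, hence a permutation of the members of the block keeping degrees.  The stabilizer of a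
member is trivial on every element whose subsection does not vanish on it: on all of `P` for height
zero, on the centre of `P` in general.  So the number of members of a given height is divisible by the
order of the corresponding image in `P / foc` (after Broué and Puig).
-/

open Finset MonoidAlgebra
open scoped ComplexConjugate

set_option linter.unusedSectionVars false

namespace CfsgLib.Block

open Cfsg
open scoped Pair

universe u

variable {p : ℕ} {M : Ideal AlgInt} [M.IsMaximal] {G : Type u} [Group G] [Fintype G] [DecidableEq G]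
  {P : Subgroup G} {e : Set (IrrCharacter (CQ P))} {B : Set (IrrCharacter G)}

/-- A linear character of `P` that is constant on fused elements. -/
def FusInv (hM : IsPModular p M) (he : IsBrauerPair p M P e) (lam : P →* ℂˣ) : Prop :=
  ∀ y z : P, z ∈ fusClass hM he y → lam z = lam y

open scoped Classical in
/-- The weights given by a linear character of `P`. -/
noncomputable def starW (hM : IsPModular p M) (he : IsBrauerPair p M P e) (lam : P →* ℂˣ) (u : G)
    (a : BrauerPairIdx G) : ℂ :=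
  if h : ∃ s : G × P, s.1 * (s.2 : G) * s.1⁻¹ = u ∧ cjP s.1 (lowPair hM he s.2) = a
  then (lam h.choose.2 : ℂ) else 1

theorem isPBlock_lowPair (hM : IsPModular p M) (he : IsBrauerPair p M P e) (y : P) :
    IsPBlock M (lowPair hM he y).2 :=
  (isBrauerPair_of_below hM he (lowPair_below hM he y)).2

theorem starW_eq (hM : IsPModular p M) (he : IsBrauerPair p M P e) {lam : P →* ℂˣ}
    (hlam : FusInv hM he lam) {x : G} {y : P} {u : G} {a : BrauerPairIdx G}
    (h1 : x * (y : G) * x⁻¹ = u) (h2 : cjP x (lowPair hM he y) = a) :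
    starW hM he lam u a = (lam y : ℂ) := by
  classical
  have h : ∃ s : G × P, s.1 * (s.2 : G) * s.1⁻¹ = u ∧ cjP s.1 (lowPair hM he s.2) = a :=
    ⟨(x, y), h1, h2⟩
  rw [starW, dif_pos h]
  obtain ⟨h1', h2'⟩ := h.choose_spec
  set x' := h.choose.1
  set y' := h.choose.2
  refine congrArg (fun c : ℂˣ => (c : ℂ)) (hlam y y' ((mem_fusClass hM he).mpr ⟨x'⁻¹ * x, ?_, ?_⟩))
  · rw [show x'⁻¹ * x * (y : G) * (x'⁻¹ * x)⁻¹ = x'⁻¹ * (x * (y : G) * x⁻¹) * x' by group, h1, ← h1']
    group
  · rw [← cjP_mul hM _ _ (a := lowPair hM he y) (isPBlock_lowPair hM he y), h2, ← h2']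
    exact conjBlock_inv hM x' (isPBlock_lowPair hM he y')

theorem starW_mul_conj (hM : IsPModular p M) (he : IsBrauerPair p M P e) (lam : P →* ℂˣ) (u : G)
    (a : BrauerPairIdx G) : starW hM he lam u a * conj (starW hM he lam u a) = 1 := by
  rw [starW]
  split_ifs with h
  · have hn : ((lam h.choose.2 : ℂˣ) : ℂ) ^ Nat.card P = 1 := by
      rw [← Units.val_pow_eq_pow_val, ← map_pow, pow_card_eq_one', map_one, Units.val_one]
    rw [Complex.mul_conj', Complex.norm_eq_one_of_pow_eq_one hn Nat.card_pos.ne']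
    simp
  · simp

theorem starW_one (hM : IsPModular p M) (he : IsBrauerPair p M P e) :
    starW hM he (1 : P →* ℂˣ) = fun _ _ => (1 : ℂ) := by
  funext u a
  rw [starW]
  split_ifs <;> simp

theorem starW_mul (hM : IsPModular p M) (he : IsBrauerPair p M P e) (lam mu : P →* ℂˣ) (u : G)
    (a : BrauerPairIdx G) :
    starW hM he (lam * mu) u a = starW hM he lam u a * starW hM he mu u a := by
  simp only [starW]
  split_ifs <;> simp

/-- The weights are equivariant and linear below every pair. -/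
theorem isWeight_starW (hM : IsPModular p M) (hmax : IsMaximalBrauerPair p M B P e) {lam : P →* ℂˣ}
    (hlam : FusInv hM hmax.1.1 lam) : IsWeight p M (starW hM hmax.1.1 lam) := by
  classical
  set he := hmax.1.1
  refine ⟨fun g u a ha hb => ?_, fun R f hf => ?_⟩
  · by_cases h : ∃ s : G × P, s.1 * (s.2 : G) * s.1⁻¹ = u ∧ cjP s.1 (lowPair hM he s.2) = a
    · obtain ⟨⟨x, y⟩, h1, h2⟩ := h
      have h1' : g * x * (y : G) * (g * x)⁻¹ = g * u * g⁻¹ := by
        rw [show g * x * (y : G) * (g * x)⁻¹ = g * (x * (y : G) * x⁻¹) * g⁻¹ by group, h1]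
      have h2' : cjP (g * x) (lowPair hM he y) = cjP g a := by
        rw [← h2, cjP_mul hM _ _ (isPBlock_lowPair hM he y)]
      rw [starW_eq hM he hlam h1' h2', starW_eq hM he hlam h1 h2]
    · rw [starW, starW, dif_neg h, dif_neg]
      rintro ⟨⟨x, y⟩, h1, h2⟩
      refine h ⟨(g⁻¹ * x, y), ?_, ?_⟩
      · show g⁻¹ * x * (y : G) * (g⁻¹ * x)⁻¹ = u
        rw [show g⁻¹ * x * (y : G) * (g⁻¹ * x)⁻¹ = g⁻¹ * (x * (y : G) * x⁻¹) * g by group, h1]
        group
      · show cjP (g⁻¹ * x) (lowPair hM he y) = a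
        rw [← cjP_mul hM _ _ (a := lowPair hM he y) (isPBlock_lowPair hM he y), h2]
        exact conjBlock_inv hM g hb
  · by_cases hB : IsBrauerPairOf p M B R f
    · obtain ⟨x, hx⟩ := exists_conj_subpairLE hM hmax hB
      have hxR : ∀ u ∈ R, x * u * x⁻¹ ∈ P := fun u hu => SubpairLE.le hx (conj_mem_cjS.mpr hu)
      let φ : R →* P := ((MulAut.conj x).toMonoidHom.comp R.subtype).codRestrict P fun u => hxR u u.2
      refine ⟨lam.comp φ, fun u a ha hle => ?_⟩
      obtain ⟨b, rfl⟩ := exists_eq_pairMk ha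
      have h1 : Below p M P e (cjP x ⟨Subgroup.zpowers (u : G), b⟩) := by
        have h0 : Relation.ReflTransGen (NormalSubpairRel p M)
            (cjP x ⟨Subgroup.zpowers (u : G), b⟩) (cjP x ⟨R, f⟩) := SubpairLE.conj hM x hle
        exact h0.trans hx
      have hb : IsPBlock M b := (isBrauerPair_of_below hM hf hle).2
      have h2 : lowPair hM he (φ u) = cjP x ⟨Subgroup.zpowers (u : G), b⟩ :=
        below_ext hM he (lowPair_below hM he _) h1 ((lowPair_fst hM he _).trans (cjS_zpowers x (u : G)).symm)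
      refine starW_eq hM he hlam (x := x⁻¹) (y := φ u) ?_ ?_
      · show x⁻¹ * (x * (u : G) * x⁻¹) * x⁻¹⁻¹ = (u : G)
        group
      · rw [h2]
        exact conjBlock_inv hM x hb
    · refine ⟨1, fun u a ha hle => ?_⟩
      rw [starW, dif_neg, MonoidHom.one_apply, Units.val_one]
      rintro ⟨⟨x, y⟩, -, h2⟩
      have h := IsBrauerPairOf.conj hM x (lowPair_pairOf hM hmax y)
      obtain rfl : cjP x (lowPair hM hmax.1.1 y) = a := h2
      exact hB ((SubpairLE.isBrauerPairOf_iff hM hle).mpr h)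

variable [Fintype (IrrCharacter G)]

/-! ### The permutation -/

/-- A weighted expansion with weights of absolute value one is an irreducible character of the block. -/
theorem exists_starIrr (hM : IsPModular p M) {w : G → BrauerPairIdx G → ℂ} (hw : IsWeight p M w)
    (h1 : ∀ (u : G) (a : BrauerPairIdx G), w u a * conj (w u a) = 1) (χ : IrrCharacter G) :
    ∃ θ : IrrCharacter G, (θ : G → ℂ) = starFun hM w χ ∧
      (θ : G → ℂ) 1 = (χ : G → ℂ) 1 ∧
      ∀ B : Set (IrrCharacter G), IsPBlock M B → χ ∈ B → θ ∈ B := by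
  classical
  have hf := isGeneralized_starFun hM hw χ
  have hv : starFun hM w χ 1 = (χ : G → ℂ) 1 :=
    starFun_regular hM hw χ (by rw [orderOf_one]; exact hM.1.not_dvd_one)
  obtain ⟨θ, hθ⟩ : ∃ θ : IrrCharacter G, (θ : G → ℂ) = starFun hM w χ := by
    obtain ⟨d, hd, hd1⟩ := Char.isIrrCharacter_degree χ.2
    have h0 : (starFun hM w χ 1).re > 0 := by
      rw [hv, hd1, Complex.natCast_re]
      exact_mod_cast hd
    exact ⟨⟨_, Char.isIrr_of_norm_one hf (classInner_starFun_self hM h1 χ) h0⟩, rfl⟩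
  refine ⟨θ, hθ, hθ ▸ hv, fun B hB hχ => ?_⟩
  by_contra hθB
  have h := Char.classInner_irr_self θ
  conv_lhs at h => arg 1; rw [hθ]
  conv_lhs at h => arg 2; rw [← starFun_one hM θ]
  rw [classInner_starFun, Finset.sum_eq_zero fun u hu => Finset.sum_eq_zero fun a ha => by
    rw [secSum_eq_zero_of_not_mem hM hB hχ hθB (Finset.mem_filter.mp hu).2 ha, mul_zero],
    mul_zero] at h
  exact zero_ne_one h

/-- The parts of a weighted expansion. -/
theorem secPart_starFun (hM : IsPModular p M) {w : G → BrauerPairIdx G → ℂ} {χ θ : IrrCharacter G}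
    (hθ : (θ : G → ℂ) = starFun hM w χ) {u s : G} (hu : ∃ k : ℕ, orderOf u = p ^ k)
    {a : BrauerPairIdx G} (ha : a ∈ pairsAt M u) (hs : s ∈ regC p u) :
    secPart θ u a s = w u a * secPart χ u a s := by
  classical
  obtain ⟨h1, hb⟩ := mem_pairsAt.mp ha
  obtain ⟨b, rfl⟩ := exists_eq_pairMk h1
  dsimp only at hb
  obtain ⟨hsC, hsp⟩ := mem_regC.mp hs
  have := Fintype.ofFinite (IrrCharacter (CQ (Subgroup.zpowers u)))
  have hC : ∀ t : (CQ (Subgroup.zpowers u)), Commute (t : G) u := fun t => mem_cq_zpowers_iff.mp t.2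
  have hsp' : ¬ p ∣ orderOf (⟨s, hsC⟩ : (CQ (Subgroup.zpowers u))) := by rwa [← Subgroup.orderOf_coe]
  rw [show s = ((⟨s, hsC⟩ : (CQ (Subgroup.zpowers u))) : G) from rfl, secPart_eq_blockPart b hC, secPart_eq_blockPart b hC]
  let cf : Set (IrrCharacter (CQ (Subgroup.zpowers u))) → IrrCharacter (CQ (Subgroup.zpowers u)) → ℂ := fun b' η =>
    classInner (secFun u (CQ (Subgroup.zpowers u)) χ) (η : (CQ (Subgroup.zpowers u)) → ℂ) * w u ⟨Subgroup.zpowers u, b'⟩
  let U : Finset (Set (IrrCharacter (CQ (Subgroup.zpowers u)))) := Finset.univ.filter fun b' => IsPBlock M b'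
  let H : (CQ (Subgroup.zpowers u)) → ℂ := ∑ b' ∈ U, ∑ η ∈ Finset.univ.filter (· ∈ b'), cf b' η • (η : (CQ (Subgroup.zpowers u)) → ℂ)
  have hH : ∀ t : (CQ (Subgroup.zpowers u)), H t = ∑ b' ∈ U, w u ⟨Subgroup.zpowers u, b'⟩ * blockPart b' (secFun u (CQ (Subgroup.zpowers u)) χ) t := by
    intro t
    simp only [H, Finset.sum_apply, Pi.smul_apply, smul_eq_mul, blockPart_eq, cf, Finset.mul_sum]
    exact Finset.sum_congr rfl fun b' _ => Finset.sum_congr rfl fun η _ => by ring
  have hHc : IsClassFunction (CQ (Subgroup.zpowers u)) H := fun x v => by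
    simp only [H, Finset.sum_apply, Pi.smul_apply, Char.isClassFunction_irr _ x v]
  have hHreg : regFun p (secFun u (CQ (Subgroup.zpowers u)) θ) = regFun p H := by
    funext t
    simp only [regFun]
    split_ifs with ht
    · rfl
    have hts : (t : G) ∈ regC p u := mem_regC.mpr ⟨t.2, by rwa [Subgroup.orderOf_coe]⟩
    show (θ : G → ℂ) (u * (t : G)) = H t
    rw [hθ, starFun_apply hM w χ hu hts, hH]
    symm
    refine Finset.sum_bij (fun b' _ => (⟨Subgroup.zpowers u, b'⟩ : BrauerPairIdx G)) (fun b' hb' => ?_)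
      (fun b' _ b'' _ h => eq_of_heq (Sigma.mk.inj_iff.mp h).2) (fun a' ha' => ?_) fun b' _ => ?_
    · exact mem_pairsAt.mpr ⟨rfl, (Finset.mem_filter.mp hb').2⟩
    · obtain ⟨h1', h2'⟩ := mem_pairsAt.mp ha'
      obtain ⟨b', rfl⟩ := exists_eq_pairMk h1'
      exact ⟨b', Finset.mem_filter.mpr ⟨Finset.mem_univ _, h2'⟩, rfl⟩
    · rw [← secPart_eq_blockPart b' hC χ t]
  rw [blockPart_regular hM hb (isClassFunction_secFun hC θ) hsp', hHreg,
    ← blockPart_regular hM hb hHc hsp', blockPart_eq, blockPart_eq, Finset.mul_sum]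
  refine Finset.sum_congr rfl fun η hη => ?_
  have hηb := (Finset.mem_filter.mp hη).2
  have hη' : classInner H (η : (CQ (Subgroup.zpowers u)) → ℂ) =
      classInner (secFun u (CQ (Subgroup.zpowers u)) χ) (η : (CQ (Subgroup.zpowers u)) → ℂ) * w u ⟨Subgroup.zpowers u, b⟩ := by
    rw [show H = ∑ b' ∈ U, ∑ ζ ∈ Finset.univ.filter (· ∈ b'), cf b' ζ • (ζ : (CQ (Subgroup.zpowers u)) → ℂ) from rfl,
      Char.classInner_sum_left, Finset.sum_eq_single b (fun b' hb' hne => ?_)
        (fun h => absurd (Finset.mem_filter.mpr ⟨Finset.mem_univ _, hb⟩) h),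
      Char.classInner_sum_left, Finset.sum_eq_single η (fun ζ _ hne => ?_) (fun h => absurd hη h),
      Char.classInner_smul_left, Char.classInner_irr_self, mul_one]
    · rw [Char.classInner_smul_left, Char.classInner_irr_ne hne, mul_zero]
    · rw [Char.classInner_sum_left]
      refine Finset.sum_eq_zero fun ζ hζ => ?_
      rw [Char.classInner_smul_left, Char.classInner_irr_ne (fun h => hne
        (isPBlock_eq_of_mem (Finset.mem_filter.mp hb').2 hb (Finset.mem_filter.mp hζ).2 (by rw [h]; exact hηb))),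
        mul_zero]
  rw [hη']
  ring

/-- Composition of expansions. -/
theorem starFun_starFun (hM : IsPModular p M) {w w' : G → BrauerPairIdx G → ℂ}
    {χ θ : IrrCharacter G} (hθ : (θ : G → ℂ) = starFun hM w χ) :
    starFun hM w' θ = starFun hM (fun u a => w' u a * w u a) χ := by
  funext g
  obtain ⟨s, hs, hg⟩ := exists_regC hM g
  have hu := pPow_pPt hM g
  rw [← hg, starFun_apply hM w' θ hu hs, starFun_apply hM _ χ hu hs]
  exact Finset.sum_congr rfl fun a ha => by rw [secPart_starFun hM hθ hu ha hs, mul_assoc]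

/-- A fixed member sees only trivial weights where its part does not vanish. -/
theorem eq_one_of_starFun_eq (hM : IsPModular p M) {w : G → BrauerPairIdx G → ℂ} {χ : IrrCharacter G}
    (hfix : (χ : G → ℂ) = starFun hM w χ) {u s : G} (hu : ∃ k : ℕ, orderOf u = p ^ k)
    {a : BrauerPairIdx G} (ha : a ∈ pairsAt M u) (hs : s ∈ regC p u) (hne : secPart χ u a s ≠ 0) :
    w u a = 1 :=
  mul_right_cancel₀ hne ((secPart_starFun hM hfix hu ha hs).symm.trans (one_mul _).symm)

/-! ### Non-vanishing subsections -/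

theorem exists_secPart_ne_zero_of_height_zero (hM : IsPModular p M)
    (hmax : IsMaximalBrauerPair p M B P e) {χ : IrrCharacter G} (hχ : χ ∈ B)
    (h0 : blockHeight p B (χ : G → ℂ) = 0) (y : P) :
    ∃ s ∈ regC p (y : G), secPart χ (y : G) (lowPair hM hmax.1.1 y) s ≠ 0 := by
  classical
  obtain ⟨b, hb⟩ := exists_eq_pairMk (a := lowPair hM hmax.1.1 y) (Q := Subgroup.zpowers (y : G)) rfl
  have hpair := lowPair_pairOf hM hmax y
  rw [hb] at hpair ⊢
  dsimp only at hpair
  have hu := exists_pElement_orderOf hmax.1.1 y hM.1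
  have := Fintype.ofFinite (IrrCharacter (CQ (Subgroup.zpowers (y : G))))
  obtain ⟨t, ht, hne⟩ := exists_blockPart_ne_zero hM hχ h0 hu (fun t => mem_cq_zpowers_iff)
    ((isBrauerPairOf_zpowers_iff hM hmax.1.2.1 hu).mp hpair)
  refine ⟨(t : G), mem_regC.mpr ⟨t.2, by rwa [Subgroup.orderOf_coe]⟩, ?_⟩
  rwa [secPart_eq_blockPart b fun s => mem_cq_zpowers_iff.mp s.2]

theorem exists_secPart_ne_zero_of_center (hM : IsPModular p M)
    (hmax : IsMaximalBrauerPair p M B P e) {χ : IrrCharacter G} (hχ : χ ∈ B) {y : P}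
    (hy : y ∈ Subgroup.center P) :
    ∃ s ∈ regC p (y : G), secPart χ (y : G) (lowPair hM hmax.1.1 y) s ≠ 0 := by
  classical
  have hp : Fact p.Prime := ⟨hM.1⟩
  obtain ⟨b, hb, hind, hbd, -, -⟩ := exists_major_lowPair hM hmax hy
  obtain ⟨ψ, hψ, hψ0⟩ := exists_height_zero hM hmax.1.2.1
  have := Fintype.ofFinite (IrrCharacter (CQ (Subgroup.zpowers (y : G))))
  obtain ⟨k, hk⟩ := exists_pElement_orderOf hmax.1.1 y hM.1
  have hC : ∀ t : G, t ∈ CQ (Subgroup.zpowers (y : G)) ↔ Commute t (y : G) :=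
    fun t => mem_cq_zpowers_iff
  have hC' : ∀ t : CQ (Subgroup.zpowers (y : G)), Commute (t : G) (y : G) := fun t => (hC t).mp t.2
  rw [hb]
  by_contra hall
  push Not at hall
  have h0 : secContrib p (y : G) (CQ (Subgroup.zpowers (y : G))) b χ χ = 0 := by
    rw [secContrib_self_eq_secSum hM hind.1 hC', secSum_eq_sum_regC rfl,
      Finset.sum_eq_zero fun s hs => by rw [hall s hs, zero_mul]]
    simp
  obtain ⟨hrow, -⟩ := sum_secContrib_mul_conj hM hk hC hind χ
  rw [h0, mul_zero] at hrow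
  obtain ⟨L', hL', hL'0, -⟩ := exists_major_lift hM hk hC hind hbd hχ hψ
  refine hL'0 hψ0 ?_
  rw [eq_zero_of_sum_mul_conj hrow (Finset.mem_filter.mpr ⟨Finset.mem_univ ψ, hψ⟩)] at hL'
  rw [show L' = 0 from Subtype.ext ((mul_eq_zero.mp hL'.symm).resolve_left
    (pow_ne_zero _ (Nat.cast_ne_zero.mpr hM.1.ne_zero))), map_zero]

/-! ### Counting -/

/-- For an action of the dual of a finite abelian group in which every fixing character is trivial on
a subgroup, the order of the subgroup divides the number of points. -/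
theorem card_dvd_of_dual_action {A : Type u} [CommGroup A] [Finite A] {X : Type u} [Finite X]
    [MulAction (A →* ℂˣ) X] (H : Subgroup A)
    (hfix : ∀ (x : X) (φ : A →* ℂˣ), φ • x = x → ∀ a ∈ H, φ a = 1) :
    Nat.card H ∣ Nat.card X := by
  classical
  have : NeZero ((Monoid.exponent A : ℕ) : ℂ) :=
    ⟨Nat.cast_ne_zero.mpr Monoid.exponent_ne_zero_of_finite⟩
  have hfin : Finite (A →* ℂˣ) := Nat.finite_of_card_ne_zero (by
    rw [CommGroup.card_monoidHom_of_hasEnoughRootsOfUnity]; exact Nat.card_pos.ne')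
  set K : Subgroup (A →* ℂˣ) := (MonoidHom.domRestrictHom H ℂˣ).ker with hK
  have hKi : K.index = Nat.card H := by
    have h1 := K.index_mul_card
    rw [CommGroup.card_monoidHom_of_hasEnoughRootsOfUnity,
      H.card_eq_card_quotient_mul_card_subgroup] at h1
    rw [show Nat.card K = Nat.card (A ⧸ H) from CommGroup.card_domRestrictHom_ker ℂ H,
      mul_comm (Nat.card (A ⧸ H))] at h1
    exact Nat.eq_of_mul_eq_mul_right Nat.card_pos h1
  have := Fintype.ofFinite X
  have := Fintype.ofFinite (A →* ℂˣ)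
  have := Fintype.ofFinite (MulAction.orbitRel.Quotient (A →* ℂˣ) X)
  rw [Nat.card_congr (MulAction.selfEquivSigmaOrbitsQuotientStabilizer (A →* ℂˣ) X), Nat.card_sigma]
  refine Finset.dvd_sum fun ω _ => ?_
  rw [← hKi, ← Subgroup.index_eq_card]
  refine Subgroup.index_dvd_of_le fun φ hφ => ?_
  rw [hK, MonoidHom.mem_ker, MonoidHom.domRestrictHom_apply, MonoidHom.domRestrict_eq_one_iff]
  exact hfix _ φ hφ

/-- The number of members with a given condition on the degree is divisible by the image in `P / K` of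
the elements whose subsections do not vanish on them. -/
theorem relIndex_dvd_card_degree (hM : IsPModular p M) (hmax : IsMaximalBrauerPair p M B P e)
    (K : Subgroup P) (hK : ∀ x y : P, x * y * x⁻¹ * y⁻¹ ∈ K)
    (hfus : ∀ y z : P, z ∈ fusClass hM hmax.1.1 y → y⁻¹ * z ∈ K) (Z : Subgroup P) (Q : ℕ → Prop)
    (hne : ∀ χ ∈ B, Q (charDegree (χ : G → ℂ)) → ∀ y ∈ Z,
      ∃ s ∈ regC p (y : G), secPart χ (y : G) (lowPair hM hmax.1.1 y) s ≠ 0) :
    K.relIndex Z ∣ Nat.card {χ : IrrCharacter G // χ ∈ B ∧ Q (charDegree (χ : G → ℂ))} := by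
  classical
  set he := hmax.1.1
  have hn : K.Normal := ⟨fun x hx g => by
    simpa using K.mul_mem (hK g x) hx⟩
  letI : CommGroup (P ⧸ K) :=
    { (inferInstance : Group (P ⧸ K)) with
      mul_comm := fun a b => by
        induction a using QuotientGroup.induction_on with
        | _ x =>
          induction b using QuotientGroup.induction_on with
          | _ y =>
            show ((x * y : P) : P ⧸ K) = ((y * x : P) : P ⧸ K)
            rw [QuotientGroup.eq, show (x * y)⁻¹ * (y * x) = y⁻¹ * x⁻¹ * y⁻¹⁻¹ * x⁻¹⁻¹ by group]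
            exact hK _ _ }
  let L : (P ⧸ K →* ℂˣ) → (P →* ℂˣ) := fun φ => φ.comp (QuotientGroup.mk' K)
  have hL : ∀ φ, FusInv hM he (L φ) := fun φ y z hz =>
    congrArg φ (QuotientGroup.eq.mpr (hfus y z hz)).symm
  let W := fun φ => starW hM he (L φ)
  have hst : ∀ (φ : P ⧸ K →* ℂˣ) (χ : IrrCharacter G), ∃ θ : IrrCharacter G,
      (θ : G → ℂ) = starFun hM (W φ) χ ∧ (θ : G → ℂ) 1 = (χ : G → ℂ) 1 ∧
      ∀ B' : Set (IrrCharacter G), IsPBlock M B' → χ ∈ B' → θ ∈ B' := fun φ χ =>
    exists_starIrr hM (isWeight_starW hM hmax (hL φ)) (starW_mul_conj hM he _) χ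
  choose st hst1 hst2 hst3 using hst
  set X := {χ : IrrCharacter G // χ ∈ B ∧ Q (charDegree (χ : G → ℂ))}
  have hX : ∀ φ (χ : X), st φ χ.1 ∈ B ∧ Q (charDegree (st φ χ.1 : G → ℂ)) := fun φ χ => by
    refine ⟨hst3 φ _ B hmax.1.2.1 χ.2.1, ?_⟩
    rw [charDegree, hst2 φ χ.1]
    exact χ.2.2
  letI : MulAction (P ⧸ K →* ℂˣ) X :=
    { smul := fun φ χ => ⟨st φ χ.1, hX φ χ⟩
      one_smul := fun χ => Subtype.ext (Subtype.ext (by
        show (st 1 χ.1 : G → ℂ) = (χ.1 : G → ℂ)
        rw [hst1, show W 1 = fun _ _ => (1 : ℂ) from starW_one hM he, starFun_one]))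
      mul_smul := fun φ ψ χ => Subtype.ext (Subtype.ext (by
        show (st (φ * ψ) χ.1 : G → ℂ) = (st φ (st ψ χ.1) : G → ℂ)
        rw [hst1, hst1 φ, starFun_starFun hM (hst1 ψ χ.1)]
        congr 1
        funext u a
        exact starW_mul hM he (L φ) (L ψ) u a)) }
  refine (?_ : K.relIndex Z ∣ Nat.card (Z.map (QuotientGroup.mk' K))).trans
    (card_dvd_of_dual_action _ fun χ φ hφ a ha => ?_)
  · rw [← Subgroup.relIndex_ker, QuotientGroup.ker_mk']
  · obtain ⟨y, hy, rfl⟩ := ha
    have hfixed : (χ.1 : G → ℂ) = starFun hM (W φ) χ.1 := by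
      rw [← hst1]
      exact congrArg (fun z : X => (z.1 : G → ℂ)) hφ.symm
    obtain ⟨s, hs, hsne⟩ := hne χ.1 χ.2.1 χ.2.2 y hy
    have h1 := eq_one_of_starFun_eq hM hfixed (exists_pElement_orderOf he y hM.1)
      (mem_pairsAt.mpr ⟨lowPair_fst hM he y, isPBlock_lowPair hM he y⟩) hs hsne
    rw [show W φ (y : G) (lowPair hM he y) = (L φ y : ℂ) from starW_eq hM he (hL φ) (x := 1)
      (by group) (cjP_one hM (isPBlock_lowPair hM he y))] at h1
    exact Units.val_eq_one.mp h1

/-- The number of members of a given height is divisible by the image in `P / K` of the elements whose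
subsections do not vanish on them. -/
theorem relIndex_dvd_card_height (hM : IsPModular p M) (hmax : IsMaximalBrauerPair p M B P e)
    (K : Subgroup P) (hK : ∀ x y : P, x * y * x⁻¹ * y⁻¹ ∈ K)
    (hfus : ∀ y z : P, z ∈ fusClass hM hmax.1.1 y → y⁻¹ * z ∈ K) (Z : Subgroup P) (h : ℕ)
    (hne : ∀ χ ∈ B, blockHeight p B (χ : G → ℂ) = h → ∀ y ∈ Z,
      ∃ s ∈ regC p (y : G), secPart χ (y : G) (lowPair hM hmax.1.1 y) s ≠ 0) :
    K.relIndex Z ∣ Nat.card {χ : IrrCharacter G // χ ∈ B ∧ blockHeight p B (χ : G → ℂ) = h} :=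
  relIndex_dvd_card_degree hM hmax K hK hfus Z (fun n => n.factorization p -
    sInf ((fun ψ : IrrCharacter G => (charDegree (ψ : G → ℂ)).factorization p) '' B) = h) hne

omit [Fintype (IrrCharacter G)] in
/-- Fused elements agree modulo the focal subgroup. -/
theorem fusClass_focal (hM : IsPModular p M) (hmax : IsMaximalBrauerPair p M B P e)
    {F : FusionSystem P} (hF : IsBlockFusionSystemOn p M B P e F) {y z : P}
    (h : z ∈ fusClass hM hmax.1.1 y) : y⁻¹ * z ∈ F.focalSubgroup.subgroupOf P := by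
  obtain ⟨g, hg, hgl⟩ := (mem_fusClass hM hmax.1.1).mp h
  obtain ⟨f, hf⟩ := exists_eq_pairMk (a := lowPair hM hmax.1.1 y) (Q := Subgroup.zpowers (y : G)) rfl
  have hle := lowPair_below hM hmax.1.1 y
  have hle' := lowPair_below hM hmax.1.1 z
  rw [← hgl] at hle'
  rw [hf] at hle hle'
  refine Subgroup.mem_subgroupOf.mpr (Subgroup.subset_closure
    ⟨Subgroup.zpowers (y : G), conjHom _ g, ⟨(y : G), Subgroup.mem_zpowers _⟩, ?_, ?_⟩)
  · exact (hF.2 _ _).mpr ⟨Subgroup.zpowers_le.mpr y.2, g, fun u => rfl, SubpairLE.le hle', f, hle, hle'⟩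
  · show (y : G)⁻¹ * (z : G) = (y : G)⁻¹ * (g * (y : G) * g⁻¹)
    rw [hg]

theorem commutator_mem_focal (F : FusionSystem P) (x y : P) :
    x * y * x⁻¹ * y⁻¹ ∈ F.focalSubgroup.subgroupOf P := by
  refine Subgroup.mem_subgroupOf.mpr (Subgroup.subset_closure
    ⟨P, conjHom P (y : G), x⁻¹, F.conj_mem le_rfl y.2, ?_⟩)
  show (x : G) * (y : G) * (x : G)⁻¹ * (y : G)⁻¹ =
    ((x⁻¹ : P) : G)⁻¹ * ((y : G) * ((x⁻¹ : P) : G) * (y : G)⁻¹)
  simp [mul_assoc]

end CfsgLib.Block
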