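import Cfsg.Agent.Lib.Block.CentralDefect
import Cfsg.Agent.Lib.Fusion.System.TopCriterion
import Cfsg.Agent.Lib.Fusion.System.Alperin
import Cfsg.Prelude.Def_BlockFusion

/-!
# The fusion system of a block: fully normalized and centralized subgroups, saturation
-/

open Finset MonoidAlgebra
open scoped ComplexConjugate

set_option linter.unusedSectionVars false

namespace CfsgLib.Block

open Cfsg
open Cfsg.FusionSystem (normalizerIn centralizerIn extender)

universe u

open scoped Pair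

variable {p : ℕ} {M : Ideal AlgInt} [M.IsMaximal] {G : Type u} [Group G] [Fintype G] [DecidableEq G]
  {Q R P : Subgroup G}

/-! ### Pairs below a maximal pair -/

theorem conjBlock_eq_of_mem (hM : IsPModular p M) {f : Set (IrrCharacter (CQ Q))} (hf : IsPBlock M f)
    {n : G} (hn : n ∈ Subgroup.normalizer (Q : Set G)) (hst : cj n (eG M f) = eG M f) :
    cjP n ⟨Q, f⟩ = (⟨Q, f⟩ : BrauerPairIdx G) :=
  pair_ext hM (isPBlock_conjBlock n hf) hf (cjS_eq_of_mem_normalizer hn)
    ((eG_conjBlock n f).trans hst)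

variable (p M) in
/-- The pair lies below `(P, e)`. -/
def Below (P : Subgroup G) (e : Set (IrrCharacter (CQ P))) (a : BrauerPairIdx G) : Prop :=
  Relation.ReflTransGen (NormalSubpairRel p M) a ⟨P, e⟩

variable {e : Set (IrrCharacter (CQ P))}

theorem below_iff {f : Set (IrrCharacter (CQ Q))} :
    Below p M P e ⟨Q, f⟩ ↔ SubpairLE p M Q f P e := Iff.rfl

theorem isBrauerPair_of_below (hM : IsPModular p M) (he : IsBrauerPair p M P e)
    {f : Set (IrrCharacter (CQ Q))} (h : SubpairLE p M Q f P e) : IsBrauerPair p M Q f := by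
  obtain ⟨f', hf', hle⟩ := exists_subpairLE hM he Q (SubpairLE.le h)
  rwa [SubpairLE.unique hM he h hle]

theorem cjP_top_of_mem (hM : IsPModular p M) (he : IsBrauerPair p M P e) {u : G} (hu : u ∈ P) :
    cjP u ⟨P, e⟩ = (⟨P, e⟩ : BrauerPairIdx G) :=
  conjBlock_eq_of_mem hM he.2 (Subgroup.le_normalizer hu) (cinv_iff_cj.mp (cinv_self_eG e) u hu)

theorem below_conj (hM : IsPModular p M) {a : BrauerPairIdx G} {n : G}
    (h : Below p M P e a) (hn : cjP n ⟨P, e⟩ = (⟨P, e⟩ : BrauerPairIdx G)) :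
    Below p M P e (cjP n a) := by
  obtain ⟨Q, f⟩ := a
  have h1 : Relation.ReflTransGen (NormalSubpairRel p M) (cjP n ⟨Q, f⟩) (cjP n ⟨P, e⟩) :=
    SubpairLE.conj hM n h
  rw [hn] at h1
  exact h1

/-- A conjugation carrying a pair below `(P, e)` carries every smaller pair below `(P, e)`. -/
theorem below_conj_sub (hM : IsPModular p M) (he : IsBrauerPair p M P e) {g : G}
    {f : Set (IrrCharacter (CQ Q))} (hf : SubpairLE p M Q f P e)
    (hg : Below p M P e (cjP g ⟨Q, f⟩)) (hRQ : R ≤ Q) {f' : Set (IrrCharacter (CQ R))}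
    (hf' : SubpairLE p M R f' P e) : Below p M P e (cjP g ⟨R, f'⟩) := by
  obtain ⟨f1, hf1, hle⟩ := exists_subpairLE hM (isBrauerPair_of_below hM he hf) R hRQ
  obtain rfl : f1 = f' := SubpairLE.unique hM he (hle.trans hf) hf'
  have h1 : Relation.ReflTransGen (NormalSubpairRel p M) (cjP g ⟨R, f1⟩) (cjP g ⟨Q, f⟩) :=
    SubpairLE.conj hM g hle
  exact h1.trans hg

/-! ### The block fusion system -/

variable (p M P e) in
/-- The maps of the fusion system of the pair. -/
def BHom (Q : Subgroup G) : Set (Q →* G) :=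
  {φ | Q ≤ P ∧ ∃ g : G, (∀ u : Q, φ u = g * (u : G) * g⁻¹) ∧ cjS g Q ≤ P ∧
    ∃ f : Set (IrrCharacter (CQ Q)), SubpairLE p M Q f P e ∧
      SubpairLE p M (cjS g Q) (conjBlock Q g f) P e}

theorem range_eq_cjS {φ : Q →* G} {g : G} (h : ∀ u : Q, φ u = g * (u : G) * g⁻¹) :
    φ.range = cjS g Q := by
  ext y
  simp only [MonoidHom.mem_range, Subgroup.mem_map, h, MulEquiv.coe_toMonoidHom, MulAut.conj_apply]
  exact ⟨fun ⟨u, hu⟩ => ⟨u, u.2, hu⟩, fun ⟨u, hu, h'⟩ => ⟨⟨u, hu⟩, h'⟩⟩

/-- The fusion system of a pair. -/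
def blockFusion (hM : IsPModular p M) (he : IsBrauerPair p M P e) : FusionSystem P where
  Hom := BHom p M P e
  le_of_mem := fun ⟨hQ, g, hg, hle, _⟩ =>
    ⟨hQ, fun x => hle (by rw [hg x]; exact conj_mem_cjS.mpr x.2)⟩
  injective_of_mem := fun ⟨_, g, hg, _⟩ x y hxy => by
    rw [hg x, hg y] at hxy
    exact Subtype.ext (mul_left_cancel (mul_right_cancel hxy))
  conj_mem := fun {Q g} hQ hg => by
    obtain ⟨f, -, hf⟩ := exists_subpairLE hM he Q hQ
    exact ⟨hQ, g, fun u => rfl, (cjS_mono hQ).trans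
      (cjS_eq_of_mem_normalizer (Subgroup.le_normalizer hg)).le, f, hf,
      below_conj hM hf (cjP_top_of_mem hM he hg)⟩
  comp_mem := by
    rintro R Q φ ψ ⟨hR, g, hg, hgle, f, hf, hgf⟩ ⟨hQ, k, hk, hkle, f', hf', hkf⟩ h
    have hRQ : cjS g R ≤ Q := by
      rw [← range_eq_cjS hg]
      rintro _ ⟨x, rfl⟩
      exact h x
    have h1 : Below p M P e (cjP k (cjP g ⟨R, f⟩)) := below_conj_sub hM he hf' hkf hRQ hgf
    rw [cjP_cjP hM k g (isBrauerPair_of_below hM he hf).2] at h1
    refine ⟨hR, k * g, fun u => ?_, SubpairLE.le h1, f, hf, h1⟩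
    simp only [MonoidHom.comp_apply, hk, MonoidHom.codRestrict_apply, hg, mul_inv_rev, mul_assoc]
  inv_mem := by
    rintro R φ ⟨hR, g, hg, hgle, f, hf, hgf⟩
    refine ⟨(MulAut.conj g⁻¹).toMonoidHom.comp φ.range.subtype, ?_, fun x => ?_⟩
    · have hb := isBrauerPair_of_below hM he hf
      have key : ∀ T : Subgroup G, T = cjS g R → ∀ ψ : T →* G,
          (∀ x : T, ψ x = g⁻¹ * (x : G) * g⁻¹⁻¹) → ψ ∈ BHom p M P e T := by
        rintro T rfl ψ hψ
        have h1 : Below p M P e (cjP g⁻¹ (cjP g ⟨R, f⟩)) := by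
          rw [cjP_cjP hM g⁻¹ g hb.2, inv_mul_cancel, cjP_one hM hb.2]
          exact hf
        exact ⟨hgle, g⁻¹, hψ, SubpairLE.le h1, conjBlock R g f, hgf, h1⟩
      exact key _ (range_eq_cjS hg) _ fun x => rfl
    · simp [hg, mul_assoc]

theorem isBlockFusionSystemOn_blockFusion (hM : IsPModular p M) {B : Set (IrrCharacter G)}
    (hmax : IsMaximalBrauerPair p M B P e) :
    IsBlockFusionSystemOn p M B P e (blockFusion hM hmax.1.1) :=
  ⟨hmax, fun _ _ => Iff.rfl⟩

theorem isConj_iff_below {B : Set (IrrCharacter G)} {F : FusionSystem P}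
    (hM : IsPModular p M) (hF : IsBlockFusionSystemOn p M B P e F) {f : Set (IrrCharacter (CQ Q))}
    (hle : SubpairLE p M Q f P e) :
    F.IsConj Q R ↔ ∃ g : G, cjS g Q = R ∧ SubpairLE p M (cjS g Q) (conjBlock Q g f) P e := by
  constructor
  · rintro ⟨φ, hφ, rfl⟩
    obtain ⟨-, g, hg, -, f', hf', hgf⟩ := (hF.2 Q φ).mp hφ
    obtain rfl : f' = f := SubpairLE.unique hM hF.1.1.1 hf' hle
    exact ⟨g, (range_eq_cjS hg).symm, hgf⟩
  · rintro ⟨g, rfl, hgf⟩
    refine ⟨(MulAut.conj g).toMonoidHom.comp Q.subtype, (hF.2 Q _).mpr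
      ⟨SubpairLE.le hle, g, fun u => rfl, SubpairLE.le hgf, f, hle, hgf⟩, range_eq_cjS fun u => rfl⟩

/-! ### Defect groups of local blocks along conjugation -/

theorem conjBlock_inv (hM : IsPModular p M) (x : G) {f : Set (IrrCharacter (CQ Q))}
    (hf : IsPBlock M f) :
    cjP x⁻¹ (cjP x ⟨Q, f⟩) = (⟨Q, f⟩ : BrauerPairIdx G) := by
  rw [cjP_cjP hM x⁻¹ x hf, inv_mul_cancel, cjP_one hM hf]

theorem IsLocalBlock.card_defect_conj_le (hM : IsPModular p M) {f : Set (IrrCharacter (CQ Q))}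
    (hf : IsBrauerPair p M Q f) {T : Subgroup G} {F : Set (IrrCharacter T)}
    (hL : IsLocalBlock M Q f T F) {D : Subgroup T} (hD : IsDefectGroup p M F D) {x : G}
    {T' : Subgroup G} (hT' : ∀ u, u ∈ T' ↔ x⁻¹ * u * x ∈ T) {F' : Set (IrrCharacter T')}
    (hL' : IsLocalBlock M (cjS x Q) (conjBlock Q x f) T' F') {D' : Subgroup T'}
    (hD' : IsDefectGroup p M F' D') : Nat.card D' ≤ Nat.card D := by
  classical
  have hf' : IsBrauerPair p M (cjS x Q) (conjBlock Q x f) := isBrauerPair_conj x hf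
  have hpD' := isPGroup_defectGroup hM hL'.block hD'
  obtain ⟨g', hg'⟩ := (hL'.conjLE_iff hM hf' hD' hpD').mp (conjLE_of_le le_rfl)
  have h1 := hg'.conj hM x⁻¹
  have e1 := conjBlock_inv (M := M) hM x hf.2
  have h2 : NSub p M (cjP x⁻¹ (⟨cjS x Q, conjBlock Q x f⟩ : BrauerPairIdx G)).1
      (cjP x⁻¹ (⟨cjS x Q, conjBlock Q x f⟩ : BrauerPairIdx G)).2
      (cjS x⁻¹ (cjS x Q ⊔ D'.map T'.subtype))
      (conjBlock (cjS x Q ⊔ D'.map T'.subtype) x⁻¹ g') := h1
  have e2 : cjP x⁻¹ (⟨cjS x Q, conjBlock Q x f⟩ : BrauerPairIdx G) = ⟨Q, f⟩ := e1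
  rw [e2] at h2
  set E := cjS x⁻¹ (D'.map T'.subtype) with hE
  have hET : E ≤ T := fun u hu => by
    have h3 := mem_cjS.mp hu
    rw [inv_inv] at h3
    have h4 := (hT' _).mp (Subgroup.map_subtype_le D' h3)
    simpa [mul_assoc] using h4
  have hsup : cjS x⁻¹ (cjS x Q ⊔ D'.map T'.subtype) = Q ⊔ (E.subgroupOf T).map T.subtype := by
    rw [Subgroup.map_subgroupOf_eq_of_le hET, hE]
    show Subgroup.map _ _ = _
    rw [Subgroup.map_sup]
    congr 1
    show cjS x⁻¹ (cjS x Q) = Q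
    rw [cjS_cjS, inv_mul_cancel, cjS_one]
  have hex : ∃ g, NSub p M Q f (cjS x⁻¹ (cjS x Q ⊔ D'.map T'.subtype)) g := ⟨_, h2⟩
  rw [hsup] at hex
  have hcE : ConjLE (E.subgroupOf T) D :=
    (hL.conjLE_iff hM hf hD
      (((hpD'.map _).map _).of_equiv (Subgroup.subgroupOfEquivOfLe hET).symm)).mpr hex
  have h3 := hcE.card_le
  rwa [Nat.card_congr (Subgroup.subgroupOfEquivOfLe hET).toEquiv, hE, card_cjS,
    Subgroup.card_map_of_injective Subtype.val_injective] at h3

theorem card_subgroupOf_eq {A T : Subgroup G} (h : A ≤ T) :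
    Nat.card (A.subgroupOf T) = Nat.card A :=
  Nat.card_congr (Subgroup.subgroupOfEquivOfLe h).toEquiv

theorem card_subgroupOf_inf (A T : Subgroup G) :
    Nat.card ((A ⊓ T).subgroupOf T) = Nat.card (A ⊓ T : Subgroup G) :=
  card_subgroupOf_eq inf_le_right

/-- A `p`-subgroup conjugate into a defect group of at least its order is a defect group. -/
theorem isDefectGroup_of_conjLE_card {A : Type u} [Group A] [Fintype A] [DecidableEq A]
    (hM : IsPModular p M) {B : Set (IrrCharacter A)} (hB : IsPBlock M B) {D R : Subgroup A}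
    (hD : IsDefectGroup p M B D) (h : ConjLE R D) (hc : Nat.card D ≤ Nat.card R) :
    IsDefectGroup p M B R := by
  obtain ⟨c, hc'⟩ := h.exists_eq hc
  have := isDefectGroup_conj hM hB hD c⁻¹
  rw [← hc'] at this
  convert this using 1
  show R = Subgroup.map _ (Subgroup.map _ R)
  rw [Subgroup.map_map]
  convert (Subgroup.map_id R).symm using 2
  ext u
  simp [mul_assoc]

/-- A family of local blocks along conjugation: the largest intersection with `P` is the defect. -/
theorem IsLocalBlock.inf_card_le (hM : IsPModular p M) (he : IsBrauerPair p M P e)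
    {f : Set (IrrCharacter (CQ Q))} (hf : IsBrauerPair p M Q f) {T : Subgroup G}
    {F : Set (IrrCharacter T)} (hL : IsLocalBlock M Q f T F) {D : Subgroup T}
    (hD : IsDefectGroup p M F D) {x : G} {T' : Subgroup G}
    (hT' : ∀ u, u ∈ T' ↔ x⁻¹ * u * x ∈ T) {F' : Set (IrrCharacter T')}
    (hL' : IsLocalBlock M (cjS x Q) (conjBlock Q x f) T' F')
    (hle : SubpairLE p M (cjS x Q) (conjBlock Q x f) P e) :
    Nat.card (P ⊓ T' : Subgroup G) ≤ Nat.card D := by
  obtain ⟨D', hD'⟩ := exists_defectGroup hM hL'.block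
  rw [← card_subgroupOf_inf]
  exact (hL'.inf_conjLE hM (isBrauerPair_conj x hf) he hle hD').card_le.trans
    (hL.card_defect_conj_le hM hf hD hT' hL' hD')

theorem inv_conj_mem_cq_iff {x u : G} :
    u ∈ CQ (cjS x Q) ↔ x⁻¹ * u * x ∈ CQ Q := by
  have h := cq_cjS_iff x Q (x⁻¹ * u * x)
  rw [show x * (x⁻¹ * u * x) * x⁻¹ = u by group] at h
  exact h.symm

/-- The centralizer in `P` is a defect group exactly for the fully centralized subgroups. -/
theorem isFullyCentralized_iff (hM : IsPModular p M) {B : Set (IrrCharacter G)}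
    {F : FusionSystem P} (hF : IsBlockFusionSystemOn p M B P e F) {f : Set (IrrCharacter (CQ Q))}
    (hle : SubpairLE p M Q f P e) :
    F.IsFullyCentralized Q ↔ IsDefectGroup p M f ((P ⊓ CQ Q).subgroupOf (CQ Q)) := by
  classical
  have hmax := hF.1
  have he := hmax.1.1
  have hf := isBrauerPair_of_below hM he hle
  have hL := isLocalBlock_self (M := M) (Q := Q) hf.2
  obtain ⟨D, hD⟩ := exists_defectGroup hM hL.block
  have hub : Nat.card (P ⊓ CQ Q : Subgroup G) ≤ Nat.card D := by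
    rw [← card_subgroupOf_inf]
    exact (hL.inf_conjLE hM hf he hle hD).card_le
  constructor
  · intro hfc
    obtain ⟨x, hx, hDx⟩ := hL.exists_conj_le hM hf hmax hle hD
    have hQ' := (isConj_iff_below hM hF hle).mpr ⟨x, rfl, hx⟩
    have hbig : cjS x (D.map (CQ Q).subtype) ≤ centralizerIn P (cjS x Q) :=
      le_inf hDx fun u hu => inv_conj_mem_cq_iff.mpr (Subgroup.map_subtype_le D (mem_cjS.mp hu))
    have h1 := (Subgroup.card_le_of_le hbig).trans (hfc.2 _ hQ')
    rw [card_cjS, Subgroup.card_map_of_injective Subtype.val_injective] at h1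
    exact isDefectGroup_of_conjLE_card hM hL.block hD (hL.inf_conjLE hM hf he hle hD)
      (h1.trans (card_subgroupOf_inf P (CQ Q)).ge)
  · intro hdef
    refine ⟨SubpairLE.le hle, fun Q' hQ' => ?_⟩
    obtain ⟨g, rfl, hg⟩ := (isConj_iff_below hM hF hle).mp hQ'
    refine le_trans (hL.inf_card_le hM he hf hdef (fun u => inv_conj_mem_cq_iff)
      (isLocalBlock_self (isBrauerPair_conj g hf).2) hg) (card_subgroupOf_inf P (CQ Q)).le

/-- A stabilizer subgroup. -/
theorem exists_stab_subgroup (hM : IsPModular p M) {f : Set (IrrCharacter (CQ Q))}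
    (hf : IsPBlock M f) :
    ∃ T : Subgroup G, ∀ y, y ∈ T ↔ y ∈ Subgroup.normalizer (Q : Set G) ∧
      StabilizesBlock (CQ Q) f y := by
  refine ⟨{ carrier := {y | y ∈ Subgroup.normalizer (Q : Set G) ∧ cj y (eG M f) = eG M f}
            one_mem' := ⟨Subgroup.one_mem _, cj_one _⟩
            mul_mem' := fun {a b} ha hb =>
              ⟨Subgroup.mul_mem _ ha.1 hb.1, by rw [← cj_cj, hb.2, ha.2]⟩
            inv_mem' := fun {a} ha => ⟨Subgroup.inv_mem _ ha.1, by
              conv_lhs => rw [← ha.2, cj_cj, inv_mul_cancel, cj_one]⟩ }, fun y => ?_⟩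
  exact and_congr_right fun hy => (stabilizesBlock_iff hM hy hf).symm

/-- The stabilizer of the conjugate pair. -/
theorem mem_stab_conj_iff (hM : IsPModular p M) {f : Set (IrrCharacter (CQ Q))}
    (hf : IsPBlock M f) {x u : G} :
    (u ∈ Subgroup.normalizer (cjS x Q : Set G) ∧
      StabilizesBlock (CQ (cjS x Q)) (conjBlock Q x f) u) ↔
    (x⁻¹ * u * x ∈ Subgroup.normalizer (Q : Set G) ∧ StabilizesBlock (CQ Q) f (x⁻¹ * u * x)) := by
  rw [mem_normalizer_cjS_iff]
  refine and_congr_right fun hu => ?_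
  rw [stabilizesBlock_iff hM (mem_normalizer_cjS_iff.mpr hu) (isPBlock_conjBlock x hf),
    stabilizesBlock_iff hM hu hf,
    show eG M (conjBlock Q x f : Set (IrrCharacter (CQ (cjS x Q)))) = cj x (eG M f) from
      eG_conjBlock x f, cj_cj]
  constructor
  · intro h
    rw [mul_assoc, ← cj_cj, h, cj_cj, inv_mul_cancel, cj_one]
  · intro h
    have h1 := congrArg (cj x) h
    rw [cj_cj] at h1
    rwa [show x * (x⁻¹ * u * x) = u * x by group] at h1

theorem exists_stab_conj (hM : IsPModular p M) {f : Set (IrrCharacter (CQ Q))}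
    (hf : IsBrauerPair p M Q f) {T : Subgroup G}
    (hT : ∀ y, y ∈ T ↔ y ∈ Subgroup.normalizer (Q : Set G) ∧ StabilizesBlock (CQ Q) f y) (x : G) :
    ∃ (T' : Subgroup G) (F' : Set (IrrCharacter T')),
      (∀ u, u ∈ T' ↔ x⁻¹ * u * x ∈ T) ∧
      (∀ u, u ∈ T' ↔ u ∈ Subgroup.normalizer (cjS x Q : Set G) ∧
        StabilizesBlock (CQ (cjS x Q)) (conjBlock Q x f) u) ∧
      IsLocalBlock M (cjS x Q) (conjBlock Q x f) T' F' := by
  obtain ⟨T', hT'⟩ := exists_stab_subgroup hM (isBrauerPair_conj (p := p) x hf).2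
  obtain ⟨F', hF', -⟩ := exists_stabilizerBlock hM (isBrauerPair_conj x hf) hT'
  exact ⟨T', F', fun u => (hT' u).trans ((mem_stab_conj_iff hM hf.2).trans (hT _).symm), hT', hF'⟩

/-- The normalizer in `P` is a defect group exactly for the fully normalized subgroups. -/
theorem isFullyNormalized_iff (hM : IsPModular p M) {B : Set (IrrCharacter G)}
    {F : FusionSystem P} (hF : IsBlockFusionSystemOn p M B P e F) {f : Set (IrrCharacter (CQ Q))}
    (hle : SubpairLE p M Q f P e) {T : Subgroup G}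
    (hT : ∀ y, y ∈ T ↔ y ∈ Subgroup.normalizer (Q : Set G) ∧ StabilizesBlock (CQ Q) f y)
    {FT : Set (IrrCharacter T)} (hL : IsLocalBlock M Q f T FT) :
    F.IsFullyNormalized Q ↔
      IsDefectGroup p M FT ((P ⊓ Subgroup.normalizer (Q : Set G)).subgroupOf T) := by
  classical
  have hmax := hF.1
  have he := hmax.1.1
  have hf := isBrauerPair_of_below hM he hle
  obtain ⟨D, hD⟩ := exists_defectGroup hM hL.block
  have heq := inf_stabilizer_eq hM he hle hf hT
  rw [← heq]
  constructor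
  · intro hfn
    obtain ⟨x, hx, hDx⟩ := hL.exists_conj_le hM hf hmax hle hD
    obtain ⟨T', F', hT', hTT, hL'⟩ := exists_stab_conj hM hf hT x
    have hbig : cjS x (D.map T.subtype) ≤ normalizerIn P (cjS x Q) := by
      refine le_inf hDx fun u hu => ?_
      exact ((hTT u).mp ((hT' u).mpr (Subgroup.map_subtype_le D (mem_cjS.mp hu)))).1
    have h1 := (Subgroup.card_le_of_le hbig).trans
      (hfn.2 _ ((isConj_iff_below hM hF hle).mpr ⟨x, rfl, hx⟩))
    rw [card_cjS, Subgroup.card_map_of_injective Subtype.val_injective,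
      show normalizerIn P Q = P ⊓ T from heq.symm, ← card_subgroupOf_inf] at h1
    exact isDefectGroup_of_conjLE_card hM hL.block hD (hL.inf_conjLE hM hf he hle hD) h1
  · intro hdef
    refine ⟨SubpairLE.le hle, fun Q' hQ' => ?_⟩
    obtain ⟨g, rfl, hg⟩ := (isConj_iff_below hM hF hle).mp hQ'
    obtain ⟨T', F', hT', hTT, hL'⟩ := exists_stab_conj hM hf hT g
    have h := hL.inf_card_le hM he hf hdef hT' hL' hg
    rw [inf_stabilizer_eq hM he hg (isBrauerPair_conj g hf) hTT, card_subgroupOf_inf, heq] at h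
    exact h

theorem le_defect_centralizer (hM : IsPModular p M) {f : Set (IrrCharacter (CQ Q))}
    (hf : IsBrauerPair p M Q f) {D : Subgroup (CQ Q)} (hD : IsDefectGroup p M f D) :
    (Q ⊓ CQ Q).subgroupOf (CQ Q) ≤ D := by
  have hn : ((Q ⊓ CQ Q).subgroupOf (CQ Q)).Normal := by
    refine ⟨fun u hu c => ?_⟩
    have hcomm : Commute ((u : CQ Q) : G) (c : G) :=
      Subgroup.mem_centralizer_iff.mp c.2 _ (Subgroup.mem_subgroupOf.mp hu).1
    rw [Subgroup.mem_subgroupOf, Subgroup.coe_mul, Subgroup.coe_mul, Subgroup.coe_inv, ← hcomm.eq,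
      mul_inv_cancel_right]
    exact Subgroup.mem_subgroupOf.mp hu
  exact normal_le_defectGroup hM hf.2 hD
    ((hf.1.to_le inf_le_left).of_equiv (Subgroup.subgroupOfEquivOfLe inf_le_right).symm)

/-- The centric subgroups are those whose centre is a defect group. -/
theorem isCentric_iff (hM : IsPModular p M) {B : Set (IrrCharacter G)}
    {F : FusionSystem P} (hF : IsBlockFusionSystemOn p M B P e F) {f : Set (IrrCharacter (CQ Q))}
    (hle : SubpairLE p M Q f P e) :
    F.IsCentric Q ↔ IsDefectGroup p M f ((Q ⊓ CQ Q).subgroupOf (CQ Q)) := by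
  classical
  have hmax := hF.1
  have he := hmax.1.1
  have hf := isBrauerPair_of_below hM he hle
  have hL := isLocalBlock_self (M := M) (Q := Q) hf.2
  have hQP := SubpairLE.le hle
  have hzc : ∀ x : G, Nat.card (cjS x Q ⊓ CQ (cjS x Q) : Subgroup G) =
      Nat.card (Q ⊓ CQ Q : Subgroup G) := by
    intro x
    rw [← card_cjS x (Q ⊓ CQ Q)]
    congr 2
    ext u
    rw [mem_cjS, Subgroup.mem_inf, Subgroup.mem_inf, mem_cjS, inv_conj_mem_cq_iff]
  constructor
  · intro hc
    obtain ⟨D, hD⟩ := exists_defectGroup hM hL.block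
    obtain ⟨x, hx, hDx⟩ := hL.exists_conj_le hM hf hmax hle hD
    have hCQ : cjS x (D.map (CQ Q).subtype) ≤ CQ (cjS x Q) :=
      fun u hu => inv_conj_mem_cq_iff.mpr (Subgroup.map_subtype_le D (mem_cjS.mp hu))
    have h1 := hc.2 _ ((isConj_iff_below hM hF hle).mpr ⟨x, rfl, hx⟩)
    have hbig : cjS x (D.map (CQ Q).subtype) ≤ cjS x Q ⊓ CQ (cjS x Q) :=
      le_inf ((le_inf hDx hCQ).trans h1) hCQ
    have h2 := Subgroup.card_le_of_le hbig
    rw [card_cjS, Subgroup.card_map_of_injective Subtype.val_injective, hzc,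
      ← card_subgroupOf_inf] at h2
    exact isDefectGroup_of_conjLE_card hM hL.block hD
      (conjLE_of_le (le_defect_centralizer hM hf hD)) h2
  · intro hdef
    refine ⟨hQP, fun Q' hQ' => ?_⟩
    obtain ⟨g, rfl, hg⟩ := (isConj_iff_below hM hF hle).mp hQ'
    have h := hL.inf_card_le hM he hf hdef (fun u => inv_conj_mem_cq_iff)
      (isLocalBlock_self (isBrauerPair_conj g hf).2) hg
    rw [card_subgroupOf_inf, ← hzc g] at h
    have hsub : cjS g Q ⊓ CQ (cjS g Q) ≤ P ⊓ CQ (cjS g Q) :=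
      inf_le_inf_right _ (SubpairLE.le hg)
    exact (Subgroup.eq_of_le_of_card_ge hsub h).ge.trans inf_le_left

end CfsgLib.Block
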