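import Cfsg.Agent.Lib.Block.Covering
import Cfsg.Agent.Lib.Block.Fusion
import Cfsg.Agent.Lib.PGroup.CentralizerCount
import Cfsg.Agent.Lib.Block.FirstMain

/-!
# Defect groups of covering blocks

Intersections of defect groups with the normal subgroup, stable blocks and maximal defect, and
normal subgroups of `p`-power index.
-/

open Finset MonoidAlgebra
open scoped ComplexConjugate

set_option linter.unusedSectionVars false

namespace CfsgLib.Block

open Cfsg CfsgLib.Block.Iso
open scoped Pair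

universe u

variable {p : ℕ} {M : Ideal AlgInt} [M.IsMaximal] {G : Type u} [Group G] [Fintype G] [DecidableEq G]
  {N : Subgroup G} [hNn : N.Normal] [Fintype N] [Fintype (ConjClasses N)] [Fintype (G ⧸ N)]

theorem cjN_image_image (g h : G) (S : Set (IrrCharacter N)) :
    cjN g '' (cjN h '' S) = cjN (g * h) '' S := by
  rw [Set.image_image]
  exact Set.image_congr fun θ _ => cjN_cjN g h θ

theorem cjN_one_image (S : Set (IrrCharacter N)) : cjN (1 : G) '' S = S := by
  rw [Set.image_congr (fun θ (_ : θ ∈ S) => cjN_one θ), Set.image_id']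

/-- Stabilizing a block of a normal subgroup. -/
theorem stabilizesBlock_iff_cjN {b : Set (IrrCharacter N)} {g : G} :
    StabilizesBlock N b g ↔ cjN g '' b = b := by
  have := Fintype.ofFinite (IrrCharacter N)
  have hg : g ∈ Subgroup.normalizer (N : Set G) := by rw [Subgroup.normalizer_eq_top]; trivial
  rw [StabilizesBlock, and_iff_right hg]
  constructor
  · intro h
    refine Set.eq_of_subset_of_ncard_le ?_ (Set.ncard_image_of_injective b
      (irrEquiv (cjHom (K := N) (K' := N) (nconj g))).injective).ge (Set.toFinite b)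
    rintro _ ⟨θ, hθ, rfl⟩
    obtain ⟨θ', hθ', hc⟩ := h θ hθ
    convert hθ' using 1
    exact Subtype.ext (funext fun n => by
      rw [cjN_apply]
      exact (hc _ n (by simp [mul_assoc])).symm)
  · intro h θ hθ
    refine ⟨cjN g θ, h ▸ ⟨θ, hθ, rfl⟩, fun k k' hk => ?_⟩
    rw [cjN_apply]
    exact congrArg _ (Subtype.ext (by simp [hk, mul_assoc]))

/-- An element of the Brauer image of a covering block comes from a stable conjugate. -/
theorem Covers.exists_stable (hM : IsPModular p M) {B : Set (IrrCharacter G)} (hB : IsPBlock M B)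
    {b : Set (IrrCharacter N)} (hb : IsPBlock M b) (h : Covers B b) {R : Subgroup G}
    (hR : IsPGroup p R) {x : G} (hx : x ∈ CQ R) (hxc : coeffRes M B x ≠ 0) :
    ∃ (g : G) (f : Set (IrrCharacter N)), IsPBlock M f ∧ cjN g '' f = b ∧
      (∀ u ∈ R, cjN u '' f = f) ∧ ∃ y : N, (y : G) ∈ CQ R ∧ coeffRes M f y ≠ 0 := by
  classical
  have hpf : Fact p.Prime := ⟨hM.1⟩
  have := charP_resField hM
  have := Fintype.ofFinite (IrrCharacter N)
  have := Fintype.ofFinite {f : Set (IrrCharacter N) // IsPBlock M f}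
  have hne : ∃ y : N, (y : G) ∈ CQ R ∧ coeffRes M (orbSet (G := G) b) y ≠ 0 := by
    by_contra hall
    push Not at hall
    have h0 : trC R (eG M (orbSet (G := G) b)) = 0 := ga_ext fun g => by
      by_cases hg : g ∈ CQ R
      · rw [coeff_trC _ hg]
        by_cases hgN : g ∈ N
        · rw [show g = ((⟨g, hgN⟩ : N) : G) from rfl, coeff_eG, hall _ hg]; simp
        · rw [suppIn_eG _ g hgN]; simp
      · rw [suppIn_trC _ g hg]; simp
    have h1 := trC_mul hM hR (cinv_of_central (blockBar M B) R)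
      ((cinv_eG_orbSet (M := M) b).mono le_top)
    rw [h.blockBar_mul hM hB hb, h0, mul_zero] at h1
    have h2 := congrArg (fun y : MonoidAlgebra (ResField M) G => y.coeff x) h1
    simp only [coeff_trC _ hx, coeff_blockBar] at h2
    exact hxc (h2.trans (by simp))
  obtain ⟨y, hy, hyc⟩ := hne
  let BT := {f : Set (IrrCharacter N) // IsPBlock M f ∧ f ⊆ orbSet (G := G) b}
  have : Fintype BT := Fintype.ofFinite _
  have hsub : ∀ (u : G) {f : Set (IrrCharacter N)}, f ⊆ orbSet b → cjN u '' f ⊆ orbSet b := by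
    rintro u f hf _ ⟨θ, hθ, rfl⟩
    exact (cjN_mem_orbSet_iff u).mpr (hf hθ)
  letI : MulAction R BT :=
    { smul := fun u f => ⟨cjN (u : G) '' f.1, isPBlock_cjN _ f.2.1, hsub _ f.2.2⟩
      one_smul := fun f => Subtype.ext (cjN_one_image f.1)
      mul_smul := fun u v f => Subtype.ext (cjN_image_image (u : G) v f.1).symm }
  have hyR : ∀ u : R, (u : G)⁻¹ * (y : G) * u = y := fun u => by
    rw [mul_assoc, ← Subgroup.mem_centralizer_iff.mp hy u u.2, inv_mul_cancel_left]
  have hinv : ∀ (u : R) (f : BT), coeffRes M (u • f).1 y = coeffRes M f.1 y := fun u f => by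
    rw [← coeff_eG, ← coeff_eG]
    show (eG M (cjN (u : G) '' f.1)).coeff (y : G) = _
    rw [cj_eG_cjN, coeff_cj, hyR u]
  have hsum : coeffRes M (orbSet (G := G) b) y = ∑ f : BT, coeffRes M f.1 y := by
    have h1 := congrArg (fun z : ZK M N => (z : MonoidAlgebra (ResField M) N).coeff y)
      (blockBar_eq_sum hM (isBlockUnion_orbSet (G := G) hb))
    simp only [coeff_blockBar, AddSubmonoidClass.coe_finsetSum, coeff_sum_apply] at h1
    rw [h1]
    exact Finset.sum_bij' (fun f hf => ⟨f.1, f.2, (Finset.mem_filter.mp hf).2⟩)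
      (fun f _ => ⟨f.1, f.2.1⟩) (fun _ _ => Finset.mem_univ _)
      (fun f _ => Finset.mem_filter.mpr ⟨Finset.mem_univ _, f.2.2⟩) (fun _ _ => rfl)
      (fun _ _ => rfl) (fun _ _ => rfl)
  rw [hsum, sum_eq_sum_fixedPoints (p := p) hR _ hinv] at hyc
  obtain ⟨f, hf, hfc⟩ := Finset.exists_ne_zero_of_sum_ne_zero hyc
  obtain ⟨g, hg⟩ := (subset_orbSet_iff hb f.2.1).mp f.2.2
  exact ⟨g, f.1, f.2.1, hg,
    fun u hu => congrArg Subtype.val ((Finset.mem_filter.mp hf).2 ⟨u, hu⟩), y, hy, hfc⟩

/-- A conjugate of a defect group of a conjugate block. -/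
theorem conjLE_of_coeff (hM : IsPModular p M) {b f : Set (IrrCharacter N)} (hb : IsPBlock M b)
    {g : G} (hg : cjN g '' f = b) {Q R : Subgroup G}
    (hQ : IsDefectGroup p M b (Q.subgroupOf N)) (hR : IsPGroup p R) (hRN : R ≤ N)
    {y : N} (hy : (y : G) ∈ CQ R) (hyc : coeffRes M f y ≠ 0) :
    ConjLE ((cjS g R).subgroupOf N) (Q.subgroupOf N) := by
  classical
  have hgR : cjS g R ≤ N := by
    rintro _ ⟨u, hu, rfl⟩
    exact hNn.conj_mem u (hRN hu) g
  refine coeff_ne_zero_le_defect hM hb hQ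
    ((hR.map _).of_equiv (Subgroup.subgroupOfEquivOfLe hgR).symm)
    (x := ⟨g * y * g⁻¹, hNn.conj_mem y y.2 g⟩) ?_ fun u hu => ?_
  · rw [← coeff_eG, ← hg, cj_eG_cjN, coeff_cj]
    simpa [mul_assoc, coeff_eG] using hyc
  · obtain ⟨v, hv, hve⟩ := Subgroup.mem_subgroupOf.mp hu
    have h1 : Commute (v : G) (y : G) := Subgroup.mem_centralizer_iff.mp hy v hv
    refine Subtype.ext ?_
    simp only [Subgroup.coe_mul, ← hve]
    exact (h1.map (MulAut.conj g).toMonoidHom).eq

theorem card_le_of_coeff (hM : IsPModular p M) {b f : Set (IrrCharacter N)} (hb : IsPBlock M b)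
    {g : G} (hg : cjN g '' f = b) {Q R : Subgroup G} (hQN : Q ≤ N)
    (hQ : IsDefectGroup p M b (Q.subgroupOf N)) (hR : IsPGroup p R) (hRN : R ≤ N)
    {y : N} (hy : (y : G) ∈ CQ R) (hyc : coeffRes M f y ≠ 0) :
    Nat.card R ≤ Nat.card Q := by
  have h := (conjLE_of_coeff hM hb hg hQ hR hRN hy hyc).card_le
  have hgR : cjS g R ≤ N := by
    rintro _ ⟨u, hu, rfl⟩
    exact hNn.conj_mem u (hRN hu) g
  rwa [card_subgroupOf_eq hgR, card_subgroupOf_eq hQN, card_cjS] at h

/-- A defect group of the covering block meets the normal subgroup in the given defect group. -/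
theorem Covers.exists_defect_inf (hM : IsPModular p M) {B : Set (IrrCharacter G)}
    (hB : IsPBlock M B) {b : Set (IrrCharacter N)} (hb : IsPBlock M b) (h : Covers B b)
    {Q : Subgroup G} (hQN : Q ≤ N) (hQ : IsDefectGroup p M b (Q.subgroupOf N)) :
    ∃ P : Subgroup G, IsDefectGroup p M B P ∧ P ⊓ N = Q := by
  classical
  obtain ⟨x, hx, hxc⟩ := h.exists_coeff_ne_zero hM hB hb hQN hQ
  obtain ⟨D, hD⟩ := exists_defectGroup hM hB
  have hpQ : IsPGroup p Q :=
    (isPGroup_defectGroup hM hb hQ).of_equiv (Subgroup.subgroupOfEquivOfLe hQN)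
  obtain ⟨P, hP, hQP⟩ := exists_defectGroup_ge_of_conjLE hM hB hD
    (coeff_ne_zero_le_defect hM hB hD hpQ hxc fun u hu => Subgroup.mem_centralizer_iff.mp hx u hu)
  refine ⟨P, hP, (Subgroup.eq_of_le_of_card_ge (le_inf hQP hQN) ?_).symm⟩
  have hR : IsPGroup p (P ⊓ N : Subgroup G) := (isPGroup_defectGroup hM hB hP).to_le inf_le_left
  obtain ⟨x', hx', hxc'⟩ :=
    (brauer_blockIdem_ne_zero_iff hM hB hP hR).mpr (conjLE_of_le inf_le_left)
  obtain ⟨g, f, -, hg, -, y, hy, hyc⟩ := h.exists_stable hM hB hb hR hx' hxc'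
  exact card_le_of_coeff hM hb hg hQN hQ hR inf_le_right hy hyc

/-- The intersection of any defect group is a defect group of a stable covered block. -/
theorem Covers.exists_stable_inter (hM : IsPModular p M) {B : Set (IrrCharacter G)}
    (hB : IsPBlock M B) {b : Set (IrrCharacter N)} (hb : IsPBlock M b) (h : Covers B b)
    {P : Subgroup G} (hP : IsDefectGroup p M B P) :
    ∃ (g : G) (f : Set (IrrCharacter N)), IsPBlock M f ∧ cjN g '' f = b ∧
      (∀ u ∈ P, cjN u '' f = f) ∧ IsDefectGroup p M f ((P ⊓ N).subgroupOf N) := by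
  classical
  have hpf : Fact p.Prime := ⟨hM.1⟩
  have hpP := isPGroup_defectGroup hM hB hP
  obtain ⟨x, hx, hxc⟩ := (brauer_blockIdem_ne_zero_iff hM hB hP hpP).mpr (conjLE_of_le le_rfl)
  obtain ⟨g, f, hf, hg, hfix, y, hy, hyc⟩ := h.exists_stable hM hB hb hpP hx hxc
  refine ⟨g, f, hf, hg, hfix, ?_⟩
  obtain ⟨D, hD⟩ := exists_defectGroup hM hf
  have hle : ConjLE ((P ⊓ N).subgroupOf N) D :=
    coeff_ne_zero_le_defect hM hf hD
      ((hpP.to_le inf_le_left).of_equiv (Subgroup.subgroupOfEquivOfLe inf_le_right).symm) hyc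
      fun u hu => Subtype.ext (Subgroup.mem_centralizer_iff.mp hy (u : G)
        (Subgroup.mem_subgroupOf.mp hu).1)
  refine isDefectGroup_of_conjLE_card hM hf hD hle ?_
  -- `f` is covered, so some conjugate of `P` contains its defect group
  have hfB : Covers B f := by
    obtain ⟨χ, hχ, θ, hθ, hc⟩ := h
    refine ⟨χ, hχ, cjN g⁻¹ θ, ?_, by rwa [classInner_cjN]⟩
    rw [← cjN_one_image (G := G) f, ← inv_mul_cancel g, ← cjN_image_image, hg]
    exact ⟨θ, hθ, rfl⟩
  obtain ⟨P', hP', hinf⟩ := hfB.exists_defect_inf hM hB hf (Subgroup.map_subtype_le D)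
    (by rwa [Subgroup.subgroupOf, Subgroup.comap_map_eq_self_of_injective N.subtype_injective])
  obtain ⟨c, hc⟩ := defectGroup_conj hM hB hP hP'
  have hcjS : cjS c (P ⊓ N) = cjS c P ⊓ N := by
    ext v
    simp only [mem_cjS, Subgroup.mem_inf]
    exact and_congr_right fun _ => ⟨fun hv => by simpa [mul_assoc] using hNn.conj_mem _ hv c,
      fun hv => by simpa [mul_assoc] using hNn.conj_mem _ hv c⁻¹⟩
  have hcard : Nat.card (P ⊓ N : Subgroup G) = Nat.card (P' ⊓ N : Subgroup G) := by
    rw [← card_cjS c (P ⊓ N), hcjS]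
    exact congrArg (fun K : Subgroup G => Nat.card (K ⊓ N : Subgroup G)) hc
  rw [card_subgroupOf_eq (inf_le_right : P ⊓ N ≤ N), hcard, hinf,
    Subgroup.card_map_of_injective Subtype.val_injective]

/-- A `p`-group fixing a block fixes one of its defect classes. -/
theorem exists_fixed_defect_class (hM : IsPModular p M) {b : Set (IrrCharacter N)}
    (hb : IsPBlock M b) {S : Subgroup G} (hS : IsPGroup p S)
    (hst : ∀ u ∈ S, cjN u '' b = b) :
    ∃ s : N, IsDefectClass M b s ∧ coeffRes M b s ≠ 0 ∧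
      ∀ u ∈ S, ∃ c : N, (c : G) * u ∈ Subgroup.centralizer ({(s : G)} : Set G) := by
  classical
  have hpf : Fact p.Prime := ⟨hM.1⟩
  have := charP_resField hM
  obtain ⟨θ, hθ⟩ := isPBlock_nonempty hb
  let e : G → (N ≃* N) := fun g => cjHom (nconj g)
  have he : ∀ (g : G) (n : N), ((e g n : N) : G) = g * n * g⁻¹ := fun g n => rfl
  letI : MulAction S (ConjClasses N) :=
    { smul := fun u C => ConjClasses.map (e (u : G)).toMonoidHom C
      one_smul := fun C => by
        obtain ⟨n, rfl⟩ := ConjClasses.mk_surjective C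
        exact congrArg ConjClasses.mk (Subtype.ext (by simp [he]))
      mul_smul := fun u v C => by
        obtain ⟨n, rfl⟩ := ConjClasses.mk_surjective C
        exact congrArg ConjClasses.mk (Subtype.ext (by simp [he, mul_assoc])) }
  let F : ConjClasses N → ResField M := fun C => coeffRes M b (rep C) * centralRes M θ (rep C)
  have hF : ∀ n : N, F (ConjClasses.mk n) = coeffRes M b n * centralRes M θ n := fun n => by
    have h := isConj_rep n
    simp only [F]
    rw [coeffRes_isConj b h, show centralRes M θ (rep (ConjClasses.mk n)) = centralRes M θ n by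
      obtain ⟨c, hc⟩ := isConj_iff.mp h
      conv_rhs => rw [← hc, centralRes_conj_elt]]
  have hinv : ∀ (u : S) (C : ConjClasses N), F (u • C) = F C := by
    intro u C
    obtain ⟨n, rfl⟩ := ConjClasses.mk_surjective C
    show F (ConjClasses.mk (e (u : G) n)) = _
    rw [hF, hF]
    have hb' : irrEquiv (e (u : G)) '' b = b := hst u u.2
    have h2 : irrEquiv (e (u : G)) θ ∈ b := hb' ▸ ⟨θ, hθ, rfl⟩
    rw [show coeffRes M b (e (u : G) n) = coeffRes M b n by
        conv_lhs => rw [← hb', coeffRes_image_irrEquiv],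
      centralRes_eq_of_mem hb hθ h2 (e (u : G) n), centralRes_irrEquiv]
  have h1 := coeffRes_one_eq hM hb hθ
  rw [sum_eq_sum_fixedPoints (p := p) hS F hinv] at h1
  obtain ⟨C, hC, hCne⟩ := Finset.exists_ne_zero_of_sum_ne_zero (h1.trans_ne one_ne_zero)
  refine ⟨rep C, (isDefectClass_iff hM hb).mpr ⟨left_ne_zero_of_mul hCne, fun ψ hψ => ?_⟩,
    left_ne_zero_of_mul hCne, ?_⟩
  · rw [centralRes_eq_of_mem hb hψ hθ]
    exact right_ne_zero_of_mul hCne
  intro u hu
  have h2 : ConjClasses.map (e u).toMonoidHom (ConjClasses.mk (rep C)) = ConjClasses.mk (rep C) := by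
    rw [mk_rep]; exact (Finset.mem_filter.mp hC).2 ⟨u, hu⟩
  obtain ⟨c, hc⟩ := isConj_iff.mp (ConjClasses.mk_eq_mk_iff_isConj.mp h2)
  have h3 : (c : G) * (u * ((rep C : N) : G) * u⁻¹) * (c : G)⁻¹ = ((rep C : N) : G) :=
    congrArg Subtype.val hc
  refine ⟨c, Subgroup.mem_centralizer_singleton_iff.mpr ?_⟩
  calc (c : G) * u * ((rep C : N) : G)
      = ((c : G) * (u * ((rep C : N) : G) * u⁻¹) * (c : G)⁻¹) * ((c : G) * u) := by group
    _ = _ := by rw [h3]

/-- A stable block has a class of maximal centralizer modulo the normal subgroup. -/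
theorem exists_stable_defect_class (hM : IsPModular p M) {b : Set (IrrCharacter N)}
    (hb : IsPBlock M b) (hst : ∀ g : G, cjN g '' b = b) :
    ∃ s : N, IsDefectClass M b s ∧ coeffRes M b s ≠ 0 ∧
      ¬ p ∣ (N ⊔ Subgroup.centralizer ({(s : G)} : Set G)).index := by
  classical
  have hpf : Fact p.Prime := ⟨hM.1⟩
  obtain ⟨S⟩ : Nonempty (Sylow p G) := inferInstance
  obtain ⟨s, h1, h2, h3⟩ := exists_fixed_defect_class hM hb S.isPGroup' fun u _ => hst u
  refine ⟨s, h1, h2, fun hd => S.not_dvd_index (hd.trans (Subgroup.index_dvd_of_le fun u hu => ?_))⟩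
  obtain ⟨c, hc⟩ := h3 u hu
  rw [show u = (c : G)⁻¹ * ((c : G) * u) by group]
  exact mul_mem (inv_mem (le_sup_left (b := Subgroup.centralizer _) c.2)) (le_sup_right (a := N) hc)

/-- A covering block of maximal defect. -/
theorem exists_covers_defect_ge (hM : IsPModular p M) {b : Set (IrrCharacter N)}
    (hb : IsPBlock M b) (hst : ∀ g : G, cjN g '' b = b) :
    ∃ B : Set (IrrCharacter G), IsPBlock M B ∧ Covers B b ∧
      blockDefect p b + N.index.factorization p ≤ blockDefect p B := by
  classical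
  have hpf : Fact p.Prime := ⟨hM.1⟩
  have := Fintype.ofFinite (IrrCharacter N)
  have := Fintype.ofFinite (IrrCharacter G)
  have := Fintype.ofFinite {f : Set (IrrCharacter G) // IsPBlock M f}
  obtain ⟨s, hs, hsc, hsi⟩ := exists_stable_defect_class hM hb hst
  have horb : orbSet (G := G) b = b := by
    ext θ
    refine ⟨fun ⟨g, hg⟩ => ?_, fun h => subset_orbSet b h⟩
    rw [← hst g⁻¹]
    exact ⟨_, hg, by rw [cjN_cjN, inv_mul_cancel, cjN_one]⟩
  set z := zkOf M _ (cinv_eG_orbSet (G := G) (M := M) b) with hz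
  let T : Set (IrrCharacter G) := {χ | omegaBar M χ z = 1}
  have hTU : IsBlockUnion M T := fun χ hχ η hη => by
    show omegaBar M η z = 1
    rw [← omegaBar_eq_of_sameBlock (hη : SameBlock M (χ : G → ℂ) (η : G → ℂ))]
    exact hχ
  have hzT : z = blockBar M T := by
    have hzz : z * z = z := Subtype.ext (by
      show eG M (orbSet b) * eG M (orbSet b) = eG M (orbSet b)
      rw [eG, ← emb_mul, ← MulMemClass.coe_mul, blockBar_mul_self hM (isBlockUnion_orbSet hb)])
    refine eq_of_omegaBar_eq_of_idem hM hzz (blockBar_mul_self hM hTU) fun χ => ?_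
    rw [omegaBar_blockBar hM hTU]
    have h := congrArg (omegaBar M χ) hzz
    rw [map_mul] at h
    split_ifs with hχ
    · exact hχ
    · by_contra h0
      exact hχ (mul_right_cancel₀ h0 (h.trans (one_mul _).symm))
  have h1 : coeffRes M T (s : G) ≠ 0 := by
    rw [← coeff_blockBar, ← hzT, hz, coe_zkOf, horb, coeff_eG]
    exact hsc
  have h2 := congrArg (fun w : ZK M G => (w : MonoidAlgebra (ResField M) G).coeff (s : G))
    (blockBar_eq_sum hM hTU)
  simp only [coeff_blockBar, AddSubmonoidClass.coe_finsetSum, coeff_sum_apply] at h2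
  rw [h2] at h1
  obtain ⟨B, hBm, hBc⟩ := Finset.exists_ne_zero_of_sum_ne_zero h1
  have hcov : Covers B.1 b := by
    obtain ⟨χ, hχ⟩ := isPBlock_nonempty B.2
    obtain ⟨η, hη⟩ := exists_constituent (N := N) χ
    have h3 : omegaBar M χ z = 1 := (Finset.mem_filter.mp hBm).2 hχ
    rw [omegaBar_eq_omG_of_constituent χ η hη z (suppIn_eG _), hz, coe_zkOf,
      omG_eG_orbSet hM hb] at h3
    split_ifs at h3 with hmem
    · exact ⟨χ, hχ, η, horb ▸ hmem, hη⟩
    · exact absurd h3 zero_ne_one
  refine ⟨B.1, B.2, hcov, ?_⟩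
  set C := Subgroup.centralizer ({(s : G)} : Set G) with hC
  obtain ⟨R, hR⟩ := exists_isSylowCent p (s : G)
  obtain ⟨P, hP⟩ := exists_defectGroup hM B.2
  have h4 := (coeff_ne_zero_le_defect hM B.2 hP hR.isPGroup hBc hR.commute).card_le
  rw [hR.card_eq, defectGroup_card hM B.2 hP, Nat.pow_le_pow_iff_right hM.1.one_lt] at h4
  refine le_trans ?_ h4
  obtain ⟨D, hD⟩ := exists_isSylowCent p s
  have hDcard := defectGroup_card hM hb (isDefectGroup_of_isSylowCent hM hs hD)
  rw [hD.card_eq] at hDcard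
  have hd := Nat.pow_right_injective hM.1.two_le hDcard
  rw [← hd]
  have hCN : Nat.card (Subgroup.centralizer ({s} : Set N)) = Nat.card (C ⊓ N : Subgroup G) := by
    rw [← Subgroup.card_map_of_injective (f := N.subtype) (Subgroup.subtype_injective N)]
    congr 2
    ext v
    simp only [Subgroup.mem_map, hC, Subgroup.mem_inf, Subgroup.mem_centralizer_singleton_iff,
      Subgroup.coe_subtype]
    constructor
    · rintro ⟨w, hw, rfl⟩
      exact ⟨congrArg Subtype.val hw, w.2⟩
    · rintro ⟨hv, hvN⟩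
      exact ⟨⟨v, hvN⟩, Subtype.ext hv, rfl⟩
  rw [hCN]
  have e1 := congrArg (fun n : ℕ => n.factorization p)
    (CfsgLib.PGroup.card_sup_mul_card_inf C N)
  have e2 := congrArg (fun n : ℕ => n.factorization p) (Subgroup.index_mul_card (C ⊔ N))
  have e3 := congrArg (fun n : ℕ => n.factorization p) (Subgroup.index_mul_card N)
  simp only [Nat.factorization_mul Nat.card_pos.ne' Nat.card_pos.ne', Finsupp.add_apply] at e1
  simp only [Nat.factorization_mul Subgroup.index_ne_zero_of_finite Nat.card_pos.ne',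
    Finsupp.add_apply] at e2 e3
  have e4 : (C ⊔ N).index.factorization p = 0 :=
    Nat.factorization_eq_zero_of_not_dvd (by rwa [sup_comm])
  show (Nat.card (C ⊓ N : Subgroup G)).factorization p + N.index.factorization p ≤
    (Nat.card C).factorization p
  omega

/-- The idempotent of a block vanishes outside a normal subgroup of `p`-power index. -/
theorem blockCoeff_eq_zero_of_ppow (hM : IsPModular p M) {B : Set (IrrCharacter G)}
    (hB : IsPBlock M B) (hN : ∃ k : ℕ, N.index = p ^ k) {g : G} (hg : g ∉ N) :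
    blockCoeff B g = 0 := by
  refine blockCoeff_eq_zero_of_singular hM (.of_isPBlock hB) ?_
  obtain ⟨k, hk⟩ := hN
  have h1 : orderOf (g : G ⧸ N) ∣ p ^ k := hk ▸ N.index_eq_card ▸ orderOf_dvd_natCard _
  obtain ⟨j, -, hj⟩ := (Nat.dvd_prime_pow hM.1).mp h1
  have hj0 : j ≠ 0 := fun h => hg ((QuotientGroup.eq_one_iff g).mp
    (orderOf_eq_one_iff.mp (by rw [hj, h, pow_zero])))
  exact (dvd_pow_self p hj0).trans (hj ▸ orderOf_map_dvd (QuotientGroup.mk' N) g)

/-- Only one block covers a block of a normal subgroup of `p`-power index. -/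
theorem covers_unique_of_ppow (hM : IsPModular p M) (hN : ∃ k : ℕ, N.index = p ^ k)
    {B B' : Set (IrrCharacter G)} (hB : IsPBlock M B) (hB' : IsPBlock M B')
    {b : Set (IrrCharacter N)} (hb : IsPBlock M b) (h : Covers B b) (h' : Covers B' b) : B = B' := by
  classical
  have hS : SuppIn N (blockBar M B : MonoidAlgebra (ResField M) G) := fun g hg => by
    rw [coeff_blockBar, coeffRes]
    convert map_zero (res M)
    exact Subtype.ext (by
      rw [coe_coeff_blockIdem hM (.of_isPBlock hB), blockCoeff_eq_zero_of_ppow hM hB hN hg]; rfl)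
  obtain ⟨χ, hχ⟩ := isPBlock_nonempty hB
  obtain ⟨χ', hχ'⟩ := isPBlock_nonempty hB'
  obtain ⟨θ, hθ, hc⟩ := h.exists_constituent_mem hM hB hb hχ
  obtain ⟨θ', hθ', hc'⟩ := h'.exists_constituent_mem hM hB' hb hχ'
  have e := omegaBar_eq_omG_of_constituent χ' θ' hc' (blockBar M B) hS
  rw [omG_congr_block hb hθ' hθ, ← omegaBar_eq_omG_of_constituent χ θ hc (blockBar M B) hS,
    omegaBar_blockBar hM (.of_isPBlock hB), omegaBar_blockBar hM (.of_isPBlock hB),
    if_pos hχ] at e
  split_ifs at e with hmem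
  · exact isPBlock_eq_of_mem hB hB' hmem hχ'
  · exact absurd e zero_ne_one

/-- For a stable block of a normal subgroup of `p`-power index the idempotents are the same. -/
theorem blockCoeff_eq_of_stable (hM : IsPModular p M) (hN : ∃ k : ℕ, N.index = p ^ k)
    {B : Set (IrrCharacter G)} (hB : IsPBlock M B) {b : Set (IrrCharacter N)} (hb : IsPBlock M b)
    (hst : ∀ g : G, cjN g '' b = b) (h : Covers B b) (g : G) :
    blockCoeff B g = subgroupBlockCoeff N b g := by
  classical
  have := Fintype.ofFinite (IrrCharacter G)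
  have := Fintype.ofFinite (IrrCharacter N)
  set F : G → ℂ := subgroupBlockCoeff N b with hF
  have hFc : ∀ x y : G, F (y * x * y⁻¹) = F x := by
    intro x y
    by_cases hx : x ∈ N
    · have h1 := blockCoeff_image_irrEquiv (cjHom (K := N) (K' := N) (nconj y)) b ⟨x, hx⟩
      rw [show irrEquiv (cjHom (K := N) (K' := N) (nconj y)) '' b = b from hst y] at h1
      exact (subgroupBlockCoeff_coe b (cjHom (K := N) (K' := N) (nconj y) ⟨x, hx⟩)).trans
        (h1.trans (subgroupBlockCoeff_coe b ⟨x, hx⟩).symm)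
    · rw [hF, subgroupBlockCoeff_of_notMem b hx,
        subgroupBlockCoeff_of_notMem b fun h' => hx ((nconj y x).mpr h')]
  have hfe : gaOfFun F = emb (gaOfFun (blockCoeff b) : MonoidAlgebra ℂ N) := by
    refine ga_ext fun x => ?_
    by_cases hx : x ∈ N
    · rw [show x = ((⟨x, hx⟩ : N) : G) from rfl, coeff_emb_coe, coeff_gaOfFun, coeff_gaOfFun]
      exact subgroupBlockCoeff_coe b _
    · rw [suppIn_emb _ x hx, coeff_gaOfFun, hF, subgroupBlockCoeff_of_notMem b hx]
  have hz : IsClassElt (gaOfFun F) := fun x y => by simp only [coeff_gaOfFun, hFc]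
  have hzz : gaOfFun F * gaOfFun F = gaOfFun F := by
    rw [hfe, ← emb_mul, gaOfFun_blockCoeff_mul_self]
  let T : Set (IrrCharacter G) := {χ | omega (χ : G → ℂ) (gaOfFun F) = 1}
  have hT : gaOfFun F = gaOfFun (blockCoeff T) := by
    refine classElt_ext hz (fun x y => by simp only [coeff_gaOfFun, blockCoeff_conj]) fun χ => ?_
    rw [omega_gaOfFun_blockCoeff]
    have h1 := congrArg (omega (χ : G → ℂ)) hzz
    rw [omega_mul χ.2 hz hz] at h1
    by_cases hχ : χ ∈ T
    · rw [if_pos hχ]; exact hχ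
    · rw [if_neg hχ]
      by_contra h0
      exact hχ (mul_right_cancel₀ h0 (h1.trans (one_mul _).symm))
  have hTF : ∀ x, blockCoeff T x = F x := fun x => by
    rw [← coeff_gaOfFun (blockCoeff T), ← hT, coeff_gaOfFun]
  have hTU : IsBlockUnion M T := isBlockUnion_of_blockCoeff_mem fun x => by
    rw [hTF, hF]; exact subgroupBlockCoeff_mem hM hb _
  have hTbar : (blockBar M T : MonoidAlgebra (ResField M) G) = eG M b := by
    refine ga_ext fun x => ?_
    rw [coeff_blockBar, coeffRes]
    by_cases hx : x ∈ N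
    · rw [show x = ((⟨x, hx⟩ : N) : G) from rfl, coeff_eG, coeffRes]
      refine congrArg (res M) (Subtype.ext ?_)
      rw [coe_coeff_blockIdem hM hTU, coe_coeff_blockIdem hM (.of_isPBlock hb), hTF, hF]
      exact subgroupBlockCoeff_coe b _
    · rw [suppIn_eG b x hx]
      convert map_zero (res M)
      exact Subtype.ext (by
        rw [coe_coeff_blockIdem hM hTU, hTF, hF, subgroupBlockCoeff_of_notMem b hx]; rfl)
  have hTB : T = B := by
    ext χ
    obtain ⟨θ, hθ⟩ := exists_constituent (N := N) χ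
    have h1 := omegaBar_eq_omG_of_constituent χ θ hθ (blockBar M T) (hTbar ▸ suppIn_eG b)
    rw [hTbar, omG_eG hM hb, omegaBar_blockBar hM hTU] at h1
    constructor
    · intro hχ
      rw [if_pos hχ] at h1
      split_ifs at h1 with hmem
      · rw [covers_unique_of_ppow hM hN hB (isPBlock_blockOf χ) hb h
          ⟨χ, self_mem_blockOf χ, θ, hmem, hθ⟩]
        exact self_mem_blockOf χ
      · exact absurd h1 one_ne_zero
    · intro hχ
      obtain ⟨k, hk⟩ := h.constituent_mem hM hB hb hχ hθ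
      have hmem : θ ∈ b := by
        rw [← hst k⁻¹]
        exact ⟨_, hk, by rw [cjN_cjN, inv_mul_cancel, cjN_one]⟩
      rw [if_pos hmem] at h1
      by_contra hn
      rw [if_neg hn] at h1
      exact zero_ne_one h1
  rw [← hTB, hTF]

end CfsgLib.Block
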