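import Cfsg.Agent.Lib.Block.CoveringCriterion
import Cfsg.Agent.Lib.Block.CoveringDefect
import Cfsg.Agent.Lib.Block.CyclicPairs

/-!
# Covering blocks through the normalizer of a defect group (Harris–Knörr)

Let `N` be normal in `G`, `H` a subgroup and `e` a block of `H ⊓ N` inducing `d` in `N`.
A block of `H` covering `e` induces only blocks covering `d`; for `H = N_G(Q)`, `Q` a defect group
of `d`, induction is a bijection between the blocks covering `e` and those covering `d`.
-/

open Finset MonoidAlgebra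
open scoped ComplexConjugate

set_option linter.unusedSectionVars false

namespace CfsgLib.Block.CoveringLocal

open Cfsg CfsgLib.Block CfsgLib.Block.HeightZeroOrbit

universe u

section transport

variable {p : ℕ} {M : Ideal AlgInt} [M.IsMaximal] {A A' : Type u} [Group A] [Group A'] [Fintype A]
  [Fintype A'] [DecidableEq A] [DecidableEq A']

theorem isSylowCent_map_equiv (e : A ≃* A') {g : A} {D : Subgroup A} (h : IsSylowCent p g D) :
    IsSylowCent p (e g) (D.map e.toMonoidHom) := by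
  refine ⟨?_, ?_⟩
  · rintro _ ⟨v, hv, rfl⟩
    exact (h.commute v hv).map e.toMonoidHom
  · rw [Subgroup.card_map_of_injective (f := e.toMonoidHom) e.injective, h.card_eq,
      ← centralizer_map_singleton, Subgroup.card_map_of_injective (f := e.toMonoidHom) e.injective]

theorem isDefectGroup_image_irrEquiv (hM : IsPModular p M) (e : A ≃* A')
    {B : Set (IrrCharacter A)} (hB : IsPBlock M B) {D : Subgroup A}
    (hD : IsDefectGroup p M B D) :
    IsDefectGroup p M (irrEquiv e '' B) (D.map e.toMonoidHom) := by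
  obtain ⟨g, hg, hgc, hgω⟩ := exists_isSylowCent_of_isDefectGroup hM hB hD
  refine isDefectGroup_of_isSylowCent hM ((isDefectClass_iff hM (isPBlock_image_irrEquiv e hB)).mpr
    ⟨by rwa [coeffRes_image_irrEquiv], ?_⟩) (isSylowCent_map_equiv e hg)
  rintro _ ⟨χ, hχ, rfl⟩
  rw [centralRes_irrEquiv]
  exact hgω χ hχ

end transport

section classes

variable {p : ℕ} {M : Ideal AlgInt} [M.IsMaximal]

theorem memLocalIdeal_finset_sum {ι : Type*} (s : Finset ι) (f : ι → ℂ)
    (h : ∀ i ∈ s, MemLocalIdeal M (f i)) : MemLocalIdeal M (∑ i ∈ s, f i) :=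
  Finset.sum_induction f (MemLocalIdeal M) (fun _ _ => memLocalIdeal_add)
    ((memLocalIdeal_coe (0 : locRing M)).mpr (map_zero _)) h

variable {A : Type u} [Group A] [Fintype A]

/-- Congruences on each class add up over an invariant set. -/
theorem memLocalIdeal_sum_classes {ι : Type*} [Fintype ι] (χ : IrrCharacter A) (T : Finset A)
    (hT : ∀ {x y : A}, IsConj x y → x ∈ T → y ∈ T) (j : ι → A) (w : ι → ℂ)
    [∀ h : A, DecidablePred fun k => IsConj h (j k)] [DecidablePred fun k => j k ∈ T]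
    (h : ∀ a ∈ T, MemLocalIdeal M (centralChar (χ : A → ℂ) a -
      ∑ k ∈ Finset.univ.filter (fun k => IsConj a (j k)), w k)) :
    MemLocalIdeal M ((∑ a ∈ T, (χ : A → ℂ) a / (χ : A → ℂ) 1) -
      ∑ k ∈ Finset.univ.filter (fun k => j k ∈ T), w k) := by
  classical
  have := Fintype.ofFinite (ConjClasses A)
  rw [← Finset.sum_fiberwise T ConjClasses.mk,
    ← Finset.sum_fiberwise (Finset.univ.filter fun k => j k ∈ T) (fun k => ConjClasses.mk (j k)),
    ← Finset.sum_sub_distrib]
  refine memLocalIdeal_finset_sum _ _ fun C _ => ?_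
  obtain ⟨a, rfl⟩ := ConjClasses.mk_surjective C
  by_cases ha : a ∈ T
  · convert h a ha using 2
    · rw [show T.filter (fun y => ConjClasses.mk y = ConjClasses.mk a) =
        Finset.univ.filter (fun y => IsConj a y) from Finset.ext fun y => by
          simp only [Finset.mem_filter, Finset.mem_univ, true_and, ConjClasses.mk_eq_mk_iff_isConj]
          exact ⟨fun hy => hy.2.symm, fun hy => ⟨hT hy ha, hy.symm⟩⟩, ← Finset.sum_div]
      have h1 := sum_conj_eq (χ : A → ℂ) a
      rw [Finset.sum_congr rfl (g := fun _ => (χ : A → ℂ) a) fun x _ => by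
          simpa using Char.isClassFunction_irr χ a x⁻¹, Finset.sum_const, Finset.card_univ,
        nsmul_eq_mul, ← Nat.card_eq_fintype_card,
        ← Subgroup.index_mul_card (Subgroup.centralizer ({a} : Set A)), Nat.cast_mul] at h1
      rw [centralChar]
      congr 1
      refine mul_left_cancel₀ (Nat.cast_ne_zero.mpr (Nat.card_pos (α :=
        Subgroup.centralizer ({a} : Set A))).ne') (h1.symm.trans ?_)
      ring
    · refine Finset.sum_congr (Finset.ext fun k => ?_) fun _ _ => rfl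
      simp only [Finset.mem_filter, Finset.mem_univ, true_and, ConjClasses.mk_eq_mk_iff_isConj]
      exact ⟨fun hk => hk.2.symm, fun hk => ⟨hT hk ha, hk.symm⟩⟩
  · rw [Finset.sum_eq_zero fun y hy => absurd (hT (ConjClasses.mk_eq_mk_iff_isConj.mp
      (Finset.mem_filter.mp hy).2) (Finset.mem_filter.mp hy).1) ha,
      Finset.sum_eq_zero fun k hk => absurd (hT (ConjClasses.mk_eq_mk_iff_isConj.mp
      (Finset.mem_filter.mp hk).2) (Finset.mem_filter.mp (Finset.mem_filter.mp hk).1).2) ha, sub_zero]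
    exact (memLocalIdeal_coe (0 : locRing M)).mpr (map_zero _)

end classes

variable {p : ℕ} {M : Ideal AlgInt} [M.IsMaximal] {G : Type u} [Group G] [Fintype G] [DecidableEq G]

section subgroups

variable {H K : Subgroup G} (hKH : K ≤ H)

/-- `inducedCentralCharIn` as a finite sum over classes of the larger subgroup. -/
theorem inducedCentralCharIn_eq [Fintype K] (ξ : K → ℂ) (h : H)
    [DecidablePred fun k : K => IsConj h (Subgroup.inclusion hKH k)] :
    inducedCentralCharIn H K ξ (h : G) =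
      ∑ k ∈ Finset.univ.filter (fun k : K => IsConj h (Subgroup.inclusion hKH k)), ξ k / ξ 1 := by
  classical
  rw [inducedCentralCharIn, finsum_mem_eq_toFinset_sum]
  refine Finset.sum_congr (Finset.ext fun k => ?_) fun _ _ => rfl
  simp only [Set.mem_toFinset, Set.mem_setOf_eq, Finset.mem_filter, Finset.mem_univ, true_and]
  rw [isConj_comm, isConj_iff]
  exact exists_congr fun x => by rw [Subtype.ext_iff]; push_cast; rfl

variable [Fintype H] [Fintype K] [Fintype (K.subgroupOf H)]

/-- A character of a subgroup of `H` read on the subgroup of `G`. -/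
noncomputable abbrev eK : IrrCharacter (K.subgroupOf H) ≃ IrrCharacter K :=
  irrEquiv (Subgroup.subgroupOfEquivOfLe hKH)

theorem eK_apply (ξ : IrrCharacter (K.subgroupOf H)) (k : K) :
    (eK hKH ξ : K → ℂ) k = (ξ : K.subgroupOf H → ℂ) ⟨Subgroup.inclusion hKH k, k.2⟩ := rfl

theorem inducedCentralChar_subgroupOf (ξ : IrrCharacter (K.subgroupOf H)) (h : H) :
    inducedCentralChar (K.subgroupOf H) (ξ : K.subgroupOf H → ℂ) h =
      inducedCentralCharIn H K (eK hKH ξ : K → ℂ) (h : G) := by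
  classical
  rw [inducedCentralCharIn_eq hKH, inducedCentralChar, finsum_mem_eq_toFinset_sum]
  refine Finset.sum_bij' (fun k _ => (⟨(k : H), k.2⟩ : K))
    (fun k _ => (⟨Subgroup.inclusion hKH k, k.2⟩ : K.subgroupOf H)) ?_ ?_ (fun _ _ => rfl)
    (fun _ _ => rfl) (fun _ _ => rfl)
  · intro k hk
    exact Finset.mem_filter.mpr ⟨Finset.mem_univ _, (Set.mem_toFinset.mp hk : _)⟩
  · intro k hk
    exact Set.mem_toFinset.mpr (Finset.mem_filter.mp hk).2

theorem isInducedBlock_subgroupOf {e : Set (IrrCharacter (K.subgroupOf H))}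
    {f : Set (IrrCharacter H)} :
    IsInducedBlock M (K.subgroupOf H) e f ↔ IsInducedBlockIn M H K (eK hKH '' e) f := by
  constructor
  · rintro ⟨he, hf, h⟩
    refine ⟨isPBlock_image_irrEquiv _ he, hf, ?_⟩
    rintro _ ⟨ξ, hξ, rfl⟩ χ hχ a
    rw [← inducedCentralChar_subgroupOf hKH]
    exact h ξ hξ χ hχ a
  · rintro ⟨he, hf, h⟩
    refine ⟨?_, hf, fun ξ hξ χ hχ a => ?_⟩
    · have h2 := isPBlock_image_irrEquiv (Subgroup.subgroupOfEquivOfLe hKH).symm he
      have h3 : irrEquiv (Subgroup.subgroupOfEquivOfLe hKH).symm '' (eK hKH '' e) = e := by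
        rw [Set.image_image]
        exact (Set.image_congr' fun ξ => Subtype.ext (funext fun x => by simp [eK])).trans
          (Set.image_id e)
      rwa [h3] at h2
    · rw [inducedCentralChar_subgroupOf hKH]
      exact h _ ⟨ξ, hξ, rfl⟩ χ hχ a

theorem exists_eK_image {e : Set (IrrCharacter K)} (he : IsPBlock M e) :
    ∃ e' : Set (IrrCharacter (K.subgroupOf H)), IsPBlock M e' ∧ eK hKH '' e' = e := by
  refine ⟨irrEquiv (Subgroup.subgroupOfEquivOfLe hKH).symm '' e, isPBlock_image_irrEquiv _ he, ?_⟩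
  rw [Set.image_image]
  exact (Set.image_congr' fun ξ => Subtype.ext (funext fun x => by simp [eK])).trans (Set.image_id e)

theorem classInner_eK (ψ : IrrCharacter H) (ξ : IrrCharacter (K.subgroupOf H)) :
    classInner (fun n : K.subgroupOf H => (ψ : H → ℂ) n) (ξ : K.subgroupOf H → ℂ) =
      classInner (fun l : K => (ψ : H → ℂ) (Subgroup.inclusion hKH l)) (eK hKH ξ : K → ℂ) := by
  rw [classInner, classInner, Nat.card_congr (Subgroup.subgroupOfEquivOfLe hKH).toEquiv]
  congr 1
  exact Fintype.sum_equiv (Subgroup.subgroupOfEquivOfLe hKH).toEquiv _ _ fun x => rfl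

/-- Covering inside `H`, read on the subgroup of `G`. -/
theorem covers_iff_classInner [(K.subgroupOf H).Normal] {c : Set (IrrCharacter H)}
    {e : Set (IrrCharacter (K.subgroupOf H))} :
    Covers c e ↔ ∃ ψ ∈ c, ∃ ξ ∈ eK hKH '' e,
      classInner (fun l : K => (ψ : H → ℂ) (Subgroup.inclusion hKH l)) (ξ : K → ℂ) ≠ 0 := by
  constructor
  · rintro ⟨ψ, hψ, ξ, hξ, h⟩
    exact ⟨ψ, hψ, _, ⟨ξ, hξ, rfl⟩, by rwa [← classInner_eK hKH]⟩
  · rintro ⟨ψ, hψ, _, ⟨ξ, hξ, rfl⟩, h⟩
    exact ⟨ψ, hψ, ξ, hξ, by rwa [classInner_eK hKH]⟩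

end subgroups

variable {N : Subgroup G} [hNn : N.Normal] [Fintype N]

instance normal_inf_subgroupOf (H : Subgroup G) : ((H ⊓ N).subgroupOf H).Normal := by
  rw [Subgroup.inf_subgroupOf_left]
  infer_instance

theorem cjN_eq_self {n : G} (hn : n ∈ N) (θ : IrrCharacter N) : cjN n θ = θ :=
  Subtype.ext (funext fun x => by
    rw [cjN_apply]
    have h := Char.isClassFunction_irr θ x (⟨n, hn⟩⁻¹ : N)
    rw [← h]
    exact congrArg _ (Subtype.ext (by simp [mul_assoc])))

section cover

variable {H : Subgroup G} [Fintype H] [Fintype (H ⊓ N : Subgroup G)]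
  [Fintype ((H ⊓ N).subgroupOf H)]

/-- A block induced from one covering a block inducing `d` covers `d`. -/
theorem covers_of_induced (hM : IsPModular p M) {c : Set (IrrCharacter H)}
    {e : Set (IrrCharacter ((H ⊓ N).subgroupOf H))} {d : Set (IrrCharacter N)}
    {B : Set (IrrCharacter G)} (he : IsPBlock M e) (hcov : Covers c e)
    (hed : IsInducedBlockIn M N (H ⊓ N) (eK (inf_le_left : H ⊓ N ≤ H) '' e) d)
    (hcB : IsInducedBlock M H c B) : Covers B d := by
  classical
  have : Fact p.Prime := ⟨hM.1⟩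
  rw [covers_iff hM hcB.2.1 hed.2.1]
  intro χ hχ θ hθ n
  obtain ⟨ψ, hψ⟩ := isPBlock_nonempty hcB.1
  obtain ⟨ξ, hξ⟩ := isPBlock_nonempty he
  set w : (H ⊓ N : Subgroup G) → ℂ :=
    fun k => (eK (inf_le_left : H ⊓ N ≤ H) ξ : (H ⊓ N : Subgroup G) → ℂ) k /
      (eK (inf_le_left : H ⊓ N ≤ H) ξ : (H ⊓ N : Subgroup G) → ℂ) 1 with hw
  have h1 := memLocalIdeal_sum_classes (M := M) ψ
    (Finset.univ.filter fun h : H => IsConj (n : G) (h : G))
    (fun {x y} hxy hx => Finset.mem_filter.mpr ⟨Finset.mem_univ _,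
      (Finset.mem_filter.mp hx).2.trans (H.subtype.map_isConj hxy)⟩)
    (Subgroup.inclusion (inf_le_left : H ⊓ N ≤ H)) w fun a ha => by
      obtain ⟨y, hy⟩ := isConj_iff.mp (Finset.mem_filter.mp ha).2
      have haN : (a : G) ∈ H ⊓ N := ⟨a.2, hy ▸ hNn.conj_mem _ n.2 y⟩
      have h := (covers_iff hM hcB.1 he).mp hcov ψ hψ ξ hξ ⟨a, haN⟩
      rw [inducedCentralChar_subgroupOf inf_le_left,
        inducedCentralCharIn_eq (inf_le_left : H ⊓ N ≤ H)] at h
      exact h
  have h2 := memLocalIdeal_sum_classes (M := M) θ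
    (Finset.univ.filter fun h : N => IsConj (n : G) (h : G))
    (fun {x y} hxy hx => Finset.mem_filter.mpr ⟨Finset.mem_univ _,
      (Finset.mem_filter.mp hx).2.trans (N.subtype.map_isConj hxy)⟩)
    (Subgroup.inclusion (inf_le_right : H ⊓ N ≤ N)) w fun a _ => by
      have h := memLocalIdeal_neg (hed.2.2 _ ⟨ξ, hξ, rfl⟩ θ hθ a)
      rw [neg_sub, inducedCentralCharIn_eq (inf_le_right : H ⊓ N ≤ N)] at h
      exact h
  have h3 := hcB.2.2 ψ hψ χ hχ (n : G)
  have e1 : inducedCentralChar H (ψ : H → ℂ) (n : G) =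
      ∑ a ∈ Finset.univ.filter (fun h : H => IsConj (n : G) (h : G)),
        (ψ : H → ℂ) a / (ψ : H → ℂ) 1 := by
    rw [inducedCentralChar, finsum_mem_eq_toFinset_sum, Set.toFinset_setOf]
  have e2 : inducedCentralChar N (θ : N → ℂ) (n : G) =
      ∑ a ∈ Finset.univ.filter (fun h : N => IsConj (n : G) (h : G)),
        (θ : N → ℂ) a / (θ : N → ℂ) 1 := by
    rw [inducedCentralChar, finsum_mem_eq_toFinset_sum, Set.toFinset_setOf]
  rw [e1] at h3
  rw [e2]
  rw [show (Finset.univ.filter fun k => Subgroup.inclusion (inf_le_right : H ⊓ N ≤ N) k ∈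
      Finset.univ.filter fun h : N => IsConj (n : G) (h : G)) =
    Finset.univ.filter fun k => Subgroup.inclusion (inf_le_left : H ⊓ N ≤ H) k ∈
      Finset.univ.filter fun h : H => IsConj (n : G) (h : G) from Finset.ext fun k => by simp] at h2
  convert memLocalIdeal_add (memLocalIdeal_add h1 (memLocalIdeal_neg h2)) (memLocalIdeal_neg h3) using 1
  ring

/-- Conjugation by `H` commutes with induction from `H ⊓ N` to `N`. -/
theorem isInducedBlockIn_cjN {e : Set (IrrCharacter ((H ⊓ N).subgroupOf H))}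
    {d : Set (IrrCharacter N)}
    (hed : IsInducedBlockIn M N (H ⊓ N) (eK (inf_le_left : H ⊓ N ≤ H) '' e) d) (u : H)
    (he : IsPBlock M e) :
    IsInducedBlockIn M N (H ⊓ N) (eK (inf_le_left : H ⊓ N ≤ H) '' (cjN u '' e))
      (cjN (u : G) '' d) := by
  classical
  refine ⟨isPBlock_image_irrEquiv _ (isPBlock_cjN u he), isPBlock_cjN _ hed.2.1, ?_⟩
  rintro _ ⟨_, ⟨ξ, hξ, rfl⟩, rfl⟩ _ ⟨θ, hθ, rfl⟩ a
  set σ : N ≃* N := cjHom (K := N) (K' := N) (nconj (u : G)) with hσ
  have hσa : ∀ x : N, ((σ x : N) : G) = u * x * (u : G)⁻¹ := fun x => rfl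
  obtain ⟨a', rfl⟩ := σ.surjective a
  rw [show centralChar ((cjN (u : G) θ : IrrCharacter N) : N → ℂ) (σ a') =
    centralChar (θ : N → ℂ) a' from centralChar_irrEquiv σ θ a']
  have key : inducedCentralCharIn N (H ⊓ N)
      (eK (inf_le_left : H ⊓ N ≤ H) (cjN u ξ) : (H ⊓ N : Subgroup G) → ℂ) ((σ a' : N) : G) =
      inducedCentralCharIn N (H ⊓ N)
        (eK (inf_le_left : H ⊓ N ≤ H) ξ : (H ⊓ N : Subgroup G) → ℂ) (a' : G) := by
    rw [inducedCentralCharIn_eq (inf_le_right : H ⊓ N ≤ N),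
      inducedCentralCharIn_eq (inf_le_right : H ⊓ N ≤ N)]
    have hmem : ∀ (v : H) (k : (H ⊓ N : Subgroup G)), (v : G)⁻¹ * k * v ∈ H ⊓ N := fun v k =>
      ⟨H.mul_mem (H.mul_mem (H.inv_mem v.2) k.2.1) v.2, by simpa using hNn.conj_mem _ k.2.2 (v : G)⁻¹⟩
    refine Finset.sum_bij' (fun k _ => ⟨_, hmem u k⟩) (fun k _ => ⟨_, hmem u⁻¹ k⟩) ?_ ?_ ?_ ?_ ?_
    · intro k hk
      obtain ⟨x, hx⟩ := isConj_iff.mp (Finset.mem_filter.mp hk).2
      refine Finset.mem_filter.mpr ⟨Finset.mem_univ _, isConj_iff.mpr ⟨σ.symm x, σ.injective ?_⟩⟩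
      rw [map_mul, map_mul, map_inv, MulEquiv.apply_symm_apply, hx]
      exact Subtype.ext (by rw [hσa]; simp [mul_assoc])
    · intro k hk
      obtain ⟨x, hx⟩ := isConj_iff.mp (Finset.mem_filter.mp hk).2
      refine Finset.mem_filter.mpr ⟨Finset.mem_univ _, isConj_iff.mpr ⟨σ x, ?_⟩⟩
      rw [← map_inv, ← map_mul, ← map_mul, hx]
      exact Subtype.ext (by rw [hσa]; simp)
    · exact fun k _ => Subtype.ext (by simp [mul_assoc])
    · exact fun k _ => Subtype.ext (by simp [mul_assoc])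
    · intro k _
      simp only [eK_apply, cjN_apply]
      congr 1
      exact congrArg _ (Subtype.ext (Subtype.ext (by simp)))
  rw [key]
  exact hed.2.2 _ ⟨ξ, hξ, rfl⟩ θ hθ a'

end cover

/-- A block of a subgroup containing the normalizer of its defect group is determined by the
block it induces, and has the same defect group. -/
theorem centralRes_eq_of_induced (hM : IsPModular p M) {H : Subgroup G} [Fintype H]
    {c : Set (IrrCharacter H)} {B : Set (IrrCharacter G)} (hcB : IsInducedBlock M H c B)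
    {D : Subgroup H} (hD : IsDefectGroup p M c D)
    (hN : Subgroup.normalizer ((D.map H.subtype : Subgroup G) : Set G) ≤ H) :
    IsDefectGroup p M B (D.map H.subtype) ∧ ∀ g : H, IsSylowCent p g D →
      ∀ ψ ∈ c, ∀ χ ∈ B, centralRes M ψ g = centralRes M χ (g : G) := by
  classical
  have : Fact p.Prime := ⟨hM.1⟩
  have hpD : IsPGroup p D := isPGroup_defectGroup hM hcB.1 hD
  have hlift : ∀ g : H, IsSylowCent p g D → IsSylowCent p (g : G) (D.map H.subtype) := by
    intro g hg
    refine isSylowCent_of_normalizer (hpD.map _) ?_ fun S hS hDS hSN hSg => ?_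
    · rintro _ ⟨v, hv, rfl⟩
      exact (hg.commute v hv).map H.subtype
    · have hSH : S ≤ H := hSN.trans hN
      have h1 := (hg.conjLE (hS.of_equiv (Subgroup.subgroupOfEquivOfLe hSH).symm)
        fun s hs => Subtype.ext (hSg _ (Subgroup.mem_subgroupOf.mp hs)).eq).card_le
      rw [card_subgroupOf_eq hSH] at h1
      refine (Subgroup.eq_of_le_of_card_ge hDS ?_).symm
      rwa [Subgroup.card_map_of_injective Subtype.val_injective]
  have key : ∀ g : H, IsSylowCent p g D →
      ∀ ψ ∈ c, ∀ χ ∈ B, centralRes M ψ g = centralRes M χ (g : G) := by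
    intro g hg ψ hψ χ hχ
    have := Fintype.ofFinite (ConjClasses H)
    rw [← omegaBar_classBar (χ := χ), ← (isInducedBlock_iff.mp hcB).2.2 ψ hψ χ hχ,
      zk_eq_sum (resHK M H (classBar M (g : G))), map_sum,
      Finset.sum_eq_single (ConjClasses.mk g)]
    · rw [omegaBar_smul, omegaBar_classBar, coeff_resHK]
      rw [show centralRes M ψ (rep (ConjClasses.mk g)) = centralRes M ψ g by
        obtain ⟨y, hy⟩ := isConj_iff.mp (isConj_rep g)
        conv_rhs => rw [← hy, centralRes_conj_elt]]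
      rw [show ((classBar M (g : G) : ZK M G) : MonoidAlgebra (ResField M) G).coeff
          ((rep (ConjClasses.mk g) : H) : G) = 1 by
        simp only [classBar, classSum, coe_toKC, coeff_toK, coeff_gaOfFun]
        rw [if_pos]
        obtain ⟨y, hy⟩ := isConj_iff.mp (isConj_rep g)
        exact (isConj_iff.mpr ⟨(y : G), congrArg Subtype.val hy⟩).symm]
      rw [one_mul]
    · intro C _ hC
      rw [omegaBar_smul, omegaBar_classBar]
      by_contra hne
      obtain ⟨hcoef, hω⟩ := mul_ne_zero_iff.mp hne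
      rw [coeff_resHK] at hcoef
      have hgC : IsConj (g : G) (rep C : H) := by
        by_contra hno
        refine hcoef ?_
        simp only [classBar, classSum, coe_toKC, coeff_toK, coeff_gaOfFun]
        rw [if_neg hno]
      obtain ⟨g₀, hg₀, hg₀c, -⟩ := exists_isSylowCent_of_isDefectGroup hM hcB.1 hD
      obtain ⟨E, hE⟩ := exists_isSylowCent p (rep C)
      obtain ⟨y, hy⟩ := conjLE_iff.mp (sylowCent_conjLE hM hcB.1 hg₀c hψ hω hg₀ hE)
      set h : H := y⁻¹ * rep C * y with hh
      have hgh : IsConj (g : G) (h : G) :=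
        hgC.trans (isConj_iff.mpr ⟨(y : G)⁻¹, by simp [hh]⟩)
      obtain ⟨x, hx⟩ := isConj_iff.mp hgh
      have hcomm : ∀ v ∈ D.map H.subtype, Commute v (h : G) := by
        rintro _ ⟨v, hv, rfl⟩
        have h1 := (hE.commute _ (hy v hv)).map (MulAut.conj y⁻¹).toMonoidHom
        exact (by simpa [hh, mul_assoc] using h1 : Commute v h).map H.subtype
      have hS := hlift g hg
      -- `h` is conjugate to `g` inside `H`
      have hS' := hS.conj_elt x
      obtain ⟨P₁, hP₁⟩ := hS'.exists_sylow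
      have hle : D.map H.subtype ≤ Subgroup.centralizer ({x * (g : G) * x⁻¹} : Set G) :=
        fun v hv => Subgroup.mem_centralizer_singleton_iff.mpr (hx ▸ hcomm v hv).eq
      have hS2 : IsSylowCent p (x * (g : G) * x⁻¹) (D.map H.subtype) :=
        ⟨fun v hv => hx ▸ hcomm v hv, by rw [← hS'.card_eq, card_cjS]⟩
      obtain ⟨P₂, hP₂⟩ := hS2.exists_sylow
      obtain ⟨t, ht⟩ := MulAction.exists_smul_eq
        (Subgroup.centralizer ({x * (g : G) * x⁻¹} : Set G)) P₁ P₂
      have hnorm : (t : G) * x ∈ Subgroup.normalizer ((D.map H.subtype : Subgroup G) : Set G) := by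
        have hmap : cjS ((t : G) * x) (D.map H.subtype) ≤ D.map H.subtype := by
          rintro _ ⟨v, hv, rfl⟩
          have hv1 : x * v * x⁻¹ ∈ cjS x (D.map H.subtype) := ⟨v, hv, rfl⟩
          rw [hP₁] at hv1
          obtain ⟨v₁, hv₁, he₁⟩ := hv1
          rw [hP₂, ← ht, Sylow.coe_subgroup_smul]
          refine ⟨t * v₁ * t⁻¹, ⟨v₁, hv₁, rfl⟩, ?_⟩
          simp only [Subgroup.coe_subtype] at he₁
          simp [he₁, mul_assoc]
        have heq : cjS ((t : G) * x) (D.map H.subtype) = D.map H.subtype :=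
          Subgroup.eq_of_le_of_card_ge hmap (by rw [card_cjS])
        rw [Subgroup.mem_normalizer_iff]
        intro v
        conv_rhs => rw [← heq, mem_cjS]
        simp [mul_assoc]
      refine hC ?_
      rw [← mk_rep C, eq_comm, ConjClasses.mk_eq_mk_iff_isConj]
      refine (IsConj.trans ?_ (isConj_iff.mpr ⟨y, rfl⟩) : IsConj g (y * h * y⁻¹)).trans ?_
      · refine isConj_iff.mpr ⟨⟨(t : G) * x, hN hnorm⟩, Subtype.ext ?_⟩
        have h1 := Subgroup.mem_centralizer_singleton_iff.mp t.2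
        rw [← hx]
        show (t : G) * x * (g : G) * ((t : G) * x)⁻¹ = x * (g : G) * x⁻¹
        calc (t : G) * x * (g : G) * ((t : G) * x)⁻¹
            = ((t : G) * (x * (g : G) * x⁻¹)) * (t : G)⁻¹ := by group
          _ = _ := by rw [h1]; group
      · rw [show y * h * y⁻¹ = rep C by rw [hh]; group]
    · intro h; exact absurd (Finset.mem_univ _) h
  refine ⟨?_, key⟩
  obtain ⟨g₀, hg₀, -, hg₀ω⟩ := exists_isSylowCent_of_isDefectGroup hM hcB.1 hD
  obtain ⟨E, hE, hDE⟩ := exists_defectGroup_ge hM hcB hD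
  obtain ⟨g', hg', hg'c, -⟩ := exists_isSylowCent_of_isDefectGroup hM hcB.2.1 hE
  obtain ⟨ψ, hψ⟩ := isPBlock_nonempty hcB.1
  obtain ⟨χ, hχ⟩ := isPBlock_nonempty hcB.2.1
  have hne : centralRes M χ (g₀ : G) ≠ 0 := key g₀ hg₀ ψ hψ χ hχ ▸ hg₀ω ψ hψ
  rwa [Subgroup.eq_of_le_of_card_ge hDE
    (sylowCent_conjLE hM hcB.2.1 hg'c hχ hne hg' (hlift g₀ hg₀)).card_le]

end CfsgLib.Block.CoveringLocal
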