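import Cfsg.Agent.Lib.Block.SubsectionCount
import Cfsg.Agent.Lib.Block.CoveringLocal

/-!
# `k - l` of the induced blocks of a subgroup as a sum over its `p`-elements

`card_sub_rank_eq_sum`: for the set `S` of characters of `N` in blocks inducing `b`,
`|N| (k(S) - l(S))` is the sum over the non-trivial `p`-elements `x` of `N` of `|C_N(x)|` times the
ranks of the blocks of `C_G(x) ⊓ N` inducing `b`.
-/

open Finset
open scoped ComplexConjugate

set_option linter.unusedSectionVars false

namespace CfsgLib.Block.ChainCount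

open Cfsg CfsgLib.Block CfsgLib.Block.CoveringLocal

universe u

variable {p : ℕ} {M : Ideal AlgInt} [M.IsMaximal]

section transport

variable {A A' : Type u} [Group A] [Group A']

theorem blockRank_image_irrEquiv (e : A ≃* A') (S : Set (IrrCharacter A)) :
    blockRank p (irrEquiv e '' S) = blockRank p S := by
  let L : (A → ℂ) ≃ₗ[ℂ] (A' → ℂ) := LinearEquiv.funCongrLeft ℂ ℂ e.symm.toEquiv
  have h : Submodule.span ℂ
      ((fun χ : IrrCharacter A' => pRegularPart p (χ : A' → ℂ)) '' (irrEquiv e '' S)) =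
      (Submodule.span ℂ ((fun χ : IrrCharacter A => pRegularPart p (χ : A → ℂ)) '' S)).map
        (L : (A → ℂ) →ₗ[ℂ] (A' → ℂ)) := by
    rw [Submodule.map_span, ← Set.image_comp, ← Set.image_comp]
    congr 1
    refine Set.image_congr fun χ _ => funext fun x => ?_
    by_cases hx : p ∣ orderOf x <;>
      simp [L, LinearEquiv.funCongrLeft_apply, LinearMap.funLeft_apply, pRegularPart, IsPRegular,
        MulEquiv.orderOf_eq, hx]
  rw [blockRank, blockRank, h, LinearEquiv.finrank_map_eq]

end transport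

variable {G : Type u} [Group G] [Fintype G] [DecidableEq G]

variable (p M) in
/-- The total rank of the blocks of `K` inducing `b`. -/
noncomputable def lRank (b : Set (IrrCharacter G)) (K : Subgroup G) : ℤ :=
  ∑ᶠ b' ∈ {b' : Set (IrrCharacter K) | IsInducedBlock M K b' b}, (blockRank p b' : ℤ)

theorem lRank_one (hM : IsPModular p M) {B : Set (IrrCharacter G)} (hB : IsPBlock M B) :
    lRank p M B (Subgroup.centralizer ({(1 : G)} : Set G)) = blockRank p B := by
  classical
  have hC : Subgroup.centralizer ({(1 : G)} : Set G) = ⊤ :=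
    eq_top_iff.mpr fun g _ => Subgroup.mem_centralizer_singleton_iff.mpr (by simp)
  set e : Subgroup.centralizer ({(1 : G)} : Set G) ≃* G :=
    (MulEquiv.subgroupCongr hC).trans Subgroup.topEquiv with he
  have hec : ∀ h, e h = (h : G) := fun h => rfl
  have hcc : ∀ (ξ : IrrCharacter (Subgroup.centralizer ({(1 : G)} : Set G))) (g : G),
      inducedCentralChar (Subgroup.centralizer ({(1 : G)} : Set G))
        (ξ : Subgroup.centralizer ({(1 : G)} : Set G) → ℂ) g =
        centralChar (irrEquiv e ξ : G → ℂ) g := by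
    intro ξ g
    obtain ⟨h, rfl⟩ := e.surjective g
    rw [centralChar_irrEquiv, inducedCentralChar, finsum_mem_eq_toFinset_sum, Set.toFinset_setOf,
      ← Finset.sum_div, centralChar]
    congr 1
    have h1 := sum_conj_eq (ξ : Subgroup.centralizer ({(1 : G)} : Set G) → ℂ) h
    rw [Finset.sum_congr rfl (g := fun _ => (ξ : _ → ℂ) h) fun x _ => by
        simpa using Char.isClassFunction_irr ξ h x⁻¹, Finset.sum_const, Finset.card_univ,
      nsmul_eq_mul, ← Nat.card_eq_fintype_card,
      ← Subgroup.index_mul_card (Subgroup.centralizer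
        ({h} : Set (Subgroup.centralizer ({(1 : G)} : Set G)))), Nat.cast_mul] at h1
    rw [show Finset.univ.filter (fun a : Subgroup.centralizer ({(1 : G)} : Set G) =>
        IsConj (e h) (a : G)) = Finset.univ.filter (fun a => IsConj h a) from
      Finset.filter_congr fun a _ => by
        rw [← hec a]
        exact ⟨fun hh => by simpa using e.symm.toMonoidHom.map_isConj hh,
          fun hh => e.toMonoidHom.map_isConj hh⟩]
    refine mul_left_cancel₀ (Nat.cast_ne_zero.mpr (Nat.card_pos (α := Subgroup.centralizer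
      ({h} : Set (Subgroup.centralizer ({(1 : G)} : Set G))))).ne') (h1.symm.trans ?_)
    ring
  have hset : {b' : Set (IrrCharacter (Subgroup.centralizer ({(1 : G)} : Set G))) |
      IsInducedBlock M (Subgroup.centralizer ({(1 : G)} : Set G)) b' B} = {irrEquiv e.symm '' B} := by
    ext b'
    simp only [Set.mem_setOf_eq, Set.mem_singleton_iff]
    constructor
    · rintro ⟨hb', -, h⟩
      obtain ⟨ξ, hξ⟩ := isPBlock_nonempty hb'
      obtain ⟨χ, hχ⟩ := isPBlock_nonempty hB
      have h1 : SameBlock M (irrEquiv e ξ : G → ℂ) (χ : G → ℂ) := fun g => by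
        rw [← hcc]; exact h ξ hξ χ hχ g
      have hb'' : irrEquiv e '' b' = B := isPBlock_eq_of_mem (isPBlock_image_irrEquiv e hb') hB
        ((isPBlock_sameBlock (isPBlock_image_irrEquiv e hb') ⟨ξ, hξ, rfl⟩).mpr h1) hχ
      rw [← hb'', Set.image_image]
      exact ((Set.image_congr' fun ξ => Subtype.ext (funext fun x => by simp)).trans
        (Set.image_id b')).symm
    · rintro rfl
      refine ⟨isPBlock_image_irrEquiv _ hB, hB, ?_⟩
      rintro _ ⟨η, hη, rfl⟩ χ hχ g
      rw [hcc, show irrEquiv e (irrEquiv e.symm η) = η from Subtype.ext (funext fun x => by simp)]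
      exact (isPBlock_sameBlock hB hη).mp hχ g
  rw [lRank, hset, finsum_mem_singleton, blockRank_image_irrEquiv]

/-- `|A| (k - l)` as a sum over all non-trivial `p`-elements. -/
theorem card_mul_sub_eq_sum (hM : IsPModular p M) {B : Set (IrrCharacter G)} (hB : IsPBlock M B)
    [DecidablePred fun x : G => (∃ k : ℕ, orderOf x = p ^ k) ∧ x ≠ 1] :
    (Nat.card G : ℤ) * ((Nat.card B : ℤ) - (blockRank p B : ℤ)) =
      ∑ x ∈ Finset.univ.filter (fun x : G => (∃ k : ℕ, orderOf x = p ^ k) ∧ x ≠ 1),
        (Nat.card (Subgroup.centralizer ({x} : Set G)) : ℤ) *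
          lRank p M B (Subgroup.centralizer ({x} : Set G)) := by
  classical
  have := Fintype.ofFinite (ConjClasses G)
  have := Fintype.ofFinite (IrrCharacter G)
  have horder : ∀ c x : G, orderOf (c * x * c⁻¹) = orderOf x := orderOf_conj_eq
  set f : G → ℤ := fun x => lRank p M B (Subgroup.centralizer ({x} : Set G)) with hf
  set CC := Finset.univ.filter fun C : ConjClasses G => ∃ k : ℕ, orderOf (rep C) = p ^ k with hCC
  have hper : ∀ a : G, (Nat.card B : ℤ) = ∑ C ∈ CC, f (a⁻¹ * rep C * a) := by
    intro a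
    have hX := card_block_eq_sum_rank hM hB (CC.image fun C => a⁻¹ * rep C * a) ?_ ?_
    · rw [hX, Nat.cast_sum, Finset.sum_image ?_]
      · refine Finset.sum_congr rfl fun C _ => ?_
        exact (Nat.castAddMonoidHom ℤ).map_finsum_mem _ (Set.toFinite _)
      · intro C _ C' _ h
        rw [← mk_rep C, mul_left_cancel (mul_right_cancel h), mk_rep]
    · intro x hx
      obtain ⟨C, hC, rfl⟩ := Finset.mem_image.mp hx
      obtain ⟨k, hk⟩ := (Finset.mem_filter.mp hC).2
      exact ⟨k, by rw [← hk, ← horder a⁻¹ (rep C), inv_inv]⟩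
    · intro g hg
      obtain ⟨k, hk⟩ := hg
      obtain ⟨c, hc⟩ := isConj_iff.mp (isConj_rep g)
      refine ⟨a⁻¹ * rep (ConjClasses.mk g) * a, ⟨Finset.mem_image.mpr ⟨_, Finset.mem_filter.mpr
        ⟨Finset.mem_univ _, k, by rw [← hk]; conv_rhs => rw [← hc, horder]⟩, rfl⟩,
        (isConj_rep g).symm.trans (isConj_iff.mpr ⟨a⁻¹, by group⟩)⟩, ?_⟩
      rintro y ⟨hy, hgy⟩
      obtain ⟨C, -, rfl⟩ := Finset.mem_image.mp hy
      rw [show C = ConjClasses.mk g by
        conv_lhs => rw [← mk_rep C]
        exact ConjClasses.mk_eq_mk_iff_isConj.mpr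
          (hgy.trans (isConj_iff.mpr ⟨a, by group⟩)).symm]
  have h1 : (Nat.card G : ℂ) * (Nat.card B : ℂ) =
      ∑ x ∈ Finset.univ.filter (fun x : G => ∃ k : ℕ, orderOf x = p ^ k),
        (Nat.card (Subgroup.centralizer ({x} : Set G)) : ℂ) * (f x : ℂ) := by
    have h2 : ∀ a : G, (Nat.card B : ℂ) = ∑ C ∈ CC, (f (a⁻¹ * rep C * a) : ℂ) := fun a => by
      exact_mod_cast hper a
    calc (Nat.card G : ℂ) * (Nat.card B : ℂ) = ∑ a : G, ∑ C ∈ CC, (f (a⁻¹ * rep C * a) : ℂ) := by
          rw [← Finset.sum_congr rfl fun a _ => h2 a, Finset.sum_const, Finset.card_univ,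
            nsmul_eq_mul, Nat.card_eq_fintype_card]
      _ = ∑ C ∈ CC, ∑ x ∈ Finset.univ.filter (fun y => IsConj (rep C) y),
            (Nat.card (Subgroup.centralizer ({x} : Set G)) : ℂ) * (f x : ℂ) := by
          rw [Finset.sum_comm]
          refine Finset.sum_congr rfl fun C _ => ?_
          rw [sum_conj_eq (fun x => (f x : ℂ)) (rep C), Finset.mul_sum]
          refine Finset.sum_congr rfl fun y hy => ?_
          obtain ⟨c, hc⟩ := isConj_iff.mp (Finset.mem_filter.mp hy).2
          rw [← hc, ← show MulAut.conj c (rep C) = c * rep C * c⁻¹ from rfl,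
            ← centralizer_map_singleton (MulAut.conj c),
            Subgroup.card_map_of_injective (f := (MulAut.conj c).toMonoidHom) (MulAut.conj c).injective]
      _ = _ := by
          rw [← Finset.sum_fiberwise_of_maps_to (s := Finset.univ.filter
            (fun x : G => ∃ k : ℕ, orderOf x = p ^ k)) (t := CC) (g := ConjClasses.mk)
            (fun x hx => Finset.mem_filter.mpr ⟨Finset.mem_univ _, ?_⟩)]
          · refine Finset.sum_congr rfl fun C hC => Finset.sum_congr (Finset.ext fun x => ?_)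
              fun _ _ => rfl
            simp only [Finset.mem_filter, Finset.mem_univ, true_and]
            constructor
            · intro h
              obtain ⟨c, hc⟩ := isConj_iff.mp h
              refine ⟨(Finset.mem_filter.mp hC).2.imp fun k hk => by rw [← hc, horder, hk], ?_⟩
              rw [← mk_rep C]
              exact ConjClasses.mk_eq_mk_iff_isConj.mpr h.symm
            · rintro ⟨-, rfl⟩
              exact isConj_rep x
          · obtain ⟨k, hk⟩ := (Finset.mem_filter.mp hx).2
            obtain ⟨c, hc⟩ := isConj_iff.mp (isConj_rep x)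
            exact ⟨k, by rw [← hk]; conv_rhs => rw [← hc, horder]⟩
  have h1' : (Nat.card G : ℤ) * (Nat.card B : ℤ) =
      ∑ x ∈ Finset.univ.filter (fun x : G => ∃ k : ℕ, orderOf x = p ^ k),
        (Nat.card (Subgroup.centralizer ({x} : Set G)) : ℤ) * f x := by
    exact_mod_cast h1
  rw [← Finset.add_sum_erase _ _ (a := (1 : G)) (Finset.mem_filter.mpr
    ⟨Finset.mem_univ _, 0, by simp⟩)] at h1'
  have hone : (Nat.card (Subgroup.centralizer ({(1 : G)} : Set G)) : ℤ) = (Nat.card G : ℤ) := by
    rw [show Subgroup.centralizer ({(1 : G)} : Set G) = ⊤ from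
      eq_top_iff.mpr fun g _ => Subgroup.mem_centralizer_singleton_iff.mpr (by simp),
      Subgroup.card_top]
  simp only [hone, hf, lRank_one hM hB] at h1'
  rw [show Finset.univ.filter (fun x : G => (∃ k : ℕ, orderOf x = p ^ k) ∧ x ≠ 1) =
    (Finset.univ.filter fun x : G => ∃ k : ℕ, orderOf x = p ^ k).erase 1 from by
      ext x; simp [and_comm]]
  linear_combination h1'

/-- `k - l` is additive over blocks. -/
theorem card_sub_rank_sum {H : Subgroup G} [Fintype H] (hM : IsPModular p M)
    (T : Finset (Set (IrrCharacter H))) (hT : ∀ β ∈ T, IsPBlock M β) :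
    (Nat.card {ψ : IrrCharacter H | ∃ β ∈ T, ψ ∈ β} : ℤ) -
        (blockRank p {ψ : IrrCharacter H | ∃ β ∈ T, ψ ∈ β} : ℤ) =
      ∑ β ∈ T, ((Nat.card β : ℤ) - (blockRank p β : ℤ)) := by
  classical
  have := Fintype.ofFinite (IrrCharacter H)
  have := Fintype.ofFinite (ConjClasses H)
  set U : Set (IrrCharacter H) := {ψ | ∃ β ∈ T, ψ ∈ β} with hU
  have hdisj : (T : Set (Set (IrrCharacter H))).PairwiseDisjoint fun β =>
      (Finset.univ.filter (· ∈ β) : Finset (IrrCharacter H)) := by
    intro β hβ β' hβ' hne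
    refine Finset.disjoint_left.mpr fun ψ h h' => hne ?_
    exact isPBlock_eq_of_mem (hT β hβ) (hT β' hβ') (Finset.mem_filter.mp h).2
      (Finset.mem_filter.mp h').2
  have hfilter : Finset.univ.filter (· ∈ U) = T.biUnion fun β => Finset.univ.filter (· ∈ β) := by
    ext ψ; simp [hU]
  have hcard : ∀ S : Set (IrrCharacter H), (Nat.card S : ℤ) = (Finset.univ.filter (· ∈ S)).card :=
    fun S => by rw [Nat.card_eq_fintype_card, ← Fintype.card_subtype]
  have hUu : IsBlockUnion M U := by
    rintro θ ⟨β, hβ, hθ⟩ η hη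
    refine ⟨β, hβ, ?_⟩
    rw [isPBlock_eq_blockOf (hT β hβ) hθ]
    exact hη
  have hr : (blockRank p U : ℤ) = ∑ β ∈ T, (blockRank p β : ℤ) := by
    have h : (blockRank p U : ℂ) = ∑ β ∈ T, (blockRank p β : ℂ) := by
      rw [blockRank_eq_sum_regInner hM hUu, hfilter, Finset.sum_biUnion hdisj]
      exact Finset.sum_congr rfl fun β hβ =>
        (blockRank_eq_sum_regInner hM (.of_isPBlock (hT β hβ))).symm
    exact_mod_cast h
  have hcardU : (Nat.card U : ℤ) =
      (T.biUnion fun β => Finset.univ.filter (fun ψ : IrrCharacter H => ψ ∈ β)).card := by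
    rw [hcard U]
    congr 2
    ext ψ; simp [hU]
  rw [hr, hcardU, Finset.card_biUnion hdisj, Nat.cast_sum, ← Finset.sum_sub_distrib]
  exact Finset.sum_congr rfl fun β _ => by rw [hcard]

/-- The centralizer inside a subgroup. -/
def centEquiv (N : Subgroup G) (x : N) :
    Subgroup.centralizer ({x} : Set N) ≃*
      (Subgroup.centralizer ({(x : G)} : Set G) ⊓ N : Subgroup G) where
  toFun k := ⟨((k : N) : G), Subgroup.mem_centralizer_singleton_iff.mpr
    (congrArg Subtype.val (Subgroup.mem_centralizer_singleton_iff.mp k.2)), (k : N).2⟩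
  invFun k := ⟨⟨(k : G), k.2.2⟩, Subgroup.mem_centralizer_singleton_iff.mpr
    (Subtype.ext (Subgroup.mem_centralizer_singleton_iff.mp k.2.1))⟩
  left_inv _ := rfl
  right_inv _ := rfl
  map_mul' _ _ := rfl

/-- Transitivity of induction from the centralizer of a `p`-element. -/
theorem sum_lRank_eq (hM : IsPModular p M) {b : Set (IrrCharacter G)} (N : Subgroup G) [Fintype N]
    {x : N} (hx : ∃ k : ℕ, orderOf x = p ^ k) (T : Finset (Set (IrrCharacter N)))
    (hT : ∀ β, β ∈ T ↔ IsInducedBlock M N β b) :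
    ∑ β ∈ T, lRank p M β (Subgroup.centralizer ({x} : Set N)) =
      lRank p M b (Subgroup.centralizer ({(x : G)} : Set G) ⊓ N) := by
  classical
  have hpf : Fact p.Prime := ⟨hM.1⟩
  set K := Subgroup.centralizer ({(x : G)} : Set G) ⊓ N with hKdef
  set K' := Subgroup.centralizer ({x} : Set N) with hK'
  let e : K' ≃* K := centEquiv N x
  have := Fintype.ofFinite (IrrCharacter K')
  have := Fintype.ofFinite (IrrCharacter K)
  have key : ∀ {b' : Set (IrrCharacter K')} {β : Set (IrrCharacter N)}, IsInducedBlock M K' b' β →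
      IsPBlock M b → (IsInducedBlock M K (irrEquiv e '' b') b ↔ IsInducedBlock M N β b) := by
    intro b' β hi hb
    have hd : ∀ ξ ∈ b', ∀ χ' ∈ β, ∀ g : G, MemLocalIdeal M
        (inducedCentralChar N (χ' : N → ℂ) g -
          inducedCentralChar K ((irrEquiv e ξ : IrrCharacter K) : K → ℂ) g) := by
      intro ξ hξ χ' hχ' g
      set w : K' → ℂ := fun k => (ξ : K' → ℂ) k / (ξ : K' → ℂ) 1 with hw
      have h1 := memLocalIdeal_sum_classes (M := M) χ'
        (Finset.univ.filter fun a : N => IsConj g (a : G))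
        (fun {y z} hyz hy => Finset.mem_filter.mpr ⟨Finset.mem_univ _,
          (Finset.mem_filter.mp hy).2.trans (N.subtype.map_isConj hyz)⟩)
        (fun k : K' => (k : N)) w fun a _ => by
          have h := memLocalIdeal_neg (hi.2.2 ξ hξ χ' hχ' a)
          rw [neg_sub, inducedCentralChar, finsum_mem_eq_toFinset_sum, Set.toFinset_setOf] at h
          exact h
      convert h1 using 2
      · rw [inducedCentralChar, finsum_mem_eq_toFinset_sum, Set.toFinset_setOf]
      · rw [inducedCentralChar, finsum_mem_eq_toFinset_sum, Set.toFinset_setOf]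
        refine (Finset.sum_equiv e.toEquiv (fun k => ?_) fun k _ => ?_).symm
        · simp only [Finset.mem_filter, Finset.mem_univ, true_and]
          rfl
        · simp [hw]
    constructor
    · rintro ⟨-, -, h⟩
      refine ⟨hi.2.1, hb, fun χ' hχ' χ hχ g => ?_⟩
      obtain ⟨ξ, hξ⟩ := isPBlock_nonempty hi.1
      have h2 := memLocalIdeal_add (hd ξ hξ χ' hχ' g) (h _ ⟨ξ, hξ, rfl⟩ χ hχ g)
      rwa [sub_add_sub_cancel] at h2
    · rintro ⟨-, -, h⟩
      refine ⟨isPBlock_image_irrEquiv _ hi.1, hb, ?_⟩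
      rintro _ ⟨ξ, hξ, rfl⟩ χ hχ g
      obtain ⟨χ', hχ'⟩ := isPBlock_nonempty hi.2.1
      have h2 := memLocalIdeal_add (memLocalIdeal_neg (hd ξ hξ χ' hχ' g)) (h χ' hχ' χ hχ g)
      rwa [neg_sub, sub_add_sub_cancel] at h2
  obtain ⟨k, hk⟩ := hx
  have hP : IsPGroup p (Subgroup.zpowers x) :=
    IsPGroup.of_card (n := k) (by rw [Nat.card_zpowers, hk])
  have hC : Subgroup.centralizer ((Subgroup.zpowers x : Subgroup N) : Set N) ≤ K' :=
    Subgroup.centralizer_le (Set.singleton_subset_iff.mpr (Subgroup.mem_zpowers x))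
  have hN : K' ≤ Subgroup.normalizer ((Subgroup.zpowers x : Subgroup N) : Set N) := fun g hg => by
    rw [Subgroup.mem_normalizer_iff_map_conj_eq, MonoidHom.map_zpowers]
    congr 1
    have h := Subgroup.mem_centralizer_singleton_iff.mp hg
    simp [h]
  have hPK : Subgroup.zpowers x ≤ K' :=
    Subgroup.zpowers_le.mpr (Subgroup.mem_centralizer_singleton_iff.mpr rfl)
  simp only [lRank, finsum_mem_eq_toFinset_sum]
  rw [← Finset.sum_biUnion]
  · refine Finset.sum_bij (fun b' _ => irrEquiv e '' b') ?_ ?_ ?_ ?_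
    · intro b' hb'
      obtain ⟨β, hβ, hb''⟩ := Finset.mem_biUnion.mp hb'
      have hβ' := (hT β).mp hβ
      rw [Set.mem_toFinset] at hb'' ⊢
      exact (key hb'' hβ'.2.1).mpr hβ'
    · intro b₁ _ b₂ _ h
      exact (irrEquiv e).injective.image_injective h
    · intro b'' hb''
      rw [Set.mem_toFinset] at hb''
      have hsymm : irrEquiv e '' (irrEquiv e.symm '' b'') = b'' := by
        rw [Set.image_image]
        exact (Set.image_congr' fun ξ => Subtype.ext (funext fun x => by simp)).trans (Set.image_id b'')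
      obtain ⟨β, hβ⟩ := exists_inducedBlock hP hC hN hM hPK
        (isPBlock_image_irrEquiv (M := M) e.symm hb''.1)
      refine ⟨irrEquiv e.symm '' b'', Finset.mem_biUnion.mpr ⟨β, ?_, Set.mem_toFinset.mpr hβ⟩, hsymm⟩
      exact (hT β).mpr ((key hβ hb''.2.1).mp (by rw [hsymm]; exact hb''))
    · intro b' _
      rw [blockRank_image_irrEquiv]
  · intro β _ β' _ hne
    refine Finset.disjoint_left.mpr fun b' h h' => hne ?_
    rw [Set.mem_toFinset, Set.mem_setOf_eq] at h h'
    exact inducedBlock_unique h h'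

/-- `|N| (k - l)` of the blocks of `N` inducing `b`, as a sum over `p`-elements. -/
theorem card_sub_rank_eq_sum (hM : IsPModular p M) (b : Set (IrrCharacter G)) (N : Subgroup G)
    [DecidablePred fun x : G => (∃ k : ℕ, orderOf x = p ^ k) ∧ x ≠ 1] [DecidablePred (· ∈ N)] :
    (Nat.card N : ℤ) *
        ((Nat.card {ψ : IrrCharacter N | ∃ β, ψ ∈ β ∧ IsInducedBlock M N β b} : ℤ) -
          (blockRank p {ψ : IrrCharacter N | ∃ β, ψ ∈ β ∧ IsInducedBlock M N β b} : ℤ)) =
      ∑ x ∈ (Finset.univ.filter fun x : G => (∃ k : ℕ, orderOf x = p ^ k) ∧ x ≠ 1).filter (· ∈ N),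
        (Nat.card (Subgroup.centralizer ({x} : Set G) ⊓ N : Subgroup G) : ℤ) *
          lRank p M b (Subgroup.centralizer ({x} : Set G) ⊓ N) := by
  classical
  have := Fintype.ofFinite N
  have := Fintype.ofFinite (IrrCharacter N)
  set T := Finset.univ.filter fun β : Set (IrrCharacter N) => IsInducedBlock M N β b with hTdef
  have hT : ∀ β, β ∈ T ↔ IsInducedBlock M N β b := fun β => by simp [hTdef]
  rw [show {ψ : IrrCharacter N | ∃ β, ψ ∈ β ∧ IsInducedBlock M N β b} = {ψ | ∃ β ∈ T, ψ ∈ β} from
    Set.ext fun ψ => exists_congr fun β => by rw [hT, and_comm],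
    card_sub_rank_sum hM T fun β hβ => ((hT β).mp hβ).1, Finset.mul_sum,
    Finset.sum_congr rfl fun β hβ => card_mul_sub_eq_sum hM ((hT β).mp hβ).1, Finset.sum_comm]
  refine Finset.sum_bij' (fun (x : N) _ => (x : G))
    (fun x hx => (⟨x, (Finset.mem_filter.mp hx).2⟩ : N)) ?_ ?_ (fun _ _ => rfl) (fun _ _ => rfl) ?_
  · intro x hx
    simp only [Finset.mem_filter, Finset.mem_univ, true_and] at hx ⊢
    exact ⟨⟨by simpa using hx.1, fun e => hx.2 (Subtype.ext e)⟩, x.2⟩
  · intro x hx
    simp only [Finset.mem_filter, Finset.mem_univ, true_and] at hx ⊢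
    exact ⟨by simpa using hx.1.1, fun e => hx.1.2 (congrArg Subtype.val e)⟩
  · intro x hx
    simp only [Finset.mem_filter, Finset.mem_univ, true_and] at hx
    rw [← Finset.mul_sum, sum_lRank_eq hM N hx.1 T hT, Nat.card_congr (centEquiv N x).toEquiv]

end CfsgLib.Block.ChainCount
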