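import Cfsg.Agent.Lib.Block.FusionSat

/-!
# Brauer pairs of a centralizer, seen in the whole group; local nilpotence
-/

open Finset MonoidAlgebra
open scoped ComplexConjugate

set_option linter.unusedSectionVars false

namespace CfsgLib.Block

open Cfsg
open Cfsg.FusionSystem (centralizerIn)
open scoped Pair

universe u

variable {p : ℕ} {M : Ideal AlgInt} [M.IsMaximal] {G : Type u} [Group G] [Fintype G] [DecidableEq G]
  {P Q : Subgroup G} {e : Set (IrrCharacter (CQ P))}

theorem mem_cq_sup_map {R : Subgroup (CQ Q)} {c : CQ Q} :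
    c ∈ Subgroup.centralizer (R : Set (CQ Q)) ↔
      (c : G) ∈ CQ (Q ⊔ R.map (CQ Q).subtype) := by
  constructor
  · intro hc
    have hle : Q ⊔ R.map (CQ Q).subtype ≤ Subgroup.centralizer ({(c : G)} : Set G) := by
      refine sup_le (fun u hu => ?_) ?_
      · exact Subgroup.mem_centralizer_singleton_iff.mpr (Subgroup.mem_centralizer_iff.mp c.2 u hu)
      · rintro _ ⟨r, hr, rfl⟩
        exact Subgroup.mem_centralizer_singleton_iff.mpr
          (congrArg Subtype.val (Subgroup.mem_centralizer_iff.mp hc r hr))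
    exact Subgroup.mem_centralizer_iff.mpr fun u hu =>
      Subgroup.mem_centralizer_singleton_iff.mp (hle hu)
  · intro hc
    exact Subgroup.mem_centralizer_iff.mpr fun r hr => Subtype.ext
      (Subgroup.mem_centralizer_iff.mp hc (r : G)
        (le_sup_right (a := Q) (Subgroup.mem_map_of_mem _ hr)))

/-- The centralizer of `R` in `C_G(Q)` is that of `Q R` in `G`. -/
noncomputable def cqEquiv (R : Subgroup (CQ Q)) :
    Subgroup.centralizer (R : Set (CQ Q)) ≃* CQ (Q ⊔ R.map (CQ Q).subtype) where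
  toFun c := ⟨(c : CQ Q), mem_cq_sup_map.mp c.2⟩
  invFun c := ⟨⟨c, cq_mono le_sup_left c.2⟩, mem_cq_sup_map.mpr c.2⟩
  left_inv c := Subtype.ext (Subtype.ext rfl)
  right_inv c := Subtype.ext rfl
  map_mul' a b := Subtype.ext rfl

/-- A Brauer pair of `f` in `C_G(Q)` is a pair above `(Q, f)` in `G`. -/
theorem nSub_of_isBrauerPairOf (hM : IsPModular p M) {f : Set (IrrCharacter (CQ Q))}
    (hf : IsBrauerPair p M Q f) {R : Subgroup (CQ Q)}
    {g : Set (IrrCharacter (Subgroup.centralizer (R : Set (CQ Q))))}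
    (h : IsBrauerPairOf p M f R g) :
    NSub p M Q f (Q ⊔ R.map (CQ Q).subtype) (irrEquiv (cqEquiv R) '' g) := by
  classical
  have hRN : R.map (CQ Q).subtype ≤ Subgroup.normalizer (Q : Set G) :=
    (Subgroup.map_subtype_le R).trans (centralizer_le_normalizer' Q)
  have hp : IsPGroup p (Q ⊔ R.map (CQ Q).subtype : Subgroup G) :=
    hf.1.to_sup_of_normal_left' (h.1.1.map _) hRN
  refine ⟨hf, ⟨hp, isPBlock_image_irrEquiv _ h.1.2⟩, le_sup_left,
    sup_le Subgroup.le_normalizer hRN,
    cinv_sup (cinv_self_eG f) ((cinv_eG f).mono (Subgroup.map_subtype_le R)), ?_⟩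
  rintro _ ⟨ξ, hξ, rfl⟩
  refine (brauerOmega_sub_iff hM le_sup_left hf.2 _).mp ?_
  convert h.2.2 ξ hξ using 2
  rw [brauerOmega, brauerOmega]
  refine finsum_eq_of_bijective (cqEquiv R).symm (cqEquiv R).symm.bijective fun x => ?_
  have hx : ((x : G)) ∈ CQ Q := cq_mono le_sup_left x.2
  rw [show subgroupBlockCoeff (CQ Q) f (x : G) = blockCoeff f ⟨(x : G), hx⟩ from
    subgroupBlockCoeff_coe f ⟨(x : G), hx⟩]
  simp only [irrEquiv_apply, map_one]
  rfl

/-- Every block of a centralizer below a nilpotent block is nilpotent. -/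
theorem isNilpotentBlock_local (hM : IsPModular p M) {B : Set (IrrCharacter G)}
    (hnil : IsNilpotentBlock p M B) {f : Set (IrrCharacter (CQ Q))}
    (hQf : IsBrauerPairOf p M B Q f) : IsNilpotentBlock p M f := by
  classical
  refine ⟨hQf.1.2, fun R g hRg y hyN hyS hreg => ?_⟩
  have hns := nSub_of_isBrauerPairOf hM hQf.1 hRg
  have hB := (hns.isBrauerPairOf_iff hM).mpr hQf
  set S := Q ⊔ R.map (CQ Q).subtype with hS
  have hyR : (y : G) ∈ Subgroup.normalizer ((R.map (CQ Q).subtype : Subgroup G) : Set G) := by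
    refine mem_normalizer_of_cjS_eq ?_
    conv_rhs => rw [← cjS_eq_of_mem_normalizer hyN]
    show Subgroup.map _ (Subgroup.map _ R) = Subgroup.map _ (Subgroup.map _ R)
    rw [Subgroup.map_map, Subgroup.map_map]
    rfl
  have hyS' : (y : G) ∈ Subgroup.normalizer (S : Set G) := by
    refine mem_normalizer_of_cjS_eq ?_
    show Subgroup.map _ _ = _
    rw [hS, Subgroup.map_sup]
    congr 1
    · exact cjS_eq_of_mem_normalizer (centralizer_le_normalizer' Q y.2)
    · exact cjS_eq_of_mem_normalizer hyR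
  have hst : StabilizesBlock (CQ S) (irrEquiv (cqEquiv R) '' g) (y : G) := by
    have hyC : (y : G) ∈ Subgroup.normalizer (CQ S : Set G) :=
      Subgroup.mem_normalizer_iff.mpr (cq_conj_iff hyS')
    refine ⟨hyC, ?_⟩
    rintro _ ⟨χ, hχ, rfl⟩
    obtain ⟨χ', hχ', hc⟩ := hyS.2 χ hχ
    refine ⟨irrEquiv (cqEquiv R) χ', ⟨χ', hχ', rfl⟩, fun k k' hk => ?_⟩
    rw [irrEquiv_apply, irrEquiv_apply]
    exact hc _ _ (Subtype.ext hk)
  have hreg' : IsPRegular p (y : G) := by
    intro hd
    rw [Subgroup.orderOf_coe] at hd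
    exact hreg hd
  have hcen := hnil.2 S _ hB (y : G) hyS' hst hreg'
  exact mem_cq_sup_map.mpr hcen

/-- In a nilpotent block every subgroup of the maximal pair is fully centralized. -/
theorem isDefectGroup_inf_of_nilpotent (hM : IsPModular p M) {B : Set (IrrCharacter G)}
    (hmax : IsMaximalBrauerPair p M B P e) (hnil : IsNilpotentBlock p M B)
    {f : Set (IrrCharacter (CQ Q))} (hle : SubpairLE p M Q f P e) :
    IsDefectGroup p M f ((P ⊓ CQ Q).subgroupOf (CQ Q)) := by
  have hpf : Fact p.Prime := ⟨hM.1⟩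
  have hF := isBlockFusionSystemOn_blockFusion hM hmax
  refine (isFullyCentralized_iff hM hF hle).mp ⟨SubpairLE.le hle, ?_⟩
  rintro _ ⟨φ, hφ, rfl⟩
  rw [(isNilpotentBlock_iff_inner hM hF).mp hnil] at hφ
  obtain ⟨-, u, hu, hφu⟩ := hφ
  rw [range_eq_cjS hφu]
  have h1 : centralizerIn P (cjS u Q) = cjS u (centralizerIn P Q) := by
    ext w
    show w ∈ P ⊓ CQ (cjS u Q) ↔ _
    rw [mem_cjS, Subgroup.mem_inf, inv_conj_mem_cq_iff]
    refine and_congr ⟨fun h => P.mul_mem (P.mul_mem (P.inv_mem hu) h) hu, fun h => ?_⟩ Iff.rfl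
    have := P.mul_mem (P.mul_mem hu h) (P.inv_mem hu)
    simpa [mul_assoc] using this
  rw [h1, card_cjS]

end CfsgLib.Block
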