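import Cfsg.Agent.S4720
import Cfsg.Agent.Lib.Block.Rank
import Cfsg.Agent.Lib.Fusion.Transfer
import Cfsg.Agent.Lib.Char.Linear
import Cfsg.Agent.Lib.Block.Cyclic.PrincipalSq

/-!
# The principal block when the Sylow normalizer acts freely on an abelian Sylow subgroup

The characters of the principal block are constant on the sections of the nontrivial elements of `P`; the
differences of their multiplicities of linear characters of `P` form an isometry, hence there are
exceptional characters.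
-/

set_option autoImplicit false
set_option linter.unusedSectionVars false

namespace CfsgLib.Block.AbelianFree

open scoped ComplexConjugate
open Cfsg CfsgLib.Char CfsgLib.Block

universe u

variable {p : ℕ} [Fact p.Prime] {G : Type u} [Group G] [Fintype G] (P : Sylow p G)

/-- The linear characters of `P`. -/
abbrev Lin : Type u := ↥(P : Subgroup G) →* ℂˣ

/-- The normalizer of `P`. -/
abbrev nor : Subgroup G := Subgroup.normalizer ((P : Subgroup G) : Set G)

/-- The centralizer of `P`. -/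
abbrev cen : Subgroup G := Subgroup.centralizer ((P : Subgroup G) : Set G)

/-- `P` is abelian and its normalizer modulo its centralizer acts freely. -/
structure Free : Prop where
  comm : IsMulCommutative P
  frob : ∀ y : G, y ∈ (P : Subgroup G) → y ≠ 1 → Subgroup.centralizer ({y} : Set G) ⊓ nor P = cen P

/-- Conjugacy of linear characters under the normalizer. -/
def Rel (ψ ψ' : Lin P) : Prop :=
  ∃ n : G, n ∈ nor P ∧ ∀ w w' : ↥(P : Subgroup G), (w' : G) = n * w * n⁻¹ → ψ' w' = ψ w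

/-- Transport of a linear character. -/
noncomputable def tw (n : nor P) (ψ : Lin P) : Lin P :=
  ψ.comp ((P : Subgroup G).normalizerMonoidHom n⁻¹).toMonoidHom

variable {P}

theorem tw_apply (n : nor P) (ψ : Lin P) (w : ↥(P : Subgroup G)) :
    tw P n ψ w = ψ ((P : Subgroup G).normalizerMonoidHom n⁻¹ w) := rfl

theorem tw_mul (a b : nor P) (ψ : Lin P) : tw P (a * b) ψ = tw P a (tw P b ψ) :=
  MonoidHom.ext fun w => by
    simp only [tw_apply, mul_inv_rev, map_mul]
    rfl

theorem tw_one_left (ψ : Lin P) : tw P 1 ψ = ψ :=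
  MonoidHom.ext fun w => by simp only [tw_apply, inv_one, map_one]; rfl

theorem tw_triv (n : nor P) : tw P n (1 : Lin P) = 1 := rfl

theorem coe_norHom (n : nor P) (w : ↥(P : Subgroup G)) :
    (((P : Subgroup G).normalizerMonoidHom n w : ↥(P : Subgroup G)) : G) = n * w * (n : G)⁻¹ := rfl

theorem rel_iff {ψ ψ' : Lin P} : Rel P ψ ψ' ↔ ∃ n : nor P, tw P n ψ = ψ' := by
  constructor
  · rintro ⟨n, hn, h⟩
    refine ⟨⟨n, hn⟩, MonoidHom.ext fun w => ?_⟩
    rw [tw_apply, h ((P : Subgroup G).normalizerMonoidHom (⟨n, hn⟩ : nor P)⁻¹ w) w]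
    rw [coe_norHom]
    simp [mul_assoc]
  · rintro ⟨n, rfl⟩
    refine ⟨n, n.2, fun w w' e => ?_⟩
    rw [tw_apply]
    congr 1
    refine Subtype.ext ?_
    rw [coe_norHom, e]
    simp [mul_assoc]

theorem rel_refl (ψ : Lin P) : Rel P ψ ψ := rel_iff.mpr ⟨1, tw_one_left ψ⟩

theorem rel_symm {ψ ψ' : Lin P} (h : Rel P ψ ψ') : Rel P ψ' ψ := by
  obtain ⟨n, rfl⟩ := rel_iff.mp h
  exact rel_iff.mpr ⟨n⁻¹, by rw [← tw_mul, inv_mul_cancel, tw_one_left]⟩

theorem rel_trans {a b c : Lin P} (h : Rel P a b) (h' : Rel P b c) : Rel P a c := by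
  obtain ⟨n, rfl⟩ := rel_iff.mp h
  obtain ⟨m, rfl⟩ := rel_iff.mp h'
  exact rel_iff.mpr ⟨m * n, tw_mul _ _ _⟩

theorem rel_triv_iff {ψ : Lin P} : Rel P 1 ψ ↔ ψ = 1 :=
  ⟨fun h => by obtain ⟨n, rfl⟩ := rel_iff.mp h; rfl, fun h => h ▸ rel_refl _⟩

theorem cen_le_nor : cen P ≤ nor P := Subgroup.centralizer_le_normalizer _

namespace Free

variable (h : Free P)
include h

theorem commute {a b : G} (ha : a ∈ (P : Subgroup G)) (hb : b ∈ (P : Subgroup G)) : Commute a b := by
  have := h.comm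
  exact congrArg Subtype.val (mul_comm' (⟨a, ha⟩ : ↥(P : Subgroup G)) ⟨b, hb⟩)

theorem le_cen : (P : Subgroup G) ≤ cen P := fun a ha =>
  Subgroup.mem_centralizer_iff.mpr fun b hb => (h.commute hb ha).eq

theorem le_centralizer {y : G} (hy : y ∈ (P : Subgroup G)) :
    (P : Subgroup G) ≤ Subgroup.centralizer ({y} : Set G) := fun a ha =>
  Subgroup.mem_centralizer_singleton_iff.mpr (h.commute ha hy).eq

theorem mem_cen_of_tw {ψ : Lin P} (hψ : ψ ≠ 1) {n : nor P} (hn : tw P n ψ = ψ) : (n : G) ∈ cen P := by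
  by_contra hC
  have hm : ((n⁻¹ : nor P) : G) ∉ cen P := fun hc => hC (by simpa using inv_mem hc)
  set m := n⁻¹
  let φ : ↥(P : Subgroup G) → ↥(P : Subgroup G) := fun w => w⁻¹ * (P : Subgroup G).normalizerMonoidHom m w
  have hinj : Function.Injective φ := by
    intro a b hab
    by_contra hne
    have hw : ((a * b⁻¹ : ↥(P : Subgroup G)) : G) ≠ 1 := fun e => hne (mul_inv_eq_one.mp (Subtype.ext e))
    have e : (a : G)⁻¹ * ((m : G) * a * (m : G)⁻¹) = (b : G)⁻¹ * ((m : G) * b * (m : G)⁻¹) :=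
      congrArg Subtype.val hab
    have e3 : (m : G) * a * (m : G)⁻¹ = (a : G) * ((b : G)⁻¹ * ((m : G) * b * (m : G)⁻¹)) := by
      rw [← e, mul_inv_cancel_left]
    have e2 : (m : G) * ((a : G) * (b : G)⁻¹) * (m : G)⁻¹ = (a : G) * (b : G)⁻¹ := by
      calc (m : G) * ((a : G) * (b : G)⁻¹) * (m : G)⁻¹
          = (m : G) * a * (m : G)⁻¹ * ((m : G) * b * (m : G)⁻¹)⁻¹ := by group
        _ = (a : G) * (b : G)⁻¹ := by rw [e3]; group
    refine hm ?_
    rw [← h.frob _ (a * b⁻¹ : ↥(P : Subgroup G)).2 hw]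
    exact Subgroup.mem_inf.mpr ⟨Subgroup.mem_centralizer_singleton_iff.mpr (mul_inv_eq_iff_eq_mul.mp e2), m.2⟩
  refine hψ (MonoidHom.ext fun u => ?_)
  obtain ⟨w, rfl⟩ := Finite.surjective_of_injective hinj u
  have e : ψ ((P : Subgroup G).normalizerMonoidHom m w) = ψ w := by
    conv_rhs => rw [← hn]
    rfl
  rw [map_mul, map_inv, e, inv_mul_cancel]
  rfl

theorem tw_of_mem {n : nor P} (hn : (n : G) ∈ cen P) (ψ : Lin P) : tw P n ψ = ψ := by
  refine MonoidHom.ext fun w => ?_
  rw [tw_apply]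
  congr 1
  refine Subtype.ext ?_
  rw [coe_norHom]
  push_cast
  rw [inv_inv, mul_assoc, Subgroup.mem_centralizer_iff.mp hn w w.2, inv_mul_cancel_left]

open scoped Classical in
theorem card_tw {a : Lin P} (ha : a ≠ 1) (c : Lin P) :
    Nat.card {n : nor P // tw P n c = a} = if Rel P c a then Nat.card (cen P) else 0 := by
  split_ifs with hr
  · obtain ⟨n₀, hn₀⟩ := rel_iff.mp hr
    refine Nat.card_congr
      { toFun := fun n => ⟨(((n.1 : nor P) * n₀⁻¹ : nor P) : G), h.mem_cen_of_tw ha (by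
          rw [tw_mul, show tw P n₀⁻¹ a = c by rw [← hn₀, ← tw_mul, inv_mul_cancel, tw_one_left], n.2])⟩
        invFun := fun k => ⟨⟨(k : G), cen_le_nor k.2⟩ * n₀, by
          rw [tw_mul, hn₀, h.tw_of_mem k.2]⟩
        left_inv := fun n => Subtype.ext (Subtype.ext (by simp))
        right_inv := fun k => Subtype.ext (by simp) }
  · rw [Nat.card_eq_zero]
    exact Or.inl ⟨fun n => hr (rel_iff.mpr ⟨n.1, n.2⟩)⟩

theorem fusion {u g : G} (hu : u ∈ (P : Subgroup G)) (hgu : g * u * g⁻¹ ∈ (P : Subgroup G)) :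
    ∃ n ∈ nor P, n * u * n⁻¹ = g * u * g⁻¹ := by
  have := h.comm
  obtain ⟨n, hn, e⟩ := Sylow.conj_eq_normalizer_conj_of_mem P u g⁻¹ hu (by rw [inv_inv]; exact hgu)
  exact ⟨n⁻¹, inv_mem hn, by simpa using e.symm⟩

theorem inf_nor {y : G} (hy : y ∈ (P : Subgroup G)) (hy1 : y ≠ 1) :
    nor P ⊓ Subgroup.centralizer ({y} : Set G) = cen P := by rw [inf_comm, h.frob y hy hy1]

theorem hasNormalPComplement {y : G} (hy : y ∈ (P : Subgroup G)) (hy1 : y ≠ 1) :
    Cfsg.HasNormalPComplement p ↥(Subgroup.centralizer ({y} : Set G)) := by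
  refine CfsgLib.Fusion.hasNormalPComplement_of_normalizer_le_centralizer (P.subtype (h.le_centralizer hy)) ?_
  intro c hc
  have hcN : (c : G) ∈ nor P := by
    refine Subgroup.mem_normalizer_iff.mpr fun u => ⟨fun hu => ?_, fun hu => ?_⟩
    · have := (Subgroup.mem_normalizer_iff.mp hc ⟨u, h.le_centralizer hy hu⟩).mp
        (by rw [Sylow.coe_subtype, Subgroup.mem_subgroupOf]; exact hu)
      rwa [Sylow.coe_subtype, Subgroup.mem_subgroupOf] at this
    · have hmem : u ∈ Subgroup.centralizer ({y} : Set G) := by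
        have h1 := mul_mem (mul_mem (inv_mem c.2) (h.le_centralizer hy hu)) c.2
        simpa [mul_assoc] using h1
      have := (Subgroup.mem_normalizer_iff.mp hc ⟨u, hmem⟩).mpr
        (by rw [Sylow.coe_subtype, Subgroup.mem_subgroupOf]; exact hu)
      rwa [Sylow.coe_subtype, Subgroup.mem_subgroupOf] at this
  have hcC : (c : G) ∈ cen P := h.frob y hy hy1 ▸ Subgroup.mem_inf.mpr ⟨c.2, hcN⟩
  refine Subgroup.mem_centralizer_iff.mpr fun u hu => Subtype.ext ?_
  rw [SetLike.mem_coe, Sylow.coe_subtype, Subgroup.mem_subgroupOf] at hu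
  exact Subgroup.mem_centralizer_iff.mp hcC u hu

theorem orderOf_mem {y : G} (hy : y ∈ (P : Subgroup G)) : ∃ k : ℕ, orderOf y = p ^ k := by
  obtain ⟨k, hk⟩ := IsPGroup.iff_orderOf.mp P.2 ⟨y, hy⟩
  exact ⟨k, by rwa [Subgroup.orderOf_mk] at hk⟩

variable {M : Ideal AlgInt} (hM : IsPModular p M)
include hM

/-- Principal block characters are constant on the section of a nontrivial element of `P`. -/
theorem value_eq {θ : IrrCharacter G} (hθ : θ ∈ principalBlock M G) {z y : G} (hz : IsPPart p z y)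
    (hy : y ∈ (P : Subgroup G)) (hy1 : y ≠ 1) : (θ : G → ℂ) z = (θ : G → ℂ) y := by
  classical
  have := hM.2.1
  set C := Subgroup.centralizer ({y} : Set G)
  have := Fintype.ofFinite C
  have := Fintype.ofFinite (IrrCharacter G)
  have := Fintype.ofFinite (IrrCharacter C)
  obtain ⟨b, hb, hc, hyp, hb'⟩ := hz
  have hbC : b ∈ C := Subgroup.mem_centralizer_singleton_iff.mpr hc.eq.symm
  have hC : ∀ t : G, t ∈ C ↔ Commute t y := fun t => Subgroup.mem_centralizer_singleton_iff
  have hb2 : ¬ p ∣ orderOf (⟨b, hbC⟩ : C) := by rwa [← Subgroup.orderOf_coe]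
  have h1 : ¬ p ∣ orderOf (1 : C) := by simp [(Fact.out : p.Prime).ne_one]
  have e1 := Cyclic.secFun_principal_eq hM hyp hC hθ hb2
  have e2 := Cyclic.secFun_principal_eq hM hyp hC hθ h1
  have e : blockPart (principalBlock M C) (secFun y C θ) (⟨b, hbC⟩ : C) =
      blockPart (principalBlock M C) (secFun y C θ) 1 := by
    rw [blockPart_eq, blockPart_eq]
    exact Finset.sum_congr rfl fun η hη => by
      rw [irr_eq_one_of_regular hM (h.hasNormalPComplement hy hy1) (Finset.mem_filter.mp hη).2 hb2]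
  rw [← e1, ← e2] at e
  simp only [secFun, OneMemClass.coe_one, mul_one, hb] at e
  exact e

/-- The sum of the squared degrees in the principal block of the centralizer of `y`. -/
theorem sum_sq_centralizer {y : G} (hy : y ∈ (P : Subgroup G)) (hy1 : y ≠ 1) :
    ((∑ᶠ ψ ∈ principalBlock M ↥(Subgroup.centralizer ({y} : Set G)),
      charDegree (ψ : ↥(Subgroup.centralizer ({y} : Set G)) → ℂ) ^ 2) : ℕ) = Nat.card P := by
  classical
  have := hM.2.1
  set C := Subgroup.centralizer ({y} : Set G)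
  have := Fintype.ofFinite C
  have := Fintype.ofFinite (IrrCharacter C)
  have hnc := h.hasNormalPComplement hy hy1
  set L := ((∑ᶠ ψ ∈ principalBlock M C, charDegree (ψ : C → ℂ) ^ 2) : ℕ) with hL
  set B := (Finset.univ : Finset (IrrCharacter C)).filter (· ∈ principalBlock M C)
  have hB : ∀ f : IrrCharacter C → ℂ, ∑ᶠ ψ ∈ principalBlock M C, f ψ = ∑ ψ ∈ B, f ψ := fun f => by
    rw [finsum_mem_eq_toFinset_sum]; exact Finset.sum_congr (by ext; simp [B]) fun _ _ => rfl
  set F : C → ℂ := ∑ ψ ∈ B, (ψ : C → ℂ) 1 • (ψ : C → ℂ) with hF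
  have hLC : (L : ℂ) = ∑ ψ ∈ B, (ψ : C → ℂ) 1 * (ψ : C → ℂ) 1 := by
    rw [hL, finsum_mem_eq_toFinset_sum, Nat.cast_sum]
    refine Finset.sum_congr (by ext; simp [B]) fun ψ _ => ?_
    rw [Nat.cast_pow, ← (charDegree_eq ψ).1, sq]
  have hval : ∀ c : C, F c = if p ∣ orderOf c then 0 else (L : ℂ) := by
    intro c
    rw [hF, Finset.sum_apply]
    simp only [Pi.smul_apply, smul_eq_mul]
    split_ifs with hc
    · have h0 := blockUnion_orthogonal_regular_singular (G := C) hM (.of_isPBlock isPBlock_principalBlock)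
        (g := 1) (by simp [(Fact.out : p.Prime).ne_one]) (h := c⁻¹) (by rwa [orderOf_inv])
      rw [hB] at h0
      rw [← h0]
      exact Finset.sum_congr rfl fun ψ _ => by rw [irr_inv, Complex.conj_conj]
    · rw [hLC]
      exact Finset.sum_congr rfl fun ψ hψ => by
        rw [irr_eq_one_of_regular hM hnc (Finset.mem_filter.mp hψ).2 hc]
  have hone : classInner F (oneChar C : C → ℂ) = 1 := by
    rw [hF, classInner_sum_left, Finset.sum_eq_single (oneChar C)]
    · rw [classInner_smul_left, classInner_irr_self, mul_one]; rfl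
    · intro ψ _ hne; rw [classInner_smul_left, classInner_irr_ne hne, mul_zero]
    · exact fun hn => absurd (Finset.mem_filter.mpr ⟨Finset.mem_univ _, one_mem_principalBlock⟩) hn
  have hcount : (Finset.univ.filter fun c : C => ¬ p ∣ orderOf c).card * Nat.card P = Nat.card C := by
    obtain ⟨P', N, hN, hNP⟩ := hnc
    have hcardP : Nat.card P' = Nat.card P := by
      rw [Sylow.card_eq_multiplicity, ← Nat.card_congr (Subgroup.subgroupOfEquivOfLe (h.le_centralizer hy)).toEquiv,
        ← Sylow.coe_subtype P (h.le_centralizer hy), ← Sylow.card_eq_multiplicity]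
    rw [← hcardP, ← hNP.card_mul]
    congr 1
    rw [Nat.card_eq_fintype_card, ← Finset.card_univ]
    have hmem : ∀ c : C, c ∈ N ↔ ¬ p ∣ orderOf c := by
      have hcop : ¬ p ∣ Nat.card N := by
        rw [← hNP.index_eq_card]; exact P'.not_dvd_index
      intro c
      refine ⟨fun hc hd => hcop (hd.trans (Subgroup.orderOf_dvd_natCard _ hc)), fun hc => ?_⟩
      rw [← QuotientGroup.eq_one_iff]
      obtain ⟨k, hk⟩ := IsPGroup.iff_card.mp P'.2
      have h1 : orderOf ((c : C ⧸ N)) ∣ p ^ k := by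
        rw [← hk, ← hNP.symm.index_eq_card]; exact orderOf_dvd_natCard _
      refine orderOf_eq_one_iff.mp (Nat.eq_one_of_dvd_coprimes ?_ h1 (orderOf_map_dvd (QuotientGroup.mk' N) c))
      exact Nat.Coprime.pow_left k ((Fact.out : p.Prime).coprime_iff_not_dvd.mpr hc)
    refine Finset.card_bij' (fun c hc => ⟨c, (hmem c).mpr (Finset.mem_filter.mp hc).2⟩) (fun c _ => (c : C))
      (fun _ _ => Finset.mem_univ _) (fun c _ => Finset.mem_filter.mpr ⟨Finset.mem_univ _, (hmem _).mp c.2⟩)
      (fun _ _ => rfl) (fun _ _ => rfl)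
  simp only [classInner, oneChar, map_one, mul_one, hval, Finset.sum_ite, Finset.sum_const_zero, zero_add,
    Finset.sum_const, nsmul_eq_mul] at hone
  rw [inv_mul_eq_iff_eq_mul₀ (by exact_mod_cast Nat.card_pos.ne'), mul_one] at hone
  have h2 : (Finset.univ.filter fun c : C => ¬ p ∣ orderOf c).card * L = Nat.card C := by exact_mod_cast hone
  exact Nat.eq_of_mul_eq_mul_left (Finset.card_pos.mpr ⟨1, by simp [(Fact.out : p.Prime).ne_one]⟩)
    (h2.trans hcount.symm)

end Free

/-- A linear character as an irreducible one. -/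
noncomputable def lc (ψ : Lin P) : IrrCharacter ↥(P : Subgroup G) := ⟨_, isIrrCharacter_lin ψ⟩

theorem lc_apply (ψ : Lin P) (w : ↥(P : Subgroup G)) : (lc ψ : ↥(P : Subgroup G) → ℂ) w = (ψ w : ℂ) := rfl

theorem lc_injective : Function.Injective (lc (P := P)) := fun a b e =>
  MonoidHom.ext fun w => Units.ext (congrFun (congrArg Subtype.val e) w)

theorem conj_lin (ψ : Lin P) (w : ↥(P : Subgroup G)) : conj (ψ w : ℂ) = (ψ w⁻¹ : ℂ) :=
  (irr_inv (lc ψ) w).symm

variable [Fintype ↥(P : Subgroup G)]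

/-- The multiplicity of a linear character of `P`. -/
noncomputable def mult (θ : IrrCharacter G) (ψ : Lin P) : ℕ :=
  ⌊(classInner (fun w : ↥(P : Subgroup G) => (θ : G → ℂ) w) (lc ψ : ↥(P : Subgroup G) → ℂ)).re⌋₊

theorem mult_spec (θ : IrrCharacter G) (ψ : Lin P) :
    classInner (fun w : ↥(P : Subgroup G) => (θ : G → ℂ) w) (lc ψ : ↥(P : Subgroup G) → ℂ) = (mult θ ψ : ℂ) := by
  obtain ⟨k, hk⟩ := classInner_char_irr_nat (isCharacter_comp (isCharacter_irr θ) (P : Subgroup G).subtype) (lc ψ)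
  have hk' : classInner (fun w : ↥(P : Subgroup G) => (θ : G → ℂ) w) (lc ψ : ↥(P : Subgroup G) → ℂ) = (k : ℂ) := hk
  rw [mult, hk', Complex.natCast_re, Nat.floor_natCast]

theorem mult_tw (θ : IrrCharacter G) (n : nor P) (ψ : Lin P) : mult θ (tw P n ψ) = mult θ ψ := by
  unfold mult
  congr 2
  simp only [classInner]
  congr 1
  refine Fintype.sum_equiv ((P : Subgroup G).normalizerMonoidHom n⁻¹).toEquiv _ _ fun w => ?_
  show (θ : G → ℂ) w * conj (tw P n ψ w : ℂ) =
    (θ : G → ℂ) (((P : Subgroup G).normalizerMonoidHom n⁻¹ w : ↥(P : Subgroup G)) : G) *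
      conj (ψ ((P : Subgroup G).normalizerMonoidHom n⁻¹ w) : ℂ)
  rw [tw_apply, coe_norHom, isClassFunction_irr θ]

theorem mult_rel (θ : IrrCharacter G) {a b : Lin P} (h : Rel P a b) : mult θ b = mult θ a := by
  obtain ⟨n, rfl⟩ := rel_iff.mp h
  exact mult_tw θ n a

open scoped Classical in
theorem sum_lin_mul (a b : Lin P) :
    ∑ w : ↥(P : Subgroup G), (a w : ℂ) * conj (b w : ℂ) = if a = b then (Nat.card P : ℂ) else 0 := by
  have h := classInner_irr (lc a) (lc b)
  simp only [classInner, lc_apply] at h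
  rw [inv_mul_eq_iff_eq_mul₀ (by exact_mod_cast Nat.card_pos.ne'), mul_ite, mul_one, mul_zero] at h
  rw [h]
  simp only [lc_injective.eq_iff]

theorem Free.card_lin (h : Free P) [Fintype (Lin P)] : Fintype.card (Lin P) = Nat.card P := by
  have hc : commutator ↥(P : Subgroup G) = ⊥ := by
    refine le_bot_iff.mp ?_
    rw [commutator_def, Subgroup.commutator_le]
    intro a _ b _
    rw [Subgroup.mem_bot, commutatorElement_eq_one_iff_mul_comm]
    exact Subtype.ext (h.commute a.2 b.2).eq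
  rw [← Nat.card_eq_fintype_card, Nat.card_congr linearCharEquiv, card_linear, hc, Subgroup.index_bot]

theorem Free.expand (h : Free P) [Fintype (Lin P)] (θ : IrrCharacter G) (w : ↥(P : Subgroup G)) :
    (θ : G → ℂ) w = ∑ ψ : Lin P, (mult θ ψ : ℂ) * (ψ w : ℂ) := by
  classical
  have := Fintype.ofFinite (IrrCharacter ↥(P : Subgroup G))
  have hcomm : ∀ a b : ↥(P : Subgroup G), a * b = b * a := fun a b => Subtype.ext (h.commute a.2 b.2).eq
  have hbij : Function.Bijective (lc (P := P)) := by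
    refine ⟨lc_injective, fun χ => ?_⟩
    refine ⟨linearCharEquiv.symm ⟨χ, degree_one_of_comm hcomm χ⟩, ?_⟩
    exact congrArg Subtype.val (linearCharEquiv.apply_symm_apply ⟨χ, degree_one_of_comm hcomm χ⟩)
  have e := congrFun (classFun_expand (f := fun v : ↥(P : Subgroup G) => (θ : G → ℂ) v) (fun a b => by
    show (θ : G → ℂ) ((b : G) * a * (b : G)⁻¹) = _
    rw [(h.commute b.2 a.2).eq, mul_inv_cancel_right])) w
  rw [Finset.sum_apply] at e
  rw [e]
  refine (Fintype.sum_bijective lc hbij _ _ fun ψ => ?_).symm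
  rw [Pi.smul_apply, smul_eq_mul, mult_spec, lc_apply]

variable {M : Ideal AlgInt}

open scoped Classical in
/-- The isometry on differences of linear characters. -/
theorem Free.isometry (h : Free P) (hM : IsPModular p M) (hP1 : Nat.card P ≠ 1) (a b c d : Lin P) :
    (Nat.card (cen P) : ℂ) * ∑ᶠ θ ∈ principalBlock M G,
        (((mult θ a : ℤ) - mult θ b) * ((mult θ c : ℤ) - mult θ d) : ℤ) =
      (Nat.card {n : nor P // tw P n c = a} : ℂ) - Nat.card {n : nor P // tw P n d = a}
        - Nat.card {n : nor P // tw P n c = b} + Nat.card {n : nor P // tw P n d = b} := by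
  have := Fintype.ofFinite (IrrCharacter G)
  have hpg : IsPGroup p ↥(P : Subgroup G) := P.2
  set U : Set G := {y | y ∈ (P : Subgroup G) ∧ y ≠ 1}
  have hUne : U.Nonempty := by
    have : Nontrivial ↥(P : Subgroup G) := Finite.one_lt_card_iff_nontrivial.mp
      (lt_of_le_of_ne Nat.card_pos (Ne.symm hP1))
    obtain ⟨y, hy⟩ := exists_ne (1 : ↥(P : Subgroup G))
    exact ⟨y, y.2, fun e => hy (Subtype.ext e)⟩
  have hg : ∀ x y : Lin P, IsGeneralizedCharacter ↥(P : Subgroup G) (fun w => (x w : ℂ) - (y w : ℂ)) :=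
    fun x y => ⟨_, _, isCharacter_irr (lc x), isCharacter_irr (lc y), rfl⟩
  have key := Cfsg.Agent.S4720.result p M hM (P : Subgroup G) hpg (nor P) Subgroup.le_normalizer le_rfl U hUne
    (fun y hy => hy.1)
    (fun n hn u hu => ⟨(Subgroup.mem_normalizer_iff.mp hn u).mp hu.1, fun e => hu.2 (conj_eq_one_iff.mp e)⟩)
    (fun u hu g hgu => h.fusion hu.1 hgu)
    ((Nat.card P : ℚ) / Nat.card (cen P))
    (fun y hy => by
      have := Fintype.ofFinite (IrrCharacter ↥(Subgroup.centralizer ({y} : Set G)))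
      have e := congrArg (Nat.cast : ℕ → ℚ) (h.sum_sq_centralizer hM hy.1 hy.2)
      simp only [finsum_mem_eq_toFinset_sum, Nat.cast_sum, Nat.cast_pow] at e ⊢
      rw [h.inf_nor hy.1 hy.2, div_mul_cancel₀ _ (by exact_mod_cast Nat.card_pos.ne')]
      exact e)
    _ _ (hg a b) (hg c d)
    (fun w hw => by
      have : w = 1 := by
        by_contra hne
        exact hw ⟨w.2, fun e => hne (Subtype.ext e)⟩
      simp [this])
  have hP0 : (Nat.card P : ℂ) ≠ 0 := by exact_mod_cast Nat.card_pos.ne'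
  have hC0 : (Nat.card (cen P) : ℂ) ≠ 0 := by exact_mod_cast Nat.card_pos.ne'
  have hcoef : ∀ (θ : IrrCharacter G) (x y : Lin P), (Nat.card P : ℂ)⁻¹ * ∑ᶠ w : ↥(P : Subgroup G),
      (θ : G → ℂ) (w : G) * ((x w⁻¹ : ℂ) - (y w⁻¹ : ℂ)) = (mult θ x : ℂ) - mult θ y := by
    intro θ x y
    rw [← mult_spec, ← mult_spec, finsum_eq_sum_of_fintype]
    simp only [classInner, lc_apply, ← mul_sub, ← Finset.sum_sub_distrib, conj_lin]
  simp only [hcoef, map_sub, map_natCast] at key
  simp only [finsum_mem_eq_toFinset_sum] at key ⊢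
  push_cast at key ⊢
  rw [key, finsum_eq_sum_of_fintype]
  haveI := Fintype.ofFinite ↥(nor P)
  have hext : ∀ (w : ↥(P : Subgroup G)) (n : nor P),
      extendByZero (P : Subgroup G) (fun v => (c v : ℂ) - (d v : ℂ)) ((n : G) * w * (n : G)⁻¹) =
        (tw P n⁻¹ c w : ℂ) - (tw P n⁻¹ d w : ℂ) := by
    intro w n
    have hm : (n : G) * w * (n : G)⁻¹ ∈ (P : Subgroup G) := (Subgroup.mem_normalizer_iff.mp n.2 _).mp w.2
    rw [extendByZero, tw_apply, tw_apply, inv_inv]
    exact Subtype.val_injective.extend_apply _ _ ⟨_, hm⟩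
  simp only [finsum_eq_sum_of_fintype, hext, map_sum, map_sub, Finset.mul_sum]
  rw [Finset.sum_comm]
  have hcount : ∀ x y : Lin P, (Nat.card {n : nor P // tw P n y = x} : ℂ) =
      ∑ n : nor P, if x = tw P n⁻¹ y then (1 : ℂ) else 0 := by
    intro x y
    rw [Nat.card_eq_fintype_card, Fintype.card_subtype, Finset.natCast_card_filter]
    exact Fintype.sum_equiv (Equiv.inv _) _ _ fun n => by simp [eq_comm]
  rw [hcount, hcount, hcount, hcount, ← Finset.sum_sub_distrib, ← Finset.sum_sub_distrib,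
    ← Finset.sum_add_distrib]
  refine Finset.sum_congr rfl fun n _ => ?_
  simp only [sub_mul, mul_sub, Finset.sum_sub_distrib, ← Finset.mul_sum, sum_lin_mul]
  split_ifs <;> field_simp <;> ring

/-- The multiplicity differences annihilate the regular elements. -/
theorem Free.sum_regular (h : Free P) (hM : IsPModular p M) {g : G} (hg : ¬ p ∣ orderOf g) (a b : Lin P) :
    ∑ᶠ θ ∈ principalBlock M G, ((((mult θ a : ℤ) - mult θ b : ℤ)) : ℂ) * (θ : G → ℂ) g = 0 := by
  classical
  have := hM.2.1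
  have := Fintype.ofFinite (IrrCharacter G)
  rw [finsum_mem_eq_toFinset_sum]
  push_cast
  simp only [← mult_spec, classInner, lc_apply, ← mul_sub, ← Finset.sum_sub_distrib, Finset.mul_sum,
    Finset.sum_mul]
  rw [Finset.sum_comm]
  refine Finset.sum_eq_zero fun w _ => ?_
  by_cases hw : w = 1
  · subst hw; simp
  · have h0 : ∑ θ ∈ (principalBlock M G).toFinset, (θ : G → ℂ) (w : G) * (θ : G → ℂ) g = 0 := by
      have h1 := blockUnion_orthogonal hM (.of_isPBlock (isPBlock_principalBlock (M := M) (G := G)))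
        (g := (w : G)) (h := g⁻¹) (x := (w : G)) (x' := 1)
        ⟨1, mul_one _, Commute.one_right _, h.orderOf_mem w.2, by simp [(Fact.out : p.Prime).ne_one]⟩
        (isPPart_one_of_not_dvd (by rwa [orderOf_inv]))
        (fun e => hw (Subtype.ext (isConj_one_left.mp e)))
      simpa [finsum_mem_eq_toFinset_sum] using h1
    rw [Finset.sum_congr rfl (g := fun θ : IrrCharacter G => (Nat.card P : ℂ)⁻¹ *
        (conj (a w : ℂ) - conj (b w : ℂ)) * ((θ : G → ℂ) (w : G) * (θ : G → ℂ) g)) fun θ _ => by ring,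
      ← Finset.mul_sum, h0, mul_zero]

end CfsgLib.Block.AbelianFree
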