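import Cfsg.Agent.Lib.Block.AbelianFree

/-!
# Exceptional characters of the principal block over a freely permuted abelian Sylow subgroup
-/

set_option autoImplicit false
set_option linter.unusedSectionVars false

namespace CfsgLib.Block.AbelianFree

open scoped ComplexConjugate
open Cfsg CfsgLib.Char CfsgLib.Block

universe u

variable {p : ℕ} [Fact p.Prime] {G : Type u} [Group G] [Fintype G] {P : Sylow p G}
  [Fintype ↥(P : Subgroup G)] [Fintype (IrrCharacter G)] [DecidableEq (IrrCharacter G)]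

open scoped Classical in
/-- The number of transporters modulo `C(P)`, with the trivial character fixed by all. -/
noncomputable def wgt (P : Sylow p G) (c a : Lin P) : ℤ :=
  if Rel P c a then (if a = 1 then ((cen P).relIndex (nor P) : ℤ) else 1) else 0

open scoped Classical in
theorem Free.card_tw_eq (h : Free P) (c a : Lin P) :
    (Nat.card {n : nor P // tw P n c = a} : ℂ) = (wgt P c a : ℂ) * Nat.card (cen P) := by
  by_cases ha : a = 1
  · subst ha
    by_cases hr : Rel P c 1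
    · have hc : c = 1 := rel_triv_iff.mp (rel_symm hr)
      subst hc
      rw [wgt, if_pos hr, if_pos rfl, Int.cast_natCast, ← Nat.cast_mul, Nat.cast_inj]
      rw [← Subgroup.relIndex_bot_left (cen P), mul_comm, Subgroup.relIndex_mul_relIndex _ _ _ bot_le cen_le_nor,
        Subgroup.relIndex_bot_left]
      exact Nat.card_congr (Equiv.subtypeUnivEquiv fun n => tw_triv n)
    · rw [wgt, if_neg hr, Int.cast_zero, zero_mul, Nat.cast_eq_zero, Nat.card_eq_zero]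
      exact Or.inl ⟨fun n => hr (rel_iff.mpr ⟨n.1, n.2⟩)⟩
  · rw [h.card_tw ha c, wgt, if_neg ha]
    split_ifs <;> simp

variable (M : Ideal AlgInt)

open scoped Classical in
/-- The members of the principal block. -/
noncomputable def blk : Finset (IrrCharacter G) := Finset.univ.filter (· ∈ principalBlock M G)

theorem mem_blk {θ : IrrCharacter G} : θ ∈ blk M ↔ θ ∈ principalBlock M G := by
  classical
  simp [blk]

theorem sum_blk {β : Type*} [AddCommMonoid β] (f : IrrCharacter G → β) :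
    ∑ᶠ θ ∈ principalBlock M G, f θ = ∑ θ ∈ blk M, f θ := by
  classical
  rw [finsum_mem_eq_toFinset_sum]
  exact Finset.sum_congr (by ext; simp [blk]) fun _ _ => rfl

variable {M}

theorem Free.isometry_blk (h : Free P) (hM : IsPModular p M) (hP1 : Nat.card P ≠ 1) (a b c d : Lin P) :
    ∑ θ ∈ blk M, ((mult θ a : ℤ) - mult θ b) * ((mult θ c : ℤ) - mult θ d) =
      wgt P c a - wgt P d a - wgt P c b + wgt P d b := by
  have e := h.isometry hM hP1 a b c d
  rw [sum_blk, h.card_tw_eq, h.card_tw_eq, h.card_tw_eq, h.card_tw_eq, ← sub_mul, ← sub_mul, ← add_mul,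
    mul_comm] at e
  have e' := mul_right_cancel₀ (show (Nat.card (cen P) : ℂ) ≠ 0 by exact_mod_cast Nat.card_pos.ne') e
  exact_mod_cast e'

theorem Free.degree_zero (h : Free P) (hM : IsPModular p M) (a b : Lin P) :
    ∑ θ ∈ blk M, ((mult θ a : ℤ) - mult θ b) * (charDegree (θ : G → ℂ) : ℤ) = 0 := by
  have e := h.sum_regular hM (g := 1) (by simp [(Fact.out : p.Prime).ne_one]) a b
  rw [sum_blk, Finset.sum_congr rfl fun θ _ => by rw [(charDegree_eq θ).1]] at e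
  exact_mod_cast e

/-- A vector of norm two and degree zero is a difference of two unit vectors. -/
theorem exists_pair {s : Finset (IrrCharacter G)} (v : IrrCharacter G → ℤ)
    (h2 : ∑ θ ∈ s, v θ ^ 2 = 2) (h0 : ∑ θ ∈ s, v θ * (charDegree (θ : G → ℂ) : ℤ) = 0) :
    ∃ A ∈ s, ∃ B ∈ s, A ≠ B ∧ ∀ θ ∈ s, v θ = (if θ = A then 1 else 0) - (if θ = B then 1 else 0) := by
  have hd : ∀ θ : IrrCharacter G, (0 : ℤ) < (charDegree (θ : G → ℂ) : ℤ) := fun θ => by
    exact_mod_cast Nat.pos_of_ne_zero (charDegree_eq θ).2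
  have hle : ∀ θ ∈ s, v θ ^ 2 ≤ 2 := fun θ hθ => h2 ▸ Finset.single_le_sum (fun i _ => sq_nonneg (v i)) hθ
  have habs : ∀ θ ∈ s, v θ = -1 ∨ v θ = 0 ∨ v θ = 1 := fun θ hθ => by
    have h' := hle θ hθ
    have : -1 ≤ v θ ∧ v θ ≤ 1 := ⟨by nlinarith, by nlinarith⟩
    omega
  obtain ⟨A, hA, hvA⟩ : ∃ A ∈ s, v A = 1 := by
    by_contra hno
    push Not at hno
    have hneg : ∀ θ ∈ s, v θ * (charDegree (θ : G → ℂ) : ℤ) ≤ 0 := fun θ hθ => by
      rcases habs θ hθ with e | e | e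
      · rw [e]; linarith [hd θ]
      · rw [e]; simp
      · exact absurd e (hno θ hθ)
    have hz := (Finset.sum_eq_zero_iff_of_nonpos hneg).mp h0
    rw [Finset.sum_congr rfl fun θ hθ => by rw [(mul_eq_zero.mp (hz θ hθ)).resolve_right (hd θ).ne']] at h2
    simp at h2
  obtain ⟨B, hB, hvB⟩ : ∃ B ∈ s, v B = -1 := by
    by_contra hno
    push Not at hno
    have hpos : ∀ θ ∈ s, 0 ≤ v θ * (charDegree (θ : G → ℂ) : ℤ) := fun θ hθ => by
      rcases habs θ hθ with e | e | e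
      · exact absurd e (hno θ hθ)
      · rw [e]; simp
      · rw [e]; linarith [hd θ]
    have hz := (Finset.sum_eq_zero_iff_of_nonneg hpos).mp h0 A hA
    rw [hvA, one_mul] at hz
    exact (hd A).ne' hz
  have hAB : A ≠ B := fun e => by rw [e, hvB] at hvA; omega
  refine ⟨A, hA, B, hB, hAB, fun θ hθ => ?_⟩
  rcases eq_or_ne θ A with rfl | hθA
  · rw [if_pos rfl, if_neg hAB, hvA, sub_zero]
  rcases eq_or_ne θ B with rfl | hθB
  · rw [if_neg hθA, if_pos rfl, hvB, zero_sub]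
  rw [if_neg hθA, if_neg hθB, sub_zero]
  have h3 : ∑ i ∈ ({A, B, θ} : Finset (IrrCharacter G)), v i ^ 2 ≤ 2 := h2 ▸
    Finset.sum_le_sum_of_subset_of_nonneg (by
      intro i hi
      simp only [Finset.mem_insert, Finset.mem_singleton] at hi
      rcases hi with rfl | rfl | rfl <;> assumption) fun i _ _ => sq_nonneg _
  rw [Finset.sum_insert (by simp [hAB, hθA.symm]), Finset.sum_insert (by simp [hθB.symm]),
    Finset.sum_singleton, hvA, hvB] at h3
  exact eq_zero_of_pow_eq_zero (le_antisymm (by linarith) (sq_nonneg (v θ)))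

theorem inner_pairs {s : Finset (IrrCharacter G)} {A B C D : IrrCharacter G} (hA : A ∈ s) (hB : B ∈ s)
    {v w : IrrCharacter G → ℤ}
    (hv : ∀ θ ∈ s, v θ = (if θ = A then 1 else 0) - (if θ = B then 1 else 0))
    (hw : ∀ θ ∈ s, w θ = (if θ = C then 1 else 0) - (if θ = D then 1 else 0)) :
    ∑ θ ∈ s, v θ * w θ = (if A = C then 1 else 0) - (if A = D then 1 else 0)
      - (if B = C then 1 else 0) + (if B = D then 1 else 0) := by
  rw [Finset.sum_congr rfl fun θ hθ => by rw [hv θ hθ, hw θ hθ]]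
  simp only [sub_mul, ite_mul, one_mul, zero_mul, Finset.sum_sub_distrib, Finset.sum_ite_eq', if_pos hA, if_pos hB]
  ring

theorem eq_of_pairs {s : Finset (IrrCharacter G)} {A B C D : IrrCharacter G} (hA : A ∈ s) (hB : B ∈ s)
    (hAB : A ≠ B) {v : IrrCharacter G → ℤ}
    (hv : ∀ θ ∈ s, v θ = (if θ = A then 1 else 0) - (if θ = B then 1 else 0))
    (hw : ∀ θ ∈ s, v θ = (if θ = C then 1 else 0) - (if θ = D then 1 else 0)) : A = C ∧ B = D := by
  have h1 := hw A hA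
  have h2 := hw B hB
  rw [hv A hA, if_pos rfl, if_neg hAB] at h1
  rw [hv B hB, if_neg hAB.symm, if_pos rfl] at h2
  exact ⟨by_contra fun e => by rw [if_neg e] at h1; split_ifs at h1 <;> omega,
    by_contra fun e => by rw [if_neg e] at h2; split_ifs at h2 <;> omega⟩

/-- Exceptional characters. -/
structure Coherent (P : Sylow p G) [Fintype ↥(P : Subgroup G)] (M : Ideal AlgInt) where
  ζ : Lin P → IrrCharacter G
  δ : ℤ
  sign : δ = 1 ∨ δ = -1
  c : IrrCharacter G → ℤ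
  mem : ∀ ψ, ψ ≠ 1 → ζ ψ ∈ principalBlock M G
  rel : ∀ ψ ψ', ψ ≠ 1 → ψ' ≠ 1 → (ζ ψ = ζ ψ' ↔ Rel P ψ ψ')
  mult_eq : ∀ θ, θ ∈ principalBlock M G → ∀ ψ, ψ ≠ 1 →
    (mult θ ψ : ℤ) = c θ + δ * (if ζ ψ = θ then 1 else 0)

theorem ne_one_of_rel {a b : Lin P} (h : Rel P a b) (ha : a ≠ 1) : b ≠ 1 := fun e =>
  ha (rel_triv_iff.mp (rel_symm (e ▸ h)))

theorem Free.exists_coherent (h : Free P) (hM : IsPModular p M) [Fintype (Lin P)]
    (hm : (cen P).relIndex (nor P) + 1 < Nat.card P) : Nonempty (Coherent P M) := by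
  classical
  have hP1 : Nat.card P ≠ 1 := by omega
  have : Nontrivial (Lin P) := Fintype.one_lt_card_iff_nontrivial.mp (by rw [h.card_lin]; omega)
  obtain ⟨ψ₁, hψ₁⟩ := exists_ne (1 : Lin P)
  -- a second orbit
  obtain ⟨ψ₂, hψ₂, h12⟩ : ∃ ψ : Lin P, ψ ≠ 1 ∧ ¬ Rel P ψ₁ ψ := by
    by_contra hno
    push Not at hno
    have hsur : Function.Surjective (fun o : Option ((nor P) ⧸ (cen P).subgroupOf (nor P)) =>
        o.elim (1 : Lin P) fun q => tw P q.out ψ₁) := by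
      intro ψ
      by_cases hψ : ψ = 1
      · exact ⟨none, hψ.symm⟩
      obtain ⟨n, hn⟩ := rel_iff.mp (hno ψ hψ)
      refine ⟨some (QuotientGroup.mk n), ?_⟩
      obtain ⟨k, hk⟩ := QuotientGroup.mk_out_eq_mul ((cen P).subgroupOf (nor P)) n
      show tw P (QuotientGroup.mk n : (nor P) ⧸ (cen P).subgroupOf (nor P)).out ψ₁ = ψ
      rw [hk, tw_mul, h.tw_of_mem (Subgroup.mem_subgroupOf.mp k.2), hn]
    have hle := Nat.card_le_card_of_surjective _ hsur
    rw [Finite.card_option, Nat.card_eq_fintype_card, h.card_lin] at hle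
    have : (cen P).relIndex (nor P) = Nat.card ((nor P) ⧸ (cen P).subgroupOf (nor P)) := rfl
    omega
  let v : Lin P → IrrCharacter G → ℤ := fun ψ θ => (mult θ ψ₁ : ℤ) - mult θ ψ
  have hw : ∀ a b : Lin P, a ≠ 1 → b ≠ 1 → wgt P a b = if Rel P a b then 1 else 0 := fun a b _ hb => by
    rw [wgt, if_neg hb]
  have hgood : ∀ ψ : Lin P, ψ ≠ 1 ∧ ¬ Rel P ψ₁ ψ → ∃ AB : IrrCharacter G × IrrCharacter G,
      AB.1 ∈ blk M ∧ AB.2 ∈ blk M ∧ AB.1 ≠ AB.2 ∧
      ∀ θ ∈ blk M, v ψ θ = (if θ = AB.1 then 1 else 0) - (if θ = AB.2 then 1 else 0) := by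
    rintro ψ ⟨hψ, hr⟩
    obtain ⟨A, hA, B, hB, hAB, hv⟩ := exists_pair (s := blk M) (v ψ) (by
      rw [Finset.sum_congr rfl fun θ _ => sq (v ψ θ), h.isometry_blk hM hP1, hw _ _ hψ₁ hψ₁, hw _ _ hψ hψ₁,
        hw _ _ hψ₁ hψ, hw _ _ hψ hψ, if_pos (rel_refl _), if_pos (rel_refl _), if_neg hr,
        if_neg (fun e => hr (rel_symm e))]
      norm_num) (h.degree_zero hM ψ₁ ψ)
    exact ⟨(A, B), hA, hB, hAB, hv⟩
  haveI : Nonempty (IrrCharacter G) := ⟨oneChar G⟩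
  choose! AB hA hB hne hv using hgood
  have hsame : ∀ a b, (a ≠ 1 ∧ ¬ Rel P ψ₁ a) → (b ≠ 1 ∧ ¬ Rel P ψ₁ b) → Rel P a b → AB a = AB b := by
    intro a b ha hb hab
    obtain ⟨e1, e2⟩ := eq_of_pairs (hA a ha) (hB a ha) (hne a ha) (hv a ha) (fun θ hθ => by
      rw [show v a θ = v b θ by simp only [v]; rw [mult_rel θ hab]]; exact hv b hb θ hθ)
    exact Prod.ext e1 e2
  have hcross : ∀ a b, (a ≠ 1 ∧ ¬ Rel P ψ₁ a) → (b ≠ 1 ∧ ¬ Rel P ψ₁ b) → ¬ Rel P a b →
      (if (AB a).1 = (AB b).1 then (1 : ℤ) else 0) - (if (AB a).1 = (AB b).2 then 1 else 0)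
        - (if (AB a).2 = (AB b).1 then 1 else 0) + (if (AB a).2 = (AB b).2 then 1 else 0) = 1 := by
    intro a b ha hb hab
    rw [← inner_pairs (hA a ha) (hB a ha) (hv a ha) (hv b hb), h.isometry_blk hM hP1, hw _ _ hψ₁ hψ₁,
      hw _ _ hb.1 hψ₁, hw _ _ hψ₁ ha.1, hw _ _ hb.1 ha.1, if_pos (rel_refl _), if_neg ha.2,
      if_neg (fun e => hb.2 (rel_symm e)), if_neg (fun e => hab (rel_symm e))]
    norm_num
  -- a common first or a common second constituent
  have hcom : (∀ a, (a ≠ 1 ∧ ¬ Rel P ψ₁ a) → (AB a).1 = (AB ψ₂).1) ∨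
      (∀ a, (a ≠ 1 ∧ ¬ Rel P ψ₁ a) → (AB a).2 = (AB ψ₂).2) := by
    have hor : ∀ a b, (a ≠ 1 ∧ ¬ Rel P ψ₁ a) → (b ≠ 1 ∧ ¬ Rel P ψ₁ b) →
        (AB a).1 = (AB b).1 ∨ (AB a).2 = (AB b).2 := by
      intro a b ha hb
      by_cases hab : Rel P a b
      · exact Or.inl (congrArg Prod.fst (hsame a b ha hb hab))
      · by_contra hno
        rw [not_or] at hno
        have := hcross a b ha hb hab
        rw [if_neg hno.1, if_neg hno.2] at this
        split_ifs at this <;> omega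
    by_contra hno
    push Not at hno
    obtain ⟨⟨a, ha, hna⟩, ⟨b, hb, hnb⟩⟩ := hno
    have h₂ : ψ₂ ≠ 1 ∧ ¬ Rel P ψ₁ ψ₂ := ⟨hψ₂, h12⟩
    have ea := (hor a ψ₂ ha h₂).resolve_left hna
    have eb := (hor b ψ₂ hb h₂).resolve_right hnb
    rcases hor a b ha hb with e | e
    · exact hna (e.trans eb)
    · exact hnb (e.symm.trans ea)
  obtain ⟨δ, hδ, A, hA0, Z, hZ⟩ : ∃ δ : ℤ, (δ = 1 ∨ δ = -1) ∧ ∃ A ∈ blk M, ∃ Z : Lin P → IrrCharacter G,
      ∀ a, (a ≠ 1 ∧ ¬ Rel P ψ₁ a) → Z a ∈ blk M ∧ Z a ≠ A ∧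
        ∀ θ ∈ blk M, v a θ = δ * ((if θ = A then 1 else 0) - (if θ = Z a then 1 else 0)) := by
    rcases hcom with hc | hc
    · refine ⟨1, Or.inl rfl, _, hA ψ₂ ⟨hψ₂, h12⟩, fun a => (AB a).2, fun a ha => ⟨hB a ha, ?_, fun θ hθ => ?_⟩⟩
      · rw [← hc a ha]; exact (hne a ha).symm
      · rw [hv a ha θ hθ, hc a ha, one_mul]
    · refine ⟨-1, Or.inr rfl, _, hB ψ₂ ⟨hψ₂, h12⟩, fun a => (AB a).1, fun a ha => ⟨hA a ha, ?_, fun θ hθ => ?_⟩⟩
      · rw [← hc a ha]; exact hne a ha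
      · rw [hv a ha θ hθ, hc a ha]; ring
  let ζ : Lin P → IrrCharacter G := fun ψ => if Rel P ψ₁ ψ then A else Z ψ
  have hmult : ∀ θ, θ ∈ principalBlock M G → ∀ ψ, ψ ≠ 1 → (mult θ ψ : ℤ) =
      ((mult θ ψ₁ : ℤ) - δ * (if θ = A then 1 else 0)) + δ * (if ζ ψ = θ then 1 else 0) := by
    intro θ hθ ψ hψ
    simp only [ζ]
    by_cases hr : Rel P ψ₁ ψ
    · simp only [if_pos hr, mult_rel θ hr, eq_comm (a := A)]
      ring
    · simp only [if_neg hr]
      have := (hZ ψ ⟨hψ, hr⟩).2.2 θ ((mem_blk M).mpr hθ)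
      simp only [v] at this
      simp only [eq_comm (a := Z ψ)]
      linarith
  refine ⟨⟨ζ, δ, hδ, fun θ => (mult θ ψ₁ : ℤ) - δ * (if θ = A then 1 else 0), fun ψ hψ => ?_,
    fun a b ha hb => ⟨fun e => ?_, fun hab => ?_⟩, hmult⟩⟩
  · refine (mem_blk M).mp ?_
    simp only [ζ]
    split_ifs with hr
    · exact hA0
    · exact (hZ ψ ⟨hψ, hr⟩).1
  · by_contra hab
    have hn := h.isometry_blk hM hP1 a b a b (M := M)
    rw [hw _ _ ha ha, hw _ _ hb ha, hw _ _ ha hb, hw _ _ hb hb, if_pos (rel_refl _), if_pos (rel_refl _),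
      if_neg hab, if_neg (fun e => hab (rel_symm e))] at hn
    rw [Finset.sum_eq_zero fun θ hθ => by
      rw [hmult θ ((mem_blk M).mp hθ) a ha, hmult θ ((mem_blk M).mp hθ) b hb, e, sub_self, zero_mul]] at hn
    norm_num at hn
  · simp only [ζ]
    by_cases hr : Rel P ψ₁ a
    · rw [if_pos hr, if_pos (rel_trans hr hab)]
    · have hrb : ¬ Rel P ψ₁ b := fun e => hr (rel_trans e (rel_symm hab))
      rw [if_neg hr, if_neg hrb]
      by_contra hne'
      have e1 := (hZ a ⟨ha, hr⟩).2.2 (Z a) (hZ a ⟨ha, hr⟩).1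
      have e2 := (hZ b ⟨hb, hrb⟩).2.2 (Z a) (hZ a ⟨ha, hr⟩).1
      simp only [v, mult_rel (Z a) hab] at e1 e2
      simp only [e1, if_neg (hZ a ⟨ha, hr⟩).2.1, if_true, if_neg hne'] at e2
      rcases hδ with hd | hd <;> · rw [hd] at e2; norm_num at e2

end CfsgLib.Block.AbelianFree
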