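import Cfsg.Agent.Lib.Block.AbelianFreeThreeShape

/-!
# Inertial index three against an involution generating the group normally

For odd `p` the column sums give two negative signs and a square product of degrees; for `p = 2`
the same sums at a point outside the orbit of the involution are contradictory.
-/

set_option autoImplicit false
set_option linter.unusedSectionVars false

namespace CfsgLib.Block.AbelianFree

open scoped ComplexConjugate
open Cfsg CfsgLib.Char CfsgLib.Block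

universe u

variable {p : ℕ} [Fact p.Prime] {G : Type u} [Group G] [Fintype G] {P : Sylow p G}
  [Fintype ↥(P : Subgroup G)] [Fintype (IrrCharacter G)] [DecidableEq (IrrCharacter G)]
  [Fintype (Lin P)] {M : Ideal AlgInt}

/-- The product over an orbit of the normalizer is trivial. -/
theorem Free.orbit_prod (h : Free P) (h3 : (cen P).relIndex (nor P) = 3) {t k : G}
    (ht : t ∈ (P : Subgroup G)) (hk : k ∈ nor P) (hkC : k ∉ cen P) :
    t * (k * t * k⁻¹) * (k * k * t * (k * k)⁻¹) = 1 := by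
  have hN : ∀ x ∈ nor P, x * t * x⁻¹ ∈ (P : Subgroup G) := fun x hx =>
    (Subgroup.mem_normalizer_iff.mp hx t).mp ht
  by_contra hw1
  refine hkC ?_
  have hwP : t * (k * t * k⁻¹) * (k * k * t * (k * k)⁻¹) ∈ (P : Subgroup G) :=
    mul_mem (mul_mem ht (hN k hk)) (hN _ (mul_mem hk hk))
  rw [← h.frob _ hwP hw1]
  refine Subgroup.mem_inf.mpr ⟨Subgroup.mem_centralizer_singleton_iff.mpr (mul_inv_eq_iff_eq_mul.mp ?_), hk⟩
  have hk3 : k * k * k ∈ cen P := by
    haveI : ((cen P).subgroupOf (nor P)).Normal := ⟨fun a ha g => by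
      rw [Subgroup.mem_subgroupOf] at ha ⊢
      refine Subgroup.mem_centralizer_iff.mpr fun w hw => ?_
      have hw' : (g : G)⁻¹ * w * g ∈ (P : Subgroup G) := by
        simpa using (Subgroup.mem_normalizer_iff.mp (inv_mem g.2) w).mp hw
      show w * ((g : G) * a * (g : G)⁻¹) = (g : G) * a * (g : G)⁻¹ * w
      calc w * ((g : G) * a * (g : G)⁻¹) = (g : G) * ((g : G)⁻¹ * w * g * a) * (g : G)⁻¹ := by group
        _ = (g : G) * (a * ((g : G)⁻¹ * w * g)) * (g : G)⁻¹ := by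
          rw [Subgroup.mem_centralizer_iff.mp ha _ hw']
        _ = (g : G) * a * (g : G)⁻¹ * w := by group⟩
    have h5 := Subgroup.pow_index_mem ((cen P).subgroupOf (nor P)) (⟨k, hk⟩ : nor P)
    rw [show ((cen P).subgroupOf (nor P)).index = 3 from h3, Subgroup.mem_subgroupOf] at h5
    simpa [pow_succ] using h5
  have e3 : k * (k * k * t * (k * k)⁻¹) * k⁻¹ = t := by
    rw [show k * (k * k * t * (k * k)⁻¹) * k⁻¹ = k * k * k * t * (k * k * k)⁻¹ by simp [mul_assoc],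
      ← Subgroup.mem_centralizer_iff.mp hk3 t ht, mul_inv_cancel_right]
  have e2 : k * (k * t * k⁻¹) * k⁻¹ = k * k * t * (k * k)⁻¹ := by group
  calc k * (t * (k * t * k⁻¹) * (k * k * t * (k * k)⁻¹)) * k⁻¹
      = (k * t * k⁻¹) * (k * (k * t * k⁻¹) * k⁻¹) * (k * (k * k * t * (k * k)⁻¹) * k⁻¹) := by group
    _ = (k * t * k⁻¹) * (k * k * t * (k * k)⁻¹) * t := by rw [e2, e3]
    _ = _ := by
      rw [(h.commute (mul_mem (hN k hk) (hN _ (mul_mem hk hk))) ht).eq, ← mul_assoc]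

namespace Coherent

variable (E : Coherent P M)

theorem one_notMem_Y (h : Free P) (hM : IsPModular p M) (hm : (cen P).relIndex (nor P) + 1 < Nat.card P) :
    oneChar G ∉ E.Y := fun hY => by
  obtain ⟨a, ha, e⟩ := E.mem_Y.mp hY
  exact (E.mem_X.mp (E.one_mem_X h hM hm)).2 a ha e

open scoped Classical in
theorem value_Y (h : Free P) (h0 : ∀ ψ, ψ ≠ 1 → E.base (E.ζ ψ) = 0) {θ : IrrCharacter G} (hθ : θ ∈ E.Y)
    {y : ↥(P : Subgroup G)} (hy : y ≠ 1) :
    (θ : G → ℂ) y = (E.δ : ℂ) * ∑ ψ ∈ Finset.univ.filter (fun ψ : Lin P => ψ ≠ 1 ∧ E.ζ ψ = θ), (ψ y : ℂ) := by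
  obtain ⟨a, ha, rfl⟩ := E.mem_Y.mp hθ
  rw [E.value h (E.mem a ha) hy, h0 a ha, Int.cast_zero, zero_add]

open scoped Classical in
theorem sum_Y_value (h : Free P) (h0 : ∀ ψ, ψ ≠ 1 → E.base (E.ζ ψ) = 0) {y : ↥(P : Subgroup G)} (hy : y ≠ 1) :
    ∑ θ ∈ E.Y, (θ : G → ℂ) y = -(E.δ : ℂ) := by
  rw [Finset.sum_congr rfl fun θ hθ => E.value_Y h h0 hθ hy, ← Finset.mul_sum,
    Finset.sum_congr rfl fun θ _ => by rw [← Finset.filter_filter],
    Finset.sum_fiberwise_of_maps_to (fun ψ hψ => E.mem_Y.mpr ⟨ψ, (Finset.mem_filter.mp hψ).2, rfl⟩)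
      (fun ψ : Lin P => (ψ y : ℂ))]
  have h1 := h.sum_lin_apply hy
  rw [← Finset.sum_erase_add _ _ (Finset.mem_univ (1 : Lin P))] at h1
  rw [Finset.filter_ne', eq_neg_of_add_eq_zero_left h1, MonoidHom.one_apply, Units.val_one, mul_neg, mul_one]

open scoped Classical in
theorem degree_eq (h : Free P) {θ : IrrCharacter G} (hθ : θ ∈ principalBlock M G) :
    (charDegree (θ : G → ℂ) : ℤ) = (Nat.card P : ℤ) * E.c θ + E.base θ +
      E.δ * (Finset.univ.filter fun ψ : Lin P => ψ ≠ 1 ∧ E.ζ ψ = θ).card := by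
  have e := h.expand θ 1
  simp only [map_one, Units.val_one, mul_one, OneMemClass.coe_one] at e
  have e' : (charDegree (θ : G → ℂ) : ℤ) = ∑ ψ : Lin P, (mult θ ψ : ℤ) := by
    rw [(charDegree_eq θ).1] at e
    exact_mod_cast e
  rw [e', ← Finset.sum_erase_add _ _ (Finset.mem_univ (1 : Lin P)),
    Finset.sum_congr rfl (g := fun ψ : Lin P => E.c θ + E.δ * (if E.ζ ψ = θ then 1 else 0)) fun ψ hψ =>
      E.mult_eq θ hθ ψ (Finset.mem_erase.mp hψ).1,
    Finset.sum_add_distrib, Finset.sum_const, Finset.card_erase_of_mem (Finset.mem_univ _), Finset.card_univ,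
    h.card_lin, nsmul_eq_mul, ← Finset.mul_sum, Finset.sum_boole,
    show (Finset.univ.erase (1 : Lin P)).filter (fun ψ => E.ζ ψ = θ) =
      Finset.univ.filter (fun ψ : Lin P => ψ ≠ 1 ∧ E.ζ ψ = θ) by ext; simp, base,
    Nat.cast_sub Nat.card_pos, Nat.cast_one]
  ring

theorem c_nonneg {θ : IrrCharacter G} (hθ : θ ∈ principalBlock M G) {ψ : Lin P} (hψ : ψ ≠ 1)
    (hne : E.ζ ψ ≠ θ) : 0 ≤ E.c θ := by
  have e := E.mult_eq θ hθ ψ hψ
  rw [if_neg hne, mul_zero, add_zero] at e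
  omega

open scoped Classical in
/-- For odd `p` two negative signs and a square. -/
theorem involution_odd (h : Free P) (hM : IsPModular p M) (h3 : (cen P).relIndex (nor P) = 3)
    (hm : 3 + 1 < Nat.card P) (h0 : ∀ ψ, ψ ≠ 1 → E.base (E.ζ ψ) = 0) (hX : E.X.card = 3)
    (hb : ∀ θ ∈ E.X, E.base θ = 1 ∨ E.base θ = -1) (hp2 : p ≠ 2) {t : G} (ht : orderOf t = 2)
    (hgen : ∀ K : Subgroup G, K.Normal → t ∈ K → K = ⊤) :
    ((E.X.erase (oneChar G)).filter fun θ => E.base θ = -1).card + (if E.δ = 1 then 1 else 0) = 2 ∧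
      ∀ η ∈ E.Y, IsSquare (charDegree (η : G → ℂ) * ∏ θ ∈ E.X.erase (oneChar G), charDegree (θ : G → ℂ)) := by
  have := hM.2.1
  have hm' : (cen P).relIndex (nor P) + 1 < Nat.card P := by rw [h3]; exact hm
  have hP1 : Nat.card P ≠ 1 := by omega
  have hone := E.one_mem_X h hM hm'
  have htt : t * t = 1 := by rw [← sq, ← ht]; exact pow_orderOf_eq_one t
  have htreg : ¬ p ∣ orderOf t := by
    rw [ht]
    exact fun hd => hp2 ((Nat.prime_dvd_prime_iff_eq Fact.out Nat.prime_two).mp hd)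
  obtain ⟨y, hy⟩ : ∃ y : ↥(P : Subgroup G), y ≠ 1 := by
    have : Nontrivial ↥(P : Subgroup G) := Finite.one_lt_card_iff_nontrivial.mp (by omega)
    exact exists_ne 1
  have hy1 : (y : G) ≠ 1 := fun e => hy (Subtype.ext e)
  have hcol := sum_sq_column_eq_zero hM (isPBlock_principalBlock (M := M) (G := G)) htt (h.orderOf_mem y.2)
    (fun z a b hz ha hb' hab => by
      have hyy := h.sq_eq_one_of_inverted h3 y.2 hy1 (h.inverted_of_prod h3 htt hz ha hb' hab).1
      obtain ⟨k, hk⟩ := h.orderOf_mem y.2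
      have h2 : orderOf (y : G) = 2 := orderOf_eq_prime (by rw [sq]; exact hyy) hy1
      rw [hk] at h2
      have hk0 : k ≠ 0 := fun e => by rw [e, pow_zero] at h2; omega
      exact hp2 ((Nat.prime_dvd_prime_iff_eq Fact.out Nat.prime_two).mp (h2 ▸ dvd_pow_self p hk0)))
  rw [sum_blk, E.sum_sdiff_Y] at hcol
  have : Nontrivial (Lin P) := Fintype.one_lt_card_iff_nontrivial.mp (by rw [h.card_lin]; omega)
  obtain ⟨a, ha⟩ := exists_ne (1 : Lin P)
  obtain ⟨θ₂, θ₃, h23, hX'⟩ := Finset.card_eq_two.mp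
    (show (E.X.erase (oneChar G)).card = 2 by rw [Finset.card_erase_of_mem hone, hX])
  have hmem : ∀ θ ∈ ({θ₂, θ₃} : Finset (IrrCharacter G)), θ ∈ E.X ∧ θ ≠ oneChar G := fun θ hθ => by
    rw [← hX'] at hθ; exact ⟨(Finset.mem_erase.mp hθ).2, (Finset.mem_erase.mp hθ).1⟩
  have m2 := hmem θ₂ (by simp)
  have m3 := hmem θ₃ (by simp)
  have hsumX : ∀ f : IrrCharacter G → ℂ, ∑ θ ∈ E.X, f θ = f (oneChar G) + f θ₂ + f θ₃ := fun f => by
    rw [← Finset.add_sum_erase _ _ hone, hX', Finset.sum_pair h23, add_assoc]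
  choose T hT using fun θ : IrrCharacter G => exists_int_involution ht θ
  have hbone : E.base (oneChar G) = 1 := E.base_one h hM hm'
  have hone1 : ∀ g, (oneChar G : G → ℂ) g = 1 := fun g => rfl
  -- the three relations
  have hrel : ∀ g : G, ¬ p ∣ orderOf g → (1 : ℂ) + (E.base θ₂ : ℂ) * (θ₂ : G → ℂ) g +
      (E.base θ₃ : ℂ) * (θ₃ : G → ℂ) g + (-E.δ : ℂ) * (E.ζ a : G → ℂ) g = 0 := fun g hg => by
    have e := E.regular_relation h hM hP1 ha hg
    rw [h0 a ha, hsumX, hbone, hone1] at e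
    push_cast at e
    linear_combination e
  have hval : ∀ θ ∈ E.X, (θ : G → ℂ) (y : G) = (E.base θ : ℂ) := fun θ hθ =>
    E.value_X h hM hθ (z := (y : G)) ⟨1, mul_one _, Commute.one_right _, h.orderOf_mem y.2,
      by simp [(Fact.out : p.Prime).ne_one]⟩ y.2 hy1
  rw [hsumX, hval _ hone, hval _ m2.1, hval _ m3.1, hbone, hone1, hone1,
    Finset.sum_congr rfl (g := fun θ : IrrCharacter G => (θ : G → ℂ) (y : G) *
      ((E.ζ a : G → ℂ) t ^ 2 / (E.ζ a : G → ℂ) 1)) fun θ hθ => by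
      obtain ⟨b, hb', rfl⟩ := E.mem_Y.mp hθ
      rw [E.regular_eq h hM hb' ha htreg, E.regular_eq h hM hb' ha (g := 1) (by simp [(Fact.out : p.Prime).ne_one])],
    ← Finset.sum_mul, E.sum_Y_value h h0 hy] at hcol
  simp only [hT, (charDegree_eq θ₂).1, (charDegree_eq θ₃).1, (charDegree_eq (E.ζ a)).1] at hcol
  have r1 := hrel 1 (by simp [(Fact.out : p.Prime).ne_one])
  have r2 := hrel t htreg
  rw [(charDegree_eq θ₂).1, (charDegree_eq θ₃).1, (charDegree_eq (E.ζ a)).1] at r1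
  rw [hT, hT, hT] at r2
  have hne : ∀ θ : IrrCharacter G, θ ≠ oneChar G → T θ ≠ (charDegree (θ : G → ℂ) : ℤ) := fun θ hθ e =>
    hθ (eq_one_of_value hgen (by rw [hT, e, (charDegree_eq θ).1, Int.cast_natCast]))
  have hYne : E.ζ a ≠ oneChar G := fun e => (E.mem_X.mp hone).2 a ha e
  obtain ⟨hsum, hsq⟩ := two_neg (charDegree_eq θ₂).2 (charDegree_eq θ₃).2 (charDegree_eq (E.ζ a)).2
    (hne _ m2.2) (hne _ m3.2) (hne _ hYne) (hb _ m2.1) (hb _ m3.1)
    (show -E.δ = 1 ∨ -E.δ = -1 by rcases E.sign with e | e <;> omega)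
    (by
      have : (((1 : ℤ) + E.base θ₂ * (charDegree (θ₂ : G → ℂ) : ℤ) + E.base θ₃ * (charDegree (θ₃ : G → ℂ) : ℤ)
          + -E.δ * (charDegree (E.ζ a : G → ℂ) : ℤ) : ℤ) : ℂ) = 0 := by push_cast; linear_combination r1
      exact_mod_cast this)
    (by
      have : (((1 : ℤ) + E.base θ₂ * T θ₂ + E.base θ₃ * T θ₃ + -E.δ * T (E.ζ a) : ℤ) : ℂ) = 0 := by
        push_cast; linear_combination r2
      exact_mod_cast this)
    (by
      have : (((1 : ℚ) + E.base θ₂ * ((T θ₂ : ℚ) ^ 2 / charDegree (θ₂ : G → ℂ)) +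
          E.base θ₃ * ((T θ₃ : ℚ) ^ 2 / charDegree (θ₃ : G → ℂ)) +
          (-E.δ : ℤ) * ((T (E.ζ a) : ℚ) ^ 2 / charDegree (E.ζ a : G → ℂ)) : ℚ) : ℂ) = 0 := by
        push_cast
        push_cast at hcol
        linear_combination hcol
      exact_mod_cast this)
  refine ⟨?_, fun η hη => ?_⟩
  · rw [hX']
    rcases hb _ m2.1 with e2 | e2 <;> rcases hb _ m3.1 with e3 | e3 <;> rcases E.sign with eδ | eδ <;>
      rw [e2, e3, eδ] at hsum <;>
      first
        | (exfalso; omega)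
        | simp [Finset.filter_insert, Finset.filter_singleton, e2, e3, eδ, h23]
  · obtain ⟨b, hb', rfl⟩ := E.mem_Y.mp hη
    have e := E.regular_eq h hM hb' ha (g := 1) (by simp [(Fact.out : p.Prime).ne_one])
    rw [(charDegree_eq (E.ζ b)).1, (charDegree_eq (E.ζ a)).1, Nat.cast_inj] at e
    rw [e, hX', Finset.prod_pair h23, mul_comm]
    exact hsq

open scoped Classical in
/-- For `p = 2` there is no such involution. -/
theorem involution_two_false (h : Free P) (hM : IsPModular p M) (h3 : (cen P).relIndex (nor P) = 3)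
    (hm : 3 + 1 < Nat.card P) (h0 : ∀ ψ, ψ ≠ 1 → E.base (E.ζ ψ) = 0) (hX : E.X.card = 3)
    (hb : ∀ θ ∈ E.X, E.base θ = 1 ∨ E.base θ = -1) (hp2 : p = 2) {t₀ : G} (ht₀ : orderOf t₀ = 2)
    (hgen₀ : ∀ K : Subgroup G, K.Normal → t₀ ∈ K → K = ⊤) : False := by
  have := hM.2.1
  have hm' : (cen P).relIndex (nor P) + 1 < Nat.card P := by rw [h3]; exact hm
  have hone := E.one_mem_X h hM hm'
  obtain ⟨S, hS⟩ := (IsPGroup.of_card (p := p) (n := 1)
    (by rw [Nat.card_zpowers, ht₀, pow_one, hp2] : Nat.card (Subgroup.zpowers t₀) = p ^ 1)).exists_le_sylow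
  obtain ⟨g₀, hg₀⟩ := MulAction.exists_smul_eq G S P
  set t := g₀ * t₀ * g₀⁻¹ with htdef
  have ht : t ∈ (P : Subgroup G) := by rw [← hg₀]; exact ⟨t₀, hS (Subgroup.mem_zpowers t₀), rfl⟩
  have ht2 : orderOf t = 2 := by rw [htdef, orderOf_conj_eq, ht₀]
  have hgen : ∀ K : Subgroup G, K.Normal → t ∈ K → K = ⊤ := fun K hK htK =>
    hgen₀ K hK (by simpa [htdef, mul_assoc] using hK.conj_mem t htK g₀⁻¹)
  have ht1 : t ≠ 1 := fun e => by rw [e, orderOf_one] at ht2; omega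
  have htt : t * t = 1 := by rw [← sq, ← ht2]; exact pow_orderOf_eq_one t
  -- a point outside the orbit
  obtain ⟨y, hy1, hyT⟩ : ∃ y : ↥(P : Subgroup G), y ≠ 1 ∧ ∀ k ∈ nor P, (y : G) ≠ k * t * k⁻¹ := by
    by_contra hno
    push Not at hno
    have hsur : Function.Surjective (fun o : Option ((nor P) ⧸ (cen P).subgroupOf (nor P)) =>
        o.elim (1 : ↥(P : Subgroup G)) fun q => (P : Subgroup G).normalizerMonoidHom q.out ⟨t, ht⟩) := by
      intro w
      by_cases hw : w = 1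
      · exact ⟨none, hw.symm⟩
      obtain ⟨k, hk, e⟩ := hno w hw
      refine ⟨some (QuotientGroup.mk ⟨k, hk⟩), ?_⟩
      obtain ⟨c, hc⟩ := QuotientGroup.mk_out_eq_mul ((cen P).subgroupOf (nor P)) (⟨k, hk⟩ : nor P)
      refine Subtype.ext ?_
      show ((QuotientGroup.mk (⟨k, hk⟩ : nor P) : (nor P) ⧸ (cen P).subgroupOf (nor P)).out : G) * t *
        ((QuotientGroup.mk (⟨k, hk⟩ : nor P) : (nor P) ⧸ (cen P).subgroupOf (nor P)).out : G)⁻¹ = w
      rw [hc, e]
      show k * ((c : nor P) : G) * t * (k * ((c : nor P) : G))⁻¹ = k * t * k⁻¹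
      rw [mul_assoc k, ← Subgroup.mem_centralizer_iff.mp (Subgroup.mem_subgroupOf.mp c.2) t ht]
      group
    have hle := Nat.card_le_card_of_surjective _ hsur
    rw [Finite.card_option] at hle
    have e : Nat.card ((nor P) ⧸ (cen P).subgroupOf (nor P)) = 3 := h3
    omega
  have hy1' : (y : G) ≠ 1 := fun e => hy1 (Subtype.ext e)
  have hcol := sum_sq_column_eq_zero hM (isPBlock_principalBlock (M := M) (G := G)) htt (h.orderOf_mem y.2)
    (fun z a b hz ha hb' => h.not_prod_two h3 hM hp2 ht ht1 htt y.2 hy1' hyT hz ha hb')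
  have hpp : ∀ w : ↥(P : Subgroup G), IsPPart p (w : G) (w : G) := fun w =>
    ⟨1, mul_one _, Commute.one_right _, h.orderOf_mem w.2, by simp [(Fact.out : p.Prime).ne_one]⟩
  have horth : ∑ θ ∈ blk (G := G) M, (θ : G → ℂ) (y : G) * (θ : G → ℂ) t = 0 := by
    rw [← sum_blk]
    have e := blockUnion_orthogonal hM (.of_isPBlock (isPBlock_principalBlock (M := M) (G := G)))
      (g := (y : G)) (h := t) (hpp y) (hpp ⟨t, ht⟩) fun hc => by
        obtain ⟨g, hg⟩ := isConj_iff.mp hc.symm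
        obtain ⟨n, hn, en⟩ := h.fusion ht (g := g) (hg ▸ y.2)
        exact hyT n hn (by rw [en, hg])
    rw [inv_eq_of_mul_eq_one_right htt] at e
    exact e
  rw [sum_blk, E.sum_sdiff_Y] at hcol
  rw [E.sum_sdiff_Y] at horth
  have hXy : ∀ θ ∈ E.X, (θ : G → ℂ) (y : G) = (E.base θ : ℂ) := fun θ hθ => E.value_X h hM hθ (hpp y) y.2 hy1'
  have hXt : ∀ θ ∈ E.X, (θ : G → ℂ) t = (E.base θ : ℂ) := fun θ hθ => E.value_X h hM hθ (hpp ⟨t, ht⟩) ht ht1
  have hbsq : ∀ θ ∈ E.X, (E.base θ : ℂ) * (E.base θ : ℂ) = 1 := fun θ hθ => by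
    rcases hb θ hθ with e | e <;> rw [e] <;> norm_num
  rw [Finset.sum_congr rfl (s₁ := E.X) (g := fun _ => (1 : ℂ)) fun θ hθ => by
    rw [hXy θ hθ, hXt θ hθ, hbsq θ hθ], Finset.sum_const, hX, nsmul_eq_mul, mul_one] at horth
  obtain ⟨k, hk, hkC⟩ : ∃ k ∈ nor P, k ∉ cen P := by
    by_contra hno
    push Not at hno
    have := Subgroup.relIndex_eq_one.mpr (show nor P ≤ cen P from hno)
    omega
  have hsq : ∀ θ ∈ E.Y, (θ : G → ℂ) t ^ 2 = 2 * (E.δ : ℂ) * (θ : G → ℂ) t + 3 := by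
    intro θ hθ
    obtain ⟨a, ha, rfl⟩ := E.mem_Y.mp hθ
    have hv := E.value_Y h h0 hθ (y := ⟨t, ht⟩) fun e => ht1 (congrArg Subtype.val e)
    set kN : nor P := ⟨k, hk⟩
    have hne1 : tw P kN a ≠ a := fun e => hkC (h.mem_cen_of_tw ha e)
    have hne2 : tw P (kN * kN) a ≠ a := fun e => hkC (h.sq_mem_cen h3 hk (h.mem_cen_of_tw ha e))
    have hne12 : tw P (kN * kN) a ≠ tw P kN a := fun e => hne1 (by
      have e' := congrArg (tw P kN⁻¹) e
      rwa [← tw_mul, ← tw_mul, inv_mul_cancel_left, inv_mul_cancel, tw_one_left] at e')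
    have hset : (Finset.univ.filter fun b : Lin P => Rel P a b) = {a, tw P kN a, tw P (kN * kN) a} := by
      refine (Finset.eq_of_subset_of_card_le (fun b hb' => ?_) ?_).symm
      · simp only [Finset.mem_insert, Finset.mem_singleton] at hb'
        simp only [Finset.mem_filter, Finset.mem_univ, true_and]
        rcases hb' with rfl | rfl | rfl
        · exact rel_refl _
        · exact rel_iff.mpr ⟨_, rfl⟩
        · exact rel_iff.mpr ⟨_, rfl⟩
      · rw [h.card_rel ha, h3, Finset.card_insert_of_notMem (by simp [hne1.symm, hne2.symm]),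
          Finset.card_pair hne12.symm]
    rw [E.filter_eq_rel ha, hset, Finset.sum_insert (by simp [hne1.symm, hne2.symm]), Finset.sum_pair hne12.symm] at hv
    have hroot : ∀ ψ : Lin P, (ψ ⟨t, ht⟩ : ℂ) = 1 ∨ (ψ ⟨t, ht⟩ : ℂ) = -1 := fun ψ => by
      refine sq_eq_one_iff.mp ?_
      rw [← Units.val_pow_eq_pow_val, ← map_pow, show (⟨t, ht⟩ : ↥(P : Subgroup G)) ^ 2 = 1 from
        Subtype.ext (by rw [SubgroupClass.coe_pow, sq]; exact htt), map_one, Units.val_one]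
    have hprod : (a ⟨t, ht⟩ : ℂ) * (tw P kN a ⟨t, ht⟩ : ℂ) * (tw P (kN * kN) a ⟨t, ht⟩ : ℂ) = 1 := by
      rw [tw_apply, tw_apply, ← Units.val_mul, ← Units.val_mul, ← map_mul, ← map_mul]
      have e : (⟨t, ht⟩ : ↥(P : Subgroup G)) * (P : Subgroup G).normalizerMonoidHom kN⁻¹ ⟨t, ht⟩ *
          (P : Subgroup G).normalizerMonoidHom (kN * kN)⁻¹ ⟨t, ht⟩ = 1 := by
        refine Subtype.ext ?_
        have := h.orbit_prod h3 ht (inv_mem hk) (fun hc => hkC (by simpa using inv_mem hc))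
        show t * (k⁻¹ * t * (k⁻¹)⁻¹) * ((k * k)⁻¹ * t * ((k * k)⁻¹)⁻¹) = 1
        rw [mul_inv_rev]
        exact this
      rw [e, map_one, Units.val_one]
    rw [show (E.ζ a : G → ℂ) t = _ from hv]
    have hd : (E.δ : ℂ) ^ 2 = 1 := by rcases E.sign with e | e <;> rw [e] <;> norm_num
    rcases hroot a with e1 | e1 <;> rcases hroot (tw P kN a) with e2 | e2 <;>
      rcases hroot (tw P (kN * kN) a) with e3 | e3 <;> rw [e1, e2, e3] at hprod ⊢ <;>
      first
        | (exfalso; norm_num at hprod; done)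
        | linear_combination (3 : ℂ) * hd
        | linear_combination (-(1 : ℂ) + 0) * hd + 0 * hprod
        | linear_combination (3 : ℂ) * hd + 0 * hprod
  have hsumy := E.sum_Y_value h h0 hy1
  obtain ⟨θ₂, θ₃, h23, hX'⟩ := Finset.card_eq_two.mp
    (show (E.X.erase (oneChar G)).card = 2 by rw [Finset.card_erase_of_mem hone, hX])
  have hmem : ∀ θ ∈ ({θ₂, θ₃} : Finset (IrrCharacter G)), θ ∈ E.X ∧ θ ≠ oneChar G := fun θ hθ => by
    rw [← hX'] at hθ; exact ⟨(Finset.mem_erase.mp hθ).2, (Finset.mem_erase.mp hθ).1⟩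
  have m2 := hmem θ₂ (by simp)
  have m3 := hmem θ₃ (by simp)
  have : Nontrivial (Lin P) := Fintype.one_lt_card_iff_nontrivial.mp (by rw [h.card_lin]; omega)
  obtain ⟨a, ha⟩ := exists_ne (1 : Lin P)
  rw [Finset.sum_congr rfl (s₁ := E.Y) (g := fun θ : IrrCharacter G =>
      (2 * (E.δ : ℂ) * ((θ : G → ℂ) (y : G) * (θ : G → ℂ) t) + 3 * (θ : G → ℂ) (y : G)) / (E.ζ a : G → ℂ) 1)
      fun θ hθ => by
      rw [hsq θ hθ]
      obtain ⟨b, hb', rfl⟩ := E.mem_Y.mp hθ
      rw [E.regular_eq h hM hb' ha (g := 1) (by simp [(Fact.out : p.Prime).ne_one])]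
      ring,
    ← Finset.sum_div, Finset.sum_add_distrib, ← Finset.mul_sum, ← Finset.mul_sum, hsumy,
    eq_neg_of_add_eq_zero_right horth,
    Finset.sum_congr rfl (s₁ := E.X) (g := fun θ : IrrCharacter G => (E.base θ : ℂ) / (θ : G → ℂ) 1)
      fun θ hθ => by rw [hXy θ hθ, hXt θ hθ, sq, hbsq θ hθ, mul_one_div],
    ← Finset.add_sum_erase _ _ hone, hX', Finset.sum_pair h23, E.base_one h hM hm',
    show (oneChar G : G → ℂ) 1 = 1 from rfl, (charDegree_eq θ₂).1, (charDegree_eq θ₃).1,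
    (charDegree_eq (E.ζ a)).1] at hcol
  set x₂ := charDegree (θ₂ : G → ℂ)
  set x₃ := charDegree (θ₃ : G → ℂ)
  set x₄ := charDegree (E.ζ a : G → ℂ)
  have hq : 16 ≤ Nat.card P := by
    obtain ⟨k', hk'⟩ := IsPGroup.iff_card.mp P.2
    have hc := E.card_Y h
    rw [h3] at hc
    replace hk' : Nat.card P = 2 ^ k' := hk'.trans (congrArg (· ^ k') hp2)
    have hk4 : 4 ≤ k' := by
      by_contra hlt
      interval_cases k' <;> omega
    calc 16 = 2 ^ 4 := by norm_num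
      _ ≤ 2 ^ k' := Nat.pow_le_pow_right (by norm_num) hk4
      _ = _ := hk'.symm
  have hbig : ∀ θ : IrrCharacter G, θ ∈ E.X → θ ≠ oneChar G → 15 ≤ charDegree (θ : G → ℂ) := by
    intro θ hθ hne
    obtain ⟨hB, hn⟩ := E.mem_X.mp hθ
    have hd := E.degree_eq h hB
    rw [Finset.filter_eq_empty_iff.mpr fun ψ _ hψ => hn ψ hψ.1 hψ.2, Finset.card_empty, Nat.cast_zero,
      mul_zero, add_zero] at hd
    have hc0 := E.c_nonneg hB ha (hn a ha)
    have hdpos := Nat.pos_of_ne_zero (charDegree_eq θ).2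
    have hc1 : 1 ≤ E.c θ := by
      by_contra hlt
      have hc00 : E.c θ = 0 := by omega
      rw [hc00, mul_zero, zero_add] at hd
      refine hne (eq_one_of_value hgen ?_)
      rw [hXt θ hθ, (charDegree_eq θ).1, ← hd, Int.cast_natCast]
    have := mul_le_mul_of_nonneg_left hc1 (Int.natCast_nonneg (Nat.card P))
    rcases hb θ hθ with e | e <;> rw [e] at hd <;> omega
  have hx4 : (x₄ = 3 ∧ E.δ = 1) ∨ 13 ≤ x₄ := by
    have hd := E.degree_eq h (E.mem a ha)
    rw [h0 a ha, E.filter_eq_rel ha, h.card_rel ha, h3, add_zero] at hd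
    obtain ⟨b, hb', hab⟩ := E.exists_other h hM hm' _ (rfl : E.ζ a = E.ζ a)
    have hc0 := E.c_nonneg (E.mem a ha) hb' hab
    rcases eq_or_lt_of_le hc0 with e | e
    · rw [← e, mul_zero, zero_add] at hd
      rcases E.sign with es | es <;> rw [es] at hd
      · exact Or.inl ⟨by simp only [x₄]; omega, es⟩
      · omega
    · refine Or.inr ?_
      have := mul_le_mul_of_nonneg_left (show (1 : ℤ) ≤ E.c (E.ζ a) by omega) (Int.natCast_nonneg (Nat.card P))
      rcases E.sign with es | es <;> rw [es] at hd <;> simp only [x₄] <;> omega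
  have hr : (1 : ℝ) + (E.base θ₂ : ℝ) / x₂ + (E.base θ₃ : ℝ) / x₃ - 9 * (E.δ : ℝ) / x₄ = 0 := by
    have : (((1 : ℝ) + (E.base θ₂ : ℝ) / x₂ + (E.base θ₃ : ℝ) / x₃ - 9 * (E.δ : ℝ) / x₄ : ℝ) : ℂ) = 0 := by
      push_cast
      push_cast at hcol
      linear_combination hcol
    exact_mod_cast this
  have hfrac : ∀ θ : IrrCharacter G, θ ∈ E.X → θ ≠ oneChar G →
      -(1 / 15 : ℝ) ≤ (E.base θ : ℝ) / charDegree (θ : G → ℂ) ∧
        (E.base θ : ℝ) / charDegree (θ : G → ℂ) ≤ 1 / 15 := by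
    intro θ hθ hne
    have hx : (15 : ℝ) ≤ charDegree (θ : G → ℂ) := by exact_mod_cast hbig θ hθ hne
    have hb' : -1 ≤ (E.base θ : ℝ) ∧ (E.base θ : ℝ) ≤ 1 := by
      rcases hb θ hθ with e | e <;> rw [e] <;> norm_num
    constructor
    · rw [le_div_iff₀ (by linarith)]; nlinarith [hb'.1]
    · rw [div_le_iff₀ (by linarith)]; nlinarith [hb'.2]
  have f2 := hfrac θ₂ m2.1 m2.2
  have f3 := hfrac θ₃ m3.1 m3.2
  rcases hx4 with ⟨e4, es⟩ | e4
  · rw [e4, es] at hr
    norm_num at hr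
    linarith
  · have hx : (13 : ℝ) ≤ x₄ := by exact_mod_cast e4
    have h9 : |9 * (E.δ : ℝ) / x₄| ≤ 9 / 13 := by
      rw [abs_div, abs_of_nonneg (by linarith : (0 : ℝ) ≤ x₄)]
      refine div_le_div₀ (by norm_num) ?_ (by norm_num) hx
      rcases E.sign with e | e <;> rw [e] <;> norm_num
    have := abs_le.mp h9
    linarith

end Coherent

end CfsgLib.Block.AbelianFree
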