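import Cfsg.Agent.Lib.Block.AbelianFreeCoherent

/-!
# The shape of the principal block over a freely permuted abelian Sylow subgroup
-/

set_option autoImplicit false
set_option linter.unusedSectionVars false

namespace CfsgLib.Block.AbelianFree

open scoped ComplexConjugate
open Cfsg CfsgLib.Char CfsgLib.Block

universe u

variable {p : ℕ} [Fact p.Prime] {G : Type u} [Group G] [Fintype G] {P : Sylow p G}
  [Fintype ↥(P : Subgroup G)] [Fintype (IrrCharacter G)] [DecidableEq (IrrCharacter G)]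
  [Fintype (Lin P)] {M : Ideal AlgInt}

open scoped Classical in
theorem Free.sum_lin_apply (h : Free P) {y : ↥(P : Subgroup G)} (hy : y ≠ 1) :
    ∑ ψ : Lin P, (ψ y : ℂ) = 0 := by
  have := Fintype.ofFinite (IrrCharacter ↥(P : Subgroup G))
  have hcomm : ∀ a b : ↥(P : Subgroup G), a * b = b * a := fun a b => Subtype.ext (h.commute a.2 b.2).eq
  have hbij : Function.Bijective (lc (P := P)) :=
    ⟨lc_injective, fun χ => ⟨linearCharEquiv.symm ⟨χ, degree_one_of_comm hcomm χ⟩,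
      congrArg Subtype.val (linearCharEquiv.apply_symm_apply ⟨χ, degree_one_of_comm hcomm χ⟩)⟩⟩
  have h' := sum_irr_mul_conj (G := ↥(P : Subgroup G)) y 1
  rw [if_neg (fun e => hy (isConj_one_left.mp e))] at h'
  rw [← h']
  refine Fintype.sum_bijective lc hbij _ _ fun ψ => ?_
  rw [lc_apply, lc_apply, map_one, Units.val_one, map_one, mul_one]

open scoped Classical in
theorem Free.card_rel (h : Free P) {a : Lin P} (ha : a ≠ 1) :
    (Finset.univ.filter fun b : Lin P => Rel P a b).card = (cen P).relIndex (nor P) := by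
  have := Fintype.ofFinite ↥(nor P)
  have h1 : Fintype.card ↥(nor P) = ∑ b : Lin P, Nat.card {n : nor P // tw P n a = b} := by
    rw [← Finset.card_univ, Finset.card_eq_sum_card_fiberwise (f := fun n => tw P n a) (t := Finset.univ)
      fun n _ => Finset.mem_coe.mpr (Finset.mem_univ _)]
    exact Finset.sum_congr rfl fun b _ => by rw [Nat.card_eq_fintype_card, Fintype.card_subtype]
  have h2 : ∀ b : Lin P, Nat.card {n : nor P // tw P n a = b} = if Rel P a b then Nat.card (cen P) else 0 := by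
    intro b
    by_cases hb : b = 1
    · subst hb
      rw [if_neg (fun e => ha (rel_triv_iff.mp (rel_symm e))), Nat.card_eq_zero]
      exact Or.inl ⟨fun n => ha (rel_triv_iff.mp (rel_symm (rel_iff.mpr ⟨n.1, n.2⟩)))⟩
    · exact h.card_tw hb a
  simp only [h2, ← Finset.sum_filter, Finset.sum_const, smul_eq_mul] at h1
  have h3 : Nat.card (cen P) * (cen P).relIndex (nor P) = Nat.card (nor P) := by
    rw [← Subgroup.relIndex_bot_left (cen P), Subgroup.relIndex_mul_relIndex _ _ _ bot_le cen_le_nor,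
      Subgroup.relIndex_bot_left]
  rw [Nat.card_eq_fintype_card (α := ↥(nor P)), h1, mul_comm] at h3
  exact (Nat.eq_of_mul_eq_mul_right Nat.card_pos h3).symm

namespace Coherent

variable (E : Coherent P M)

open scoped Classical in
/-- The exceptional characters. -/
noncomputable def Y : Finset (IrrCharacter G) :=
  (Finset.univ.filter fun ψ : Lin P => ψ ≠ 1).image E.ζ

open scoped Classical in
/-- The others. -/
noncomputable def X : Finset (IrrCharacter G) := blk M \ E.Y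

/-- The constant part of the value at the sections. -/
noncomputable def base (θ : IrrCharacter G) : ℤ := (mult θ (1 : Lin P) : ℤ) - E.c θ

theorem mem_Y {θ : IrrCharacter G} : θ ∈ E.Y ↔ ∃ ψ, ψ ≠ 1 ∧ E.ζ ψ = θ := by
  classical
  simp [Y]

theorem mem_X {θ : IrrCharacter G} :
    θ ∈ E.X ↔ θ ∈ principalBlock M G ∧ ∀ ψ, ψ ≠ 1 → E.ζ ψ ≠ θ := by
  classical
  simp [X, mem_Y, mem_blk]

theorem Y_subset : E.Y ⊆ blk M := fun θ hθ => by
  obtain ⟨ψ, hψ, rfl⟩ := E.mem_Y.mp hθ
  exact (mem_blk M).mpr (E.mem ψ hψ)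

open scoped Classical in
theorem value (h : Free P) {θ : IrrCharacter G} (hθ : θ ∈ principalBlock M G) {y : ↥(P : Subgroup G)}
    (hy : y ≠ 1) :
    (θ : G → ℂ) y = (E.base θ : ℂ) +
      (E.δ : ℂ) * ∑ ψ ∈ Finset.univ.filter (fun ψ : Lin P => ψ ≠ 1 ∧ E.ζ ψ = θ), (ψ y : ℂ) := by
  rw [h.expand θ y, ← Finset.sum_erase_add _ _ (Finset.mem_univ (1 : Lin P))]
  rw [Finset.sum_congr rfl (g := fun ψ : Lin P => (E.c θ : ℂ) * (ψ y : ℂ) +
    (E.δ : ℂ) * (if E.ζ ψ = θ then (ψ y : ℂ) else 0)) fun ψ hψ => by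
      have e := congrArg (Int.cast : ℤ → ℂ) (E.mult_eq θ hθ ψ (Finset.mem_erase.mp hψ).1)
      push_cast at e
      rw [e]
      split_ifs <;> simp [add_mul]]
  rw [Finset.sum_add_distrib, ← Finset.mul_sum, ← Finset.mul_sum, ← Finset.sum_filter]
  have h0 := h.sum_lin_apply hy
  rw [← Finset.sum_erase_add _ _ (Finset.mem_univ (1 : Lin P))] at h0
  simp only [MonoidHom.one_apply, Units.val_one] at h0 ⊢
  rw [eq_neg_of_add_eq_zero_left h0,
    show (Finset.univ.erase (1 : Lin P)).filter (fun ψ => E.ζ ψ = θ) =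
      Finset.univ.filter (fun ψ : Lin P => ψ ≠ 1 ∧ E.ζ ψ = θ) by ext; simp]
  simp only [base, Int.cast_sub, Int.cast_natCast]
  ring

theorem value_X (h : Free P) (hM : IsPModular p M) {θ : IrrCharacter G} (hθ : θ ∈ E.X) {z y : G}
    (hz : IsPPart p z y) (hy : y ∈ (P : Subgroup G)) (hy1 : y ≠ 1) :
    (θ : G → ℂ) z = (E.base θ : ℂ) := by
  classical
  obtain ⟨hb, hn⟩ := E.mem_X.mp hθ
  rw [h.value_eq hM hb hz hy hy1]
  have e := E.value h hb (y := ⟨y, hy⟩) fun e => hy1 (congrArg Subtype.val e)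
  rw [Finset.filter_eq_empty_iff.mpr fun ψ _ hψ => hn ψ hψ.1 hψ.2, Finset.sum_empty, mul_zero, add_zero] at e
  exact e

theorem base_ne_zero (h : Free P) (hM : IsPModular p M) (hP1 : Nat.card P ≠ 1) {θ : IrrCharacter G} (hθ : θ ∈ E.X) :
    E.base θ ≠ 0 := by
  classical
  have := hM.2.1
  intro h0
  obtain ⟨hb, hn⟩ := E.mem_X.mp hθ
  have hvan : ∀ g : G, p ∣ orderOf g → (θ : G → ℂ) g = 0 := by
    intro g hg
    obtain ⟨x, hx⟩ := exists_isPPart hM.1 g
    obtain ⟨b, hb', hc, ⟨k, hk⟩, hb2⟩ := hx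
    have hx1 : x ≠ 1 := fun e => by
      rw [e, one_mul] at hb'
      exact hb2 (hb' ▸ hg)
    have hxp : IsPGroup p (Subgroup.zpowers x) :=
      IsPGroup.of_card (n := k) (by rw [Nat.card_zpowers, hk])
    obtain ⟨S, hS⟩ := hxp.exists_le_sylow
    obtain ⟨c, hc'⟩ := MulAction.exists_smul_eq G S P
    have hcx : c * x * c⁻¹ ∈ (P : Subgroup G) := by
      rw [← hc']; exact ⟨x, hS (Subgroup.mem_zpowers x), rfl⟩
    rw [← isClassFunction_irr θ g c, E.value_X h hM hθ (z := c * g * c⁻¹) (y := c * x * c⁻¹)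
      ⟨c * b * c⁻¹, by rw [← hb']; group, by
        show c * x * c⁻¹ * (c * b * c⁻¹) = c * b * c⁻¹ * (c * x * c⁻¹)
        calc c * x * c⁻¹ * (c * b * c⁻¹) = c * (x * b) * c⁻¹ := by group
          _ = c * (b * x) * c⁻¹ := by rw [hc.eq]
          _ = _ := by group, ⟨k, by rw [orderOf_conj_eq, hk]⟩, by rwa [orderOf_conj_eq]⟩
      hcx (fun e => hx1 (conj_eq_one_iff.mp e)), h0, Int.cast_zero]
  have hone : θ ≠ oneChar G := by
    intro e
    have : Nontrivial ↥(P : Subgroup G) := Finite.one_lt_card_iff_nontrivial.mp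
      (lt_of_le_of_ne Nat.card_pos (Ne.symm hP1))
    obtain ⟨y, hy⟩ := exists_ne (1 : ↥(P : Subgroup G))
    obtain ⟨k, hk⟩ := h.orderOf_mem y.2
    have hk0 : k ≠ 0 := fun h0' => hy (Subtype.ext (orderOf_eq_one_iff.mp (by rw [hk, h0', pow_zero])))
    have h' := hvan (y : G) (hk ▸ dvd_pow_self p hk0)
    rw [e] at h'
    exact one_ne_zero h'
  refine omegaBar_regBar_ne_zero hM hb ?_
  obtain ⟨R, hR, hRres⟩ := exists_regN_lift (p := p) (M := M) θ (oneChar G)
  have h1 := classInner_irr θ (oneChar G)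
  rw [if_neg hone] at h1
  have hreg : regInner p θ (oneChar G) = 0 := by
    rw [← h1, regInner]
    simp only [classInner, regFun]
    congr 1
    refine Finset.sum_congr rfl fun g _ => ?_
    split_ifs with hg
    · rw [hvan g hg]
    · rfl
  rw [hreg, mul_zero] at hR
  rw [omegaBar_regBar_eq_regN, ← hRres,
    show R = 0 from Subtype.ext ((mul_eq_zero.mp hR).resolve_right (irr_one_ne_zero θ)), map_zero]

theorem one_mem_X (h : Free P) (hM : IsPModular p M) (hm : (cen P).relIndex (nor P) + 1 < Nat.card P) : oneChar G ∈ E.X := by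
  classical
  have := hM.2.1
  refine E.mem_X.mpr ⟨one_mem_principalBlock, fun ψ hψ e => ?_⟩
  have h1 := E.mult_eq (oneChar G) one_mem_principalBlock ψ hψ
  rw [if_pos e] at h1
  have hz : ∀ a : Lin P, a ≠ 1 → mult (oneChar G) a = 0 := fun a ha => by
    have := mult_spec (oneChar G) a
    rw [show (fun w : ↥(P : Subgroup G) => (oneChar G : G → ℂ) w) =
      (lc (1 : Lin P) : ↥(P : Subgroup G) → ℂ) from funext fun w => by simp [oneChar, lc_apply],
      classInner_irr_ne (fun he => ha (lc_injective he).symm)] at this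
    exact_mod_cast this.symm
  by_cases hall : ∀ a : Lin P, a ≠ 1 → E.ζ a = oneChar G
  · have hset : (Finset.univ.filter fun b : Lin P => Rel P ψ b) = Finset.univ.erase 1 := by
      ext b
      simp only [Finset.mem_filter, Finset.mem_univ, true_and, Finset.mem_erase, and_true]
      exact ⟨fun hr => ne_one_of_rel hr hψ, fun hb => (E.rel ψ b hψ hb).mp (by rw [e, hall b hb])⟩
    have hc := h.card_rel hψ
    rw [hset, Finset.card_erase_of_mem (Finset.mem_univ _), Finset.card_univ, h.card_lin] at hc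
    omega
  · push Not at hall
    obtain ⟨a, ha, hne⟩ := hall
    have h2 := E.mult_eq (oneChar G) one_mem_principalBlock a ha
    rw [if_neg hne, hz a ha] at h2
    rw [hz ψ hψ] at h1
    rcases E.sign with hs | hs <;> rw [hs] at h1 <;> push_cast at h1 h2 <;> omega

theorem wgt_eq {a b : Lin P} (hb : b ≠ 1) [Decidable (Rel P a b)] :
    wgt P a b = if Rel P a b then 1 else 0 := by
  rw [wgt, if_neg hb]
  split_ifs <;> rfl

theorem wgt_triv_left {b : Lin P} (hb : b ≠ 1) : wgt P 1 b = 0 := by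
  classical
  rw [wgt_eq hb, if_neg fun e => hb (rel_triv_iff.mp e)]

theorem wgt_triv_right {a : Lin P} (ha : a ≠ 1) : wgt P a 1 = 0 := by
  classical
  rw [wgt, if_neg fun e => ha (rel_triv_iff.mp (rel_symm e))]

theorem wgt_triv : wgt P 1 1 = ((cen P).relIndex (nor P) : ℤ) := by
  classical
  rw [wgt, if_pos (rel_refl _), if_pos rfl]

theorem diff_triv {θ : IrrCharacter G} (hθ : θ ∈ blk M) {a : Lin P} (ha : a ≠ 1) :
    (mult θ a : ℤ) - mult θ (1 : Lin P) = E.δ * (if E.ζ a = θ then 1 else 0) - E.base θ := by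
  rw [E.mult_eq θ ((mem_blk M).mp hθ) a ha, base]
  ring

theorem base_eq (h : Free P) (hM : IsPModular p M) (hP1 : Nat.card P ≠ 1) {a b : Lin P} (ha : a ≠ 1)
    (hb : b ≠ 1) : E.base (E.ζ a) = E.base (E.ζ b) := by
  classical
  by_cases hab : Rel P a b
  · rw [(E.rel a b ha hb).mpr hab]
  have hn := h.isometry_blk hM hP1 a b a 1 (M := M)
  rw [wgt_eq ha, wgt_triv_left ha, wgt_eq hb, wgt_triv_left hb, if_pos (rel_refl _), if_neg hab] at hn
  rw [Finset.sum_congr rfl (g := fun θ => (E.δ * ((if E.ζ a = θ then 1 else 0) - (if E.ζ b = θ then 1 else 0))) *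
      (E.δ * (if E.ζ a = θ then 1 else 0) - E.base θ)) fun θ hθ => by
      rw [E.diff_triv hθ ha, E.mult_eq θ ((mem_blk M).mp hθ) a ha, E.mult_eq θ ((mem_blk M).mp hθ) b hb]
      ring] at hn
  have hAB : E.ζ a ≠ E.ζ b := fun e => hab ((E.rel a b ha hb).mp e)
  simp only [mul_sub, sub_mul, ite_mul, mul_ite, mul_one, mul_zero, zero_mul, Finset.sum_sub_distrib,
    Finset.sum_ite_eq, if_pos (E.Y_subset (E.mem_Y.mpr ⟨a, ha, rfl⟩)),
    if_pos (E.Y_subset (E.mem_Y.mpr ⟨b, hb, rfl⟩)), if_pos, if_neg hAB, if_neg hAB.symm] at hn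
  rcases E.sign with hs | hs <;> rw [hs] at hn <;> linarith

open scoped Classical in
theorem filter_eq_rel {a : Lin P} (ha : a ≠ 1) :
    (Finset.univ.filter fun ψ : Lin P => ψ ≠ 1 ∧ E.ζ ψ = E.ζ a) =
      Finset.univ.filter fun b : Lin P => Rel P a b := by
  ext b
  simp only [Finset.mem_filter, Finset.mem_univ, true_and]
  exact ⟨fun hb => (E.rel a b ha hb.1).mp hb.2.symm,
    fun hr => ⟨ne_one_of_rel hr ha, ((E.rel a b ha (ne_one_of_rel hr ha)).mpr hr).symm⟩⟩

theorem card_Y (h : Free P) :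
    E.Y.card * (cen P).relIndex (nor P) = Nat.card P - 1 := by
  classical
  have h1 := Finset.card_eq_sum_card_fiberwise (f := E.ζ) (s := Finset.univ.filter fun ψ : Lin P => ψ ≠ 1)
    (t := E.Y) fun ψ hψ => E.mem_Y.mpr ⟨ψ, (Finset.mem_filter.mp hψ).2, rfl⟩
  rw [Finset.sum_congr rfl (g := fun _ => (cen P).relIndex (nor P)) fun θ hθ => by
    obtain ⟨a, ha, rfl⟩ := E.mem_Y.mp hθ
    rw [Finset.filter_filter, E.filter_eq_rel ha, h.card_rel ha], Finset.sum_const, smul_eq_mul,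
    Finset.filter_ne', Finset.card_erase_of_mem (Finset.mem_univ _), Finset.card_univ, h.card_lin] at h1
  exact h1.symm

theorem sum_sdiff_Y {β : Type*} [AddCommMonoid β] (f : IrrCharacter G → β) :
    ∑ θ ∈ blk M, f θ = ∑ θ ∈ E.X, f θ + ∑ θ ∈ E.Y, f θ := by
  classical
  rw [X, Finset.sum_sdiff E.Y_subset]

theorem norm_eq (h : Free P) (hM : IsPModular p M) (hP1 : Nat.card P ≠ 1) {a : Lin P} (ha : a ≠ 1) :
    (E.base (E.ζ a) - E.δ) ^ 2 + ((E.Y.card : ℤ) - 1) * E.base (E.ζ a) ^ 2 +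
      ∑ θ ∈ E.X, E.base θ ^ 2 = ((cen P).relIndex (nor P) : ℤ) + 1 := by
  classical
  have hn := h.isometry_blk hM hP1 a 1 a 1 (M := M)
  rw [wgt_eq ha, if_pos (rel_refl _), wgt_triv_left ha, wgt_triv_right ha, wgt_triv,
    Finset.sum_congr rfl fun θ hθ => by rw [E.diff_triv hθ ha, ← sq],
    E.sum_sdiff_Y, Finset.sum_congr rfl (g := fun θ => E.base θ ^ 2) fun θ hθ => by
      rw [if_neg ((E.mem_X.mp hθ).2 a ha)]; ring] at hn
  have hA : E.ζ a ∈ E.Y := E.mem_Y.mpr ⟨a, ha, rfl⟩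
  rw [← Finset.add_sum_erase _ _ hA, if_pos rfl,
    Finset.sum_congr rfl (s₁ := E.Y.erase (E.ζ a)) (g := fun _ => E.base (E.ζ a) ^ 2)
      fun θ hθ => by
      obtain ⟨hne, hY⟩ := Finset.mem_erase.mp hθ
      obtain ⟨b, hb, rfl⟩ := E.mem_Y.mp hY
      rw [if_neg hne.symm, E.base_eq h hM hP1 hb ha]; ring, Finset.sum_const, Finset.card_erase_of_mem hA,
    nsmul_eq_mul, Nat.cast_sub (Finset.card_pos.mpr ⟨_, hA⟩), Nat.cast_one] at hn
  linear_combination hn

theorem regular_eq (h : Free P) (hM : IsPModular p M) {a b : Lin P} (ha : a ≠ 1) (hb : b ≠ 1) {g : G}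
    (hg : ¬ p ∣ orderOf g) : (E.ζ a : G → ℂ) g = (E.ζ b : G → ℂ) g := by
  classical
  have e := h.sum_regular hM hg a b (M := M)
  rw [sum_blk, Finset.sum_congr rfl (g := fun θ => (E.δ : ℂ) * (if E.ζ a = θ then (θ : G → ℂ) g else 0) -
      (E.δ : ℂ) * (if E.ζ b = θ then (θ : G → ℂ) g else 0)) fun θ hθ => by
      rw [E.mult_eq θ ((mem_blk M).mp hθ) a ha, E.mult_eq θ ((mem_blk M).mp hθ) b hb]
      split_ifs <;> push_cast <;> ring, Finset.sum_sub_distrib, ← Finset.mul_sum, ← Finset.mul_sum,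
    Finset.sum_ite_eq, Finset.sum_ite_eq, if_pos (E.Y_subset (E.mem_Y.mpr ⟨a, ha, rfl⟩)),
    if_pos (E.Y_subset (E.mem_Y.mpr ⟨b, hb, rfl⟩)), ← mul_sub] at e
  refine sub_eq_zero.mp ((mul_eq_zero.mp e).resolve_left ?_)
  rcases E.sign with hs | hs <;> simp [hs]

theorem regular_relation (h : Free P) (hM : IsPModular p M) (hP1 : Nat.card P ≠ 1) {a : Lin P} (ha : a ≠ 1)
    {g : G} (hg : ¬ p ∣ orderOf g) :
    ((E.Y.card : ℂ) * E.base (E.ζ a) - E.δ) * (E.ζ a : G → ℂ) g +
      ∑ θ ∈ E.X, (E.base θ : ℂ) * (θ : G → ℂ) g = 0 := by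
  classical
  have e := h.sum_regular hM hg a 1 (M := M)
  rw [sum_blk, E.sum_sdiff_Y, Finset.sum_congr rfl (g := fun θ => -((E.base θ : ℂ) * (θ : G → ℂ) g))
      fun θ hθ => by
        have hb : θ ∈ blk M := (mem_blk M).mpr (E.mem_X.mp hθ).1
        rw [E.diff_triv hb ha, if_neg ((E.mem_X.mp hθ).2 a ha)]
        push_cast; ring,
    Finset.sum_congr rfl (s₁ := E.Y) (g := fun θ => (E.δ : ℂ) * (if E.ζ a = θ then (θ : G → ℂ) g else 0) -
      (E.base (E.ζ a) : ℂ) * (E.ζ a : G → ℂ) g) fun θ hθ => by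
        obtain ⟨b, hb, rfl⟩ := E.mem_Y.mp hθ
        rw [E.diff_triv (E.Y_subset hθ) ha, E.base_eq h hM hP1 hb ha, ← E.regular_eq h hM hb ha hg]
        split_ifs <;> push_cast <;> ring,
    Finset.sum_sub_distrib, ← Finset.mul_sum, Finset.sum_ite_eq, if_pos (E.mem_Y.mpr ⟨a, ha, rfl⟩),
    Finset.sum_const, nsmul_eq_mul, Finset.sum_neg_distrib] at e
  linear_combination -e

end Coherent

end CfsgLib.Block.AbelianFree
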