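import Cfsg.Agent.Lib.Block.AbelianFreeThree
import Mathlib.Data.Nat.Prime.Pow

/-!
# Inertial index three: three non-exceptional characters with values `±1`
-/

set_option autoImplicit false
set_option linter.unusedSectionVars false

namespace CfsgLib.Block.AbelianFree

open scoped ComplexConjugate
open Cfsg CfsgLib.Char CfsgLib.Block

universe u

variable {p : ℕ} [Fact p.Prime] {G : Type u} [Group G] [Fintype G] {P : Sylow p G}
  [Fintype ↥(P : Subgroup G)] [Fintype (IrrCharacter G)] [DecidableEq (IrrCharacter G)]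
  [Fintype (Lin P)] {M : Ideal AlgInt}

namespace Coherent

variable (E : Coherent P M)

theorem exists_other {a : Lin P} (h : Free P) (hM : IsPModular p M)
    (hm : (cen P).relIndex (nor P) + 1 < Nat.card P) (θ : IrrCharacter G) (ha : θ = E.ζ a) :
    ∃ b : Lin P, b ≠ 1 ∧ E.ζ b ≠ θ := by
  by_contra hno
  push Not at hno
  subst ha
  have hc := E.card_Y h
  have : E.Y.card ≤ 1 := Finset.card_le_one.mpr fun x hx y hy => by
    obtain ⟨b, hb, rfl⟩ := E.mem_Y.mp hx
    obtain ⟨b', hb', rfl⟩ := E.mem_Y.mp hy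
    rw [hno b hb, hno b' hb']
  have := Nat.mul_le_mul_right ((cen P).relIndex (nor P)) this
  omega

theorem base_one (h : Free P) (hM : IsPModular p M) (hm : (cen P).relIndex (nor P) + 1 < Nat.card P) :
    E.base (oneChar G) = 1 := by
  classical
  have := hM.2.1
  have : Nontrivial (Lin P) := Fintype.one_lt_card_iff_nontrivial.mp (by rw [h.card_lin]; omega)
  obtain ⟨a, ha⟩ := exists_ne (1 : Lin P)
  have hone := (E.mem_X.mp (E.one_mem_X h hM hm)).2 a ha
  have hcst : (fun w : ↥(P : Subgroup G) => (oneChar G : G → ℂ) w) =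
      (lc (1 : Lin P) : ↥(P : Subgroup G) → ℂ) := funext fun w => by simp [oneChar, lc_apply]
  have h0 : mult (oneChar G) a = 0 := by
    have := mult_spec (oneChar G) a
    rw [hcst, classInner_irr_ne (fun he => ha (lc_injective he).symm)] at this
    exact_mod_cast this.symm
  have h1 : mult (oneChar G) (1 : Lin P) = 1 := by
    have := mult_spec (oneChar G) (1 : Lin P)
    rw [hcst, classInner_irr_self] at this
    exact_mod_cast this.symm
  have e := E.mult_eq (oneChar G) one_mem_principalBlock a ha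
  rw [if_neg hone, h0] at e
  rw [base, h1]
  push_cast at e ⊢
  linarith

open scoped Classical in
/-- With two exceptional characters their roles may be exchanged. -/
noncomputable def flip (A B : IrrCharacter G) (hA : A ∈ principalBlock M G) (hB : B ∈ principalBlock M G)
    (hAB : A ≠ B) (hY : ∀ ψ, ψ ≠ 1 → E.ζ ψ = A ∨ E.ζ ψ = B) : Coherent P M where
  ζ ψ := if E.ζ ψ = A then B else A
  δ := -E.δ
  sign := by rcases E.sign with h | h <;> omega
  c θ := E.c θ + E.δ * (if θ = A ∨ θ = B then 1 else 0)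
  mem ψ _ := by split_ifs <;> assumption
  rel a b ha hb := by
    rw [← E.rel a b ha hb]
    rcases hY a ha with e | e <;> rcases hY b hb with e' | e' <;> simp [e, e', hAB, hAB.symm]
  mult_eq θ hθ ψ hψ := by
    rw [E.mult_eq θ hθ ψ hψ]
    rcases hY ψ hψ with e | e
    · by_cases h1 : θ = A
      · subst h1; simp [e, hAB.symm]
      · by_cases h2 : θ = B
        · subst h2; simp [e, hAB]
        · simp [e, h1, h2, Ne.symm h1, Ne.symm h2]
    · by_cases h1 : θ = A
      · subst h1; simp [e, hAB.symm]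
      · by_cases h2 : θ = B
        · subst h2; simp [e, hAB, hAB.symm]
        · simp [e, hAB.symm, h1, h2, Ne.symm h1, Ne.symm h2]

end Coherent

open scoped Classical in
theorem Free.exists_shape_three (h : Free P) (hM : IsPModular p M) (h3 : (cen P).relIndex (nor P) = 3)
    (hm : 3 + 1 < Nat.card P) :
    ∃ E : Coherent P M, (∀ ψ, ψ ≠ 1 → E.base (E.ζ ψ) = 0) ∧ E.X.card = 3 ∧
      ∀ θ ∈ E.X, E.base θ = 1 ∨ E.base θ = -1 := by
  have := hM.2.1
  have hm' : (cen P).relIndex (nor P) + 1 < Nat.card P := by rw [h3]; exact hm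
  have hP1 : Nat.card P ≠ 1 := by omega
  obtain ⟨E⟩ := h.exists_coherent hM hm'
  have : Nontrivial (Lin P) := Fintype.one_lt_card_iff_nontrivial.mp (by rw [h.card_lin]; omega)
  obtain ⟨a, ha⟩ := exists_ne (1 : Lin P)
  -- when the exceptional values have constant part zero
  have hdone : ∀ E : Coherent P M, E.base (E.ζ a) = 0 → ∃ E : Coherent P M,
      (∀ ψ, ψ ≠ 1 → E.base (E.ζ ψ) = 0) ∧ E.X.card = 3 ∧ ∀ θ ∈ E.X, E.base θ = 1 ∨ E.base θ = -1 := by
    intro E h0
    have hn := E.norm_eq h hM hP1 ha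
    rw [h3, h0] at hn
    have hd : E.δ ^ 2 = 1 := by rcases E.sign with e | e <;> rw [e] <;> norm_num
    have hsum : ∑ θ ∈ E.X, E.base θ ^ 2 = 3 := by push_cast at hn; linarith
    have hb : ∀ θ ∈ E.X, E.base θ = 1 ∨ E.base θ = -1 := fun θ hθ => by
      have h1 := hsum ▸ Finset.single_le_sum (fun i _ => sq_nonneg (E.base i)) hθ
      have h2 := E.base_ne_zero h hM hP1 hθ
      have : -1 ≤ E.base θ ∧ E.base θ ≤ 1 := ⟨by nlinarith, by nlinarith⟩
      omega
    refine ⟨E, fun ψ hψ => (E.base_eq h hM hP1 hψ ha).trans h0, ?_, hb⟩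
    rw [Finset.sum_congr rfl (g := fun _ => (1 : ℤ)) fun θ hθ => by
      rcases hb θ hθ with e | e <;> rw [e] <;> norm_num] at hsum
    simp only [Finset.sum_const, nsmul_eq_mul, mul_one] at hsum
    exact_mod_cast hsum
  by_cases h0 : E.base (E.ζ a) = 0
  · exact hdone E h0
  have hn := E.norm_eq h hM hP1 ha
  rw [h3] at hn
  have hX1 : (1 : ℤ) ≤ ∑ θ ∈ E.X, E.base θ ^ 2 := by
    have h1 := Finset.single_le_sum (fun i _ => sq_nonneg (E.base i)) (E.one_mem_X h hM hm')
    rw [E.base_one h hM hm'] at h1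
    simpa using h1
  obtain ⟨b, hb, hab⟩ := E.exists_other h hM hm' _ (rfl : E.ζ a = E.ζ a)
  have hYa : E.ζ a ∈ E.Y := E.mem_Y.mpr ⟨a, ha, rfl⟩
  have hYb : E.ζ b ∈ E.Y := E.mem_Y.mpr ⟨b, hb, rfl⟩
  have hr2 : (2 : ℤ) ≤ E.Y.card := by
    exact_mod_cast Finset.one_lt_card.mpr ⟨_, hYa, _, hYb, hab.symm⟩
  set d := E.base (E.ζ a) with hd
  push_cast at hn
  have hd1 : d = E.δ := by
    have hd2 : 1 ≤ d ^ 2 := Int.add_one_le_iff.mpr (lt_of_le_of_ne (sq_nonneg _) (pow_ne_zero 2 h0).symm)
    have hd3 : -1 ≤ d ∧ d ≤ 1 := by constructor <;> nlinarith [sq_nonneg (d - E.δ)]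
    by_contra hne
    rcases E.sign with e | e <;> rw [e] at hn hne
    · have : d = -1 := by omega
      rw [this] at hn
      nlinarith
    · have : d = 1 := by omega
      rw [this] at hn
      nlinarith
  rw [hd1, sub_self] at hn
  have hd4 : E.δ ^ 2 = 1 := by rcases E.sign with e | e <;> rw [e] <;> norm_num
  rw [hd4] at hn
  have hc := E.card_Y h
  rw [h3] at hc
  have hr : E.Y.card = 2 := by
    have hr4 : E.Y.card ≤ 4 := by
      have : (E.Y.card : ℤ) ≤ 4 := by nlinarith
      exact_mod_cast this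
    have hr2' : 2 ≤ E.Y.card := by exact_mod_cast hr2
    by_contra hne
    obtain ⟨k, hk⟩ := IsPGroup.iff_card.mp P.2
    have hq : Nat.card P = E.Y.card * 3 + 1 := by omega
    rcases (show E.Y.card = 3 ∨ E.Y.card = 4 by omega) with h' | h'
    · rw [h'] at hq
      have hpk : p ^ k = 10 := hk.symm.trans hq
      have hp := (Fact.out : p.Prime)
      have hd2 : (2 : ℕ).Prime := Nat.prime_two
      have h2p : p = 2 := (Nat.prime_dvd_prime_iff_eq hd2 hp).mp
        (hd2.dvd_of_dvd_pow (hpk ▸ (by norm_num : 2 ∣ 10))) |>.symm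
      have h5 : (5 : ℕ).Prime := by norm_num
      have h5p : p = 5 := (Nat.prime_dvd_prime_iff_eq h5 hp).mp
        (h5.dvd_of_dvd_pow (hpk ▸ (by norm_num : 5 ∣ 10))) |>.symm
      omega
    · have hX : E.X = {oneChar G} := by
        refine Finset.eq_singleton_iff_unique_mem.mpr ⟨E.one_mem_X h hM hm', fun θ hθ => ?_⟩
        by_contra hne'
        have h1 : ∑ i ∈ ({oneChar G, θ} : Finset (IrrCharacter G)), E.base i ^ 2 ≤ ∑ i ∈ E.X, E.base i ^ 2 :=
          Finset.sum_le_sum_of_subset_of_nonneg (Finset.insert_subset (E.one_mem_X h hM hm')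
            (Finset.singleton_subset_iff.mpr hθ)) fun i _ _ => sq_nonneg _
        rw [Finset.sum_pair (Ne.symm hne'), E.base_one h hM hm'] at h1
        have : 1 ≤ E.base θ ^ 2 := Int.add_one_le_iff.mpr
          (lt_of_le_of_ne (sq_nonneg _) (pow_ne_zero 2 (E.base_ne_zero h hM hP1 hθ)).symm)
        rw [h'] at hn
        push_cast at hn
        linarith
      have hrel := E.regular_relation h hM hP1 ha (g := 1) (by simp [(Fact.out : p.Prime).ne_one])
      rw [← hd, hd1, h', hX, Finset.sum_singleton, E.base_one h hM hm', (charDegree_eq (E.ζ a)).1] at hrel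
      have hz : (((4 : ℤ) * E.δ - E.δ) * (charDegree (E.ζ a : G → ℂ) : ℤ) + 1 : ℤ) = 0 := by
        have : (((((4 : ℤ) * E.δ - E.δ) * (charDegree (E.ζ a : G → ℂ) : ℤ) + 1 : ℤ)) : ℂ) = 0 := by
          push_cast
          push_cast at hrel
          simpa [oneChar] using hrel
        exact_mod_cast this
      rcases E.sign with e | e <;> rw [e] at hz <;> omega
  have hY : ∀ ψ, ψ ≠ 1 → E.ζ ψ = E.ζ a ∨ E.ζ ψ = E.ζ b := fun ψ hψ => by
    obtain ⟨x, y, -, hxy⟩ := Finset.card_eq_two.mp hr
    have h1 := E.mem_Y.mpr ⟨ψ, hψ, rfl⟩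
    rw [hxy, Finset.mem_insert, Finset.mem_singleton] at h1 hYa hYb
    rcases h1 with e | e <;> rcases hYa with e1 | e1 <;> rcases hYb with e2 | e2 <;>
      first | exact Or.inl (e.trans e1.symm) | exact Or.inr (e.trans e2.symm) | exact absurd (e2.trans e1.symm) hab
  refine hdone (E.flip (E.ζ a) (E.ζ b) (E.mem a ha) (E.mem b hb) hab.symm hY) ?_
  have e : E.base (E.ζ b) = E.δ := (E.base_eq h hM hP1 hb ha).trans hd1
  simp only [Coherent.base, Coherent.flip, if_true, or_true, mul_one] at e ⊢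
  linarith

end CfsgLib.Block.AbelianFree
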