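import Cfsg.Agent.Lib.Block.Induced
import Cfsg.Agent.Lib.Char.Clifford

/-!
# Central characters of induced and restricted characters
-/

open Finset

namespace CfsgLib.Block

open Cfsg

universe u

variable {G : Type u} [Group G] [Fintype G]

theorem sum_conj_eq (f : G → ℂ) (g : G) [DecidablePred fun y => IsConj g y] :
    ∑ x : G, f (x⁻¹ * g * x) =
      (Nat.card (Subgroup.centralizer ({g} : Set G)) : ℂ) *
        ∑ y ∈ Finset.univ.filter (fun y => IsConj g y), f y := by
  classical
  rw [← Finset.sum_fiberwise_of_maps_to (g := fun x => x⁻¹ * g * x)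
    (t := Finset.univ.filter fun y => IsConj g y)
    (fun x _ => Finset.mem_filter.mpr ⟨Finset.mem_univ _, isConj_iff.mpr ⟨x⁻¹, by rw [inv_inv]⟩⟩),
    Finset.mul_sum]
  refine Finset.sum_congr rfl fun y hy => ?_
  obtain ⟨c, hc⟩ := isConj_iff.mp (Finset.mem_filter.mp hy).2
  rw [Finset.sum_congr rfl (g := fun _ => f y) fun x hx => congrArg f (Finset.mem_filter.mp hx).2,
    Finset.sum_const, nsmul_eq_mul]
  congr 2
  rw [Nat.card_eq_fintype_card, ← Finset.card_univ]
  refine Finset.card_bij' (fun x _ => (⟨x * c, ?_⟩ : Subgroup.centralizer ({g} : Set G)))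
    (fun z _ => (z : G) * c⁻¹) ?_ ?_ ?_ ?_
  · rename_i hx
    have h1 : x⁻¹ * g * x = c * g * c⁻¹ := (Finset.mem_filter.mp hx).2.trans hc.symm
    rw [Subgroup.mem_centralizer_singleton_iff]
    calc (x * c) * g = x * (c * g * c⁻¹) * c := by group
      _ = x * (x⁻¹ * g * x) * c := by rw [h1]
      _ = g * (x * c) := by group
  · exact fun _ _ => Finset.mem_univ _
  · intro z _
    refine Finset.mem_filter.mpr ⟨Finset.mem_univ _, ?_⟩
    have h1 := Subgroup.mem_centralizer_singleton_iff.mp z.2
    calc ((z : G) * c⁻¹)⁻¹ * g * ((z : G) * c⁻¹)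
        = c * ((z : G)⁻¹ * (g * (z : G))) * c⁻¹ := by group
      _ = c * ((z : G)⁻¹ * ((z : G) * g)) * c⁻¹ := by rw [h1]
      _ = y := by rw [← hc]; group
  · intro x _; simp
  · intro z _; exact Subtype.ext (by simp)

theorem finsum_isConj_eq (H : Subgroup G) (ξ : H → ℂ) (g : G) [Fintype H]
    [DecidablePred fun y => IsConj g y] :
    (∑ᶠ h ∈ {h : H | IsConj g (h : G)}, ξ h / ξ 1) =
      (∑ y ∈ Finset.univ.filter (fun y => IsConj g y), extendByZero H ξ y) / ξ 1 := by
  classical
  rw [finsum_mem_eq_toFinset_sum, Finset.sum_div, Set.toFinset_setOf,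
    ← Finset.sum_subset (s₂ := Finset.univ.filter fun y => IsConj g y)
      (Finset.filter_subset_filter (p := fun y => IsConj g y) (Finset.subset_univ
        (Finset.univ.map ⟨((↑) : H → G), Subtype.val_injective⟩))) (fun y hy hy' => ?_),
    Finset.filter_map, Finset.sum_map]
  · refine Finset.sum_congr (by ext h; simp) fun h _ => ?_
    simp [Char.extendByZero_mem H ξ h.2]
  · rw [Char.extendByZero_not_mem, zero_div]
    exact fun hH => hy' (Finset.mem_filter.mpr
      ⟨Finset.mem_map.mpr ⟨⟨y, hH⟩, Finset.mem_univ _, rfl⟩, (Finset.mem_filter.mp hy).2⟩)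

/-- The functional on class sums given by a character of a subgroup is the central character of
the induced character. -/
theorem inducedCentralChar_eq_centralChar_indFun (H : Subgroup G) {ξ : H → ℂ} (hξ : ξ 1 ≠ 0)
    (g : G) : inducedCentralChar H ξ g = centralChar (indFun H ξ) g := by
  classical
  rw [inducedCentralChar, finsum_isConj_eq, centralChar, Char.indFun_one]
  simp only [indFun]
  rw [sum_conj_eq]
  have h1 : (Nat.card (Subgroup.centralizer ({g} : Set G)) : ℂ) *
      ((Subgroup.centralizer ({g} : Set G)).index : ℂ) = (Nat.card H : ℂ) * (H.index : ℂ) := by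
    rw [← Nat.cast_mul, ← Nat.cast_mul, Subgroup.card_mul_index, Subgroup.card_mul_index]
  have h2 : (Nat.card H : ℂ) ≠ 0 := Nat.cast_ne_zero.mpr Nat.card_pos.ne'
  have h3 : (H.index : ℂ) ≠ 0 := Nat.cast_ne_zero.mpr Subgroup.FiniteIndex.index_ne_zero
  field_simp
  linear_combination (∑ y ∈ Finset.univ.filter (fun y => IsConj g y), extendByZero H ξ y) * h1.symm

/-- An irreducible character of `G` has a constituent `θ` on a normal subgroup exactly when its
central character agrees there with the functional of `θ`. -/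
theorem classInner_ne_zero_iff_centralChar (N : Subgroup G) [N.Normal] [Fintype N]
    (χ : IrrCharacter G) (θ : IrrCharacter N) :
    classInner (fun n : N => (χ : G → ℂ) n) (θ : N → ℂ) ≠ 0 ↔
      ∀ n : N, centralChar (χ : G → ℂ) (n : G) = inducedCentralChar N (θ : N → ℂ) (n : G) := by
  classical
  have hθ1 := Char.irr_one_ne_zero θ
  have key : ∀ ψ : IrrCharacter G, classInner (fun n : N => (ψ : G → ℂ) n) (θ : N → ℂ) ≠ 0 →
      ∀ n : N, centralChar (ψ : G → ℂ) (n : G) = inducedCentralChar N (θ : N → ℂ) (n : G) := by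
    intro ψ hψ n
    rw [inducedCentralChar_eq_centralChar_indFun N hθ1]
    have h := Char.clifford_smul N ψ.2 θ.2 hψ
    have hn := congrFun h n
    have h1 := congrFun h 1
    simp only [Pi.smul_apply, smul_eq_mul, OneMemClass.coe_one] at hn h1
    have hψ1 := Char.irr_one_ne_zero ψ
    have hI : indFun N (θ : N → ℂ) 1 ≠ 0 := by
      rw [Char.indFun_one]
      exact mul_ne_zero (Nat.cast_ne_zero.mpr Subgroup.FiniteIndex.index_ne_zero) hθ1
    have hT : (Nat.card (Char.inertia N (θ : N → ℂ)) : ℂ) ≠ 0 :=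
      Nat.cast_ne_zero.mpr Nat.card_pos.ne'
    simp only [centralChar]
    rw [div_eq_div_iff hψ1 hI]
    refine mul_left_cancel₀ hT ?_
    linear_combination ((Subgroup.centralizer ({(n : G)} : Set G)).index : ℂ) *
      (indFun N (θ : N → ℂ) 1 * hn - indFun N (θ : N → ℂ) n * h1)
  refine ⟨key χ, fun h => ?_⟩
  obtain ⟨χ₀, hχ₀⟩ : ∃ ψ : IrrCharacter G, classInner (fun n : N => (ψ : G → ℂ) n) (θ : N → ℂ) ≠ 0 := by
    by_contra hall
    push Not at hall
    have hI : indFun N (θ : N → ℂ) = 0 := Char.classFun_eq_zero_of_perp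
      (Char.isClassFunction_indFun N _) fun ψ => by
        rw [Char.classInner_indFun N _ _ (Char.isClassFunction_irr ψ), ← Char.classInner_conj, hall ψ,
          map_zero]
    have h1 := congrFun hI 1
    rw [Char.indFun_one, Pi.zero_apply] at h1
    exact mul_ne_zero (Nat.cast_ne_zero.mpr Subgroup.FiniteIndex.index_ne_zero) hθ1 h1
  have hprop : ∀ n : N, (χ : G → ℂ) n =
      ((χ : G → ℂ) 1 / (χ₀ : G → ℂ) 1) * (χ₀ : G → ℂ) n := fun n => by
    have he := (h n).trans (key χ₀ hχ₀ n).symm
    simp only [centralChar] at he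
    have hi : ((Subgroup.centralizer ({(n : G)} : Set G)).index : ℂ) ≠ 0 :=
      Nat.cast_ne_zero.mpr Subgroup.FiniteIndex.index_ne_zero
    have h0 := Char.irr_one_ne_zero χ₀
    have hc := Char.irr_one_ne_zero χ
    field_simp at he ⊢
    linear_combination he
  rw [funext hprop, show (fun n : N => ((χ : G → ℂ) 1 / (χ₀ : G → ℂ) 1) * (χ₀ : G → ℂ) n) =
    ((χ : G → ℂ) 1 / (χ₀ : G → ℂ) 1) • (fun n : N => (χ₀ : G → ℂ) n) from rfl,
    Char.classInner_smul_left]
  exact mul_ne_zero (div_ne_zero (Char.irr_one_ne_zero χ) (Char.irr_one_ne_zero χ₀)) hχ₀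

end CfsgLib.Block
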