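import Cfsg.Agent.Lib.Block.CoveringStab
import Cfsg.Agent.Lib.Block.InducedChar

/-!
# The Fong–Reynolds correspondence

`T` is the stabilizer of a block `b` of the normal subgroup `N`; induction is a bijection between
the characters of `T` and of `G` over `b`, compatible with blocks.
-/

open Finset MonoidAlgebra
open scoped ComplexConjugate

set_option linter.unusedSectionVars false

namespace CfsgLib.Block

open Cfsg CfsgLib.Block.Iso

universe u

variable {p : ℕ} {M : Ideal AlgInt} [M.IsMaximal] {G : Type u} [Group G] [Fintype G] [DecidableEq G]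
  {N : Subgroup G} [hNn : N.Normal] [Fintype N] {T : Subgroup G} [Fintype T]
  {b : Set (IrrCharacter N)}

variable (hNT : N ≤ T)

/-- Restriction from the stabilizer to the normal subgroup. -/
def resN (ψ : T → ℂ) : N → ℂ := fun n => ψ ⟨(n : G), hNT n.2⟩

/-- A character of the stabilizer over `b`. -/
def OverB (b : Set (IrrCharacter N)) (ψ : IrrCharacter T) : Prop :=
  ∃ θ ∈ b, classInner (resN hNT (ψ : T → ℂ)) (θ : N → ℂ) ≠ 0

/-- The statements' description of the stabilizer. -/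
theorem stab_iff_of_forall (hb : IsPBlock M b)
    (hT : ∀ g : G, g ∈ T ↔ ∀ θ ∈ b, ∀ θ' : IrrCharacter N,
      (∀ n : N, (θ' : N → ℂ) n = (θ : N → ℂ) ⟨g * n * g⁻¹, hNn.conj_mem n n.2 g⟩) → θ' ∈ b)
    (g : G) : g ∈ T ↔ cjN g '' b = b := by
  have key : ∀ g : G, g ∈ T → cjN g⁻¹ '' b = b := by
    intro g hg
    obtain ⟨θ, hθ⟩ := isPBlock_nonempty hb
    exact isPBlock_eq_of_mem (isPBlock_cjN _ hb) hb ⟨θ, hθ, rfl⟩ ((hT g).mp hg θ hθ _ fun n => by
      rw [cjN_apply]; exact congrArg _ (Subtype.ext (by simp)))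
  refine ⟨fun hg => by simpa using key g⁻¹ (inv_mem hg), fun h => (hT g).mpr fun θ hθ θ' hθ' => ?_⟩
  obtain ⟨η, hη, rfl⟩ : θ ∈ cjN g '' b := h.symm ▸ hθ
  have : θ' = η := Subtype.ext (funext fun n => by
    rw [hθ' n, cjN_apply]; exact congrArg _ (Subtype.ext (by simp [mul_assoc])))
  exact this ▸ hη

section transfer

variable [Fintype (N.subgroupOf T)]

/-- The block as a block of the normal subgroup of the stabilizer. -/
noncomputable def bT (b : Set (IrrCharacter N)) : Set (IrrCharacter (N.subgroupOf T)) :=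
  irrEquiv (Subgroup.subgroupOfEquivOfLe hNT).symm '' b

theorem classInner_resN (ψ : T → ℂ) (θ : IrrCharacter N) :
    classInner (resN hNT ψ) (θ : N → ℂ) =
      classInner (fun n : N.subgroupOf T => ψ n)
        (irrEquiv (Subgroup.subgroupOfEquivOfLe hNT).symm θ : N.subgroupOf T → ℂ) := by
  simp only [classInner]
  rw [Nat.card_congr (Subgroup.subgroupOfEquivOfLe hNT).toEquiv]
  congr 1
  refine (Fintype.sum_equiv (Subgroup.subgroupOfEquivOfLe hNT).toEquiv _ _ fun n => ?_).symm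
  rw [irrEquiv_apply, MulEquiv.symm_symm]
  rfl

theorem overB_covers {ψ : IrrCharacter T} (h : OverB hNT b ψ) :
    Covers (blockOf M (ψ : T → ℂ)) (bT hNT b) := by
  obtain ⟨θ, hθ, hc⟩ := h
  exact ⟨ψ, self_mem_blockOf ψ, _, ⟨θ, hθ, rfl⟩, by rwa [← classInner_resN]⟩

theorem cjN_bT_eq (hT : ∀ g : G, g ∈ T ↔ cjN g '' b = b) (t : T) :
    cjN t '' bT hNT b = bT hNT b := by
  conv_rhs => rw [bT, ← (hT t).mp t.2]
  rw [bT, Set.image_image, Set.image_image]
  refine Set.image_congr fun θ _ => Subtype.ext (funext fun n => ?_)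
  simp only [cjN_apply, irrEquiv_apply, MulEquiv.symm_symm]
  exact congrArg _ (Subtype.ext rfl)

theorem mem_of_mem_orbSet_bT (hT : ∀ g : G, g ∈ T ↔ cjN g '' b = b)
    {η : IrrCharacter (N.subgroupOf T)} (h : η ∈ orbSet (G := T) (bT hNT b)) : η ∈ bT hNT b := by
  obtain ⟨t, ht⟩ := h
  rw [← cjN_bT_eq hNT hT t] at ht
  obtain ⟨μ, hμ, he⟩ := ht
  have := congrArg (cjN t⁻¹) he
  rw [cjN_cjN, cjN_cjN, inv_mul_cancel, cjN_one, cjN_one] at this
  exact this ▸ hμ

/-- All constituents of a character over `b` lie in `b`. -/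
theorem constituent_mem_of_overB (hM : IsPModular p M) (hb : IsPBlock M b)
    (hT : ∀ g : G, g ∈ T ↔ cjN g '' b = b) {ψ : IrrCharacter T} (h : OverB hNT b ψ)
    {φ : IrrCharacter N} (hφ : classInner (resN hNT (ψ : T → ℂ)) (φ : N → ℂ) ≠ 0) : φ ∈ b := by
  classical
  have := Fintype.ofFinite (ConjClasses (N.subgroupOf T))
  rw [classInner_resN] at hφ
  have h1 := (overB_covers (M := M) hNT h).constituent_mem hM (isPBlock_blockOf ψ)
    (b := bT hNT b) (isPBlock_image_irrEquiv _ hb) (self_mem_blockOf ψ) hφ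
  obtain ⟨μ, hμ, he⟩ := mem_of_mem_orbSet_bT hNT hT h1
  exact (irrEquiv (Subgroup.subgroupOfEquivOfLe hNT).symm).injective he ▸ hμ

/-- The whole block of a character over `b` lies over `b`. -/
theorem overB_of_sameBlock (hM : IsPModular p M) (hb : IsPBlock M b)
    (hT : ∀ g : G, g ∈ T ↔ cjN g '' b = b) {ψ ψ' : IrrCharacter T} (h : OverB hNT b ψ)
    (h' : ψ' ∈ blockOf M (ψ : T → ℂ)) : OverB hNT b ψ' := by
  classical
  have := Fintype.ofFinite (ConjClasses (N.subgroupOf T))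
  obtain ⟨η, ⟨θ, hθ, rfl⟩, hc⟩ := (overB_covers (M := M) hNT h).exists_constituent_mem hM
    (isPBlock_blockOf ψ) (b := bT hNT b) (isPBlock_image_irrEquiv _ hb) h'
  exact ⟨θ, hθ, by rwa [classInner_resN]⟩

/-- The idempotent of `b` has the value one on a character over `b`. -/
theorem omG_eG_of_overB (hM : IsPModular p M) (hb : IsPBlock M b) [Fintype (ConjClasses T)]
    (hT : ∀ g : G, g ∈ T ↔ cjN g '' b = b) {ψ : IrrCharacter T} (h : OverB hNT b ψ) :
    omG M ψ (eG M b : MonoidAlgebra (ResField M) G) = 1 := by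
  classical
  have := Fintype.ofFinite (ConjClasses (N.subgroupOf T))
  obtain ⟨θ, hθ, hc⟩ := h
  set bt := bT hNT b with hbt
  have horb : orbSet (G := T) bt = bt :=
    Set.Subset.antisymm (fun η hη => mem_of_mem_orbSet_bT hNT hT hη) (subset_orbSet bt)
  set z := zkOf M _ (cinv_eG_orbSet (G := T) (M := M) bt) with hz
  rw [omG_eq ψ _ z fun k => ?_]
  · rw [omegaBar_eq_omG_of_constituent ψ (irrEquiv (Subgroup.subgroupOfEquivOfLe hNT).symm θ)
      (by rwa [← classInner_resN]) z (suppIn_eG _), hz, coe_zkOf,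
      omG_eG_orbSet hM (b := bt) (isPBlock_image_irrEquiv _ hb), if_pos (subset_orbSet bt ⟨θ, hθ, rfl⟩)]
  · rw [hz, coe_zkOf, horb]
    by_cases hk : (k : G) ∈ N
    · rw [show k = ((⟨k, hk⟩ : N.subgroupOf T) : T) from rfl, coeff_eG,
        show ((((⟨k, hk⟩ : N.subgroupOf T) : T)) : G) = ((⟨(k : G), hk⟩ : N) : G) from rfl, coeff_eG,
        hbt, bT, ← coeffRes_image_irrEquiv (Subgroup.subgroupOfEquivOfLe hNT).symm b ⟨(k : G), hk⟩]
      exact congrArg _ (Subtype.ext rfl)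
    · rw [suppIn_eG _ _ hk, suppIn_eG _ k (fun h => hk h)]

end transfer

/-- The restriction of an induced character sees only the stabilizer on `b`. -/
theorem classInner_indFun_res (hM : IsPModular p M) (hb : IsPBlock M b)
    (hT : ∀ g : G, g ∈ T ↔ cjN g '' b = b) {ψ : IrrCharacter T} (h : OverB hNT b ψ)
    {θ : IrrCharacter N} (hθ : θ ∈ b) :
    classInner (fun n : N => indFun T (ψ : T → ℂ) n) (θ : N → ℂ) =
      classInner (resN hNT (ψ : T → ℂ)) (θ : N → ℂ) := by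
  classical
  have := Fintype.ofFinite (N.subgroupOf T)
  have hconj : ∀ x : G,
      ∑ n : N, extendByZero T (ψ : T → ℂ) (x⁻¹ * n * x) * conj ((θ : N → ℂ) n) =
        ∑ n : N, resN hNT (ψ : T → ℂ) n * conj ((cjN x⁻¹ θ : N → ℂ) n) := by
    intro x
    refine Fintype.sum_equiv (MulAut.conjNormal x⁻¹).toEquiv _ _ fun n => ?_
    have hn : x⁻¹ * n * x ∈ T := hNT (by simpa using hNn.conj_mem n n.2 x⁻¹)
    rw [Char.extendByZero_mem T _ hn, cjN_apply]
    simp only [resN, MulEquiv.toEquiv_eq_coe, EquivLike.coe_coe, MulAut.conjNormal_apply, inv_inv]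
    congr 2
    exact congrArg _ (Subtype.ext (by simp [mul_assoc]))
  have hterm : ∀ x : G, (Nat.card N : ℂ)⁻¹ *
      ∑ n : N, extendByZero T (ψ : T → ℂ) (x⁻¹ * n * x) * conj ((θ : N → ℂ) n) =
      if x ∈ T then classInner (resN hNT (ψ : T → ℂ)) (θ : N → ℂ) else 0 := by
    intro x
    split_ifs with hx
    · rw [classInner]
      congr 1
      refine Finset.sum_congr rfl fun n _ => ?_
      have hn : x⁻¹ * n * x ∈ T := mul_mem (mul_mem (inv_mem hx) (hNT n.2)) hx
      rw [Char.extendByZero_mem T _ hn, resN]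
      congr 1
      rw [← Char.isClassFunction_irr ψ ⟨(n : G), hNT n.2⟩ (⟨x, hx⟩ : T)⁻¹]
      exact congrArg _ (Subtype.ext (by simp))
    · rw [hconj x, ← classInner.eq_1]
      by_contra hne
      refine hx (inv_mem_iff.mp ((hT x⁻¹).mpr ?_))
      exact isPBlock_eq_of_mem (isPBlock_cjN _ hb) hb ⟨θ, hθ, rfl⟩
        (constituent_mem_of_overB hNT hM hb hT h hne)
  rw [classInner]
  calc (Nat.card N : ℂ)⁻¹ * ∑ n : N, indFun T (ψ : T → ℂ) n * conj ((θ : N → ℂ) n)
      = (Nat.card T : ℂ)⁻¹ * ∑ x : G, (Nat.card N : ℂ)⁻¹ *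
          ∑ n : N, extendByZero T (ψ : T → ℂ) (x⁻¹ * n * x) * conj ((θ : N → ℂ) n) := by
        simp only [indFun, Finset.mul_sum, Finset.sum_mul]
        rw [Finset.sum_comm]
        exact Finset.sum_congr rfl fun x _ => Finset.sum_congr rfl fun n _ => by ring
    _ = _ := by
        rw [Finset.sum_congr rfl fun x _ => hterm x, ← Finset.sum_filter, Finset.sum_const, nsmul_eq_mul,
          ← Fintype.card_subtype, ← Nat.card_eq_fintype_card, ← mul_assoc,
          inv_mul_cancel₀ (Nat.cast_ne_zero.mpr Nat.card_pos.ne'), one_mul]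

/-- The restriction of `Ind ψ` to the stabilizer contains `ψ` once and nothing else over `b`. -/
theorem classInner_res_indFun (hM : IsPModular p M) (hb : IsPBlock M b)
    (hT : ∀ g : G, g ∈ T ↔ cjN g '' b = b) {ψ η : IrrCharacter T} (h : OverB hNT b ψ)
    (hη : OverB hNT b η) [Decidable (η = ψ)] :
    classInner (fun t : T => indFun T (ψ : T → ℂ) t) (η : T → ℂ) = if η = ψ then 1 else 0 := by
  classical
  have := Fintype.ofFinite (N.subgroupOf T)
  have := Fintype.ofFinite (IrrCharacter T)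
  have hF : IsCharacter T (fun t : T => indFun T (ψ : T → ℂ) t) :=
    Char.isCharacter_comp (Char.isCharacter_indFun T (Char.isCharacter_irr ψ)) T.subtype
  choose m hm using fun μ : IrrCharacter T => Char.classInner_char_irr_nat hF μ
  choose a ha using fun q : IrrCharacter T × IrrCharacter N =>
    Char.classInner_char_irr_nat (G := N) (χ := resN hNT (q.1 : T → ℂ))
      (Char.isCharacter_comp (Char.isCharacter_irr q.1) (Subgroup.inclusion hNT)) q.2
  have key : ∀ θ ∈ b, a (ψ, θ) = ∑ μ : IrrCharacter T, m μ * a (μ, θ) := by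
    intro θ hθ
    have h1 := classInner_indFun_res hNT hM hb hT h hθ
    have hexp := Char.classFun_expand (Char.isClassFunction_of_isCharacter hF)
    have h2 : (fun n : N => indFun T (ψ : T → ℂ) n) =
        ∑ μ : IrrCharacter T, (m μ : ℂ) • resN hNT (μ : T → ℂ) := funext fun n => by
      have := congrFun hexp ⟨(n : G), hNT n.2⟩
      simp only [hm, Finset.sum_apply, Pi.smul_apply] at this ⊢
      exact this
    rw [h2, Char.classInner_sum_left] at h1
    simp only [Char.classInner_smul_left, ha (_, θ)] at h1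
    exact_mod_cast h1.symm
  have hψpos : 1 ≤ m ψ := by
    rw [Nat.one_le_iff_ne_zero]
    intro h0
    have h1 := hm ψ
    rw [h0, Nat.cast_zero, ← Char.classInner_conj,
      ← Char.classInner_indFun T (ψ : T → ℂ) _ (Char.isClassFunction_indFun T _),
      Char.classInner_self, Complex.conj_ofReal] at h1
    have hz := Char.classInner_self_eq_zero (φ := indFun T (ψ : T → ℂ)) (by rw [Char.classInner_self, h1])
    have h2 := congrFun hz 1
    rw [Char.indFun_one, Pi.zero_apply] at h2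
    exact mul_ne_zero (Nat.cast_ne_zero.mpr Subgroup.FiniteIndex.index_ne_zero) (Char.irr_one_ne_zero ψ) h2
  rw [hm η]
  split_ifs with he
  · subst he
    obtain ⟨θ, hθ, hc⟩ := h
    have h1 := key θ hθ
    have ha0 : a (η, θ) ≠ 0 := fun h0 => hc (by rw [ha (η, θ), h0, Nat.cast_zero])
    have h2 : m η * a (η, θ) ≤ a (η, θ) := by
      conv_rhs => rw [h1]
      exact Finset.single_le_sum (f := fun μ => m μ * a (μ, θ)) (fun _ _ => Nat.zero_le _) (Finset.mem_univ η)
    have h3 : m η ≤ 1 := Nat.le_of_mul_le_mul_right (by rwa [one_mul]) (Nat.pos_of_ne_zero ha0)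
    rw [le_antisymm h3 hψpos, Nat.cast_one]
  · obtain ⟨θ, hθ, hc⟩ := hη
    have h1 := key θ hθ
    have ha0 : a (η, θ) ≠ 0 := fun h0 => hc (by rw [ha (η, θ), h0, Nat.cast_zero])
    rw [← Finset.add_sum_erase _ _ (Finset.mem_univ ψ)] at h1
    have h2 : m η * a (η, θ) ≤ ∑ μ ∈ Finset.univ.erase ψ, m μ * a (μ, θ) :=
      Finset.single_le_sum (f := fun μ => m μ * a (μ, θ)) (fun _ _ => Nat.zero_le _)
        (Finset.mem_erase.mpr ⟨he, Finset.mem_univ η⟩)
    have h4 : a (ψ, θ) ≤ m ψ * a (ψ, θ) := Nat.le_mul_of_pos_left _ hψpos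
    have h3 : m η * a (η, θ) = 0 := by omega
    rw [(mul_eq_zero.mp h3).resolve_right ha0, Nat.cast_zero]

theorem isIrrCharacter_indFun_of_overB (hM : IsPModular p M) (hb : IsPBlock M b)
    (hT : ∀ g : G, g ∈ T ↔ cjN g '' b = b) {ψ : IrrCharacter T} (h : OverB hNT b ψ) :
    IsIrrCharacter G (indFun T (ψ : T → ℂ)) := by
  classical
  have := Fintype.ofFinite (N.subgroupOf T)
  refine Char.isIrr_of_isCharacter_norm_one (Char.isCharacter_indFun T (Char.isCharacter_irr ψ)) ?_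
  rw [Char.classInner_indFun T _ _ (Char.isClassFunction_indFun T _), ← Char.classInner_conj,
    classInner_res_indFun hNT hM hb hT h h, if_pos rfl, map_one]

theorem indFun_injective_of_overB (hM : IsPModular p M) (hb : IsPBlock M b)
    (hT : ∀ g : G, g ∈ T ↔ cjN g '' b = b) {ψ η : IrrCharacter T} (h : OverB hNT b ψ)
    (hη : OverB hNT b η) (he : indFun T (ψ : T → ℂ) = indFun T (η : T → ℂ)) : η = ψ := by
  classical
  have := Fintype.ofFinite (N.subgroupOf T)
  by_contra hne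
  have h1 := classInner_res_indFun hNT hM hb hT h hη
  rw [if_neg hne, he, classInner_res_indFun hNT hM hb hT hη hη, if_pos rfl] at h1
  exact one_ne_zero h1

theorem exists_indFun_eq (hM : IsPModular p M) (hb : IsPBlock M b)
    (hT : ∀ g : G, g ∈ T ↔ cjN g '' b = b) (χ : IrrCharacter G) {θ : IrrCharacter N} (hθ : θ ∈ b)
    (hc : classInner (fun n : N => (χ : G → ℂ) n) (θ : N → ℂ) ≠ 0) :
    ∃ ψ : IrrCharacter T, OverB hNT b ψ ∧ indFun T (ψ : T → ℂ) = (χ : G → ℂ) := by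
  classical
  have := Fintype.ofFinite (N.subgroupOf T)
  have := Fintype.ofFinite (IrrCharacter T)
  have hF : IsCharacter T (fun t : T => (χ : G → ℂ) t) :=
    Char.isCharacter_comp (Char.isCharacter_irr χ) T.subtype
  have h2 : (fun n : N => (χ : G → ℂ) n) =
      ∑ μ : IrrCharacter T, classInner (fun t : T => (χ : G → ℂ) t) (μ : T → ℂ) • resN hNT (μ : T → ℂ) :=
    funext fun n => by
      have := congrFun (Char.classFun_expand (Char.isClassFunction_of_isCharacter hF)) ⟨(n : G), hNT n.2⟩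
      simp only [Finset.sum_apply, Pi.smul_apply] at this ⊢
      exact this
  rw [h2, Char.classInner_sum_left] at hc
  obtain ⟨ψ, -, hψ⟩ := Finset.exists_ne_zero_of_sum_ne_zero hc
  rw [Char.classInner_smul_left] at hψ
  have hov : OverB hNT b ψ := ⟨θ, hθ, right_ne_zero_of_mul hψ⟩
  refine ⟨ψ, hov, ?_⟩
  have hne : classInner (indFun T (ψ : T → ℂ)) (χ : G → ℂ) ≠ 0 := by
    rw [Char.classInner_indFun T _ _ (Char.isClassFunction_irr χ), ← Char.classInner_conj]
    exact fun h0 => left_ne_zero_of_mul hψ ((map_eq_zero _).mp h0)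
  exact congrArg Subtype.val (Char.irr_eq_of_inner_ne_zero
    (χ := (⟨_, isIrrCharacter_indFun_of_overB hNT hM hb hT hov⟩ : IrrCharacter G)) (ψ := χ) hne)

/-- The induced block is the block of the induced character. -/
theorem omegaBar_resHK_indFun {ψ : IrrCharacter T} {χ : IrrCharacter G}
    (he : indFun T (ψ : T → ℂ) = (χ : G → ℂ)) (z : ZK M G) :
    omegaBar M ψ (resHK M T z) = omegaBar M χ z := by
  classical
  have := Fintype.ofFinite (ConjClasses G)
  rw [zk_eq_sum z, map_sum, map_sum, map_sum]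
  refine Finset.sum_congr rfl fun C _ => ?_
  rw [map_smul, omegaBar_smul, omegaBar_smul]
  congr 1
  refine (memLocalIdeal_induced_iff ψ χ (rep C)).mp ?_
  rw [inducedCentralChar_eq_centralChar_indFun T (Char.irr_one_ne_zero ψ), he, sub_self]
  exact ⟨0, 1, M.zero_mem, Ideal.IsPrime.one_notMem inferInstance, by simp⟩

/-- The block of a character over `b` can be recovered from the induced one. -/
theorem exists_resHK_eq (hM : IsPModular p M) (hb : IsPBlock M b)
    (hT : ∀ g : G, g ∈ T ↔ cjN g '' b = b) (z : ZK M T) :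
    ∃ Y : ZK M G, ∀ ψ : IrrCharacter T, OverB hNT b ψ →
      omegaBar M ψ (resHK M T Y) = omegaBar M ψ z := by
  classical
  have := Fintype.ofFinite (N.subgroupOf T)
  have := Fintype.ofFinite (ConjClasses T)
  have := Fintype.ofFinite (ConjClasses N)
  have := Fintype.ofFinite (G ⧸ T)
  set e : MonoidAlgebra (ResField M) G := eG M b with he
  set y₀ : MonoidAlgebra (ResField M) G := emb (z : MonoidAlgebra (ResField M) T) with hy₀
  have hy₀c : CInv T y₀ := cinv_of_commute fun s hs =>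
    commute_single_emb (mem_center_iff_isClassElt.mp z.2) ⟨s, hs⟩
  have hes : SuppIn T e := fun g hg => suppIn_eG _ g fun h => hg (hNT h)
  have hec : CInv T e := cinv_iff_cj.mpr fun t ht => by
    rw [he, ← cj_eG_cjN, (hT t).mp ht]
  have hee : e * e = e := eG_mul_self hM hb
  set y := y₀ * e with hy
  have hyc : CInv T y := hy₀c.mul hec
  have hys : SuppIn T y := (suppIn_emb _).mul hes
  set W : MonoidAlgebra (ResField M) G := ∑ q : G ⧸ T, cj q.out y with hW
  have hcj : ∀ (g : G) (q : G ⧸ T), (g : G ⧸ T) = q → cj g y = cj q.out y := by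
    intro g q hq
    have h1 : q.out⁻¹ * g ∈ T := QuotientGroup.eq.mp (by rw [QuotientGroup.out_eq', hq])
    have h2 := cinv_iff_cj.mp hyc _ h1
    calc cj g y = cj q.out (cj (q.out⁻¹ * g) y) := by rw [cj_cj, mul_inv_cancel_left]
      _ = cj q.out y := by rw [h2]
  have hWc : CInv ⊤ W := cinv_iff_cj.mpr fun u _ => by
    refine ga_ext fun g => ?_
    rw [coeff_cj, hW, coeff_sum_apply, coeff_sum_apply]
    refine Fintype.sum_equiv (MulAction.toPerm u) _ _ fun q => ?_
    rw [MulAction.toPerm_apply, ← hcj (u * q.out) (u • q)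
      (by conv_rhs => rw [← QuotientGroup.out_eq' q, MulAction.Quotient.smul_mk, smul_eq_mul]),
      ← cj_cj, coeff_cj u]
  refine ⟨zkOf M W hWc, fun ψ hψ => ?_⟩
  have hWe : W * e = y := by
    rw [hW, Finset.sum_mul, Finset.sum_eq_single ((1 : G) : G ⧸ T)]
    · rw [← hcj 1 _ rfl, cj_one, hy, mul_assoc, hee]
    · intro q _ hq
      rw [hy, cj_mul', mul_assoc, he, ← cj_eG_cjN, eG_mul_eq_zero hM (isPBlock_cjN _ hb) hb, mul_zero]
      intro h
      apply hq
      rw [← QuotientGroup.out_eq' q, QuotientGroup.eq, mul_one]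
      exact inv_mem ((hT _).mpr h)
    · exact fun h => absurd (Finset.mem_univ _) h
  set W' : MonoidAlgebra (ResField M) G := emb (resTo T W) with hW'
  have hW'c : CInv T W' := cinv_of_commute fun s hs =>
    commute_single_emb (isClassElt_resTo (hWc.mono le_top)) ⟨s, hs⟩
  have hW'co : ∀ g ∈ T, W'.coeff g = W.coeff g := fun g hg => by
    rw [hW', show g = ((⟨g, hg⟩ : T) : G) from rfl, coeff_emb_coe]; rfl
  have hW'e : W' * e = y := by
    refine ga_ext fun g => ?_
    by_cases hg : g ∈ T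
    · rw [← hWe, coeff_mul_sum, coeff_mul_sum]
      refine Finset.sum_congr rfl fun h _ => ?_
      by_cases hh : h ∈ T
      · rw [hW'co h hh]
      · rw [hes (h⁻¹ * g) fun h' => hh (by simpa using mul_mem hg (inv_mem h')), mul_zero, mul_zero]
    · rw [((suppIn_emb _).mul hes) g hg, hys g hg]
  have hω1 := omG_eG_of_overB hNT hM hb hT hψ
  calc omegaBar M ψ (resHK M T (zkOf M W hWc)) = omG M ψ W := (omG_eq ψ W _ fun k => coeff_resHK _ k).symm
    _ = omG M ψ W' := omG_congr ψ fun g hg => (hW'co g hg).symm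
    _ = omG M ψ W' * omG M ψ e := by rw [he, hω1, mul_one]
    _ = omG M ψ y := by rw [← omG_mul ψ (suppIn_emb _) hes hW'c hec, hW'e]
    _ = omG M ψ y₀ * omG M ψ e := omG_mul ψ (suppIn_emb _) hes hy₀c hec
    _ = omegaBar M ψ z := by rw [he, hω1, mul_one, hy₀, omG_emb]

/-- Characters over `b` inducing to the same block lie in the same block. -/
theorem sameBlock_of_indFun (hM : IsPModular p M) (hb : IsPBlock M b)
    (hT : ∀ g : G, g ∈ T ↔ cjN g '' b = b) {ψ η : IrrCharacter T} (h : OverB hNT b ψ)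
    (hη : OverB hNT b η) {χ χ' : IrrCharacter G} (he : indFun T (ψ : T → ℂ) = (χ : G → ℂ))
    (he' : indFun T (η : T → ℂ) = (χ' : G → ℂ)) (hs : SameBlock M (χ : G → ℂ) (χ' : G → ℂ)) :
    SameBlock M (ψ : T → ℂ) (η : T → ℂ) := by
  refine sameBlock_iff_omegaBar.mpr (RingHom.ext fun z => ?_)
  obtain ⟨Y, hY⟩ := exists_resHK_eq hNT hM hb hT z
  rw [← hY ψ h, ← hY η hη, omegaBar_resHK_indFun he, omegaBar_resHK_indFun he',
    omegaBar_eq_of_sameBlock hs]

/-- The Fong–Reynolds correspondent of a block over `b`. -/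
theorem fongReynolds_block (hM : IsPModular p M) (hb : IsPBlock M b)
    (hT : ∀ g : G, g ∈ T ↔ cjN g '' b = b) {B' : Set (IrrCharacter T)} (hB' : IsPBlock M B')
    (hov : ∃ ψ ∈ B', OverB hNT b ψ) :
    ∃ B : Set (IrrCharacter G), IsInducedBlock M T B' B ∧ Covers B b ∧
      (∀ ψ ∈ B', OverB hNT b ψ ∧ IsIrrCharacter G (indFun T (ψ : T → ℂ))) ∧
      ∀ χ : IrrCharacter G, χ ∈ B ↔ ∃ ψ ∈ B', (χ : G → ℂ) = indFun T (ψ : T → ℂ) := by
  classical
  have := Fintype.ofFinite (N.subgroupOf T)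
  have := Fintype.ofFinite (ConjClasses N)
  obtain ⟨ψ₀, hψ₀, hov₀⟩ := hov
  have hBo : B' = blockOf M (ψ₀ : T → ℂ) := isPBlock_eq_blockOf hB' hψ₀
  have hall : ∀ ψ ∈ B', OverB hNT b ψ := fun ψ hψ => overB_of_sameBlock hNT hM hb hT hov₀ (hBo ▸ hψ)
  have hirr : ∀ ψ ∈ B', OverB hNT b ψ ∧ IsIrrCharacter G (indFun T (ψ : T → ℂ)) :=
    fun ψ hψ => ⟨hall ψ hψ, isIrrCharacter_indFun_of_overB hNT hM hb hT (hall ψ hψ)⟩
  set χ₀ : IrrCharacter G := ⟨_, (hirr ψ₀ hψ₀).2⟩ with hχ₀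
  have hind : IsInducedBlock M T B' (blockOf M (χ₀ : G → ℂ)) :=
    hBo ▸ isInducedBlock_blockOf fun z => omegaBar_resHK_indFun (χ := χ₀) rfl z
  have hcov : Covers (blockOf M (χ₀ : G → ℂ)) b := by
    obtain ⟨θ, hθ, hc⟩ := hov₀
    exact ⟨χ₀, self_mem_blockOf χ₀, θ, hθ, by
      rw [show (fun n : N => (χ₀ : G → ℂ) n) = fun n : N => indFun T (ψ₀ : T → ℂ) n from rfl,
        classInner_indFun_res hNT hM hb hT ⟨θ, hθ, hc⟩ hθ]
      exact hc⟩
  refine ⟨_, hind, hcov, hirr, fun χ => ⟨fun hχ => ?_, ?_⟩⟩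
  · obtain ⟨θ, hθ, hc⟩ := hcov.exists_constituent_mem hM (isPBlock_blockOf χ₀) hb hχ
    obtain ⟨ψ, hψ, he⟩ := exists_indFun_eq hNT hM hb hT χ hθ hc
    exact ⟨ψ, hBo ▸ sameBlock_of_indFun hNT hM hb hT hov₀ hψ (χ := χ₀) rfl he hχ, he.symm⟩
  · rintro ⟨ψ, hψ, he⟩
    refine sameBlock_iff_omegaBar.mpr (RingHom.ext fun z => ?_)
    rw [← omegaBar_resHK_indFun (ψ := ψ₀) (χ := χ₀) rfl, ← omegaBar_resHK_indFun (ψ := ψ) he.symm,
      omegaBar_eq_of_mem hB' hψ₀ hψ]

theorem fongReynolds_injective (hM : IsPModular p M) (hb : IsPBlock M b)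
    (hT : ∀ g : G, g ∈ T ↔ cjN g '' b = b) {B₁ B₂ : Set (IrrCharacter T)} (h₁ : IsPBlock M B₁)
    (h₂ : IsPBlock M B₂) (ho₁ : ∃ ψ ∈ B₁, OverB hNT b ψ) (ho₂ : ∃ ψ ∈ B₂, OverB hNT b ψ)
    {B : Set (IrrCharacter G)} (hi₁ : IsInducedBlock M T B₁ B) (hi₂ : IsInducedBlock M T B₂ B) :
    B₁ = B₂ := by
  classical
  have := Fintype.ofFinite (N.subgroupOf T)
  obtain ⟨C₁, hC₁, -, hir₁, hm₁⟩ := fongReynolds_block hNT hM hb hT h₁ ho₁
  obtain ⟨C₂, hC₂, -, hir₂, hm₂⟩ := fongReynolds_block hNT hM hb hT h₂ ho₂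
  obtain ⟨ψ₁, hψ₁⟩ := isPBlock_nonempty h₁
  obtain ⟨ψ₂, hψ₂⟩ := isPBlock_nonempty h₂
  have e₁ : (⟨_, (hir₁ ψ₁ hψ₁).2⟩ : IrrCharacter G) ∈ B :=
    inducedBlock_unique hC₁ hi₁ ▸ (hm₁ _).mpr ⟨ψ₁, hψ₁, rfl⟩
  have e₂ : (⟨_, (hir₂ ψ₂ hψ₂).2⟩ : IrrCharacter G) ∈ B :=
    inducedBlock_unique hC₂ hi₂ ▸ (hm₂ _).mpr ⟨ψ₂, hψ₂, rfl⟩
  have := sameBlock_of_indFun hNT hM hb hT (hir₁ ψ₁ hψ₁).1 (hir₂ ψ₂ hψ₂).1
    (χ := ⟨_, (hir₁ ψ₁ hψ₁).2⟩) (χ' := ⟨_, (hir₂ ψ₂ hψ₂).2⟩) rfl rfl
    ((isPBlock_sameBlock hi₁.2.1 e₁).mp e₂)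
  exact isPBlock_eq_of_mem h₁ h₂ ((isPBlock_sameBlock h₁ hψ₁).mpr this) hψ₂

theorem fongReynolds_surjective (hM : IsPModular p M) (hb : IsPBlock M b)
    (hT : ∀ g : G, g ∈ T ↔ cjN g '' b = b) {B : Set (IrrCharacter G)} (hB : IsPBlock M B)
    (hcov : Covers B b) :
    ∃ B' : Set (IrrCharacter T), IsPBlock M B' ∧ (∃ ψ ∈ B', OverB hNT b ψ) ∧
      IsInducedBlock M T B' B := by
  classical
  have := Fintype.ofFinite (N.subgroupOf T)
  have := Fintype.ofFinite (ConjClasses N)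
  obtain ⟨χ, hχ, θ, hθ, hc⟩ := hcov
  obtain ⟨ψ, hψ, he⟩ := exists_indFun_eq hNT hM hb hT χ hθ hc
  refine ⟨_, isPBlock_blockOf ψ, ⟨ψ, self_mem_blockOf ψ, hψ⟩, ?_⟩
  rw [isPBlock_eq_blockOf hB hχ]
  exact isInducedBlock_blockOf fun z => omegaBar_resHK_indFun he z

/-- Heights and defect. -/
theorem fongReynolds_degree (hM : IsPModular p M) {ψ : IrrCharacter T} {χ : IrrCharacter G}
    (he : (χ : G → ℂ) = indFun T (ψ : T → ℂ)) :
    degVal p χ = T.index.factorization p + degVal p ψ := by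
  have h1 := congrFun he 1
  rw [Char.indFun_one, (charDegree_eq χ).1, (charDegree_eq ψ).1, ← Nat.cast_mul, Nat.cast_inj] at h1
  rw [degVal, degVal, h1, Nat.factorization_mul Subgroup.index_ne_zero_of_finite (charDegree_eq ψ).2,
    Finsupp.add_apply]

end CfsgLib.Block
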