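import Cfsg.Agent.Lib.Block.CoveringDefect

/-!
# Covering blocks of maximal defect and normal subgroups of `p`-power index
-/

open Finset MonoidAlgebra
open scoped ComplexConjugate

set_option linter.unusedSectionVars false

namespace CfsgLib.Block

open Cfsg CfsgLib.Block.Iso
open scoped Pair

universe u

variable {p : ℕ} {M : Ideal AlgInt} [M.IsMaximal] {G : Type u} [Group G] [Fintype G] [DecidableEq G]
  {N : Subgroup G} [hNn : N.Normal] [Fintype N] [Fintype (ConjClasses N)] [Fintype (G ⧸ N)]

theorem orbSet_eq_of_stable {b : Set (IrrCharacter N)} (hst : ∀ g : G, cjN g '' b = b) :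
    orbSet (G := G) b = b := by
  ext θ
  refine ⟨fun ⟨g, hg⟩ => ?_, fun h => subset_orbSet b h⟩
  rw [← hst g⁻¹]
  exact ⟨_, hg, by rw [cjN_cjN, inv_mul_cancel, cjN_one]⟩

/-- A covering block of a stable block whose defect is as large as possible. -/
theorem defect_of_ge (hM : IsPModular p M) {b : Set (IrrCharacter N)} (hb : IsPBlock M b)
    (hst : ∀ g : G, cjN g '' b = b) {B : Set (IrrCharacter G)} (hB : IsPBlock M B)
    (hcov : Covers B b)
    (hmax : blockDefect p b + N.index.factorization p ≤ blockDefect p B) {P : Subgroup G}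
    (hP : IsDefectGroup p M B P) :
    ¬ p ∣ (P ⊔ N).index ∧ IsDefectGroup p M b ((P ⊓ N).subgroupOf N) ∧
      blockDefect p B = blockDefect p b + N.index.factorization p := by
  classical
  have hpf : Fact p.Prime := ⟨hM.1⟩
  obtain ⟨g, f, -, hg, -, hdef⟩ := hcov.exists_stable_inter hM hB hb hP
  have hfb : f = b := by
    rw [← cjN_one_image (G := G) f, ← inv_mul_cancel g, ← cjN_image_image, hg, hst]
  rw [hfb] at hdef
  have h1 := defectGroup_card hM hb hdef
  rw [card_subgroupOf_eq inf_le_right] at h1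
  have e1 := congrArg (fun n : ℕ => n.factorization p) (CfsgLib.PGroup.card_sup_mul_card_inf P N)
  have e2 := congrArg (fun n : ℕ => n.factorization p) (Subgroup.index_mul_card (P ⊔ N))
  have e3 := congrArg (fun n : ℕ => n.factorization p) (Subgroup.index_mul_card N)
  simp only [Nat.factorization_mul Nat.card_pos.ne' Nat.card_pos.ne', Finsupp.add_apply] at e1
  simp only [Nat.factorization_mul Subgroup.index_ne_zero_of_finite Nat.card_pos.ne',
    Finsupp.add_apply] at e2 e3
  rw [defectGroup_card hM hB hP, h1, hM.1.factorization_pow, hM.1.factorization_pow,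
    Finsupp.single_eq_same, Finsupp.single_eq_same] at e1
  refine ⟨fun hd => ?_, hdef, by omega⟩
  have := hM.1.factorization_pos_of_dvd Subgroup.index_ne_zero_of_finite hd
  omega

/-- The covering block of a stable block of a normal subgroup of `p`-power index. -/
theorem ppow_defect (hM : IsPModular p M) (hN : ∃ k : ℕ, N.index = p ^ k)
    {b : Set (IrrCharacter N)} (hb : IsPBlock M b) (hst : ∀ g : G, cjN g '' b = b)
    {B : Set (IrrCharacter G)} (hB : IsPBlock M B) (hcov : Covers B b) {P : Subgroup G}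
    (hP : IsDefectGroup p M B P) :
    N ⊔ P = ⊤ ∧ IsDefectGroup p M b ((P ⊓ N).subgroupOf N) := by
  classical
  obtain ⟨B', hB', hcov', hge⟩ := exists_covers_defect_ge hM hb hst
  obtain rfl := covers_unique_of_ppow hM hN hB hB' hb hcov hcov'
  obtain ⟨h1, h2, -⟩ := defect_of_ge hM hb hst hB hcov hge hP
  refine ⟨Subgroup.index_eq_one.mp ?_, h2⟩
  obtain ⟨k, hk⟩ := hN
  have hd : (P ⊔ N).index ∣ p ^ k := hk ▸ Subgroup.index_dvd_of_le le_sup_right
  obtain ⟨j, -, hj⟩ := (Nat.dvd_prime_pow hM.1).mp hd
  rw [sup_comm, hj]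
  have hj0 : j = 0 := by
    by_contra h
    exact h1 (hj ▸ dvd_pow_self p h)
  rw [hj0, pow_zero]

/-- The block over a block of a normal subgroup of `p`-power index has the idempotent of the
conjugates. -/
theorem blockBar_eq_orbSet_of_ppow (hM : IsPModular p M) (hN : ∃ k : ℕ, N.index = p ^ k)
    {B : Set (IrrCharacter G)} (hB : IsPBlock M B) {b : Set (IrrCharacter N)} (hb : IsPBlock M b)
    (hcov : Covers B b) :
    (blockBar M B : MonoidAlgebra (ResField M) G) = eG M (orbSet (G := G) b) := by
  classical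
  set z := zkOf M _ (cinv_eG_orbSet (G := G) (M := M) b) with hz
  have hzz : z * z = z := Subtype.ext (by
    show eG M (orbSet b) * eG M (orbSet b) = eG M (orbSet b)
    rw [eG, ← emb_mul, ← MulMemClass.coe_mul, blockBar_mul_self hM (isBlockUnion_orbSet hb)])
  refine congrArg Subtype.val
    (eq_of_omegaBar_eq_of_idem (b := z) hM (blockBar_mul_self hM (.of_isPBlock hB)) hzz fun χ => ?_)
  obtain ⟨θ, hθ⟩ := exists_constituent (N := N) χ
  rw [omegaBar_eq_omG_of_constituent χ θ hθ z (suppIn_eG _), hz, coe_zkOf, omG_eG_orbSet hM hb,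
    omegaBar_blockBar hM (.of_isPBlock hB)]
  by_cases hmem : θ ∈ orbSet (G := G) b
  · rw [if_pos hmem, if_pos]
    obtain ⟨g, hg⟩ := hmem
    rw [covers_unique_of_ppow hM hN hB (isPBlock_blockOf χ) hb hcov
      ⟨χ, self_mem_blockOf χ, _, hg, by rwa [classInner_cjN]⟩]
    exact self_mem_blockOf χ
  · rw [if_neg hmem, if_neg]
    exact fun hχ => hmem (hcov.constituent_mem hM hB hb hχ hθ)

/-- A block is determined by the coefficients of its idempotent. -/
theorem eq_of_blockCoeff_eq {B B' : Set (IrrCharacter G)}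
    (h : ∀ g, blockCoeff B g = blockCoeff B' g) : B = B' := by
  classical
  ext χ
  have h1 := omega_gaOfFun_blockCoeff B χ
  rw [show gaOfFun (blockCoeff B) = gaOfFun (blockCoeff B') from ga_ext fun g => h g,
    omega_gaOfFun_blockCoeff] at h1
  by_cases hB : χ ∈ B <;> by_cases hB' : χ ∈ B' <;> simp_all

end CfsgLib.Block
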