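import Cfsg.Agent.Lib.Block.Defect

/-!
# The centre of the group algebra over the residue field

`omegaBar` : the reduced central characters as homomorphisms of the centre, `blockBar` : the
reduced block idempotents, `exists_omegaBar_eq` : every homomorphism to the residue field is one
of them, `brMap` : the Brauer homomorphism.
-/

open Finset MonoidAlgebra
open scoped ComplexConjugate

set_option linter.unusedSectionVars false

namespace CfsgLib.Block

open Cfsg

universe u

variable {p : ℕ} {M : Ideal AlgInt} [M.IsMaximal] {G : Type u} [Group G] [Fintype G] [DecidableEq G]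

/-- The centre of the group algebra over the residue field. -/
noncomputable abbrev ZK (M : Ideal AlgInt) [M.IsMaximal] (G : Type u) [Group G] [Fintype G] [DecidableEq G] :=
  Subalgebra.center (ResField M) (MonoidAlgebra (ResField M) G)

/-- The centre of the group algebra over the local ring. -/
noncomputable abbrev ZL (M : Ideal AlgInt) [M.IsMaximal] (G : Type u) [Group G] [Fintype G] [DecidableEq G] :=
  Subalgebra.center (locRing M) (MonoidAlgebra (locRing M) G)

variable (M) in
/-- Reduction on the centre. -/
noncomputable def toKC : ZL M G →+* ZK M G where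
  toFun z := ⟨toK M (z : MonoidAlgebra (locRing M) G),
    mem_center_iff_isClassElt.mpr (IsClassElt.map _ (mem_center_iff_isClassElt.mp z.2))⟩
  map_one' := Subtype.ext (map_one _)
  map_mul' a b := Subtype.ext (map_mul _ _ _)
  map_zero' := Subtype.ext (map_zero _)
  map_add' a b := Subtype.ext (map_add _ _ _)

@[simp] theorem coe_toKC (z : ZL M G) :
    (toKC M z : MonoidAlgebra (ResField M) G) = toK M (z : MonoidAlgebra (locRing M) G) := rfl

theorem toKC_surjective : Function.Surjective (toKC M (G := G)) := by
  intro z
  choose s hs using res_surjective (M := M)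
  refine ⟨⟨gaOfFun fun g => s ((z : MonoidAlgebra (ResField M) G).coeff g),
    mem_center_iff_isClassElt.mpr fun g h => ?_⟩, Subtype.ext (ga_ext fun g => ?_)⟩
  · simp only [coeff_gaOfFun, mem_center_iff_isClassElt.mp z.2 g h]
  · simp [hs]

theorem omegaRes_eq_zero_of_toK (χ : IrrCharacter G) (z : ZL M G)
    (h : toK M (z : MonoidAlgebra (locRing M) G) = 0) : omegaRes M χ z = 0 := by
  classical
  have := Fintype.ofFinite (ConjClasses G)
  rw [omegaRes, RingHom.comp_apply, show omegaLoc M χ z = ∑ C : ConjClasses G,
      (z : MonoidAlgebra (locRing M) G).coeff (rep C) * ⟨_, centralChar_mem χ (rep C)⟩ from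
    Subtype.ext (by
      rw [coe_omegaLoc, omega_toC_eq χ (mem_center_iff_isClassElt.mp z.2),
        AddSubmonoidClass.coe_finsetSum]
      rfl), map_sum]
  refine Finset.sum_eq_zero fun C _ => ?_
  rw [map_mul, ← coeff_toK, h]
  simp

theorem omegaRes_eq_of_toKC_eq (χ : IrrCharacter G) {a b : ZL M G} (h : toKC M a = toKC M b) :
    omegaRes M χ a = omegaRes M χ b := by
  rw [← sub_eq_zero, ← omegaRes_sub]
  refine omegaRes_eq_zero_of_toK χ _ ?_
  have h' := congrArg Subtype.val h
  simp only [coe_toKC] at h'
  rw [show ((a - b : ZL M G) : MonoidAlgebra (locRing M) G) = a - b from rfl, map_sub, h', sub_self]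

variable (M) in
/-- The reduced central character on the centre over the residue field. -/
noncomputable def omegaBar (χ : IrrCharacter G) : ZK M G →+* ResField M where
  toFun z := omegaRes M χ (Function.surjInv toKC_surjective z)
  map_one' := (omegaRes_eq_of_toKC_eq χ (by
    rw [Function.surjInv_eq toKC_surjective, map_one])).trans (map_one _)
  map_mul' a b := (omegaRes_eq_of_toKC_eq χ (by
    rw [map_mul, Function.surjInv_eq toKC_surjective, Function.surjInv_eq toKC_surjective,
      Function.surjInv_eq toKC_surjective])).trans (map_mul _ _ _)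
  map_zero' := (omegaRes_eq_of_toKC_eq χ (by
    rw [Function.surjInv_eq toKC_surjective, map_zero])).trans (map_zero _)
  map_add' a b := (omegaRes_eq_of_toKC_eq χ (by
    rw [map_add, Function.surjInv_eq toKC_surjective, Function.surjInv_eq toKC_surjective,
      Function.surjInv_eq toKC_surjective])).trans (map_add _ _ _)

@[simp] theorem omegaBar_toKC (χ : IrrCharacter G) (z : ZL M G) :
    omegaBar M χ (toKC M z) = omegaRes M χ z :=
  omegaRes_eq_of_toKC_eq χ (Function.surjInv_eq toKC_surjective _)

variable (M) in
/-- The class sum in the centre over the residue field. -/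
noncomputable def classBar (g : G) : ZK M G :=
  ⟨classSum (ResField M) g, classSum_mem_center g⟩

theorem toKC_classSum (g : G) :
    toKC M ⟨classSum (locRing M) g, classSum_mem_center g⟩ = classBar M g :=
  Subtype.ext (by simp [toK, map_classSum, classBar])

@[simp] theorem omegaBar_classBar (χ : IrrCharacter G) (g : G) :
    omegaBar M χ (classBar M g) = centralRes M χ g := by
  rw [← toKC_classSum, omegaBar_toKC, omegaRes_classSum]

theorem omegaBar_algebraMap (χ : IrrCharacter G) (c : ResField M) :
    omegaBar M χ (algebraMap (ResField M) _ c) = c := by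
  obtain ⟨c, rfl⟩ := res_surjective c
  rw [show algebraMap (ResField M) (ZK M G) (res M c) = toKC M (algebraMap (locRing M) _ c) from ?_,
    omegaBar_toKC, omegaRes_algebraMap]
  refine Subtype.ext (ga_ext fun g => ?_)
  simp only [coe_toKC, coeff_toK, Subalgebra.coe_algebraMap, MonoidAlgebra.coe_algebraMap,
    Function.comp_apply, Algebra.algebraMap_self, RingHom.id_apply, MonoidAlgebra.coeff_single,
    Finsupp.single_apply]
  by_cases hg : (1 : G) = g <;> simp [hg]

theorem omegaBar_eq_of_sameBlock {χ ψ : IrrCharacter G}
    (h : SameBlock M (χ : G → ℂ) (ψ : G → ℂ)) : omegaBar M χ = omegaBar M ψ := by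
  refine RingHom.ext fun z => ?_
  obtain ⟨z, rfl⟩ := toKC_surjective z
  rw [omegaBar_toKC, omegaBar_toKC, sameBlock_iff_omegaRes.mp h]

theorem sameBlock_iff_omegaBar {χ ψ : IrrCharacter G} :
    SameBlock M (χ : G → ℂ) (ψ : G → ℂ) ↔ omegaBar M χ = omegaBar M ψ :=
  ⟨omegaBar_eq_of_sameBlock, fun h => sameBlock_iff_centralRes.mpr fun g => by
    rw [← omegaBar_classBar, h, omegaBar_classBar]⟩

theorem omegaBar_eq_of_mem {B : Set (IrrCharacter G)} (hB : IsPBlock M B) {χ ψ : IrrCharacter G}
    (hχ : χ ∈ B) (hψ : ψ ∈ B) : omegaBar M χ = omegaBar M ψ :=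
  omegaBar_eq_of_sameBlock ((isPBlock_sameBlock hB hχ).mp hψ)

variable (M) in
/-- The reduced idempotent of a union of blocks. -/
noncomputable def blockBar (S : Set (IrrCharacter G)) : ZK M G := toKC M (blockIdem M S)

@[simp] theorem coeff_blockBar (S : Set (IrrCharacter G)) (g : G) :
    (blockBar M S : MonoidAlgebra (ResField M) G).coeff g = coeffRes M S g := by
  simp [blockBar, coeffRes]

theorem blockBar_mul_self (hM : IsPModular p M) {S : Set (IrrCharacter G)}
    (hS : IsBlockUnion M S) : blockBar M S * blockBar M S = blockBar M S := by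
  rw [blockBar, ← map_mul, blockIdem_mul_self hM hS]

theorem omegaBar_blockBar (hM : IsPModular p M) {S : Set (IrrCharacter G)}
    (hS : IsBlockUnion M S) (χ : IrrCharacter G) :
    omegaBar M χ (blockBar M S) = @ite _ (χ ∈ S) (Classical.propDecidable _) 1 0 := by
  rw [blockBar, omegaBar_toKC, omegaRes, RingHom.comp_apply, omegaLoc_blockIdem hM hS]
  split_ifs <;> simp

/-- An element killed by all reduced central characters is nilpotent. -/
theorem isNilpotent_of_omegaBar (hM : IsPModular p M) {z : ZK M G}
    (hz : ∀ χ, omegaBar M χ z = 0) : IsNilpotent z := by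
  obtain ⟨w, rfl⟩ := toKC_surjective z
  obtain ⟨N, hN⟩ := toK_pow_eq_zero hM (z := w) fun χ => by rw [← omegaBar_toKC]; exact hz χ
  exact ⟨N, Subtype.ext (by rw [SubmonoidClass.coe_pow, coe_toKC, hN]; rfl)⟩

theorem eq_of_omegaBar_eq_of_idem (hM : IsPModular p M) {a b : ZK M G} (ha : a * a = a)
    (hb : b * b = b) (h : ∀ χ, omegaBar M χ a = omegaBar M χ b) : a = b := by
  have key : ∀ {x y : ZK M G}, x * x = x → y * y = y →
      (∀ χ, omegaBar M χ x = omegaBar M χ y) → x * y = x := by
    intro x y hx hy hxy
    obtain ⟨N, hN⟩ := isNilpotent_of_omegaBar hM (z := x * (1 - y)) fun χ => by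
      rw [map_mul, map_sub, map_one, ← hxy χ]
      have h1 : omegaBar M χ x * omegaBar M χ x = omegaBar M χ x := by rw [← map_mul, hx]
      rw [mul_sub, mul_one, h1, sub_self]
    have hid : IsIdempotentElem (x * (1 - y)) := by
      show _ = _
      calc x * (1 - y) * (x * (1 - y)) = (x * x) * ((1 - y) * (1 - y)) := by ring
        _ = x * (1 - y) := by rw [hx, show (1 - y) * (1 - y) = 1 - 2 * y + y * y by ring, hy]; ring
    have h0 : x * (1 - y) = 0 := by
      rw [← hid.pow_succ_eq N, pow_succ, hN, zero_mul]
    rwa [mul_sub, mul_one, sub_eq_zero, eq_comm] at h0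
  rw [← key ha hb h, mul_comm]
  exact key hb ha fun χ => (h χ).symm

/-- Every homomorphism from the centre to the residue field is a reduced central character. -/
theorem exists_omegaBar_eq (hM : IsPModular p M) (φ : ZK M G →+* ResField M)
    (hφ : ∀ c : ResField M, φ (algebraMap (ResField M) _ c) = c) :
    ∃ χ : IrrCharacter G, φ = omegaBar M χ := by
  classical
  have := Fintype.ofFinite (IrrCharacter G)
  have hex : ∃ χ : IrrCharacter G, φ (blockBar M (blockOf M (χ : G → ℂ))) ≠ 0 := by
    by_contra hall
    push Not at hall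
    have h1 : (1 : ZK M G) = 1 - ∏ χ : IrrCharacter G, (1 - blockBar M (blockOf M (χ : G → ℂ))) := by
      refine eq_of_omegaBar_eq_of_idem hM (mul_one 1) ?_ fun ψ => ?_
      · have hid : IsIdempotentElem (∏ χ : IrrCharacter G, (1 - blockBar M (blockOf M (χ : G → ℂ)))) :=
          Finset.prod_induction _ IsIdempotentElem (fun a b ha hb => ha.mul hb) IsIdempotentElem.one
            fun χ _ => IsIdempotentElem.one_sub
              (blockBar_mul_self hM (IsBlockUnion.of_isPBlock (isPBlock_blockOf χ)))
        exact hid.one_sub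
      · rw [map_one, map_sub, map_one, map_prod, Finset.prod_eq_zero (Finset.mem_univ ψ), sub_zero]
        rw [map_sub, map_one, omegaBar_blockBar hM (IsBlockUnion.of_isPBlock (isPBlock_blockOf ψ)),
          if_pos (self_mem_blockOf ψ), sub_self]
    have h2 := congrArg φ h1
    rw [map_one, map_sub, map_one, map_prod, Finset.prod_eq_one, sub_self] at h2
    · exact one_ne_zero h2
    · intro χ _
      rw [map_sub, map_one, hall χ, sub_zero]
  obtain ⟨χ, hχ⟩ := hex
  refine ⟨χ, RingHom.ext fun z => ?_⟩
  have hS := IsBlockUnion.of_isPBlock (isPBlock_blockOf (M := M) χ)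
  have he : φ (blockBar M (blockOf M (χ : G → ℂ))) = 1 := by
    have h := congrArg φ (blockBar_mul_self hM hS)
    rw [map_mul] at h
    exact mul_right_cancel₀ hχ (h.trans (one_mul _).symm)
  let w := (z - algebraMap (ResField M) _ (omegaBar M χ z)) * blockBar M (blockOf M (χ : G → ℂ))
  have hw : IsNilpotent w := isNilpotent_of_omegaBar hM fun ψ => by
    rw [map_mul, map_sub, omegaBar_algebraMap, omegaBar_blockBar hM hS]
    split_ifs with hψ
    · rw [omegaBar_eq_of_sameBlock hψ, sub_self, zero_mul]
    · rw [mul_zero]
  have := (hw.map φ).eq_zero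
  rw [map_mul, map_sub, hφ, he, mul_one, sub_eq_zero] at this
  exact this

/-! ### The Brauer homomorphism -/

variable {P H : Subgroup G} [Fintype H]

variable (M P H) in
/-- The truncation to the centralizer of `P`, read in the group algebra of `H`. -/
noncomputable def brFun (z : MonoidAlgebra (ResField M) G) : MonoidAlgebra (ResField M) H :=
  gaOfFun fun h => @ite _ ((h : G) ∈ Subgroup.centralizer (P : Set G)) (Classical.propDecidable _)
    (z.coeff (h : G)) 0

variable (M) in
/-- The Brauer homomorphism at `P` into the centre for `H`, where `C(P) ≤ H ≤ N(P)`. -/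
noncomputable def brMap (hM : IsPModular p M) (hP : IsPGroup p P)
    (hC : Subgroup.centralizer (P : Set G) ≤ H) (hN : H ≤ Subgroup.normalizer (P : Set G)) :
    ZK M G →+* ZK M H where
  toFun z := ⟨brFun M P H (z : MonoidAlgebra (ResField M) G), mem_center_iff_isClassElt.mpr fun g h => by
    classical
    have key : ((h * g * h⁻¹ : H) : G) ∈ Subgroup.centralizer (P : Set G) ↔
        (g : G) ∈ Subgroup.centralizer (P : Set G) := by
      have hn := hN h.2
      constructor
      · intro hc
        rw [Subgroup.mem_centralizer_iff] at hc ⊢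
        intro u hu
        have := hc _ ((Subgroup.mem_normalizer_iff.mp hn u).mp hu)
        simp only [Subgroup.coe_mul, InvMemClass.coe_inv] at this
        calc u * (g : G) = (h : G)⁻¹ * (((h : G) * u * (h : G)⁻¹) * ((h : G) * g * (h : G)⁻¹)) * h := by group
          _ = (h : G)⁻¹ * (((h : G) * g * (h : G)⁻¹) * ((h : G) * u * (h : G)⁻¹)) * h := by rw [this]
          _ = (g : G) * u := by group
      · intro hc
        rw [Subgroup.mem_centralizer_iff] at hc ⊢
        intro u hu
        have := hc _ ((Subgroup.mem_normalizer_iff''.mp hn u).mp hu)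
        simp only [Subgroup.coe_mul, InvMemClass.coe_inv]
        calc u * ((h : G) * g * (h : G)⁻¹) = h * (((h : G)⁻¹ * u * h) * g) * (h : G)⁻¹ := by group
          _ = h * (g * ((h : G)⁻¹ * u * h)) * (h : G)⁻¹ := by rw [this]
          _ = (h : G) * g * (h : G)⁻¹ * u := by group
    simp only [brFun, coeff_gaOfFun]
    by_cases hg : (g : G) ∈ Subgroup.centralizer (P : Set G)
    · rw [if_pos hg, if_pos (key.mpr hg)]
      simpa using mem_center_iff_isClassElt.mp z.2 (g : G) (h : G)
    · rw [if_neg hg, if_neg (mt key.mp hg)]⟩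
  map_one' := Subtype.ext (ga_ext fun g => by
    classical
    simp only [brFun, coeff_gaOfFun, OneMemClass.coe_one, MonoidAlgebra.one_def,
      MonoidAlgebra.coeff_single, Finsupp.single_apply]
    by_cases hg : (1 : H) = g
    · subst hg; simp
    · have : ¬ (1 : G) = (g : G) := fun e => hg (Subtype.ext e)
      simp [hg, this])
  map_zero' := Subtype.ext (ga_ext fun g => by classical simp [brFun])
  map_add' a b := Subtype.ext (ga_ext fun g => by
    classical
    simp only [brFun, coeff_gaOfFun, Subalgebra.coe_add, MonoidAlgebra.coeff_add, Finsupp.add_apply]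
    split_ifs <;> simp)
  map_mul' a b := Subtype.ext (ga_ext fun g => by
    classical
    have hpf : Fact p.Prime := ⟨hM.1⟩
    have := charP_resField hM
    have hinv : ∀ (z : ZK M G), ∀ u ∈ P, ∀ x,
        (z : MonoidAlgebra (ResField M) G).coeff (u * x * u⁻¹) =
          (z : MonoidAlgebra (ResField M) G).coeff x :=
      fun z u _ x => mem_center_iff_isClassElt.mp z.2 x u
    simp only [MulMemClass.coe_mul, brFun, coeff_gaOfFun]
    rw [coeff_mul_sum (gaOfFun _) (gaOfFun _)]
    simp only [coeff_gaOfFun, Subgroup.coe_mul, InvMemClass.coe_inv, ite_mul, zero_mul]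
    by_cases hg : (g : G) ∈ Subgroup.centralizer (P : Set G)
    · rw [if_pos hg, coeff_mul_brauer (p := p) hP (hinv a) (hinv b) hg, ← Finset.sum_filter]
      symm
      refine Finset.sum_bij (fun h _ => (h : G)) (fun h hh => ?_) (fun _ _ _ _ h => Subtype.ext h)
        (fun h hh => ?_) (fun h hh => ?_)
      · simpa using hh
      · have hh' := (Finset.mem_filter.mp hh).2
        exact ⟨⟨h, hC hh'⟩, by simpa using hh', rfl⟩
      · rw [if_pos]
        exact (Subgroup.centralizer (P : Set G)).mul_mem
          ((Subgroup.centralizer (P : Set G)).inv_mem (by simpa using hh)) hg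
    · rw [if_neg hg]
      symm
      refine Finset.sum_eq_zero fun h _ => ?_
      split_ifs with h1 h2
      · exact absurd (by simpa using (Subgroup.centralizer (P : Set G)).mul_mem h1 h2) hg
      · rw [mul_zero]
      · rfl)

theorem coeff_brMap (hM : IsPModular p M) (hP : IsPGroup p P)
    (hC : Subgroup.centralizer (P : Set G) ≤ H) (hN : H ≤ Subgroup.normalizer (P : Set G))
    (z : ZK M G) (h : H) :
    ((brMap M hM hP hC hN z : ZK M H) : MonoidAlgebra (ResField M) H).coeff h =
      @ite _ ((h : G) ∈ Subgroup.centralizer (P : Set G)) (Classical.propDecidable _)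
        ((z : MonoidAlgebra (ResField M) G).coeff (h : G)) 0 := rfl

theorem brMap_algebraMap (hM : IsPModular p M) (hP : IsPGroup p P)
    (hC : Subgroup.centralizer (P : Set G) ≤ H) (hN : H ≤ Subgroup.normalizer (P : Set G))
    (c : ResField M) :
    brMap M hM hP hC hN (algebraMap (ResField M) _ c) = algebraMap (ResField M) _ c := by
  classical
  refine Subtype.ext (ga_ext fun g => ?_)
  rw [coeff_brMap]
  simp only [Subalgebra.coe_algebraMap, MonoidAlgebra.coe_algebraMap, Function.comp_apply,
    Algebra.algebraMap_self, RingHom.id_apply, MonoidAlgebra.coeff_single, Finsupp.single_apply]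
  by_cases hg : (1 : H) = g
  · subst hg; simp
  · have : ¬ (1 : G) = (g : G) := fun e => hg (Subtype.ext e)
    simp [hg, this]

end CfsgLib.Block
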