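import Cfsg.Agent.Lib.Block.Glauberman
import Cfsg.Agent.Lib.Block.CoveringMax
import Cfsg.Agent.Lib.Block.Fusion
import Cfsg.Agent.Lib.Block.Principal
import Cfsg.Agent.Lib.Block.Reduced
import Cfsg.Agent.Lib.Coprime.Action
import Cfsg.Agent.Lib.Coprime.Core

/-!
# The block over a stable character of a normal subgroup of order prime to `p`

The characters over a stable `θ` of a normal `p'`-subgroup `N` form a union of blocks with idempotent
that of `θ`; it is a single block when the regular centralizer of some `p`-subgroup `U` with `N U`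
normal lies in `N`, and the Brauer image at a `p`-subgroup `R` is then the block over the
Glauberman correspondent.
-/

open Finset MonoidAlgebra
open scoped ComplexConjugate

set_option linter.unusedSectionVars false

namespace CfsgLib.Block.CoprimeCover

open Cfsg CfsgLib.Block
open scoped Pair

universe u

variable {p : ℕ} [Fact p.Prime] {M : Ideal AlgInt} [M.IsMaximal] {G : Type u} [Group G] [Fintype G]
  [DecidableEq G] {N : Subgroup G} [hNn : N.Normal] [Fintype N]

/-- The characters over a character of a subgroup. -/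
def overSet (θ : IrrCharacter N) : Set (IrrCharacter G) :=
  {χ | classInner (fun n : N => (χ : G → ℂ) n) (θ : N → ℂ) ≠ 0}

theorem isBlockUnion_overSet (hM : IsPModular p M) (hN : ¬ p ∣ Nat.card N) (θ : IrrCharacter N) :
    IsBlockUnion M (overSet θ) :=
  fun _ hχ _ hψ => constituent_iff_of_sameBlock hM hN hψ θ hχ

theorem overSet_nonempty (hM : IsPModular p M) (hN : ¬ p ∣ Nat.card N) (θ : IrrCharacter N) :
    (overSet θ).Nonempty := by
  obtain ⟨B, -, χ, -, θ', hθ', hc⟩ := exists_covers (G := G) (M := M)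
    (Glauberman.singleton_isPBlock hM hN θ)
  rw [Set.mem_singleton_iff] at hθ'
  exact ⟨χ, hθ' ▸ hc⟩

/-- In `p`-power index there is one block over a character. -/
theorem isPBlock_overSet_of_ppow (hM : IsPModular p M) (hN : ¬ p ∣ Nat.card N)
    (hidx : ∃ k : ℕ, N.index = p ^ k) (θ : IrrCharacter N) : IsPBlock M (overSet θ) := by
  obtain ⟨χ, hχ⟩ := overSet_nonempty hM hN θ
  exact ⟨χ, Set.ext fun ψ => ⟨fun h =>
      (sameBlock_iff_common_constituent hM hN hidx χ ψ).mpr ⟨θ, hχ, h⟩,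
    fun h => isBlockUnion_overSet hM hN θ χ hχ ψ h⟩⟩

theorem cinv_eG_singleton {θ : IrrCharacter N} (hst : ∀ g : G, cjN g θ = θ) :
    CInv ⊤ (eG M ({θ} : Set (IrrCharacter N))) := by
  have e : orbSet (G := G) ({θ} : Set (IrrCharacter N)) = {θ} := by
    ext η
    refine ⟨fun ⟨g, hg⟩ => ?_, fun h => subset_orbSet _ h⟩
    rw [Set.mem_singleton_iff] at hg ⊢
    have h1 := congrArg (cjN (g⁻¹)) hg
    rwa [cjN_cjN, inv_mul_cancel, cjN_one, hst] at h1
  have h := cinv_eG_orbSet (M := M) (G := G) ({θ} : Set (IrrCharacter N))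
  rwa [e] at h

/-- The idempotent over a stable character is that of the character. -/
theorem coe_blockBar_overSet (hM : IsPModular p M) (hN : ¬ p ∣ Nat.card N) {θ : IrrCharacter N}
    (hst : ∀ g : G, cjN g θ = θ) :
    (blockBar M (overSet (G := G) θ) : MonoidAlgebra (ResField M) G) =
      eG M ({θ} : Set (IrrCharacter N)) := by
  classical
  have hb := Glauberman.singleton_isPBlock hM hN θ
  set z := zkOf M _ (cinv_eG_singleton (M := M) hst) with hz
  suffices h : blockBar M (overSet (G := G) θ) = z by rw [h]; rfl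
  have hU := isBlockUnion_overSet (G := G) hM hN θ
  refine eq_of_omegaBar_eq_of_idem hM (blockBar_mul_self hM hU) (Subtype.ext ?_) fun χ => ?_
  · rw [MulMemClass.coe_mul, hz, coe_zkOf, eG_mul_self hM hb]
  rw [omegaBar_blockBar hM hU]
  split_ifs with h
  · rw [omegaBar_eq_omG_of_constituent χ θ h z (suppIn_eG _), hz, coe_zkOf, omG_eG hM hb,
      if_pos (Set.mem_singleton θ)]
  · obtain ⟨η, hη⟩ := exists_constituent (N := N) χ
    rw [omegaBar_eq_omG_of_constituent χ η hη z (suppIn_eG _), hz, coe_zkOf, omG_eG hM hb, if_neg]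
    exact fun h' => h (Set.mem_singleton_iff.mp h' ▸ hη)

theorem gInv_of_stable {θ : IrrCharacter N} (hst : ∀ g : G, cjN g θ = θ) (S : Subgroup G) :
    Glauberman.GInv N S (θ : N → ℂ) := by
  intro s _ n n' he
  have h := congrFun (congrArg Subtype.val (hst s)) n'
  rw [cjN_apply] at h
  rw [← h]
  exact congrArg _ (Subtype.ext (show s⁻¹ * (n' : G) * s = n by rw [he]; group))

theorem exists_coeff_overSet (hM : IsPModular p M) (hN : ¬ p ∣ Nat.card N) {θ : IrrCharacter N}
    (hst : ∀ g : G, cjN g θ = θ) {S : Subgroup G} (hS : IsPGroup p S) :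
    ∃ x ∈ Subgroup.centralizer (S : Set G), coeffRes M (overSet (G := G) θ) x ≠ 0 := by
  classical
  set C := N ⊓ Subgroup.centralizer (S : Set G) with hC
  obtain ⟨β, hβ, -⟩ := Glauberman.existsUnique_down hC hM hS (fun s _ n hn => hNn.conj_mem n hn s) hN
    (gInv_of_stable hst S)
  by_contra hall
  push Not at hall
  rw [omG_congr β (y' := 0) fun g hg => ?_, omG_zero] at hβ
  · exact zero_ne_one hβ
  · rw [← coe_blockBar_overSet hM hN hst, coeff_blockBar, hall g hg.2]
    simp

/-- The block over a stable character has full defect. -/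
theorem isDefectGroup_of_not_dvd_index (hM : IsPModular p M) (hN : ¬ p ∣ Nat.card N)
    {θ : IrrCharacter N} (hst : ∀ g : G, cjN g θ = θ) (hB : IsPBlock M (overSet (G := G) θ))
    {S : Subgroup G} (hS : IsPGroup p S) (hS' : ¬ p ∣ S.index) :
    IsDefectGroup p M (overSet (G := G) θ) S := by
  obtain ⟨D, hD⟩ := exists_defectGroup hM hB
  obtain ⟨x, hx, hxc⟩ := exists_coeff_overSet hM hN hst hS
  refine isDefectGroup_of_conjLE_card hM hB hD (coeff_ne_zero_le_defect hM hB hD hS hxc fun u hu =>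
    Subgroup.mem_centralizer_iff.mp hx u hu) ?_
  obtain ⟨T, hT⟩ := (isPGroup_defectGroup hM hB hD).exists_le_sylow
  have hc : Nat.card S = Nat.card (T : Subgroup G) := by
    rw [T.card_eq_multiplicity, ← (hS.toSylow hS').card_eq_multiplicity, IsPGroup.toSylow_coe]
  exact (Subgroup.card_le_of_le hT).trans_eq hc.symm

theorem classInner_subgroupOf {L : Subgroup G} (hNL : N ≤ L) [Fintype (N.subgroupOf L)]
    (f : G → ℂ) (φ : N → ℂ) :
    classInner (fun n : N.subgroupOf L => f ((n : L) : G))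
      (fun n : N.subgroupOf L => φ (Subgroup.subgroupOfEquivOfLe hNL n)) =
        classInner (fun n : N => f n) φ := by
  unfold classInner
  rw [Nat.card_congr (Subgroup.subgroupOfEquivOfLe hNL).toEquiv]
  congr 1
  exact Fintype.sum_equiv (Subgroup.subgroupOfEquivOfLe hNL).toEquiv _ _ fun n => rfl

theorem blockBar_mul_of_subset (hM : IsPModular p M) {A : Type u} [Group A] [Fintype A]
    [DecidableEq A] {B : Set (IrrCharacter A)} (hB : IsPBlock M B) {S : Set (IrrCharacter A)}
    (hS : IsBlockUnion M S) (h : B ⊆ S) : blockBar M B * blockBar M S = blockBar M B := by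
  classical
  refine eq_of_omegaBar_eq_of_idem hM ?_ (blockBar_mul_self hM (.of_isPBlock hB)) fun ξ => ?_
  · rw [mul_mul_mul_comm, blockBar_mul_self hM (.of_isPBlock hB), blockBar_mul_self hM hS]
  · rw [map_mul, omegaBar_blockBar hM (.of_isPBlock hB), omegaBar_blockBar hM hS]
    split_ifs with h1 h2 <;> try simp
    exact h2 (h h1)

theorem blockBar_mul_of_ne (hM : IsPModular p M) {A : Type u} [Group A] [Fintype A] [DecidableEq A]
    {B B' : Set (IrrCharacter A)} (hB : IsPBlock M B) (hB' : IsPBlock M B') (h : B ≠ B') :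
    blockBar M B * blockBar M B' = 0 := by
  classical
  refine eq_of_omegaBar_eq_of_idem hM ?_ (mul_zero 0) fun ξ => ?_
  · rw [mul_mul_mul_comm, blockBar_mul_self hM (.of_isPBlock hB),
      blockBar_mul_self hM (.of_isPBlock hB')]
  · rw [map_mul, map_zero, omegaBar_blockBar hM (.of_isPBlock hB),
      omegaBar_blockBar hM (.of_isPBlock hB')]
    split_ifs with h1 h2 <;> try simp
    exact h (isPBlock_eq_of_mem hB hB' h1 h2)

/-- A `p`-subgroup `U` with `N U` normal meets the support of every block over `θ`. -/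
theorem exists_coeff_of_normal_sup (hM : IsPModular p M) (hN : ¬ p ∣ Nat.card N)
    {θ : IrrCharacter N} (hst : ∀ g : G, cjN g θ = θ) {U : Subgroup G} (hU : IsPGroup p U)
    [hLn : (N ⊔ U).Normal] {χ : IrrCharacter G} (hχ : χ ∈ overSet θ) :
    ∃ x ∈ Subgroup.centralizer (U : Set G), coeffRes M (blockOf M (χ : G → ℂ)) x ≠ 0 := by
  classical
  set L := N ⊔ U with hL
  have hNL : N ≤ L := le_sup_left
  have hUL : U ≤ L := le_sup_right
  set e := Subgroup.subgroupOfEquivOfLe hNL with he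
  have := Fintype.ofFinite (N.subgroupOf L)
  set θL : IrrCharacter (N.subgroupOf L) := irrEquiv e.symm θ with hθL
  have hN' : ¬ p ∣ Nat.card (N.subgroupOf L) := by rwa [Nat.card_congr e.toEquiv]
  have hdisj : N ⊓ U = ⊥ := by
    obtain ⟨k, hk⟩ := IsPGroup.iff_card.mp hU
    refine Subgroup.inf_eq_bot_of_coprime ?_
    rw [hk]
    exact Nat.Coprime.pow_right _ ((Nat.Prime.coprime_iff_not_dvd hM.1).mpr hN).symm
  have hrel : N.relIndex L = Nat.card U := by
    rw [hL, sup_comm, Subgroup.relIndex_sup_right, ← Subgroup.inf_relIndex_right, hdisj,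
      Subgroup.relIndex_bot_left]
  have hidx : ∃ k : ℕ, (N.subgroupOf L).index = p ^ k :=
    (IsPGroup.iff_card.mp hU).imp fun k hk => (show N.relIndex L = p ^ k by rw [hrel, hk])
  have hstL : ∀ l : L, cjN l θL = θL := fun l => by
    refine Subtype.ext (funext fun n => ?_)
    rw [cjN_apply, hθL, irrEquiv_apply, irrEquiv_apply]
    have h := congrFun (congrArg Subtype.val (hst (l : G))) (e n)
    rw [cjN_apply] at h
    rw [MulEquiv.symm_symm]
    exact (congrArg _ (Subtype.ext (by simp [he]))).trans h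
  have hb := isPBlock_overSet_of_ppow hM hN' hidx θL
  have hUp : IsPGroup p (U.subgroupOf L) := hU.of_equiv (Subgroup.subgroupOfEquivOfLe hUL).symm
  have hUi : ¬ p ∣ (U.subgroupOf L).index := by
    have h1 : U.relIndex L * Nat.card U = Nat.card L := by
      rw [mul_comm, ← Subgroup.relIndex_bot_left, ← Subgroup.relIndex_bot_left,
        Subgroup.relIndex_mul_relIndex _ _ _ bot_le hUL]
    have h2 : N.relIndex L * Nat.card N = Nat.card L := by
      rw [mul_comm, ← Subgroup.relIndex_bot_left, ← Subgroup.relIndex_bot_left,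
        Subgroup.relIndex_mul_relIndex _ _ _ bot_le hNL]
    rw [hrel, mul_comm] at h2
    have h3 : U.relIndex L = Nat.card N :=
      Nat.eq_of_mul_eq_mul_right Nat.card_pos (h1.trans h2.symm)
    show ¬ p ∣ U.relIndex L
    rw [h3]
    exact hN
  have hcov : Covers (blockOf M (χ : G → ℂ)) (overSet θL) := by
    refine ⟨χ, self_mem_blockOf χ, ?_⟩
    by_contra hall
    push Not at hall
    refine hχ ?_
    have := Fintype.ofFinite (IrrCharacter L)
    have hcf : IsClassFunction L (fun l : L => (χ : G → ℂ) l) :=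
      fun a b => Char.isClassFunction_irr χ (a : G) (b : G)
    have h1 : (fun n : N.subgroupOf L => (χ : G → ℂ) ((n : L) : G)) =
        ∑ η : IrrCharacter L, classInner (fun l : L => (χ : G → ℂ) l) (η : L → ℂ) •
          fun n : N.subgroupOf L => (η : L → ℂ) n := by
      funext n
      have h := congrFun (Char.classFun_expand hcf) (n : L)
      rw [Finset.sum_apply] at h ⊢
      exact h
    have h2 := classInner_subgroupOf hNL (χ : G → ℂ) (θ : N → ℂ)
    rw [h1, Char.classInner_sum_left, Finset.sum_eq_zero] at h2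
    · exact h2.symm
    · intro η _
      rw [Char.classInner_smul_left]
      by_cases hη : η ∈ overSet θL
      · rw [hall η hη, zero_mul]
      · rw [show classInner (fun n : N.subgroupOf L => (η : L → ℂ) n)
            (fun n : N.subgroupOf L => (θ : N → ℂ) (e n)) = 0 from not_not.mp hη, mul_zero]
  exact Covers.exists_coeff_ne_zero hM (isPBlock_blockOf χ) hb hcov hUL
    (isDefectGroup_of_not_dvd_index hM hN' hstL hb hUp hUi)

/-- The characters over a stable character form one block when the regular centralizer of a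
`p`-subgroup with normal product lies in the kernel. -/
theorem isPBlock_overSet (hM : IsPModular p M) (hN : ¬ p ∣ Nat.card N) {θ : IrrCharacter N}
    (hst : ∀ g : G, cjN g θ = θ) {U : Subgroup G} (hU : IsPGroup p U) [(N ⊔ U).Normal]
    (hreg : ∀ x ∈ Subgroup.centralizer (U : Set G), ¬ p ∣ orderOf x → x ∈ N) :
    IsPBlock M (overSet (G := G) θ) := by
  classical
  set C := N ⊓ Subgroup.centralizer (U : Set G) with hC
  have hb := Glauberman.singleton_isPBlock hM hN θ
  have hnorm : ∀ s ∈ U, ∀ n ∈ N, s * n * s⁻¹ ∈ N := fun s _ n hn => hNn.conj_mem n hn s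
  have hinv := gInv_of_stable hst U
  have hge := Glauberman.good_eG (M := M) hC hnorm hinv
  have hCU : C ≤ Subgroup.normalizer (U : Set G) := inf_le_right.trans (centralizer_le_normalizer' U)
  have hUnion := isBlockUnion_overSet (G := G) hM hN θ
  set e : MonoidAlgebra (ResField M) G := eG M ({θ} : Set (IrrCharacter N)) with he
  let y : IrrCharacter G → MonoidAlgebra (ResField M) G :=
    fun χ => (blockBar M (blockOf M (χ : G → ℂ)) : MonoidAlgebra (ResField M) G)
  have hye : ∀ χ ∈ overSet (G := G) θ, y χ * e = y χ := fun χ hχ => by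
    rw [he, ← coe_blockBar_overSet hM hN hst, ← MulMemClass.coe_mul,
      blockBar_mul_of_subset hM (isPBlock_blockOf χ) hUnion fun ψ hψ => hUnion χ hχ ψ hψ]
  have hys : ∀ χ, SuppIn C (trC U (y χ)) := fun χ g hg => by
    by_cases hgU : g ∈ Subgroup.centralizer (U : Set G)
    · rw [coeff_trC _ hgU, coeff_blockBar]
      by_contra hne
      exact hg ⟨hreg g hgU
        (regular_of_coeffRes_ne_zero hM (.of_isPBlock (isPBlock_blockOf χ)) hne), hgU⟩
    · exact suppIn_trC _ g hgU
  have hyc : ∀ χ, CInv C (trC U (y χ)) := fun χ => (cinv_of_central _ C).trC hCU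
  have htr : ∀ (β : IrrCharacter C) (w : MonoidAlgebra (ResField M) G),
      omG M β (trC U w) = omG M β w := fun β w => omG_congr β fun g hg => coeff_trC _ hg.2
  have key : ∀ χ ∈ overSet (G := G) θ, ∃ β : IrrCharacter C,
      omG M β (trC U (y χ)) = 1 ∧ omG M β e = 1 := by
    intro χ hχ
    obtain ⟨x, hx, hxc⟩ := exists_coeff_of_normal_sup hM hN hst hU hχ
    have hid : trC U (y χ) * trC U (y χ) = trC U (y χ) := by
      rw [← trC_mul hM hU (cinv_of_central _ U) (cinv_of_central _ U), ← MulMemClass.coe_mul,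
        blockBar_mul_self hM (.of_isPBlock (isPBlock_blockOf χ))]
    obtain ⟨β, hβ⟩ := exists_omG_eq_one hM (hys χ) (hyc χ) hid (g := x)
      (by rwa [coeff_trC _ hx, coeff_blockBar])
    refine ⟨β, hβ, ?_⟩
    have h := hβ
    rw [← hye χ hχ, trC_mul hM hU (cinv_of_central (blockBar M (blockOf M (χ : G → ℂ))) U) hge.cinvS] at h
    rw [omG_mul β (hys χ) (hge.trC hC).1 (hyc χ) (hge.trC hC).2, hβ, one_mul, htr] at h
    exact h
  obtain ⟨χ₀, hχ₀⟩ := overSet_nonempty (G := G) hM hN θ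
  refine ⟨χ₀, Set.ext fun ψ => ⟨fun hψ => ?_, fun h => hUnion χ₀ hχ₀ ψ h⟩⟩
  obtain ⟨β, hβ, hβe⟩ := key χ₀ hχ₀
  obtain ⟨β', hβ', hβe'⟩ := key ψ hψ
  obtain rfl := (Glauberman.existsUnique_down hC hM hU hnorm hN hinv).unique hβe hβe'
  by_contra hne
  have h := omG_mul β (hys χ₀) (hys ψ) (hyc χ₀) (hyc ψ)
  rw [hβ, hβ', one_mul, ← trC_mul hM hU (cinv_of_central _ U) (cinv_of_central _ U), htr,
    ← MulMemClass.coe_mul, blockBar_mul_of_ne hM (isPBlock_blockOf χ₀) (isPBlock_blockOf ψ)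
      fun e' => hne (e' ▸ self_mem_blockOf ψ), ZeroMemClass.coe_zero, omG_zero] at h
  exact zero_ne_one h

/-- The truncation of the idempotent of a stable character is that of its correspondent. -/
theorem trC_eG_eq (hM : IsPModular p M) (hN : ¬ p ∣ Nat.card N) {θ : IrrCharacter N}
    (hst : ∀ g : G, cjN g θ = θ) {S C : Subgroup G} (hC : C = N ⊓ Subgroup.centralizer (S : Set G))
    (hS : IsPGroup p S) {β : IrrCharacter C}
    (hβ : omG M β (eG M ({θ} : Set (IrrCharacter N))) = 1) :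
    trC S (eG M ({θ} : Set (IrrCharacter N))) = eG M ({β} : Set (IrrCharacter C)) := by
  classical
  have hnorm : ∀ s ∈ S, ∀ n ∈ N, s * n * s⁻¹ ∈ N := fun s _ n hn => hNn.conj_mem n hn s
  have hinv := gInv_of_stable hst S
  have hpC : ¬ p ∣ Nat.card C :=
    fun h' => hN (h'.trans (Subgroup.card_dvd_of_le (hC ▸ inf_le_left)))
  have hb := Glauberman.singleton_isPBlock hM hN θ
  have hb' := Glauberman.singleton_isPBlock hM hpC β
  have hge := Glauberman.good_eG (M := M) hC hnorm hinv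
  refine eq_eG_of_omG (K := C) hM hb' (hge.trC hC).1 (hge.trC hC).2
    (by rw [← trC_mul hM hS hge.cinvS hge.cinvS, eG_mul_self hM hb]) fun γ => ?_
  rw [Glauberman.omG_trC hC, omG_eG hM hb']
  split_ifs with hγ
  · rw [Set.mem_singleton_iff] at hγ; rw [hγ]; exact hβ
  · refine (Glauberman.omG_eG_01 hC hM hS hnorm hN hinv γ).resolve_right fun h1 => hγ ?_
    exact (Glauberman.existsUnique_down hC hM hS hnorm hN hinv).unique h1 hβ

section principalType

variable {Q : Subgroup G}

theorem eq_one_of_mem (hN : ¬ p ∣ Nat.card N) (hQ : IsPGroup p Q) {x : G} (hxN : x ∈ N)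
    (hxQ : x ∈ Q) : x = 1 := by
  obtain ⟨k, hk⟩ := IsPGroup.iff_card.mp hQ
  have h : N ⊓ Q = ⊥ := disjoint_iff.mp (Subgroup.disjoint_of_coprime_natCard (by
    rw [hk]
    exact Nat.Coprime.pow_right _ ((Nat.Prime.coprime_iff_not_dvd Fact.out).mpr hN).symm))
  exact Subgroup.mem_bot.mp (h ▸ Subgroup.mem_inf.mpr ⟨hxN, hxQ⟩)

theorem relIndex_sup_eq (hN : ¬ p ∣ Nat.card N) (hQ : IsPGroup p Q) :
    Q.relIndex (N ⊔ Q) = Nat.card N := by
  have hdisj : N ⊓ Q = ⊥ := (Subgroup.eq_bot_iff_forall _).mpr fun x hx =>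
    eq_one_of_mem hN hQ hx.1 hx.2
  have hrel : N.relIndex (N ⊔ Q) = Nat.card Q := by
    rw [sup_comm, Subgroup.relIndex_sup_right, ← Subgroup.inf_relIndex_right, hdisj,
      Subgroup.relIndex_bot_left]
  have h1 : Q.relIndex (N ⊔ Q) * Nat.card Q = Nat.card (N ⊔ Q : Subgroup G) := by
    rw [mul_comm, ← Subgroup.relIndex_bot_left, ← Subgroup.relIndex_bot_left,
      Subgroup.relIndex_mul_relIndex _ _ _ bot_le le_sup_right]
  have h2 : N.relIndex (N ⊔ Q) * Nat.card N = Nat.card (N ⊔ Q : Subgroup G) := by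
    rw [mul_comm, ← Subgroup.relIndex_bot_left, ← Subgroup.relIndex_bot_left,
      Subgroup.relIndex_mul_relIndex _ _ _ bot_le le_sup_left]
  rw [hrel, mul_comm] at h2
  exact Nat.eq_of_mul_eq_mul_right Nat.card_pos (h1.trans h2.symm)

/-- The regular elements of `N Q` lie in `N`. -/
theorem mem_of_regular_mem_sup (hQ : IsPGroup p Q) {x : G} (hx : x ∈ N ⊔ Q)
    (hreg : ¬ p ∣ orderOf x) : x ∈ N := by
  obtain ⟨k, hk, q, hq, rfl⟩ := Subgroup.mem_sup_of_normal_left.mp hx
  obtain ⟨j, hj⟩ := IsPGroup.iff_orderOf.mp hQ ⟨q, hq⟩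
  rw [← Subgroup.orderOf_coe] at hj
  have he : QuotientGroup.mk' N (k * q) = QuotientGroup.mk' N q := by
    rw [map_mul, show QuotientGroup.mk' N k = 1 from (QuotientGroup.eq_one_iff k).mpr hk, one_mul]
  have h1 : orderOf (QuotientGroup.mk' N (k * q)) ∣ orderOf (k * q) := orderOf_map_dvd _ _
  have h2 : orderOf (QuotientGroup.mk' N (k * q)) ∣ p ^ j := by
    rw [he]
    exact (orderOf_map_dvd _ _).trans (hj ▸ dvd_rfl)
  have h3 : orderOf (QuotientGroup.mk' N (k * q)) = 1 := Nat.dvd_one.mp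
    ((Nat.Coprime.pow_left j ((Nat.Prime.coprime_iff_not_dvd Fact.out).mpr hreg)).gcd_eq_one ▸
      Nat.dvd_gcd h2 h1)
  exact (QuotientGroup.eq_one_iff _).mp (orderOf_eq_one_iff.mp h3)

/-- An element acting trivially on `Q` modulo `N` lies in `N Q`. -/
theorem mem_sup_of_centralize_mod (hN : ¬ p ∣ Nat.card N) (hQ : IsPGroup p Q)
    [hLn : (N ⊔ Q).Normal] (hCQ : Subgroup.centralizer (Q : Set G) ≤ N ⊔ Q) {x : G}
    (hx : ∀ q ∈ Q, x * q * x⁻¹ * q⁻¹ ∈ N) : x ∈ N ⊔ Q := by
  classical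
  have hQL : Q ≤ N ⊔ Q := le_sup_right
  have hi : ¬ p ∣ (Q.subgroupOf (N ⊔ Q)).index := by
    show ¬ p ∣ Q.relIndex (N ⊔ Q)
    rwa [relIndex_sup_eq hN hQ]
  set P := (hQ.of_equiv (Subgroup.subgroupOfEquivOfLe hQL).symm).toSylow hi with hP
  have hPm : (P : Subgroup (N ⊔ Q : Subgroup G)).map (N ⊔ Q).subtype = Q := by
    rw [hP, IsPGroup.toSylow_coe, Subgroup.map_subgroupOf_eq_of_le hQL]
  have htop := Sylow.normalizer_sup_eq_top P
  have hxt : x ∈ Subgroup.normalizer
      ((((P : Subgroup (N ⊔ Q : Subgroup G)).map (N ⊔ Q).subtype : Subgroup G)) : Set G) ⊔ (N ⊔ Q) :=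
    htop ▸ Subgroup.mem_top x
  rw [hPm, sup_comm, Subgroup.mem_sup_of_normal_left] at hxt
  obtain ⟨l, hl, h, hh, rfl⟩ := hxt
  obtain ⟨k, hk, q₀, hq₀, rfl⟩ := Subgroup.mem_sup_of_normal_left.mp hl
  have hh' : q₀ * h ∈ Subgroup.normalizer (Q : Set G) := mul_mem (Subgroup.le_normalizer hq₀) hh
  have hc : q₀ * h ∈ Subgroup.centralizer (Q : Set G) := by
    rw [Subgroup.mem_centralizer_iff]
    intro q hq
    have h1 : (q₀ * h) * q * (q₀ * h)⁻¹ * q⁻¹ ∈ Q :=
      mul_mem ((Subgroup.mem_normalizer_iff.mp hh' q).mp hq) (inv_mem hq)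
    have h2 : (q₀ * h) * q * (q₀ * h)⁻¹ * q⁻¹ ∈ N := by
      rw [← QuotientGroup.eq_one_iff]
      have h3 := (QuotientGroup.eq_one_iff _).mpr (hx q hq)
      simp only [QuotientGroup.mk_mul, QuotientGroup.mk_inv, (QuotientGroup.eq_one_iff k).mpr hk,
        one_mul] at h3 ⊢
      exact h3
    exact (mul_inv_eq_iff_eq_mul.mp (mul_inv_eq_one.mp (eq_one_of_mem hN hQ h2 h1))).symm
  rw [mul_assoc]
  exact mul_mem (Subgroup.mem_sup_left hk) (hCQ hc)

/-- For a `p`-subgroup normalising `Q` exactly one block of the centralizer induces the block. -/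
theorem existsUnique_induced (hM : IsPModular p M) (hN : ¬ p ∣ Nat.card N) {θ : IrrCharacter N}
    (hst : ∀ g : G, cjN g θ = θ) (hB : IsPBlock M (overSet (G := G) θ)) (hQ : IsPGroup p Q)
    [hLn : (N ⊔ Q).Normal] (hCQ : Subgroup.centralizer (Q : Set G) ≤ N ⊔ Q)
    {R : Subgroup G} (hR : IsPGroup p R) (hRQ : ∀ r ∈ R, ∀ q ∈ Q, r * q * r⁻¹ ∈ Q) :
    ∃! f : Set (IrrCharacter (Subgroup.centralizer (R : Set G))),
      IsInducedBlock M (Subgroup.centralizer (R : Set G)) f (overSet (G := G) θ) := by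
  classical
  set H := Subgroup.centralizer (R : Set G) with hH
  set C := N ⊓ H with hC
  have hCH : C ≤ H := inf_le_right
  have hnorm : ∀ s ∈ R, ∀ n ∈ N, s * n * s⁻¹ ∈ N := fun s _ n hn => hNn.conj_mem n hn s
  have hinv := gInv_of_stable hst R
  obtain ⟨β, hβ, hβu⟩ := Glauberman.existsUnique_down (C := C) hC hM hR hnorm hN hinv
  have htr := trC_eG_eq hM hN hst hC hR hβ
  set e := Subgroup.subgroupOfEquivOfLe hCH with he
  have hN'n : (C.subgroupOf H).Normal := ⟨fun n hn h => by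
    rw [Subgroup.mem_subgroupOf] at hn ⊢
    exact ⟨by simpa using hNn.conj_mem _ hn.1 (h : G), (h * n * h⁻¹).2⟩⟩
  set θH : IrrCharacter (C.subgroupOf H) := irrEquiv e.symm β with hθH
  have hN' : ¬ p ∣ Nat.card (C.subgroupOf H) := by
    rw [Nat.card_congr e.toEquiv]
    exact fun h => hN (h.trans (Subgroup.card_dvd_of_le inf_le_left))
  have hst' : ∀ h : H, cjN h θH = θH := by
    intro h
    have hconj : ∀ g, g ∈ C ↔ (h : G) * g * (h : G)⁻¹ ∈ C := fun g => by
      refine ⟨fun hg => Subgroup.mem_inf.mpr ⟨hNn.conj_mem g hg.1 _,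
        mul_mem (mul_mem h.2 (Subgroup.mem_inf.mp hg).2) (inv_mem h.2)⟩, fun hg =>
        Subgroup.mem_inf.mpr ⟨by simpa [mul_assoc] using hNn.conj_mem _ hg.1 (h : G)⁻¹, ?_⟩⟩
      simpa [mul_assoc] using mul_mem (mul_mem (inv_mem h.2) (Subgroup.mem_inf.mp hg).2) h.2
    have hce : cj (h : G) (eG M ({θ} : Set (IrrCharacter N))) = eG M ({θ} : Set (IrrCharacter N)) :=
      cinv_iff_cj.mp (cinv_eG_singleton hst) _ (Subgroup.mem_top _)
    have h1 : irrEquiv (cjHom hconj) β = β := by
      refine hβu _ ?_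
      show omG M (irrEquiv (cjHom hconj) β) (eG M ({θ} : Set (IrrCharacter N))) = 1
      rw [← hce, omG_cj hconj β ((cinv_eG_singleton hst).mono le_top)]
      exact hβ
    refine Subtype.ext (funext fun n => ?_)
    rw [cjN_apply, hθH, irrEquiv_apply, irrEquiv_apply, MulEquiv.symm_symm]
    conv_rhs => rw [← h1, irrEquiv_apply]
    exact congrArg _ (Subtype.ext (by simp [he, cjHom, mul_assoc]))
  set U := (Q ⊓ H).subgroupOf H with hU
  have hUp : IsPGroup p U :=
    (hQ.to_le inf_le_left).of_equiv (Subgroup.subgroupOfEquivOfLe inf_le_right).symm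
  have hsup : C.subgroupOf H ⊔ U = (N ⊔ Q).subgroupOf H := by
    refine le_antisymm (sup_le (fun x hx => ?_) fun x hx => ?_) fun x hx => ?_
    · exact Subgroup.mem_sup_left (Subgroup.mem_subgroupOf.mp hx).1
    · exact Subgroup.mem_sup_right (Subgroup.mem_subgroupOf.mp hx).1
    · obtain ⟨k, hk, q, hq, hkq⟩ := Subgroup.mem_sup_of_normal_left.mp (Subgroup.mem_subgroupOf.mp hx)
      have hqH : q ∈ H := by
        rw [hH, Subgroup.mem_centralizer_iff]
        intro r hr
        have hxr := Subgroup.mem_centralizer_iff.mp (show (x : G) ∈ Subgroup.centralizer (R : Set G) from x.2) r hr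
        rw [← hkq] at hxr
        have h1 : r * q * r⁻¹ * q⁻¹ ∈ N := by
          have h' : r * q * r⁻¹ * q⁻¹ = (r * k⁻¹ * r⁻¹) * k := by
            calc r * q * r⁻¹ * q⁻¹ = (r * k⁻¹ * r⁻¹) * (r * (k * q)) * r⁻¹ * q⁻¹ := by group
              _ = (r * k⁻¹ * r⁻¹) * ((k * q) * r) * r⁻¹ * q⁻¹ := by rw [hxr]
              _ = _ := by group
          rw [h']
          exact mul_mem (hNn.conj_mem _ (inv_mem hk) r) hk
        exact mul_inv_eq_iff_eq_mul.mp (mul_inv_eq_one.mp
          (eq_one_of_mem hN hQ h1 (mul_mem (hRQ r hr q hq) (inv_mem hq))))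
      have hkH : k ∈ H := by
        rw [show k = (x : G) * q⁻¹ by rw [← hkq]; group]
        exact mul_mem x.2 (inv_mem hqH)
      rw [show x = (⟨k, hkH⟩ : H) * ⟨q, hqH⟩ from Subtype.ext hkq.symm]
      exact Subgroup.mul_mem_sup (Subgroup.mem_subgroupOf.mpr ⟨hk, hkH⟩)
        (Subgroup.mem_subgroupOf.mpr ⟨hq, hqH⟩)
  have hUn : (C.subgroupOf H ⊔ U).Normal := hsup ▸ inferInstance
  have hreg : ∀ x ∈ Subgroup.centralizer (U : Set H), ¬ p ∣ orderOf x → x ∈ C.subgroupOf H := by
    intro x hx hxr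
    rw [← Subgroup.orderOf_coe] at hxr
    refine Subgroup.mem_subgroupOf.mpr ⟨mem_of_regular_mem_sup hQ ?_ hxr, x.2⟩
    refine mem_sup_of_centralize_mod hN hQ hCQ fun q hq => ?_
    set π := QuotientGroup.mk' N with hπ
    have hnt : (Q.map π).Normal := by
      rw [show Q.map π = (N ⊔ Q).map π by
        rw [Subgroup.map_sup, hπ, QuotientGroup.map_mk'_self, bot_sup_eq]]
      exact hLn.map π (QuotientGroup.mk'_surjective N)
    have hle : ∀ S : Subgroup (G ⧸ N), S ≤ Subgroup.normalizer ((Q.map π : Subgroup (G ⧸ N)) : Set (G ⧸ N)) :=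
      fun S => by rw [Subgroup.normalizer_eq_top]; exact le_top
    have hmain := CfsgLib.Coprime.pq_lemma (p := p) (hR.map π) (Q := Subgroup.zpowers (π (x : G)))
      (by
        rw [Nat.card_zpowers]
        exact Nat.Coprime.symm ((Nat.Prime.coprime_iff_not_dvd Fact.out).mpr
          fun h => hxr (h.trans (orderOf_map_dvd π _))))
      (hQ.map π)
      (by
        rintro _ ⟨r, hr, rfl⟩
        refine Subgroup.mem_centralizer_iff.mpr fun z hz => ?_
        obtain ⟨i, rfl⟩ := Subgroup.mem_zpowers_iff.mp hz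
        refine Commute.zpow_left ?_ i
        show π (x : G) * π r = π r * π (x : G)
        rw [← map_mul, ← map_mul, Subgroup.mem_centralizer_iff.mp (show (x : G) ∈ Subgroup.centralizer (R : Set G) from x.2) r hr])
      (hle _) (hle _)
      (by
        rw [Subgroup.le_centralizer_iff, Subgroup.zpowers_le, Subgroup.mem_centralizer_iff]
        rintro _ ⟨⟨u, hu, rfl⟩, huR⟩
        have huH : u ∈ H := by
          rw [hH, Subgroup.mem_centralizer_iff]
          intro r hr
          have h1 : r * u * r⁻¹ * u⁻¹ ∈ N := by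
            refine (QuotientGroup.eq_one_iff _).mp ?_
            show π (r * u * r⁻¹ * u⁻¹) = 1
            rw [map_mul, map_mul, map_mul, map_inv, map_inv,
              Subgroup.mem_centralizer_iff.mp huR _ ⟨r, hr, rfl⟩]
            group
          exact mul_inv_eq_iff_eq_mul.mp (mul_inv_eq_one.mp
            (eq_one_of_mem hN hQ h1 (mul_mem (hRQ r hr u hu) (inv_mem hu))))
        have h2 := congrArg Subtype.val (Subgroup.mem_centralizer_iff.mp hx ⟨u, huH⟩
          (Subgroup.mem_subgroupOf.mpr ⟨hu, huH⟩))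
        rw [← map_mul, ← map_mul]
        exact congrArg π h2)
    have h3 := Subgroup.mem_centralizer_iff.mp (hmain (Subgroup.mem_zpowers _)) (π q) ⟨q, hq, rfl⟩
    refine (QuotientGroup.eq_one_iff _).mp ?_
    show π ((x : G) * q * (x : G)⁻¹ * q⁻¹) = 1
    rw [map_mul, map_mul, map_mul, map_inv, map_inv, ← h3]
    group
  have hf₀ := isPBlock_overSet hM hN' hst' hUp hreg
  have hbr : brC M hM hR (blockBar M (overSet (G := G) θ)) = blockBar M (overSet (G := H) θH) := by
    refine Subtype.ext (ga_ext fun h => ?_)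
    rw [coeff_brC, coe_blockBar_overSet hM hN' hst', coe_blockBar_overSet hM hN hst,
      ← coeff_trC (R := R) _ h.2, htr]
    by_cases hhC : (h : G) ∈ C
    · have himg : ({θH} : Set (IrrCharacter (C.subgroupOf H))) = irrEquiv e.symm '' {β} := by
        rw [Set.image_singleton]
      have e1 := coeff_eG (M := M) ({θH} : Set (IrrCharacter (C.subgroupOf H)))
        ⟨h, Subgroup.mem_subgroupOf.mpr hhC⟩
      have e2 := coeff_eG (M := M) ({β} : Set (IrrCharacter C)) ⟨(h : G), hhC⟩
      rw [show (h : G) = ((⟨(h : G), hhC⟩ : C) : G) from rfl, e2]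
      refine Eq.trans ?_ e1.symm
      rw [himg, show (⟨h, Subgroup.mem_subgroupOf.mpr hhC⟩ : C.subgroupOf H) = e.symm ⟨(h : G), hhC⟩
        from rfl, coeffRes_image_irrEquiv]
    · rw [suppIn_eG _ _ hhC, suppIn_eG _ _ fun h' => hhC (Subgroup.mem_subgroupOf.mp h')]
  have hres : ∀ z : ZK M G, resHK M H z = brC M hM hR z := fun z =>
    Subtype.ext (ga_ext fun h => by rw [coeff_resHK, coeff_brC])
  have hB' := IsBlockUnion.of_isPBlock hB
  refine ⟨overSet (G := H) θH, isInducedBlock_iff.mpr ⟨hf₀, hB, fun ξ hξ χ hχ z => ?_⟩, fun f hf => ?_⟩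
  · obtain ⟨χ', hχ'⟩ := exists_omegaBar_eq hM ((omegaBar M ξ).comp (brC M hM hR)) fun c => by
      rw [RingHom.comp_apply, brC_algebraMap, omegaBar_algebraMap]
    have hmem : χ' ∈ overSet (G := G) θ := by
      by_contra hn
      have h1 := RingHom.congr_fun hχ' (blockBar M (overSet (G := G) θ))
      rw [RingHom.comp_apply, hbr, omegaBar_blockBar hM (.of_isPBlock hf₀), if_pos hξ,
        omegaBar_blockBar hM hB', if_neg hn] at h1
      exact one_ne_zero h1
    rw [hres, ← omegaBar_eq_of_mem hB hmem hχ]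
    exact RingHom.congr_fun hχ' z
  · obtain ⟨hf', -, hω⟩ := isInducedBlock_iff.mp hf
    obtain ⟨ξ, hξ⟩ := isPBlock_nonempty hf'
    obtain ⟨χ, hχ⟩ := isPBlock_nonempty hB
    refine isPBlock_eq_of_mem hf' hf₀ hξ ?_
    by_contra hn
    have h1 := hω ξ hξ χ hχ (blockBar M (overSet (G := G) θ))
    rw [hres, hbr, omegaBar_blockBar hM (.of_isPBlock hf₀), if_neg hn, omegaBar_blockBar hM hB',
      if_pos hχ] at h1
    exact zero_ne_one h1

/-- The block over a stable character when the centralizer of `Q` lies in `N Q`. -/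
theorem isPBlock_and_principalType (hM : IsPModular p M) (hN : ¬ p ∣ Nat.card N)
    {θ : IrrCharacter N} (hst : ∀ g : G, cjN g θ = θ) (hQ : IsPGroup p Q) [hLn : (N ⊔ Q).Normal]
    (hCQ : Subgroup.centralizer (Q : Set G) ≤ N ⊔ Q) :
    IsPBlock M (overSet (G := G) θ) ∧ ∀ R : Subgroup G, IsPGroup p R →
      ∃! f : Set (IrrCharacter (Subgroup.centralizer (R : Set G))),
        IsInducedBlock M (Subgroup.centralizer (R : Set G)) f (overSet (G := G) θ) := by
  classical
  have hB := isPBlock_overSet hM hN hst hQ fun x hx hr => mem_of_regular_mem_sup hQ (hCQ hx) hr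
  refine ⟨hB, fun R hR => ?_⟩
  obtain ⟨S₀, hS₀⟩ := hR.exists_le_sylow
  obtain ⟨T, hT⟩ := hQ.exists_le_sylow
  obtain ⟨g, hg⟩ := MulAction.exists_smul_eq G T S₀
  have hmem : ∀ x, x ∈ (S₀ : Subgroup G) ↔ g⁻¹ * x * g ∈ (T : Subgroup G) := fun x => by
    rw [← hg, Sylow.coe_subgroup_smul, Subgroup.mem_pointwise_smul_iff_inv_smul_mem]
    simp [MulAut.smul_def]
  have hTL : ∀ x ∈ (T : Subgroup G), x ∈ N ⊔ Q → x ∈ Q := fun x hxT hxL => by
    obtain ⟨k, hk, q, hq, rfl⟩ := Subgroup.mem_sup_of_normal_left.mp hxL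
    have h1 : k ∈ (T : Subgroup G) := by
      have := mul_mem hxT (inv_mem (hT hq))
      rwa [mul_inv_cancel_right] at this
    rw [eq_one_of_mem hN T.isPGroup' hk h1, one_mul]
    exact hq
  have hback : ∀ x : G, g * (g⁻¹ * x * g) * g⁻¹ = x := fun x => by group
  set Q' := (S₀ : Subgroup G) ⊓ (N ⊔ Q) with hQ'
  have hQ'mem : ∀ x ∈ Q, g * x * g⁻¹ ∈ Q' := fun x hx =>
    ⟨(hmem _).mpr (by rw [show g⁻¹ * (g * x * g⁻¹) * g = x by group]; exact hT hx),
      hLn.conj_mem x (Subgroup.mem_sup_right hx) g⟩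
  have hsupeq : N ⊔ Q' = N ⊔ Q := by
    refine le_antisymm (sup_le le_sup_left inf_le_right) fun x hx => ?_
    have hx' : g⁻¹ * x * g ∈ N ⊔ Q := by simpa using hLn.conj_mem x hx g⁻¹
    obtain ⟨k, hk, q, hq, hkq⟩ := Subgroup.mem_sup_of_normal_left.mp hx'
    rw [← hback x, ← hkq, show g * (k * q) * g⁻¹ = (g * k * g⁻¹) * (g * q * g⁻¹) by group]
    exact Subgroup.mul_mem_sup (hNn.conj_mem k hk g) (hQ'mem q hq)
  have : (N ⊔ Q').Normal := hsupeq ▸ hLn
  refine existsUnique_induced hM hN hst hB (S₀.isPGroup'.to_le inf_le_left) (fun x hx => ?_) hR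
    fun r hr q hq => Subgroup.mem_inf.mpr ⟨mul_mem (mul_mem (hS₀ hr) (Subgroup.mem_inf.mp hq).1) (inv_mem (hS₀ hr)), hLn.conj_mem q hq.2 r⟩
  rw [hsupeq]
  have h1 : g⁻¹ * x * g ∈ N ⊔ Q := hCQ (Subgroup.mem_centralizer_iff.mpr fun q hq => by
    have h2 := Subgroup.mem_centralizer_iff.mp hx _ (hQ'mem q hq)
    calc q * (g⁻¹ * x * g) = g⁻¹ * (g * q * g⁻¹ * x) * g := by group
      _ = g⁻¹ * (x * (g * q * g⁻¹)) * g := by rw [h2]
      _ = _ := by group)
  simpa [mul_assoc] using hLn.conj_mem _ h1 g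

end principalType

/-- A `p`-subgroup of `O_{p',p}(G)` of index prime to `p` there supplements `O_{p'}(G)`. -/
theorem sup_eq_pPrimePCore {A : Type*} [Group A] [Finite A] {p : ℕ} [Fact p.Prime] {Q : Subgroup A}
    (hQL : Q ≤ Cfsg.pPrimePCore p A) (hQS : ¬ p ∣ Q.relIndex (Cfsg.pPrimePCore p A)) :
    Cfsg.pPrimeCore p A ⊔ Q = Cfsg.pPrimePCore p A := by
  have := CfsgLib.Coprime.pPrimeCore_characteristic (G := A) p
  have hKL : Cfsg.pPrimeCore p A ≤ Cfsg.pPrimePCore p A := by
    rw [Cfsg.pPrimePCore]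
    conv_lhs => rw [← QuotientGroup.ker_mk' (Cfsg.pPrimeCore p A)]
    exact Subgroup.ker_le_comap _ _
  refine le_antisymm (sup_le hKL hQL) (Subgroup.relIndex_eq_one.mp ?_)
  have h1 : (Cfsg.pPrimeCore p A).relIndex (Cfsg.pPrimePCore p A) =
      Nat.card (Cfsg.pCore p (A ⧸ Cfsg.pPrimeCore p A)) := by
    have h := Subgroup.relIndex_comap ⊥ (QuotientGroup.mk' (Cfsg.pPrimeCore p A))
      (Cfsg.pPrimePCore p A)
    rw [MonoidHom.comap_bot, QuotientGroup.ker_mk', Subgroup.relIndex_bot_left] at h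
    rw [h, Cfsg.pPrimePCore, Subgroup.map_comap_eq_self_of_surjective (QuotientGroup.mk'_surjective _)]
  obtain ⟨k, hk⟩ := IsPGroup.iff_card.mp (CfsgLib.Coprime.pCore_isPGroup (G := A ⧸ Cfsg.pPrimeCore p A) p)
  have h2 : (Cfsg.pPrimeCore p A ⊔ Q).relIndex (Cfsg.pPrimePCore p A) ∣ p ^ k :=
    hk ▸ h1 ▸ Subgroup.relIndex_dvd_of_le_left _ le_sup_left
  obtain ⟨j, -, hj⟩ := (Nat.dvd_prime_pow Fact.out).mp h2
  rcases Nat.eq_zero_or_pos j with rfl | hj0
  · rw [hj, pow_zero]
  · exact absurd ((dvd_pow_self p hj0.ne').trans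
      (hj ▸ Subgroup.relIndex_dvd_of_le_left _ le_sup_right)) hQS

end CfsgLib.Block.CoprimeCover
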