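import Cfsg.Agent.Lib.Block.Orthogonality
import Mathlib.LinearAlgebra.Eigenspace.Charpoly

/-!
# Functions on `p`-regular classes are local combinations of irreducible characters

`exists_regularIndicator`, `exists_regular_expand`, `sum_block_eq_of_eq_regular`,
`res_irr_regularPart` (`χ(g) ≡ χ(g_{p'})`).
-/

open Finset
open scoped ComplexConjugate

set_option linter.unusedSectionVars false

namespace CfsgLib.Block

open Cfsg

universe u

variable {p : ℕ} {G : Type u} [Group G] [Fintype G] [DecidableEq G]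

theorem irr_isIntegral (χ : IrrCharacter G) (g : G) : IsIntegral ℤ ((χ : G → ℂ) g) :=
  Char.isCharacter_isIntegral (Char.isCharacter_irr χ) g

theorem irr_mem_locRing (M : Ideal AlgInt) [M.IsPrime] (χ : IrrCharacter G) (g : G) :
    (χ : G → ℂ) g ∈ locRing M :=
  integral_mem M (irr_isIntegral χ g)

/-- The value of a character, in the local ring. -/
noncomputable def irrLoc (M : Ideal AlgInt) [M.IsPrime] (χ : IrrCharacter G) (g : G) : locRing M :=
  ⟨(χ : G → ℂ) g, irr_mem_locRing M χ g⟩

@[simp] theorem coe_irrLoc (M : Ideal AlgInt) [M.IsPrime] (χ : IrrCharacter G) (g : G) :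
    (irrLoc M χ g : ℂ) = (χ : G → ℂ) g := rfl

/-- The average of a character over a coset of a centralised subgroup is an algebraic integer. -/
theorem isIntegral_avg_coset {χ : G → ℂ} (hχ : IsCharacter G χ) (s : G) (Q : Subgroup G)
    [Fintype Q] (hQ : ∀ q ∈ Q, Commute s q) :
    IsIntegral ℤ ((Nat.card Q : ℂ)⁻¹ * ∑ q : Q, χ (s * q)) := by
  obtain ⟨n, ρ, rfl⟩ := hχ
  let P : Module.End ℂ (Fin n → ℂ) := (Nat.card Q : ℂ)⁻¹ • ∑ q : Q, ρ q
  let T : Module.End ℂ (Fin n → ℂ) := ρ s * P
  have hPfix : ∀ q : Q, ρ q * P = P := fun q => by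
    simp only [P, mul_smul_comm, Finset.mul_sum, ← map_mul]
    congr 1
    exact Fintype.sum_equiv (Equiv.mulLeft q) _ _ fun x => rfl
  have hPP : P * P = P := by
    conv_lhs => arg 1; rw [show P = (Nat.card Q : ℂ)⁻¹ • ∑ q : Q, ρ q from rfl]
    rw [smul_mul_assoc, Finset.sum_mul, Finset.sum_congr rfl fun q _ => hPfix q, Finset.sum_const,
      Finset.card_univ, ← Nat.card_eq_fintype_card, ← Nat.cast_smul_eq_nsmul ℂ, smul_smul,
      inv_mul_cancel₀ (Nat.cast_ne_zero.mpr Nat.card_pos.ne'), one_smul]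
  have hcomm : Commute (ρ s) P := by
    refine Commute.smul_right (Commute.sum_right _ _ _ fun q _ => ?_) _
    exact (hQ q q.2).map ρ
  have hTm : T ^ (orderOf s + 1) = T := by
    simp only [T, hcomm.mul_pow]
    rw [pow_succ (ρ s), ← map_pow, pow_orderOf_eq_one, map_one, one_mul]
    congr 1
    clear hcomm T
    induction orderOf s with
    | zero => rw [pow_one]
    | succ k ih => rw [pow_succ, ih, hPP]
  have htr : LinearMap.trace ℂ _ T = (Nat.card Q : ℂ)⁻¹ * ∑ q : Q, ρ.character (s * q) := by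
    simp only [T, P, mul_smul_comm, Finset.mul_sum, map_smul, map_sum, ← map_mul, smul_eq_mul]
    rfl
  rw [← htr, Module.End.trace_eq_sum_roots_charpoly_of_splits (IsAlgClosed.splits _)]
  refine Multiset.sum_induction _ _ (fun a b => IsIntegral.add) isIntegral_zero fun μ hμ => ?_
  have hroot : Module.End.HasEigenvalue T μ :=
    (Module.End.hasEigenvalue_iff_isRoot_charpoly T μ).mpr (Polynomial.isRoot_of_mem_roots hμ)
  obtain ⟨v, hv⟩ := hroot.exists_hasEigenvector
  have h1 := hv.pow_apply (orderOf s + 1)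
  rw [hTm, hv.apply_eq_smul] at h1
  have h2 : μ ^ (orderOf s + 1) = μ := (smul_left_injective ℂ hv.2 h1).symm
  by_cases h0 : μ = 0
  · rw [h0]; exact isIntegral_zero
  · rw [pow_succ, mul_eq_right₀ h0] at h2
    exact isIntegral_of_pow_eq_one (orderOf_pos s) h2

/-- A combination of irreducible characters which is the indicator of a `p`-regular class on
`p`-regular elements. -/
theorem exists_regularIndicator {M : Ideal AlgInt} [M.IsMaximal] (hM : IsPModular p M)
    [Fintype (IrrCharacter G)] {s : G} (hs : ¬ p ∣ orderOf s) :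
    ∃ a : IrrCharacter G → locRing M, ∀ y : G, ¬ p ∣ orderOf y →
      ∑ χ : IrrCharacter G, (a χ : ℂ) * (χ : G → ℂ) y =
        @ite ℂ (IsConj y s) (Classical.propDecidable _) 1 0 := by
  classical
  have hpf : Fact p.Prime := ⟨hM.1⟩
  let C := Subgroup.centralizer ({s} : Set G)
  obtain ⟨S⟩ : Nonempty (Sylow p C) := inferInstance
  let Q : Subgroup G := (S : Subgroup C).map C.subtype
  have hQC : ∀ q ∈ Q, Commute s q := by
    rintro q ⟨c, -, rfl⟩
    exact (Subgroup.mem_centralizer_singleton_iff.mp c.2).symm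
  have hQp : IsPGroup p Q := S.2.map _
  have hcard : Nat.card Q = p ^ (Nat.card C).factorization p := by
    rw [Subgroup.card_map_of_injective C.subtype_injective, S.card_eq_multiplicity]
  obtain ⟨m, hm⟩ : Nat.card Q ∣ Nat.card C := hcard ▸ Nat.ordProj_dvd _ _
  have hpm : ¬ p ∣ m := by
    rintro ⟨t, rfl⟩
    have h : p ^ ((Nat.card C).factorization p + 1) ∣ Nat.card C :=
      ⟨t, by rw [pow_succ, ← hcard]; linarith⟩
    have := (hM.1.pow_dvd_iff_le_factorization Nat.card_pos.ne').mp h
    omega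
  have hav : ∀ χ : IrrCharacter G,
      (Nat.card C : ℂ)⁻¹ * ∑ q : Q, conj ((χ : G → ℂ) (s * q)) ∈ locRing M := by
    intro χ
    have h : (Nat.card C : ℂ)⁻¹ * ∑ q : Q, conj ((χ : G → ℂ) (s * q)) =
        (m : ℂ)⁻¹ * ((Nat.card Q : ℂ)⁻¹ * ∑ q : Q, (χ : G → ℂ) (s⁻¹ * q)) := by
      rw [hm, Nat.cast_mul, mul_inv, mul_comm ((Nat.card Q : ℂ)⁻¹), mul_assoc]
      congr 2
      refine Fintype.sum_equiv (Equiv.inv Q) _ _ fun q => ?_
      rw [← Char.irr_inv, mul_inv_rev, Equiv.inv_apply, InvMemClass.coe_inv,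
        ((hQC q q.2).inv_inv).eq]
    rw [h]
    exact Subring.mul_mem _ (inv_natCast_mem hM hpm) (integral_mem M
      (isIntegral_avg_coset (Char.isCharacter_irr χ) s⁻¹ Q fun q hq => (hQC q hq).inv_left))
  refine ⟨fun χ => ⟨_, hav χ⟩, fun y hy => ?_⟩
  simp only [mul_assoc, Finset.sum_mul]
  rw [← Finset.mul_sum, Finset.sum_comm]
  have horth : ∀ q : Q, ∑ χ : IrrCharacter G, conj ((χ : G → ℂ) (s * q)) * (χ : G → ℂ) y =
      if q = 1 ∧ IsConj y s then (Nat.card C : ℂ) else 0 := by
    intro q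
    rw [Finset.sum_congr rfl fun χ _ => mul_comm _ _, Char.sum_irr_mul_conj]
    by_cases hys : IsConj y (s * q)
    · have hq : q = 1 := by
        obtain ⟨k, hk⟩ := (IsPGroup.iff_orderOf.mp hQp) q
        have h1 : IsPPart p (s * (q : G)) q :=
          ⟨s, (hQC q q.2).symm.eq, (hQC q q.2).symm, ⟨k, by rw [Subgroup.orderOf_coe, hk]⟩, hs⟩
        have := isPPart_isConj hM.1 (isPPart_one_of_not_dvd hy) h1 hys
        exact Subtype.ext (isConj_one_right.mp this)
      subst hq
      rw [OneMemClass.coe_one, mul_one] at hys ⊢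
      rw [if_pos hys, if_pos ⟨rfl, hys⟩]
      obtain ⟨c, hc⟩ := isConj_iff.mp hys
      congr 1
      have hidx : ∀ g : G, (Subgroup.centralizer ({g} : Set G)).index *
          Nat.card (Subgroup.centralizer ({g} : Set G)) = Nat.card G := fun g =>
        Subgroup.index_mul_card _
      have hcl : (Subgroup.centralizer ({y} : Set G)).index = C.index := by
        rw [← Char.card_isConj, ← Char.card_isConj]
        exact Nat.card_congr (Equiv.subtypeEquivRight fun x =>
          ⟨fun h => hys.symm.trans h, fun h => hys.trans h⟩)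
      have := (hidx y).trans (hidx s).symm
      rw [hcl] at this
      exact Nat.eq_of_mul_eq_mul_left (Nat.pos_of_ne_zero Subgroup.index_ne_zero_of_finite) this
    · rw [if_neg hys, if_neg]
      rintro ⟨rfl, h⟩
      exact hys (by simpa using h)
  simp only [horth]
  by_cases hys : IsConj y s
  · rw [if_pos hys, Finset.sum_eq_single (1 : Q), if_pos ⟨rfl, hys⟩,
      inv_mul_cancel₀ (Nat.cast_ne_zero.mpr (Nat.card_pos (α := C)).ne')]
    · intro q _ hq
      rw [if_neg fun h => hq h.1]
    · simp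
  · rw [if_neg hys, Finset.sum_eq_zero fun q _ => if_neg fun h => hys h.2, mul_zero]

/-- A function on `p`-regular classes with local integral values is a local combination of
irreducible characters there. -/
theorem exists_regular_expand {M : Ideal AlgInt} [M.IsMaximal] (hM : IsPModular p M)
    [Fintype (IrrCharacter G)] {f : G → ℂ}
    (hf : ∀ y, ¬ p ∣ orderOf y → f y ∈ locRing M)
    (hcl : ∀ y z, ¬ p ∣ orderOf y → IsConj y z → f y = f z) :
    ∃ b : IrrCharacter G → locRing M, ∀ y : G, ¬ p ∣ orderOf y →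
      f y = ∑ χ : IrrCharacter G, (b χ : ℂ) * (χ : G → ℂ) y := by
  classical
  have := Fintype.ofFinite (ConjClasses G)
  have h : ∀ C : ConjClasses G, ∃ a : IrrCharacter G → locRing M, ∀ y : G, ¬ p ∣ orderOf y →
      ∑ χ : IrrCharacter G, (a χ : ℂ) * (χ : G → ℂ) y =
        if IsConj y (rep C) then f (rep C) else 0 := by
    intro C
    by_cases hC : p ∣ orderOf (rep C)
    · refine ⟨0, fun y hy => ?_⟩
      rw [if_neg]
      · simp
      · intro h
        obtain ⟨c, hc⟩ := isConj_iff.mp h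
        exact hy (by rwa [← hc, show orderOf (c * y * c⁻¹) = orderOf y from
          MulEquiv.orderOf_eq (MulAut.conj c) y] at hC)
    · obtain ⟨a, ha⟩ := exists_regularIndicator hM hC
      refine ⟨fun χ => ⟨f (rep C), hf _ hC⟩ * a χ, fun y hy => ?_⟩
      simp only [Subring.coe_mul, mul_assoc, ← Finset.mul_sum, ha y hy]
      split_ifs <;> simp
  choose a ha using h
  refine ⟨fun χ => ∑ C : ConjClasses G, a C χ, fun y hy => ?_⟩
  simp only [AddSubmonoidClass.coe_finsetSum, Finset.sum_mul]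
  rw [Finset.sum_comm, Finset.sum_congr rfl fun C _ => ha C y hy,
    Finset.sum_eq_single (ConjClasses.mk y)]
  · rw [if_pos (isConj_rep y).symm]
    exact hcl y _ hy (isConj_rep y).symm
  · intro C _ hC
    rw [if_neg]
    intro h
    exact hC (by rw [← mk_rep C]; exact (ConjClasses.mk_eq_mk_iff_isConj.mpr h).symm)
  · simp

/-- Restriction to a union of blocks respects equality on `p`-regular elements. -/
theorem sum_block_eq_of_eq_regular {M : Ideal AlgInt} [M.IsMaximal] (hM : IsPModular p M)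
    [Fintype (IrrCharacter G)] {S : Set (IrrCharacter G)} [DecidablePred (· ∈ S)]
    (hS : IsBlockUnion M S) {b b' : IrrCharacter G → ℂ}
    (h : ∀ y, ¬ p ∣ orderOf y → ∑ χ : IrrCharacter G, b χ * (χ : G → ℂ) y =
      ∑ χ : IrrCharacter G, b' χ * (χ : G → ℂ) y) {g : G} (hg : ¬ p ∣ orderOf g) :
    ∑ χ ∈ Finset.univ.filter (· ∈ S), b χ * (χ : G → ℂ) g =
      ∑ χ ∈ Finset.univ.filter (· ∈ S), b' χ * (χ : G → ℂ) g := by
  classical
  have hG : (Nat.card G : ℂ) ≠ 0 := Nat.cast_ne_zero.mpr Nat.card_pos.ne'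
  have key : ∀ c : IrrCharacter G → ℂ,
      (Nat.card G : ℂ) * ∑ χ ∈ Finset.univ.filter (· ∈ S), c χ * (χ : G → ℂ) g =
        ∑ x : G, (∑ θ ∈ Finset.univ.filter (· ∈ S), (θ : G → ℂ) g * conj ((θ : G → ℂ) x)) *
          ∑ χ : IrrCharacter G, c χ * (χ : G → ℂ) x := by
    intro c
    rw [Finset.mul_sum, Finset.sum_congr rfl fun (x : G) _ => Finset.sum_mul _ _ _, Finset.sum_comm]
    refine Finset.sum_congr rfl fun θ _ => ?_
    rw [Finset.sum_congr rfl fun (x : G) _ => Finset.mul_sum _ _ _, Finset.sum_comm]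
    have hterm : ∀ χ : IrrCharacter G,
        ∑ x : G, (θ : G → ℂ) g * conj ((θ : G → ℂ) x) * (c χ * (χ : G → ℂ) x) =
          if χ = θ then (Nat.card G : ℂ) * (c θ * (θ : G → ℂ) g) else 0 := by
      intro χ
      have h := Char.classInner_irr χ θ
      rw [classInner, inv_mul_eq_iff_eq_mul₀ hG] at h
      rw [Finset.sum_congr rfl fun x _ => show
        (θ : G → ℂ) g * conj ((θ : G → ℂ) x) * (c χ * (χ : G → ℂ) x) =
          ((θ : G → ℂ) g * c χ) * ((χ : G → ℂ) x * conj ((θ : G → ℂ) x)) by ring,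
        ← Finset.mul_sum, h]
      split_ifs with e
      · subst e; ring
      · simp
    simp [hterm]
  apply mul_left_cancel₀ hG
  rw [key, key]
  refine Finset.sum_congr rfl fun x _ => ?_
  by_cases hx : p ∣ orderOf x
  · have h0 := blockUnion_orthogonal_regular_singular hM hS hg hx
    rw [finsum_mem_eq_sum_filter _ _ (Set.toFinite _)] at h0
    have : ∑ θ ∈ Finset.univ.filter (· ∈ S), (θ : G → ℂ) g * conj ((θ : G → ℂ) x) = 0 := by
      rw [← h0]
      refine (Finset.sum_subset ?_ ?_).symm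
      · intro θ hθ
        simp only [Finset.mem_filter, Set.Finite.mem_toFinset, Finset.mem_univ, true_and] at hθ ⊢
        exact hθ.2
      · intro θ hθ hn
        simp only [Finset.mem_filter, Set.Finite.mem_toFinset, Finset.mem_univ, true_and] at hθ hn
        by_contra hne
        exact hn ⟨hne, hθ⟩
    rw [this, zero_mul, zero_mul]
  · rw [h x hx]

/-- `χ(g) ≡ χ(g_{p'})`. -/
theorem res_irr_regularPart {M : Ideal AlgInt} [M.IsMaximal] (hM : IsPModular p M)
    (χ : IrrCharacter G) {x y : G} (hxy : Commute x y) {k : ℕ} (hx : x ^ p ^ k = 1) :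
    res M (irrLoc M χ (x * y)) = res M (irrLoc M χ y) := by
  have hpf : Fact p.Prime := ⟨hM.1⟩
  have := charP_resField hM
  obtain ⟨χ, n, ρ, hρ, rfl⟩ := χ
  -- raising to the `p^k`-th power is additive and injective on the residue field
  have key : ∀ g : G, res M (irrLoc M ⟨_, n, ρ, hρ, rfl⟩ g) ^ p ^ k =
      res M (irrLoc M ⟨_, n, ρ, hρ, rfl⟩ (g ^ p ^ k)) := by
    intro g
    obtain ⟨b, μ, h1, -, h3⟩ := Char.exists_eigen_data ρ g
    let ν : Fin _ → locRing M := fun i =>
      ⟨μ i, integral_mem M (isIntegral_of_pow_eq_one (orderOf_pos g) (h1 i))⟩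
    have e1 : irrLoc M ⟨_, n, ρ, hρ, rfl⟩ g = ∑ i, ν i := Subtype.ext (by
      have := h3 1
      simp only [pow_one] at this
      simp [ν, this])
    have e2 : irrLoc M ⟨_, n, ρ, hρ, rfl⟩ (g ^ p ^ k) = ∑ i, ν i ^ p ^ k := Subtype.ext (by
      simp [ν, h3])
    rw [e1, e2, map_sum, map_sum, sum_pow_char_pow]
    simp only [map_pow]
  have hinj : Function.Injective fun z : ResField M => z ^ p ^ k := by
    intro a b h
    exact iterateFrobenius_inj (ResField M) p k (by simpa [iterateFrobenius_def] using h)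
  apply hinj
  simp only [key, hxy.mul_pow, hx, one_mul]

end CfsgLib.Block
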