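import Cfsg.Agent.Lib.Block.BrauerFeit
import Cfsg.Agent.Lib.Block.LocalDefect
import Cfsg.Agent.Lib.Block.FirstMain
import Cfsg.Agent.Lib.Char.DefectZero
import Cfsg.Agent.Lib.Char.CenterHom

/-!
# Blocks with central defect group, and the stabilizer index of a self-centralizing pair
-/

open Finset MonoidAlgebra
open scoped ComplexConjugate

set_option linter.unusedSectionVars false

namespace CfsgLib.Block

open Cfsg

universe u

variable {p : ℕ} {M : Ideal AlgInt} [M.IsMaximal] {G : Type u} [Group G] [Fintype G] [DecidableEq G]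
  {N : Subgroup G}

/-- A character with `N` in its kernel is inflated from the quotient. -/
theorem exists_deflate [N.Normal] (θ : IrrCharacter G)
    (h : ∀ z ∈ N, (θ : G → ℂ) z = (θ : G → ℂ) 1) :
    ∃ θ' : IrrCharacter (G ⧸ N), ∀ g : G, (θ' : G ⧸ N → ℂ) (g : G ⧸ N) = (θ : G → ℂ) g := by
  obtain ⟨n, ρ, hρ, hθ⟩ := θ.2
  have hker : N ≤ ρ.ker := fun z hz => by
    refine MonoidHom.mem_ker.mpr ((Char.char_eq_degree_iff ρ z).mp ?_)
    have h1 := h z hz
    rw [← hθ] at h1
    rw [h1, Representation.char_one]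
  let ρ' : Representation ℂ (G ⧸ N) (Fin n → ℂ) := QuotientGroup.lift N ρ hker
  refine ⟨⟨ρ'.character, n, ρ', ?_, rfl⟩, fun g => by rw [← hθ]; rfl⟩
  let e : Subrepresentation ρ' ≃o Subrepresentation ρ :=
    { toFun := fun S => ⟨S.toSubmodule, fun x v hv => S.apply_mem_toSubmodule (x : G ⧸ N) hv⟩
      invFun := fun S => ⟨S.toSubmodule, fun g v hv => by
        obtain ⟨x, rfl⟩ := QuotientGroup.mk_surjective g
        exact S.apply_mem_toSubmodule x hv⟩
      left_inv := fun S => rfl
      right_inv := fun S => rfl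
      map_rel_iff' := Iff.rfl }
  exact e.isSimpleOrder

theorem vCard_eq (hp : p.Prime) [N.Normal] :
    (Nat.card G).factorization p =
      (Nat.card (G ⧸ N)).factorization p + (Nat.card N).factorization p := by
  have : Fact p.Prime := ⟨hp⟩
  rw [Subgroup.card_eq_card_quotient_mul_card_subgroup N,
    Nat.factorization_mul Nat.card_pos.ne' Nat.card_pos.ne', Finsupp.add_apply]

theorem degVal_add_le (hp : p.Prime) [N.Normal] (θ : IrrCharacter G)
    (h : ∀ z ∈ N, (θ : G → ℂ) z = (θ : G → ℂ) 1) :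
    degVal p θ + (Nat.card N).factorization p ≤ (Nat.card G).factorization p := by
  have := Fintype.ofFinite (G ⧸ N)
  obtain ⟨θ', hθ'⟩ := exists_deflate θ h
  obtain ⟨hd, hd0⟩ := charDegree_eq θ
  have hd' : (θ' : G ⧸ N → ℂ) 1 = (charDegree (θ : G → ℂ) : ℂ) := by
    rw [← QuotientGroup.mk_one, hθ', hd]
  rw [vCard_eq hp (N := N), degVal]
  exact Nat.add_le_add_right
    ((Nat.factorization_le_iff_dvd hd0 Nat.card_pos.ne').mpr (Char.degree_dvd_card θ' hd') p) _

/-- For characters with the central `p`-subgroup in their kernel, one of them of full degree, the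
inner product only sees the regular elements. -/
theorem card_mul_regInner_kernel [Fintype (IrrCharacter G)] (hM : IsPModular p M)
    (hN : N ≤ Subgroup.center G) (hNp : IsPGroup p N) {θ ψ : IrrCharacter G}
    (hker : ∀ z ∈ N, (θ : G → ℂ) z = (θ : G → ℂ) 1) (hkerψ : ∀ z ∈ N, (ψ : G → ℂ) z = (ψ : G → ℂ) 1)
    (hdeg : degVal p θ + (Nat.card N).factorization p = (Nat.card G).factorization p) :
    (Nat.card N : ℂ) * regInner p θ ψ = if θ = ψ then 1 else 0 := by
  classical
  have hpf : Fact p.Prime := ⟨hM.1⟩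
  have := Fintype.ofFinite (ConjClasses G)
  have hNn : N.Normal := ⟨fun z hz g => by
    rwa [Subgroup.mem_center_iff.mp (hN hz) g, mul_inv_cancel_right]⟩
  have := Fintype.ofFinite (G ⧸ N)
  obtain ⟨θ', hθ'⟩ := exists_deflate θ hker
  obtain ⟨ψ', hψ'⟩ := exists_deflate ψ hkerψ
  obtain ⟨hd, hd0⟩ := charDegree_eq θ
  set d := charDegree (θ : G → ℂ) with hdd
  set n := (Nat.card (G ⧸ N)).factorization p with hn
  have hdn : d.factorization p = n := by
    have h1 := vCard_eq (G := G) hM.1 (N := N)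
    rw [degVal, ← hdd] at hdeg
    omega
  have hd' : (θ' : G ⧸ N → ℂ) 1 = (d : ℂ) := by rw [← QuotientGroup.mk_one, hθ', hd]
  -- vanishing off the elements that are regular modulo `N`
  have hvan : ∀ g : G, p ∣ orderOf (g : G ⧸ N) → (θ : G → ℂ) g = 0 := fun g hg => by
    rw [← hθ']
    exact Char.char_defect_zero_vanishes θ' (n := n) (Nat.ordProj_dvd _ _)
      (Nat.pow_succ_factorization_not_dvd Nat.card_pos.ne' hM.1) hd'
      (hdn ▸ Nat.ordProj_dvd d p) hg
  have hreg : ∀ g : G, ¬ p ∣ orderOf (g : G ⧸ N) → ∃ z ∈ N, ∃ y : G, ¬ p ∣ orderOf y ∧ z * y = g := by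
    intro g hg
    obtain ⟨x, hx⟩ := exists_isPPart hM.1 g
    obtain ⟨y, rfl, hxy, ⟨k, hk⟩, hy⟩ := hx
    refine ⟨x, ?_, y, hy, rfl⟩
    rw [← QuotientGroup.eq_one_iff, ← orderOf_eq_one_iff]
    have h1 : orderOf (x : G ⧸ N) ∣ p ^ k := hk ▸ orderOf_map_dvd (QuotientGroup.mk' N) x
    obtain ⟨i, -, hi⟩ := (Nat.dvd_prime_pow hM.1).mp h1
    rcases Nat.eq_zero_or_pos i with rfl | hi0
    · rw [hi, pow_zero]
    · exfalso
      refine hg ?_
      have hcop : Nat.Coprime (orderOf (x : G ⧸ N)) (orderOf (y : G ⧸ N)) := by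
        refine (((hM.1.coprime_iff_not_dvd.mpr hy).pow_left k).coprime_dvd_left h1).coprime_dvd_right ?_
        exact orderOf_map_dvd (QuotientGroup.mk' N) y
      have hc' : Commute (x : G ⧸ N) (y : G ⧸ N) := hxy.map (QuotientGroup.mk' N)
      rw [QuotientGroup.mk_mul, hc'.orderOf_mul_eq_mul_orderOf_of_coprime hcop]
      exact dvd_mul_of_dvd_left (hi ▸ dvd_pow_self p hi0.ne') _
  have hinv : ∀ z ∈ N, ∀ y : G, (θ : G → ℂ) (z * y) = (θ : G → ℂ) y := fun z hz y => by
    rw [← hθ', ← hθ', QuotientGroup.mk_mul, (QuotientGroup.eq_one_iff z).mpr hz, one_mul]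
  have hinvψ : ∀ z ∈ N, ∀ y : G, (ψ : G → ℂ) (z * y) = (ψ : G → ℂ) y := fun z hz y => by
    rw [← hψ', ← hψ', QuotientGroup.mk_mul, (QuotientGroup.eq_one_iff z).mpr hz, one_mul]
  have hG0 : (Nat.card G : ℂ) ≠ 0 := Nat.cast_ne_zero.mpr Nat.card_pos.ne'
  have hall : ∑ g : G, (θ : G → ℂ) g * (ψ : G → ℂ) g⁻¹ =
      (Nat.card G : ℂ) * if θ = ψ then 1 else 0 := by
    rw [← Char.classInner_irr θ ψ, classInner, ← mul_assoc, mul_inv_cancel₀ hG0, one_mul]
    exact Finset.sum_congr rfl fun g _ => by rw [Char.irr_inv]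
  have hsum : (Nat.card N : ℂ) * ((Nat.card G : ℂ) * regInner p θ ψ) =
      (Nat.card G : ℂ) * if θ = ψ then 1 else 0 := by
    rw [card_mul_regInner]
    conv_rhs => rw [← hall]
    rw [← Finset.sum_filter_add_sum_filter_not Finset.univ (fun g : G => ¬ p ∣ orderOf (g : G ⧸ N)),
      Finset.sum_eq_zero (s := Finset.univ.filter fun g : G => ¬ ¬ p ∣ orderOf (g : G ⧸ N))
        (fun g hg => by rw [hvan g (not_not.mp (Finset.mem_filter.mp hg).2), zero_mul]), add_zero]
    have hbij : ∑ q ∈ (Finset.univ : Finset N) ×ˢ Finset.univ.filter (fun x : G => ¬ p ∣ orderOf x),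
        (θ : G → ℂ) q.2 * (ψ : G → ℂ) q.2⁻¹ =
        ∑ g ∈ Finset.univ.filter (fun g : G => ¬ p ∣ orderOf (g : G ⧸ N)),
          (θ : G → ℂ) g * (ψ : G → ℂ) g⁻¹ := by
      refine Finset.sum_bij (fun q _ => (q.1 : G) * q.2) (fun q hq => ?_) (fun q hq q' hq' he => ?_)
        (fun g hg => ?_) (fun q hq => ?_)
      · simp only [Finset.mem_product, Finset.mem_filter, Finset.mem_univ, true_and] at hq ⊢
        rw [QuotientGroup.mk_mul, (QuotientGroup.eq_one_iff _).mpr q.1.2, one_mul]
        exact fun h => hq (h.trans (orderOf_map_dvd (QuotientGroup.mk' N) q.2))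
      · simp only [Finset.mem_product, Finset.mem_filter, Finset.mem_univ, true_and] at hq hq'
        have key : ∀ (z : N) (y : G), ¬ p ∣ orderOf y → IsPPart p ((z : G) * y) z := fun z y hy => by
          obtain ⟨k, hk⟩ := IsPGroup.iff_orderOf.mp hNp z
          exact ⟨y, rfl, (Subgroup.mem_center_iff.mp (hN z.2) y).symm,
            ⟨k, by rwa [Subgroup.orderOf_coe]⟩, hy⟩
        have h1 : (q.1 : G) = (q'.1 : G) :=
          isPPart_unique hM.1 (key q.1 q.2 hq) (by have := key q'.1 q'.2 hq'; rwa [← he] at this)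
        exact Prod.ext (Subtype.ext h1) (mul_left_cancel (h1 ▸ he : (q'.1 : G) * q.2 = _))
      · obtain ⟨z, hz, y, hy, rfl⟩ := hreg g (Finset.mem_filter.mp hg).2
        exact ⟨(⟨z, hz⟩, y), by simp [hy], rfl⟩
      · rw [hinv _ q.1.2, mul_inv_rev,
          (Subgroup.mem_center_iff.mp (hN (inv_mem q.1.2)) q.2⁻¹), hinvψ _ (inv_mem q.1.2)]
    rw [← hbij, Finset.sum_product]
    simp only [Finset.sum_const, Finset.card_univ, ← Nat.card_eq_fintype_card, nsmul_eq_mul]
  apply mul_left_cancel₀ hG0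
  rw [← hsum]
  ring

/-- A character of the largest possible `p`-part of degree with a central `p`-subgroup in its kernel
has least degree exponent in its block. -/
theorem blockDefect_eq_of_kernel (hM : IsPModular p M) {B : Set (IrrCharacter G)} (hB : IsPBlock M B)
    (hN : N ≤ Subgroup.center G) (hNp : IsPGroup p N) {θ : IrrCharacter G} (hθ : θ ∈ B)
    (hker : ∀ z ∈ N, (θ : G → ℂ) z = (θ : G → ℂ) 1)
    (hdeg : degVal p θ + (Nat.card N).factorization p = (Nat.card G).factorization p) :
    blockDefect p B = (Nat.card N).factorization p := by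
  classical
  have hpf : Fact p.Prime := ⟨hM.1⟩
  have := Fintype.ofFinite (ConjClasses G)
  have := Fintype.ofFinite (IrrCharacter G)
  have hsum : (Nat.card N : ℂ) * regInner p θ θ = 1 := by
    rw [card_mul_regInner_kernel hM hN hNp hker hker hdeg, if_pos rfl]
  obtain ⟨I, hI, -, hI2⟩ := regInner_valuation hM θ θ
  have hreg0 : regN p M θ θ ≠ 0 := by
    intro h0
    have h1 := hI2.mpr h0
    obtain ⟨j, hj⟩ := IsPGroup.iff_card.mp hNp
    have hvN : (Nat.card N).factorization p = j := by
      rw [hj, Nat.Prime.factorization_pow hM.1, Finsupp.single_eq_same]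
    have hIv : I = (p : ℤ) ^ degVal p θ := by
      have hG0 : (Nat.card G : ℂ) ≠ 0 := Nat.cast_ne_zero.mpr Nat.card_pos.ne'
      have h2 := hsum
      rw [← hdeg, hvN, pow_add, mul_assoc] at hI
      rw [hj, Nat.cast_pow] at h2
      rw [h2, mul_one] at hI
      exact_mod_cast hI.symm
    rw [hIv] at h1
    have h3 : (p : ℕ) ^ (degVal p θ + 1) ∣ p ^ degVal p θ := by exact_mod_cast h1
    exact absurd ((Nat.pow_dvd_pow_iff_le_right hM.1.one_lt).mp h3) (by omega)
  have hmin := (regN_ne_zero_iff hM hB hθ hθ).mp hreg0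
  have h4 : minDeg p B = degVal p θ :=
    ((blockHeight_eq_zero_iff hθ).mp ((forall_degVal_le_iff hθ).mp hmin)).symm
  rw [blockDefect]
  show _ - minDeg p B = _
  omega

/-- A block with central defect group has a character with the defect group in its kernel. -/
theorem exists_kernel_of_central_defect (hM : IsPModular p M) {B : Set (IrrCharacter G)}
    (hB : IsPBlock M B) (hN : N ≤ Subgroup.center G) (hNp : IsPGroup p N)
    (hd : blockDefect p B = (Nat.card N).factorization p) :
    ∃ θ ∈ B, (∀ z ∈ N, (θ : G → ℂ) z = (θ : G → ℂ) 1) ∧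
      degVal p θ + (Nat.card N).factorization p = (Nat.card G).factorization p := by
  classical
  have hpf : Fact p.Prime := ⟨hM.1⟩
  have := Fintype.ofFinite (IrrCharacter G)
  have hNn : N.Normal := ⟨fun z hz g => by
    rwa [Subgroup.mem_center_iff.mp (hN hz) g, mul_inv_cancel_right]⟩
  set s : Finset (IrrCharacter G) := Finset.univ.filter (· ∈ B) with hs
  have hfin : ∀ F : IrrCharacter G → ℂ, (∑ᶠ χ ∈ B, F χ) = ∑ χ ∈ s, F χ := fun F => by
    rw [finsum_mem_eq_toFinset_sum]
    refine Finset.sum_congr ?_ fun _ _ => rfl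
    ext χ
    simp [s]
  have h0 : ∑ z : N, ∑ χ ∈ s, (χ : G → ℂ) 1 * conj ((χ : G → ℂ) z) =
      ∑ χ ∈ s, (χ : G → ℂ) 1 * conj ((χ : G → ℂ) 1) := by
    rw [Finset.sum_eq_single 1]
    · rfl
    · intro z _ hz
      rw [← hfin]
      refine blockUnion_orthogonal_regular_singular hM (.of_isPBlock hB) (by simp [hM.1.ne_one]) ?_
      obtain ⟨k, hk⟩ := IsPGroup.iff_orderOf.mp hNp z
      rw [Subgroup.orderOf_coe, hk]
      rcases Nat.eq_zero_or_pos k with rfl | hk0
      · rw [pow_zero, orderOf_eq_one_iff] at hk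
        exact absurd hk hz
      · exact dvd_pow_self p hk0.ne'
    · simp
  have hne : ∃ χ ∈ B, ∑ z : N, (χ : G → ℂ) z ≠ 0 := by
    by_contra hall
    push Not at hall
    rw [Finset.sum_comm, Finset.sum_eq_zero (fun χ hχ => by
      rw [← Finset.mul_sum, ← map_sum, hall χ (Finset.mem_filter.mp hχ).2, map_zero, mul_zero])] at h0
    obtain ⟨χ₀, hχ₀⟩ := isPBlock_nonempty hB
    have hpos : (0 : ℝ) < ∑ χ ∈ s, Complex.normSq ((χ : G → ℂ) 1) :=
      Finset.sum_pos' (fun χ _ => Complex.normSq_nonneg _) ⟨χ₀, by simp [s, hχ₀],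
        Complex.normSq_pos.mpr (Char.irr_one_ne_zero χ₀)⟩
    have h1 : ((∑ χ ∈ s, Complex.normSq ((χ : G → ℂ) 1) : ℝ) : ℂ) = 0 := by
      rw [Complex.ofReal_sum]
      simpa [Complex.mul_conj] using h0.symm
    exact hpos.ne' (Complex.ofReal_eq_zero.mp h1)
  obtain ⟨χ, hχ, hχne⟩ := hne
  have hker : ∀ z ∈ N, (χ : G → ℂ) z = (χ : G → ℂ) 1 := by
    obtain ⟨n, ρ, hρ, hρχ⟩ := χ.2
    have hsc : ∀ z : N, ∃ c : ℂ, ρ (z : G) = c • LinearMap.id := fun z =>
      Char.schur_scalar ρ _ fun x => by
        rw [← map_mul, ← map_mul, Subgroup.mem_center_iff.mp (hN z.2) x]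
    choose c hc using hsc
    have hmul : ∀ w z : N, (χ : G → ℂ) ((w * z : N) : G) = c w * (χ : G → ℂ) (z : G) := fun w z => by
      rw [← hρχ, Representation.character, Representation.character, Subgroup.coe_mul, map_mul, hc w,
        smul_mul_assoc, map_smul, smul_eq_mul]
      rfl
    intro w hw
    have h1 : ∑ z : N, (χ : G → ℂ) z = c ⟨w, hw⟩ * ∑ z : N, (χ : G → ℂ) z := by
      rw [Finset.mul_sum]
      exact (Fintype.sum_equiv (Equiv.mulLeft (⟨w, hw⟩ : N)) _ _ fun z => (hmul _ z).symm).symm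
    have h2 : c ⟨w, hw⟩ = 1 := mul_right_cancel₀ hχne (h1.symm.trans (one_mul _).symm)
    have h3 := hmul ⟨w, hw⟩ 1
    simpa [h2] using h3
  refine ⟨χ, hχ, hker, le_antisymm (degVal_add_le hM.1 χ hker) ?_⟩
  have h1 := minDeg_le (p := p) hχ
  rw [blockDefect] at hd
  change _ - minDeg p B = _ at hd
  omega

/-- A block with central defect group: one character with the defect group in its kernel, regular
rank one. -/
theorem central_defect_rank_one [Fintype (IrrCharacter G)] (hM : IsPModular p M)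
    {B : Set (IrrCharacter G)} [DecidablePred (· ∈ B)] (hB : IsPBlock M B)
    (hN : N ≤ Subgroup.center G) (hNp : IsPGroup p N)
    (hd : blockDefect p B = (Nat.card N).factorization p) {θ : IrrCharacter G} (hθ : θ ∈ B)
    (hker : ∀ z ∈ N, (θ : G → ℂ) z = (θ : G → ℂ) 1) :
    degVal p θ + (Nat.card N).factorization p = (Nat.card G).factorization p ∧
    (∀ ψ ∈ B, (∀ z ∈ N, (ψ : G → ℂ) z = (ψ : G → ℂ) 1) → ψ = θ) ∧
    (∀ η ∈ B, ∀ y : G, ¬ p ∣ orderOf y →
      (η : G → ℂ) y = (Nat.card N : ℂ) * regInner p θ η * (θ : G → ℂ) y) ∧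
    ∀ y z : G, ¬ p ∣ orderOf y → ¬ p ∣ orderOf z →
      ∑ η ∈ Finset.univ.filter (· ∈ B), (η : G → ℂ) y * conj ((η : G → ℂ) z) =
        (Nat.card N : ℂ) * ((θ : G → ℂ) y * conj ((θ : G → ℂ) z)) := by
  classical
  have hpf : Fact p.Prime := ⟨hM.1⟩
  have := Fintype.ofFinite (ConjClasses G)
  have hS := IsBlockUnion.of_isPBlock hB
  have hNn : N.Normal := ⟨fun z hz g => by
    rwa [Subgroup.mem_center_iff.mp (hN hz) g, mul_inv_cancel_right]⟩
  have hfull : ∀ ψ ∈ B, (∀ z ∈ N, (ψ : G → ℂ) z = (ψ : G → ℂ) 1) →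
      degVal p ψ + (Nat.card N).factorization p = (Nat.card G).factorization p := fun ψ hψ hk => by
    refine le_antisymm (degVal_add_le hM.1 ψ hk) ?_
    have h1 := minDeg_le (p := p) hψ
    have h2 : (Nat.card G).factorization p - minDeg p B = (Nat.card N).factorization p := hd
    omega
  have hdeg := hfull θ hθ hker
  have huniq : ∀ ψ ∈ B, (∀ z ∈ N, (ψ : G → ℂ) z = (ψ : G → ℂ) 1) → ψ = θ := by
    intro ψ hψ hk
    by_contra hne
    have h1 := card_mul_regInner_kernel hM hN hNp hker hk hdeg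
    rw [if_neg (Ne.symm hne), mul_eq_zero] at h1
    have h0 : regInner p θ ψ = 0 := h1.resolve_left (Nat.cast_ne_zero.mpr Nat.card_pos.ne')
    have hmin : ∀ η ∈ B, degVal p ψ ≤ degVal p η := fun η hη => by
      have h2 := minDeg_le (p := p) hη
      have h3 := hfull ψ hψ hk
      have h4 : (Nat.card G).factorization p - minDeg p B = (Nat.card N).factorization p := hd
      obtain ⟨χ, hχ, hχd⟩ := exists_minDeg (p := p) (isPBlock_nonempty hB)
      have h5 := degVal_le_card (p := p) χ
      omega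
    obtain ⟨I, hI, -, hI2⟩ := regInner_valuation hM θ ψ
    rw [h0, mul_zero] at hI
    refine (regN_ne_zero_iff hM hB hθ hψ).mpr hmin (hI2.mp ?_)
    rw [show I = 0 by exact_mod_cast hI.symm]
    exact dvd_zero _
  have hfin : ∀ F : IrrCharacter G → ℂ,
      (∑ᶠ χ ∈ B, F χ) = ∑ χ ∈ Finset.univ.filter (· ∈ B), F χ := fun F => by
    rw [finsum_mem_eq_toFinset_sum]
    exact Finset.sum_congr (by ext; simp) fun _ _ => rfl
  have hkey : ∀ y z : G, ¬ p ∣ orderOf y → ¬ p ∣ orderOf z →
      ∑ η ∈ Finset.univ.filter (· ∈ B), (η : G → ℂ) y * conj ((η : G → ℂ) z) =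
        (Nat.card N : ℂ) * ((θ : G → ℂ) y * conj ((θ : G → ℂ) z)) := by
    intro y z hy hz
    have h1 : ∑ n : N, ∑ η ∈ Finset.univ.filter (· ∈ B),
        (η : G → ℂ) y * conj ((η : G → ℂ) ((n : G) * z)) =
        ∑ η ∈ Finset.univ.filter (· ∈ B), (η : G → ℂ) y * conj ((η : G → ℂ) z) := by
      rw [Finset.sum_eq_single 1]
      · simp
      · intro n _ hn
        rw [← hfin]
        obtain ⟨k, hk⟩ := IsPGroup.iff_orderOf.mp hNp n
        refine blockUnion_orthogonal_conj hM hS (isPPart_one_of_not_dvd hy)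
          (⟨z, rfl, (Subgroup.mem_center_iff.mp (hN n.2) z).symm,
            ⟨k, by rw [Subgroup.orderOf_coe, hk]⟩, hz⟩ : IsPPart p ((n : G) * z) (n : G)) fun h => hn ?_
        exact Subtype.ext (isConj_one_right.mp h)
      · simp
    rw [← h1, Finset.sum_comm, Finset.sum_eq_single θ]
    · rw [Finset.sum_congr rfl (g := fun _ => (θ : G → ℂ) y * conj ((θ : G → ℂ) z)) fun n _ => ?_,
        Finset.sum_const, Finset.card_univ, ← Nat.card_eq_fintype_card, nsmul_eq_mul]
      obtain ⟨θ', hθ'⟩ := exists_deflate θ hker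
      rw [← hθ' ((n : G) * z), QuotientGroup.mk_mul, (QuotientGroup.eq_one_iff (n : G)).mpr n.2,
        one_mul, hθ']
    · intro η hη hne
      obtain ⟨m, ρ, hρ, hρη⟩ := η.2
      have hsc : ∀ w : N, ∃ c : ℂ, ρ (w : G) = c • LinearMap.id := fun w =>
        Char.schur_scalar ρ _ fun x => by
          rw [← map_mul, ← map_mul, Subgroup.mem_center_iff.mp (hN w.2) x]
      choose c hc using hsc
      have hmul : ∀ (w : N) (g : G), (η : G → ℂ) ((w : G) * g) = c w * (η : G → ℂ) g := fun w g => by
        rw [← hρη, Representation.character, Representation.character, map_mul, hc w,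
          smul_mul_assoc, map_smul, smul_eq_mul]
        rfl
      have hcne : ∃ w : N, c w ≠ 1 := by
        by_contra hall
        push Not at hall
        refine hne (huniq η (Finset.mem_filter.mp hη).2 fun w hw => ?_)
        have h2 := hmul ⟨w, hw⟩ 1
        rw [hall, one_mul, mul_one] at h2
        exact h2
      obtain ⟨w, hw⟩ := hcne
      rw [← Finset.mul_sum, ← map_sum]
      suffices h3 : ∑ n : N, (η : G → ℂ) ((n : G) * z) = 0 by rw [h3, map_zero, mul_zero]
      set S := ∑ n : N, (η : G → ℂ) ((n : G) * z) with hS'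
      have h4 : S = c w * S := by
        rw [hS', Finset.mul_sum]
        refine (Fintype.sum_equiv (Equiv.mulLeft w) _ _ fun n => ?_).symm
        rw [← hmul]
        simp [mul_assoc]
      by_contra hS0
      exact hw (mul_right_cancel₀ hS0 (h4.symm.trans (one_mul S).symm))
    · intro h
      simp [hθ] at h
  have hrank : ∑ η ∈ Finset.univ.filter (· ∈ B), regInner p η η = 1 := by
    have h1 := card_mul_regInner_kernel hM hN hNp hker hker hdeg
    rw [if_pos rfl] at h1
    apply mul_left_cancel₀ (Nat.cast_ne_zero.mpr Nat.card_pos.ne' : (Nat.card G : ℂ) ≠ 0)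
    rw [Finset.mul_sum, Finset.sum_congr rfl fun η _ => card_mul_regInner p η η, Finset.sum_comm,
      Finset.sum_congr rfl fun y hy => Eq.trans (Finset.sum_congr rfl fun η _ => by rw [Char.irr_inv])
        (hkey y y (Finset.mem_filter.mp hy).2 (Finset.mem_filter.mp hy).2), ← Finset.mul_sum]
    conv_lhs => rw [Finset.sum_congr rfl fun y _ => by rw [← Char.irr_inv]]
    rw [← card_mul_regInner, mul_left_comm, h1]
  refine ⟨hdeg, huniq, fun η hη y hy => ?_, hkey⟩
  -- `η° - c θ°` has vanishing norm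
  have h1 := card_mul_regInner_kernel hM hN hNp hker hker hdeg
  rw [if_pos rfl] at h1
  set a : ℂ := (Nat.card N : ℂ) with ha
  set f : IrrCharacter G → G → ℂ := fun ζ x =>
    regFun p (ζ : G → ℂ) x - a * regInner p θ ζ * regFun p (θ : G → ℂ) x with hf
  have hnorm : ∀ ζ : IrrCharacter G, classInner (f ζ) (f ζ) =
      regInner p ζ ζ - a * (regInner p θ ζ * regInner p θ ζ) := by
    intro ζ
    have hinner : ∀ α β : IrrCharacter G,
        classInner (regFun p (α : G → ℂ)) (regFun p (β : G → ℂ)) = regInner p α β := fun α β => by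
      simp only [regInner, classInner, regFun]
      congr 1
      refine Finset.sum_congr rfl fun x _ => ?_
      by_cases hx : p ∣ orderOf x <;> simp [hx]
    have hr : conj (regInner p θ ζ) = regInner p θ ζ := by rw [conj_regInner, regInner_comm hM]
    have hexp : classInner (f ζ) (f ζ) =
        classInner (regFun p (ζ : G → ℂ)) (regFun p (ζ : G → ℂ))
        - conj (a * regInner p θ ζ) * classInner (regFun p (ζ : G → ℂ)) (regFun p (θ : G → ℂ))
        - (a * regInner p θ ζ) * classInner (regFun p (θ : G → ℂ)) (regFun p (ζ : G → ℂ))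
        + (a * regInner p θ ζ) * conj (a * regInner p θ ζ) *
          classInner (regFun p (θ : G → ℂ)) (regFun p (θ : G → ℂ)) := by
      simp only [classInner, Finset.mul_sum, ← Finset.sum_sub_distrib, ← Finset.sum_add_distrib]
      refine Finset.sum_congr rfl fun x _ => ?_
      simp only [hf, map_sub, map_mul]
      ring
    rw [hexp, hinner, hinner, hinner, hinner, map_mul, hr, ha, map_natCast, regInner_comm hM ζ θ]
    linear_combination ((Nat.card N : ℂ) * regInner p θ ζ * regInner p θ ζ) * h1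
  have hzero : ∑ ζ ∈ Finset.univ.filter (· ∈ B), classInner (f ζ) (f ζ) = 0 := by
    rw [Finset.sum_congr rfl fun ζ _ => hnorm ζ, Finset.sum_sub_distrib, hrank, ← Finset.mul_sum]
    have h2 := sum_regInner_mul_regInner p θ θ
    rw [← Finset.sum_subset (Finset.subset_univ (Finset.univ.filter (· ∈ B))) fun ζ _ hζ => by
      rw [regInner_eq_zero_of_not_mem hM hS hθ (by simpa using hζ), zero_mul]] at h2
    rw [Finset.sum_congr rfl fun ζ _ => by rw [regInner_comm hM ζ θ]] at h2
    rw [h2, h1, sub_self]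
  have hsq : ∑ ζ ∈ Finset.univ.filter (· ∈ B), ∑ x : G, Complex.normSq (f ζ x) = 0 := by
    have hG0 : (Nat.card G : ℂ) ≠ 0 := Nat.cast_ne_zero.mpr Nat.card_pos.ne'
    apply Complex.ofReal_eq_zero.mp
    rw [Complex.ofReal_sum]
    have h3 := congrArg (fun c : ℂ => (Nat.card G : ℂ) * c) hzero
    simp only [Finset.mul_sum, mul_zero] at h3
    rw [← h3]
    refine Finset.sum_congr rfl fun ζ _ => ?_
    rw [classInner, ← mul_assoc, mul_inv_cancel₀ hG0, one_mul, Complex.ofReal_sum]
    exact Finset.sum_congr rfl fun x _ => (Complex.mul_conj _).symm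
  have h4 := (Finset.sum_eq_zero_iff_of_nonneg
    (fun ζ _ => Finset.sum_nonneg fun x _ => Complex.normSq_nonneg _)).mp hsq η (by simp [hη])
  have h5 := Complex.normSq_eq_zero.mp
    ((Finset.sum_eq_zero_iff_of_nonneg (fun x _ => Complex.normSq_nonneg _)).mp h4 y (Finset.mem_univ y))
  simp only [hf, regFun, hy, if_false, sub_eq_zero] at h5
  exact h5

open scoped Pair

variable {Q : Subgroup G}

/-- The functional of a pair on the centre of `kT` is the reduced central character of its local
block. -/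
theorem IsLocalBlock.omG_emb_eq (hM : IsPModular p M) {f : Set (IrrCharacter (CQ Q))}
    (hf : IsBrauerPair p M Q f) {T : Subgroup G} (hQT : Q ≤ T) {F : Set (IrrCharacter T)}
    (hL : IsLocalBlock M Q f T F) {η : IrrCharacter (CQ Q)} (hη : η ∈ f) {χ : IrrCharacter T}
    (hχ : χ ∈ F) (z : ZK M T) :
    omG M η (emb (z : MonoidAlgebra (ResField M) T) : MonoidAlgebra (ResField M) G) =
      omegaBar M χ z := by
  classical
  -- the functional of `η` on the centre of `kT`
  let F' : MonoidAlgebra (ResField M) T → ResField M := fun z =>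
    omG M η (emb z : MonoidAlgebra (ResField M) G)
  have hcl : ∀ z : ZK M T, CInv T (emb (z : MonoidAlgebra (ResField M) T) : MonoidAlgebra (ResField M) G) :=
    fun z => cinv_of_commute fun s hs =>
      commute_single_emb (mem_center_iff_isClassElt.mp z.2) ⟨s, hs⟩
  let φ : ZK M T →+* ResField M :=
    { toFun := fun z => F' (z : _)
      map_one' := by
        simp only [F', OneMemClass.coe_one]
        rw [omG_congr η fun g hg => emb_one_apply (hL.le hg), omG_one]
      map_mul' := fun y y' => by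
        simp only [F']
        rw [MulMemClass.coe_mul, emb_mul, omG_mul_fixed hM hf.1 η ((hcl y).mono hQT)
          ((hcl y').mono hQT) ((hcl y).mono hL.le) ((hcl y').mono hL.le)]
      map_zero' := by
        simp only [F', ZeroMemClass.coe_zero]
        rw [omG_congr η (y' := 0) fun g hg => ?_, omG_zero]
        simp [emb]
      map_add' := fun y y' => by
        simp only [F', ← omG_add]
        refine omG_congr η fun g hg => ?_
        rw [show g = ((⟨g, hL.le hg⟩ : T) : G) from rfl,
          MonoidAlgebra.coeff_add, Finsupp.add_apply, coeff_emb_coe, coeff_emb_coe, coeff_emb_coe]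
        simp }
  obtain ⟨χ', hχ'⟩ := exists_omegaBar_eq hM φ fun c => by
    show F' _ = c
    simp only [F', Algebra.algebraMap_eq_smul_one, SetLike.val_smul, OneMemClass.coe_one]
    rw [omG_congr η (y' := c • 1) fun g hg => ?_, omG_smul, omG_one, mul_one]
    rw [MonoidAlgebra.coeff_smul, Finsupp.smul_apply, ← emb_one_apply (hL.le hg),
      show g = ((⟨g, hL.le hg⟩ : T) : G) from rfl, coeff_emb_coe,
      coeff_emb_coe, MonoidAlgebra.coeff_smul, Finsupp.smul_apply]
  have hχ'F : χ' ∈ F := by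
    by_contra h
    have h1 : φ (blockBar M F) = 1 := by
      show omG M η (eG M F) = 1
      rw [hL.eq, omG_eG hM hf.2, if_pos hη]
    rw [hχ', omegaBar_blockBar hM (.of_isPBlock hL.block), if_neg h] at h1
    exact zero_ne_one h1
  rw [← omegaBar_eq_of_mem hL.block hχ'F hχ, ← hχ']
  rfl

/-- A local block with defect group `Q`: `p`-elements of the subgroup lie in `Q C(Q)`. -/
theorem IsLocalBlock.pElement_le (hM : IsPModular p M) {f : Set (IrrCharacter (CQ Q))}
    (hf : IsBrauerPair p M Q f) {T : Subgroup G} (hQT : Q ≤ T) {F : Set (IrrCharacter T)}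
    (hL : IsLocalBlock M Q f T F) (hD : IsDefectGroup p M F (Q.subgroupOf T))
    {g : G} (hg : g ∈ T) {a : ℕ} (hga : orderOf g = p ^ a) : g ∈ Q ⊔ CQ Q := by
  classical
  have hpf : Fact p.Prime := ⟨hM.1⟩
  have := charP_resField hM
  obtain ⟨x, hx, hxc, hxω⟩ := exists_isSylowCent_of_isDefectGroup hM hL.block hD
  obtain ⟨χ, hχ⟩ := isPBlock_nonempty hL.block
  obtain ⟨η, hη⟩ := isPBlock_nonempty hf.2
  have hcl : ∀ z : ZK M T, CInv T (emb (z : MonoidAlgebra (ResField M) T) : MonoidAlgebra (ResField M) G) :=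
    fun z => cinv_of_commute fun s hs =>
      commute_single_emb (mem_center_iff_isClassElt.mp z.2) ⟨s, hs⟩
  set y := (emb (classBar M x : MonoidAlgebra (ResField M) T) : MonoidAlgebra (ResField M) G) with hy
  have hne : omG M η y ≠ 0 := by
    rw [hy, hL.omG_emb_eq hM hf hQT hη hχ, omegaBar_classBar]
    exact hxω χ hχ
  -- `g` acting on the classes of `C(Q)`
  have hgN : ∀ u : Subgroup.zpowers g, (u : G) ∈ Subgroup.normalizer (Q : Set G) :=
    fun u => hL.norm ((Subgroup.zpowers_le.mpr hg) u.2)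
  let act : Subgroup.zpowers g → ConjClasses (CQ Q) → ConjClasses (CQ Q) := fun u =>
    ConjClasses.map (cjHom (K := CQ Q) (K' := CQ Q) (cq_conj_iff (hgN u))).toMonoidHom
  have hact : ∀ u (k : CQ Q), act u (ConjClasses.mk k) =
      ConjClasses.mk ⟨(u : G) * k * (u : G)⁻¹, (cq_conj_iff (hgN u) _).mp k.2⟩ := fun u k => rfl
  letI : MulAction (Subgroup.zpowers g) (ConjClasses (CQ Q)) :=
    { smul := act
      one_smul := fun C => by
        induction C using Quotient.inductionOn with
        | h k =>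
          show act 1 (ConjClasses.mk k) = ConjClasses.mk k
          rw [hact]
          exact congrArg _ (Subtype.ext (by simp))
      mul_smul := fun u v C => by
        induction C using Quotient.inductionOn with
        | h k =>
          show act (u * v) (ConjClasses.mk k) = act u (act v (ConjClasses.mk k))
          rw [hact, hact, hact]
          exact congrArg _ (Subtype.ext (by simp [mul_assoc])) }
  let w : ConjClasses (CQ Q) → ResField M := fun C =>
    y.coeff ((rep C : CQ Q) : G) * centralRes M η (rep C)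
  have hw : ∀ k : CQ Q, w (ConjClasses.mk k) = y.coeff (k : G) * centralRes M η k := fun k => by
    obtain ⟨c, hc⟩ := isConj_iff.mp (isConj_rep k).symm
    show y.coeff ((rep (ConjClasses.mk k) : CQ Q) : G) * centralRes M η (rep (ConjClasses.mk k)) = _
    rw [← hc, centralRes_conj_elt, Subgroup.coe_mul, Subgroup.coe_mul, InvMemClass.coe_inv,
      hcl (classBar M x) (c : G) (hL.le c.2) (k : G)]
  have hw' : ∀ (u : Subgroup.zpowers g) (C : ConjClasses (CQ Q)), w (u • C) = w C := by
    intro u C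
    induction C using Quotient.inductionOn with
    | h k =>
      show w (act u (ConjClasses.mk k)) = w (ConjClasses.mk k)
      have huT : (u : G) ∈ T := (Subgroup.zpowers_le.mpr hg) u.2
      rw [hact, hw, hw, hcl (classBar M x) (u : G) huT (k : G)]
      congr 1
      set e := irrEquiv (cjHom (K := CQ Q) (K' := CQ Q) (cq_conj_iff (hgN u))) with he
      have hset : conjSet (u : G) (CQ Q) (CQ Q) f = f :=
        eG_inj hM (isPBlock_conjN (hgN u) hf.2) hf.2 ((eG_conjN (hgN u) f).trans
          (cinv_iff_cj.mp ((cinv_eG (M := M) F).mono le_rfl) _ huT |> fun h => by rwa [hL.eq] at h))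
      rw [conjSet_eq_image (cq_conj_iff (hgN u))] at hset
      have heη : e η ∈ f := hset.le (Set.mem_image_of_mem e hη)
      rw [← centralRes_eq_of_mem hf.2 heη hη]
      exact centralRes_irrEquiv (cjHom (K := CQ Q) (K' := CQ Q) (cq_conj_iff (hgN u))) η k
  have hsum : omG M η y = ∑ C, w C := rfl
  rw [hsum, sum_eq_sum_fixedPoints (p := p)
    (IsPGroup.of_card (n := a) (by rw [Nat.card_zpowers, hga])) w hw'] at hne
  obtain ⟨C, hC, hCne⟩ := Finset.exists_ne_zero_of_sum_ne_zero hne
  induction C using Quotient.inductionOn with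
  | h k =>
    change w (ConjClasses.mk k) ≠ 0 at hCne
    rw [hw] at hCne
    have hkx : IsConj x ⟨(k : G), hL.le k.2⟩ := by
      by_contra h
      apply left_ne_zero_of_mul hCne
      rw [hy, show (k : G) = ((⟨(k : G), hL.le k.2⟩ : T) : G) from rfl, coeff_emb_coe]
      simp only [classBar, classSum, coeff_gaOfFun, if_neg h]
    have hfix : ConjClasses.mk (⟨g * k * g⁻¹, (cq_conj_iff (hL.norm hg) _).mp k.2⟩ : CQ Q) =
        ConjClasses.mk k := (Finset.mem_filter.mp hC).2 ⟨g, Subgroup.mem_zpowers g⟩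
    obtain ⟨c, hc⟩ := isConj_iff.mp (ConjClasses.mk_eq_mk_iff_isConj.mp hfix)
    -- `t := c g` centralizes `k`
    set t : G := (c : G) * g with ht
    have htk : t * k * t⁻¹ = k := by
      have h1 := congrArg Subtype.val hc
      simp only [Subgroup.coe_mul, InvMemClass.coe_inv] at h1
      rw [ht]
      calc (c : G) * g * k * ((c : G) * g)⁻¹ = c * (g * k * g⁻¹) * (c : G)⁻¹ := by group
        _ = k := h1
    have htT : t ∈ T := mul_mem (hL.le c.2) hg
    -- a power of `t` is a `p`-element congruent to `g`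
    obtain ⟨i, hi1, hi0⟩ := Nat.chineseRemainder
      ((Nat.coprime_ordCompl hM.1 (orderOf_pos t).ne').pow_left
        (a + (orderOf t).factorization p)) 1 0
    have hgi : g ^ i = g := by
      conv_rhs => rw [← pow_one g]
      rw [pow_eq_pow_iff_modEq, hga]
      exact hi1.of_dvd (pow_dvd_pow p (Nat.le_add_right _ _))
    have htip : (t ^ i) ^ (p ^ (orderOf t).factorization p) = 1 := by
      rw [← pow_mul, ← orderOf_dvd_iff_pow_eq_one]
      calc orderOf t = ordCompl[p] (orderOf t) * p ^ (orderOf t).factorization p := by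
            rw [mul_comm, Nat.ordProj_mul_ordCompl_eq_self]
        _ ∣ i * p ^ (orderOf t).factorization p :=
            mul_dvd_mul_right (Nat.modEq_zero_iff_dvd.mp hi0) _
    have hpow : ∀ m : ℕ, t ^ m * (g ^ m)⁻¹ ∈ CQ Q := by
      intro m
      induction m with
      | zero => simp
      | succ m ih =>
        have hgm : g ^ m ∈ Subgroup.normalizer (Q : Set G) := pow_mem (hL.norm hg) m
        rw [show t ^ (m + 1) * (g ^ (m + 1))⁻¹ =
          (t ^ m * (g ^ m)⁻¹) * (g ^ m * (c : G) * (g ^ m)⁻¹) by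
            rw [pow_succ, pow_succ, ht]; group]
        exact mul_mem ih ((cq_conj_iff hgm _).mp c.2)
    have hsyl : IsSylowCent p (⟨(k : G), hL.le k.2⟩ : T) (Q.subgroupOf T) := by
      obtain ⟨s, hs⟩ := isConj_iff.mp hkx
      have h2 := hx.conj_elt s
      rw [hs] at h2
      have hn : (Q.subgroupOf T).Normal :=
        Subgroup.normal_subgroupOf_iff_le_normalizer hQT |>.mpr hL.norm
      convert h2 using 1
      refine (Subgroup.eq_of_le_of_card_ge ?_ ?_).symm
      · rintro _ ⟨u, hu, rfl⟩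
        exact hn.conj_mem u hu s
      · rw [Subgroup.card_map_of_injective (f := (MulAut.conj s).toMonoidHom) (MulAut.conj s).injective]
    have htiQ : t ^ i ∈ Q := by
      have hp' : IsPGroup p (Subgroup.zpowers (⟨t ^ i, pow_mem htT i⟩ : T)) := by
        obtain ⟨j, -, hj⟩ := (Nat.dvd_prime_pow hM.1).mp (orderOf_dvd_of_pow_eq_one htip)
        exact IsPGroup.of_card (n := j) (by rw [Nat.card_zpowers, Subgroup.orderOf_mk, hj])
      obtain ⟨s, hs⟩ := CfsgLib.Block.conjLE_iff.mp (hsyl.conjLE hp' fun u hu => by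
        obtain ⟨j, rfl⟩ := Subgroup.mem_zpowers_iff.mp hu
        refine Commute.zpow_left (Subtype.ext ?_) j
        have : Commute t (k : G) := mul_inv_eq_iff_eq_mul.mp htk
        exact (this.pow_left i).eq)
      have h1 := hs _ (Subgroup.mem_zpowers _)
      have h3 := (Subgroup.mem_normalizer_iff.mp (hL.norm s.2) (t ^ i)).mpr
        (Subgroup.mem_subgroupOf.mp h1)
      exact h3
    have h4 : g ^ i = (t ^ i * (g ^ i)⁻¹)⁻¹ * t ^ i := by group
    rw [← hgi, h4]
    exact mul_mem (Subgroup.mem_sup_right (inv_mem (hpow i))) (Subgroup.mem_sup_left htiQ)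

end CfsgLib.Block
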