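import Cfsg.Agent.Lib.Block.CoveringMax
import Cfsg.Agent.Lib.Block.CentralDefect

/-!
# Blocks over a normal subgroup of order prime to `p`
-/

open Finset
open scoped ComplexConjugate

set_option linter.unusedSectionVars false

namespace CfsgLib.Block

open Cfsg CfsgLib.Block.Iso
open scoped Pair

universe u

section coprime

variable {p : ℕ} {M : Ideal AlgInt} [M.IsMaximal] {A : Type u} [Group A] [Fintype A] [DecidableEq A]

/-- In a group of order prime to `p` every block has a single member. -/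
theorem eq_of_sameBlock_of_coprime (hM : IsPModular p M) (hA : ¬ p ∣ Nat.card A)
    {θ η : IrrCharacter A} (h : SameBlock M (θ : A → ℂ) (η : A → ℂ)) : θ = η := by
  classical
  by_contra hne
  have hz : IsClassElt (gaOfFun fun g => invNat hM hA * irrLoc M θ 1 * irrLoc M θ g⁻¹) :=
    fun g k => by
    simp only [coeff_gaOfFun]
    congr 1
    apply Subtype.ext
    simp only [coe_irrLoc, mul_inv_rev, inv_inv, ← mul_assoc, Char.isClassFunction_irr θ g⁻¹ k]
  set z : ZL M A := ⟨_, mem_center_iff_isClassElt.mpr hz⟩ with hzdef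
  have hzc : toC M (z : MonoidAlgebra (locRing M) A) = charIdem (θ : A → ℂ) := ga_ext fun g => by
    simp [hzdef, charIdem, invNat, Char.irr_inv, mul_assoc]
  have h1 : omegaLoc M θ z = 1 := Subtype.ext (by rw [coe_omegaLoc, hzc, omega_charIdem, if_pos rfl]; rfl)
  have h2 : omegaLoc M η z = 0 := Subtype.ext (by
    rw [coe_omegaLoc, hzc, omega_charIdem, if_neg (Ne.symm hne)]; rfl)
  have h3 := RingHom.congr_fun (sameBlock_iff_omegaRes.mp h) z
  rw [omegaRes, omegaRes, RingHom.comp_apply, RingHom.comp_apply, h1, h2, map_one, map_zero] at h3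
  exact one_ne_zero h3

end coprime

variable {p : ℕ} {M : Ideal AlgInt} [M.IsMaximal] {G : Type u} [Group G] [Fintype G] [DecidableEq G]
  {N : Subgroup G} [hNn : N.Normal] [Fintype N]

/-- Characters in one block have the same constituents on a normal subgroup of order prime to
`p`. -/
theorem constituent_iff_of_sameBlock (hM : IsPModular p M) (hN : ¬ p ∣ Nat.card N)
    {χ ψ : IrrCharacter G} (h : SameBlock M (χ : G → ℂ) (ψ : G → ℂ)) (θ : IrrCharacter N)
    (hc : classInner (fun n : N => (χ : G → ℂ) n) (θ : N → ℂ) ≠ 0) :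
    classInner (fun n : N => (ψ : G → ℂ) n) (θ : N → ℂ) ≠ 0 := by
  obtain ⟨η, hη, hcη⟩ := Covers.exists_constituent_mem hM (isPBlock_blockOf χ)
    (isPBlock_blockOf θ) ⟨χ, self_mem_blockOf χ, θ, self_mem_blockOf θ, hc⟩ (h : ψ ∈ blockOf M _)
  rwa [← eq_of_sameBlock_of_coprime hM hN (hη : SameBlock M _ _)] at hcη

/-- A character trivial on a normal subgroup has only the trivial constituent there. -/
theorem classInner_one_ne_zero (χ : IrrCharacter G)
    (h : ∀ n ∈ N, (χ : G → ℂ) n = (χ : G → ℂ) 1) :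
    classInner (fun n : N => (χ : G → ℂ) n) (oneChar N : N → ℂ) ≠ 0 := by
  rw [show (fun n : N => (χ : G → ℂ) n) = (χ : G → ℂ) 1 • (oneChar N : N → ℂ) from
    funext fun n => by simp [oneChar, h n n.2], Char.classInner_smul_left, Char.classInner_irr_self,
    mul_one]
  exact Char.irr_one_ne_zero χ

/-- The characters of a block with one member trivial on a normal subgroup of order prime to `p`
are all trivial there. -/
theorem trivial_of_sameBlock (hM : IsPModular p M) (hN : ¬ p ∣ Nat.card N) {χ ψ : IrrCharacter G}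
    (h : SameBlock M (χ : G → ℂ) (ψ : G → ℂ)) (hχ : ∀ n ∈ N, (χ : G → ℂ) n = (χ : G → ℂ) 1)
    {n : G} (hn : n ∈ N) : (ψ : G → ℂ) n = (ψ : G → ℂ) 1 := by
  classical
  have := Fintype.ofFinite (IrrCharacter N)
  have hcov : Covers (blockOf M (χ : G → ℂ)) (blockOf M (oneChar N : N → ℂ)) :=
    ⟨χ, self_mem_blockOf χ, oneChar N, self_mem_blockOf _, classInner_one_ne_zero χ hχ⟩
  have hall : ∀ θ : IrrCharacter N, θ ≠ oneChar N →
      classInner (fun m : N => (ψ : G → ℂ) m) (θ : N → ℂ) = 0 := fun θ hθ => by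
    by_contra hne
    obtain ⟨g, hg⟩ := hcov.constituent_mem hM (isPBlock_blockOf χ) (isPBlock_blockOf _)
      (h : ψ ∈ blockOf M _) hne
    refine hθ (Subtype.ext (funext fun m => ?_))
    have h1 : oneChar N = cjN g θ := eq_of_sameBlock_of_coprime hM hN hg
    have h2 := congrFun (congrArg Subtype.val h1.symm)
      ⟨g * m * g⁻¹, hNn.conj_mem m m.2 g⟩
    rw [cjN_apply] at h2
    simpa [oneChar, mul_assoc] using h2
  have hexp := Char.classFun_expand (f := fun m : N => (ψ : G → ℂ) m)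
    (Char.isClassFunction_of_isCharacter (Char.isCharacter_comp (Char.isCharacter_irr ψ) N.subtype))
  rw [Finset.sum_eq_single (oneChar N) (fun θ _ hθ => by rw [hall θ hθ, zero_smul])
    (fun h => absurd (Finset.mem_univ _) h)] at hexp
  have e1 := congrFun hexp ⟨n, hn⟩
  have e2 := congrFun hexp 1
  simp only [Pi.smul_apply, oneChar, smul_eq_mul, OneMemClass.coe_one] at e1 e2
  rw [e1, e2]

/-- The kernel of a block. -/
theorem exists_blockKer (hM : IsPModular p M) {B : Set (IrrCharacter G)} (hB : IsPBlock M B)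
    {χ : IrrCharacter G} (hχ : χ ∈ B) :
    ∃ K : Subgroup G, K.Normal ∧ (K : Set G) = blockKer B ∧ ¬ p ∣ Nat.card K ∧
      (∀ g ∈ K, (χ : G → ℂ) g = (χ : G → ℂ) 1) ∧
      ∀ L : Subgroup G, L.Normal → ¬ p ∣ Nat.card L →
        (∀ g ∈ L, (χ : G → ℂ) g = (χ : G → ℂ) 1) → L ≤ K := by
  classical
  have hpf : Fact p.Prime := ⟨hM.1⟩
  have := Fintype.ofFinite (IrrCharacter G)
  have hker : ∀ ψ : IrrCharacter G, ∃ L : Subgroup G, L.Normal ∧
      ∀ g, g ∈ L ↔ (ψ : G → ℂ) g = (ψ : G → ℂ) 1 := fun ψ => by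
    obtain ⟨ψ, n, ρ, hρ, rfl⟩ := ψ
    refine ⟨MonoidHom.ker ρ, MonoidHom.normal_ker _, fun g => ?_⟩
    rw [MonoidHom.mem_ker]
    show ρ g = 1 ↔ ρ.character g = ρ.character 1
    rw [Representation.char_one, Char.char_eq_degree_iff ρ g]
    exact Iff.rfl
  choose L hLn hL using hker
  set K : Subgroup G := ⨅ ψ ∈ B, L ψ with hK
  have hKset : (K : Set G) = blockKer B := by
    ext g
    simp [hK, blockKer, Subgroup.mem_iInf, hL]
  refine ⟨K, Subgroup.normal_iInf_normal fun ψ => Subgroup.normal_iInf_normal fun _ => hLn ψ,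
    hKset, fun hdvd => ?_, fun g hg => (Set.ext_iff.mp hKset g).mp hg χ hχ, ?_⟩
  · obtain ⟨x, hx⟩ := exists_prime_orderOf_dvd_card' p hdvd
    rw [← Subgroup.orderOf_coe] at hx
    have h0 := blockCoeff_eq_zero_of_singular hM (IsBlockUnion.of_isPBlock hB) (g := (x : G))
      (by rw [hx])
    rw [blockCoeff, mul_eq_zero] at h0
    have hsum := h0.resolve_left (inv_ne_zero (Nat.cast_ne_zero.mpr Nat.card_pos.ne'))
    rw [finsum_mem_eq_toFinset_sum] at hsum
    have hterm : ∀ ψ ∈ B.toFinset, (ψ : G → ℂ) 1 * (ψ : G → ℂ) (x : G)⁻¹ =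
        (((charDegree (ψ : G → ℂ)) ^ 2 : ℕ) : ℂ) := fun ψ hψ => by
      have hψ' := Set.mem_toFinset.mp hψ
      have hi : (x : G)⁻¹ ∈ (K : Set G) := K.inv_mem x.2
      rw [hKset] at hi
      rw [hi ψ hψ', (charDegree_eq ψ).1]
      push_cast
      ring
    have hterm' : ∑ ψ ∈ B.toFinset, (((charDegree (ψ : G → ℂ)) ^ 2 : ℕ) : ℂ) = 0 := by
      rw [← Finset.sum_congr rfl hterm, ← hsum]
      refine Finset.sum_congr rfl fun ψ _ => ?_
      rw [← Char.irr_inv]
    rw [← Nat.cast_sum, Nat.cast_eq_zero, Finset.sum_eq_zero_iff] at hterm'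
    exact (charDegree_eq χ).2 (pow_eq_zero_iff two_ne_zero |>.mp (hterm' χ (Set.mem_toFinset.mpr hχ)))
  · intro L' hL'n hL'p hL'χ g hg
    have : (g : G) ∈ (K : Set G) := by
      rw [hKset]
      intro ψ hψ
      exact trivial_of_sameBlock (N := L') hM hL'p ((isPBlock_sameBlock hB hχ).mp hψ) hL'χ hg
    exact this

/-- Over a normal `p`-complement two characters are in one block exactly when they have a common
constituent. -/
theorem sameBlock_iff_common_constituent (hM : IsPModular p M) (hN : ¬ p ∣ Nat.card N)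
    (hidx : ∃ k : ℕ, N.index = p ^ k) (χ ψ : IrrCharacter G) :
    SameBlock M (χ : G → ℂ) (ψ : G → ℂ) ↔ ∃ θ : IrrCharacter N,
      classInner (fun n : N => (χ : G → ℂ) n) (θ : N → ℂ) ≠ 0 ∧
      classInner (fun n : N => (ψ : G → ℂ) n) (θ : N → ℂ) ≠ 0 := by
  constructor
  · intro h
    obtain ⟨θ, hθ⟩ := exists_constituent (N := N) χ
    exact ⟨θ, hθ, constituent_iff_of_sameBlock hM hN h θ hθ⟩
  · rintro ⟨θ, hχ, hψ⟩
    have := Fintype.ofFinite (G ⧸ N)
    have h := covers_unique_of_ppow hM hidx (isPBlock_blockOf χ) (isPBlock_blockOf ψ)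
      (isPBlock_blockOf θ) ⟨χ, self_mem_blockOf χ, θ, self_mem_blockOf θ, hχ⟩
      ⟨ψ, self_mem_blockOf ψ, θ, self_mem_blockOf θ, hψ⟩
    exact (h ▸ self_mem_blockOf ψ : ψ ∈ blockOf M (χ : G → ℂ))

/-- Inflation over a normal subgroup of order prime to `p` reflects blocks. -/
theorem sameBlock_of_inflated [Fintype (G ⧸ N)] (hM : IsPModular p M) (hN : ¬ p ∣ Nat.card N)
    {χ ψ : IrrCharacter (G ⧸ N)}
    (h : SameBlock M ((χ : G ⧸ N → ℂ) ∘ QuotientGroup.mk) ((ψ : G ⧸ N → ℂ) ∘ QuotientGroup.mk)) :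
    SameBlock M (χ : G ⧸ N → ℂ) (ψ : G ⧸ N → ℂ) := by
  classical
  intro q
  obtain ⟨g, rfl⟩ := QuotientGroup.mk_surjective q
  have hsurj := QuotientGroup.mk'_surjective N
  let χi : IrrCharacter G :=
    ⟨(χ : G ⧸ N → ℂ) ∘ QuotientGroup.mk, Char.isIrrCharacter_comp_surjective χ.2 (QuotientGroup.mk' N) hsurj⟩
  let ψi : IrrCharacter G :=
    ⟨(ψ : G ⧸ N → ℂ) ∘ QuotientGroup.mk, Char.isIrrCharacter_comp_surjective ψ.2 (QuotientGroup.mk' N) hsurj⟩
  let T : Set G := {x | IsConj (g : G ⧸ N) (x : G ⧸ N)}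
  have hT : ∀ x c : G, c * x * c⁻¹ ∈ T ↔ x ∈ T := fun x c => by
    have hc : IsConj (x : G ⧸ N) ((c * x * c⁻¹ : G) : G ⧸ N) :=
      isConj_iff.mpr ⟨(c : G ⧸ N), by simp⟩
    exact ⟨fun h => h.trans hc.symm, fun h => h.trans hc⟩
  have key : ∀ θ : IrrCharacter (G ⧸ N),
      (∑ᶠ x ∈ T, (θ : G ⧸ N → ℂ) (x : G ⧸ N) / (θ : G ⧸ N → ℂ) ((1 : G) : G ⧸ N)) =
        (Nat.card N : ℂ) * centralChar (θ : G ⧸ N → ℂ) (g : G ⧸ N) := fun θ => by
    rw [finsum_mem_eq_toFinset_sum]
    have hval : ∀ x ∈ T.toFinset, (θ : G ⧸ N → ℂ) (x : G ⧸ N) = (θ : G ⧸ N → ℂ) (g : G ⧸ N) :=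
      fun x hx => by
        obtain ⟨c, hc⟩ := isConj_iff.mp (show x ∈ T from Set.mem_toFinset.mp hx)
        rw [← hc, Char.isClassFunction_irr θ]
    rw [Finset.sum_congr rfl (g := fun _ =>
      (θ : G ⧸ N → ℂ) (g : G ⧸ N) / (θ : G ⧸ N → ℂ) ((1 : G) : G ⧸ N)) fun x hx => by rw [hval x hx],
      Finset.sum_const, nsmul_eq_mul, centralChar, ← Char.card_isConj]
    have hcard : T.toFinset.card = Nat.card N * Nat.card {y : G ⧸ N // IsConj (g : G ⧸ N) y} := by
      rw [Set.toFinset_card, ← Nat.card_eq_fintype_card]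
      exact QuotientGroup.card_preimage_mk N {y | IsConj (g : G ⧸ N) y}
    rw [hcard, QuotientGroup.mk_one]
    push_cast
    ring
  have e1 : omegaBar M χi (toKC M (setSum M T hT)) =
      res M ((Nat.card N : locRing M) * ⟨_, centralChar_mem χ (g : G ⧸ N)⟩) := by
    rw [← memLocalIdeal_finsum_sub]
    simp only [χi, Function.comp_apply, key, MulMemClass.coe_mul, SubringClass.coe_natCast, sub_self]
    exact memLocalIdeal_iff.mpr ⟨zero_mem _, map_zero _⟩
  have e2 : omegaBar M ψi (toKC M (setSum M T hT)) =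
      res M ((Nat.card N : locRing M) * ⟨_, centralChar_mem ψ (g : G ⧸ N)⟩) := by
    rw [← memLocalIdeal_finsum_sub]
    simp only [ψi, Function.comp_apply, key, MulMemClass.coe_mul, SubringClass.coe_natCast, sub_self]
    exact memLocalIdeal_iff.mpr ⟨zero_mem _, map_zero _⟩
  rw [omegaBar_eq_of_sameBlock (χ := χi) (ψ := ψi) h, e2, map_mul, map_mul, map_natCast] at e1
  have hn0 : (Nat.card N : ResField M) ≠ 0 := fun h0 => by
    have := charP_resField hM
    exact hN ((CharP.cast_eq_zero_iff _ p _).mp h0)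
  have h3 := mul_left_cancel₀ hn0 e1
  rw [eq_comm, ← sub_eq_zero, ← map_sub, ← memLocalIdeal_coe] at h3
  exact h3

end CfsgLib.Block
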