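import Cfsg.Agent.Lib.Block.Correspondence
import Cfsg.Agent.Lib.Block.CoprimeKernel

/-!
# The Glauberman correspondence for a `p`-group

Brauer homomorphism from the `S`-invariant part of the centre of `kG` to the centre of `kC`.
-/

open Finset MonoidAlgebra
open scoped ComplexConjugate

set_option linter.unusedSectionVars false

namespace CfsgLib.Block.Glauberman

open Cfsg CfsgLib.Block

universe u

variable {p : ℕ} {M : Ideal AlgInt} [M.IsMaximal] {Γ : Type u} [Group Γ] [Fintype Γ] [DecidableEq Γ]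
  {G S C : Subgroup Γ} [Fintype G] [Fintype C] [Fintype (ConjClasses G)] [Fintype (ConjClasses C)]

/-- Invariance of a character under the acting subgroup. -/
def GInv (G S : Subgroup Γ) (χ : G → ℂ) : Prop :=
  ∀ s ∈ S, ∀ g g' : G, (g' : Γ) = s * g * s⁻¹ → χ g' = χ g

/-- Invariant central elements of the group algebra of `G`, inside that of `Γ`. -/
structure Good (G S : Subgroup Γ) (y : MonoidAlgebra (ResField M) Γ) : Prop where
  supp : SuppIn G y
  cinvG : CInv G y
  cinvS : CInv S y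

theorem Good.mul {y z : MonoidAlgebra (ResField M) Γ} (hy : Good G S y) (hz : Good G S z) :
    Good G S (y * z) :=
  ⟨hy.supp.mul hz.supp, hy.cinvG.mul hz.cinvG, hy.cinvS.mul hz.cinvS⟩

variable (hC : C = G ⊓ Subgroup.centralizer (S : Set Γ))
include hC

theorem le_G : C ≤ G := hC ▸ inf_le_left

theorem le_centralizer : C ≤ Subgroup.centralizer (S : Set Γ) := hC ▸ inf_le_right

theorem mem_C_iff {g : Γ} : g ∈ C ↔ g ∈ G ∧ ∀ s ∈ S, s * g * s⁻¹ = g := by
  rw [hC, Subgroup.mem_inf, Subgroup.mem_centralizer_iff]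
  refine and_congr_right fun _ => forall₂_congr fun s _ => ?_
  rw [mul_inv_eq_iff_eq_mul]

theorem Good.trC {y : MonoidAlgebra (ResField M) Γ} (hy : Good G S y) :
    SuppIn C (trC S y) ∧ CInv C (trC S y) := by
  refine ⟨fun g hg => ?_, (hy.cinvG.mono (le_G hC)).trC
    ((le_centralizer hC).trans (centralizer_le_normalizer' S))⟩
  by_cases hgS : g ∈ Subgroup.centralizer (S : Set Γ)
  · rw [coeff_trC _ hgS, hy.supp g fun hgG => hg (hC ▸ ⟨hgG, hgS⟩)]
  · exact suppIn_trC _ g hgS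

theorem omG_trC (β : IrrCharacter C) (y : MonoidAlgebra (ResField M) Γ) :
    omG M β (trC S y) = omG M β y :=
  omG_congr β fun _ hg => coeff_trC _ (le_centralizer hC hg)

theorem omG_good_mul (hM : IsPModular p M) (hS : IsPGroup p S) (β : IrrCharacter C)
    {y z : MonoidAlgebra (ResField M) Γ} (hy : Good G S y) (hz : Good G S z) :
    omG M β (y * z) = omG M β y * omG M β z := by
  rw [← omG_trC hC β (y * z), ← omG_trC hC β y, ← omG_trC hC β z, trC_mul hM hS hy.cinvS hz.cinvS,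
    omG_mul β (hy.trC hC).1 (hz.trC hC).1 (hy.trC hC).2 (hz.trC hC).2]

omit hC in
theorem singleton_isPBlock (hM : IsPModular p M) {A : Type u} [Group A] [Fintype A] [DecidableEq A]
    (hA : ¬ p ∣ Nat.card A) (χ : IrrCharacter A) : IsPBlock M ({χ} : Set (IrrCharacter A)) :=
  ⟨χ, Set.ext fun ψ => ⟨fun h => by rw [Set.mem_singleton_iff.mp h]; exact self_mem_blockOf χ,
    fun h => (eq_of_sameBlock_of_coprime hM hA h).symm⟩⟩

/-- The conjugation action on the characters. -/
theorem nG (hnorm : ∀ s ∈ S, ∀ g ∈ G, s * g * s⁻¹ ∈ G) {s : Γ} (hs : s ∈ S) :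
    ∀ g, g ∈ G ↔ s * g * s⁻¹ ∈ G := fun g =>
  ⟨hnorm s hs g, fun h => by simpa [mul_assoc] using hnorm s⁻¹ (inv_mem hs) _ h⟩

omit hC in
theorem eG_singleton_conj {s : Γ} (h : ∀ g, g ∈ G ↔ s * g * s⁻¹ ∈ G) (χ : IrrCharacter G) :
    eG M ({irrEquiv (cjHom h) χ} : Set (IrrCharacter G)) = cj s (eG M {χ}) := by
  rw [← eG_conjSet h, conjSet_eq_image h, Set.image_singleton]

omit hC in
theorem irrEquiv_cjHom_of_inv {s : Γ} (hs : s ∈ S) (h : ∀ g, g ∈ G ↔ s * g * s⁻¹ ∈ G)
    {χ : IrrCharacter G} (hχ : GInv G S (χ : G → ℂ)) : irrEquiv (cjHom h) χ = χ := by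
  refine Subtype.ext (funext fun g => ?_)
  rw [irrEquiv_apply]
  exact (hχ s hs _ g (by simp [cjHom, mul_assoc])).symm

theorem good_eG (hnorm : ∀ s ∈ S, ∀ g ∈ G, s * g * s⁻¹ ∈ G) {χ : IrrCharacter G}
    (hχ : GInv G S (χ : G → ℂ)) : Good G S (eG M ({χ} : Set (IrrCharacter G))) :=
  ⟨suppIn_eG _, cinv_eG _, cinv_iff_cj.mpr fun s hs => by
    rw [← eG_singleton_conj (nG hC hnorm hs), irrEquiv_cjHom_of_inv hs _ hχ]⟩

/-- A Brauer character of the centre belongs to the invariant character it takes to one. -/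
theorem omG_eq_of_eq_one (hM : IsPModular p M) (hS : IsPGroup p S)
    (hnorm : ∀ s ∈ S, ∀ g ∈ G, s * g * s⁻¹ ∈ G) (hG : ¬ p ∣ Nat.card G) {χ : IrrCharacter G}
    (hχ : GInv G S (χ : G → ℂ)) {β : IrrCharacter C}
    (h1 : omG M β (eG M ({χ} : Set (IrrCharacter G))) = 1) {y : MonoidAlgebra (ResField M) Γ}
    (hy : Good G S y) : omG M β y = omG M χ y := by
  classical
  set e : MonoidAlgebra (ResField M) Γ := eG M ({χ} : Set (IrrCharacter G)) with he
  have hb := singleton_isPBlock hM hG χ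
  have hge : Good G S e := good_eG hC hnorm hχ
  set w := omG M χ y with hw
  set d : ZK M G := (cenOf M y hy.cinvG - algebraMap (ResField M) (ZK M G) w) *
    blockBar M ({χ} : Set (IrrCharacter G)) with hd
  have hd0 : ∀ ξ : IrrCharacter G, omegaBar M ξ d = 0 := fun ξ => by
    rw [hd, map_mul, map_sub, omegaBar_algebraMap, omG_cenOf, omegaBar_blockBar hM (.of_isPBlock hb)]
    split_ifs with h
    · rw [Set.mem_singleton_iff] at h
      rw [h, ← hw, sub_self, zero_mul]
    · rw [mul_zero]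
  set D : MonoidAlgebra (ResField M) Γ := emb (d : MonoidAlgebra (ResField M) G) with hD
  have hDeq : D = y * e - w • e := by
    have hy' : y = emb (cenOf M y hy.cinvG : MonoidAlgebra (ResField M) G) :=
      (eq_emb_of_suppIn hy.supp).trans (congrArg emb (ga_ext fun k => rfl))
    conv_rhs => rw [hy']
    rw [hD, hd, he, eG, ← emb_mul]
    refine ga_ext fun g => ?_
    rw [MonoidAlgebra.coeff_sub, Finsupp.sub_apply, MonoidAlgebra.coeff_smul, Finsupp.smul_apply,
      sub_mul, AddSubgroupClass.coe_sub, MulMemClass.coe_mul]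
    by_cases hg : g ∈ G
    · obtain ⟨k, rfl⟩ : ∃ k : G, (k : Γ) = g := ⟨⟨g, hg⟩, rfl⟩
      rw [coeff_emb_coe, coeff_emb_coe, coeff_emb_coe, MonoidAlgebra.coeff_sub, Finsupp.sub_apply,
        ← Algebra.smul_def, SetLike.val_smul, MonoidAlgebra.coeff_smul, Finsupp.smul_apply]
    · rw [suppIn_emb _ g hg, suppIn_emb _ g hg, suppIn_emb _ g hg, smul_zero, sub_zero]
  have hDgood : Good G S D := by
    refine hDeq ▸ ⟨fun g hg => ?_, ?_, ?_⟩
    · rw [MonoidAlgebra.coeff_sub, Finsupp.sub_apply, MonoidAlgebra.coeff_smul, Finsupp.smul_apply,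
        (hy.mul hge).supp g hg, hge.supp g hg, smul_zero, sub_zero]
    · intro s hs g
      simp only [MonoidAlgebra.coeff_sub, Finsupp.sub_apply, MonoidAlgebra.coeff_smul, Finsupp.smul_apply,
        (hy.mul hge).cinvG s hs g, hge.cinvG s hs g]
    · intro s hs g
      simp only [MonoidAlgebra.coeff_sub, Finsupp.sub_apply, MonoidAlgebra.coeff_smul, Finsupp.smul_apply,
        (hy.mul hge).cinvS s hs g, hge.cinvS s hs g]
  have hpow : ∀ n : ℕ, Good G S (emb ((d ^ (n + 1) : ZK M G) : MonoidAlgebra (ResField M) G)) ∧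
      omG M β (emb ((d ^ (n + 1) : ZK M G) : MonoidAlgebra (ResField M) G) : MonoidAlgebra (ResField M) Γ) =
        omG M β D ^ (n + 1) := by
    intro n
    induction n with
    | zero => rw [zero_add, pow_one, pow_one]; exact ⟨hDgood, rfl⟩
    | succ n ih =>
      rw [pow_succ, MulMemClass.coe_mul, emb_mul, pow_succ _ (n + 1)]
      exact ⟨ih.1.mul hDgood, by rw [omG_good_mul hC hM hS β ih.1 hDgood, ih.2]⟩
  obtain ⟨n, hn⟩ := isNilpotent_of_omegaBar hM hd0
  have h2 := (hpow n).2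
  rw [pow_succ d n, hn, zero_mul, ZeroMemClass.coe_zero,
    show (emb (0 : MonoidAlgebra (ResField M) G) : MonoidAlgebra (ResField M) Γ) = 0 from
      ga_ext fun g => by simp [emb], omG_zero] at h2
  have h3 := pow_eq_zero_iff (Nat.succ_ne_zero n) |>.mp h2.symm
  rw [hDeq, omG_sub, omG_smul, omG_good_mul hC hM hS β hy hge, h1, mul_one, mul_one, sub_eq_zero] at h3
  exact h3

/-- Conjugate elements of the fixed point subgroup are conjugate in it. -/
theorem isConj_of_isConj (hS : IsPGroup p S) [Fact p.Prime]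
    (hnorm : ∀ s ∈ S, ∀ g ∈ G, s * g * s⁻¹ ∈ G) (hG : ¬ p ∣ Nat.card G) {c d : C}
    (h : ∃ x ∈ G, x * (c : Γ) * x⁻¹ = d) : IsConj c d := by
  classical
  obtain ⟨x₀, hx₀, hxcd⟩ := h
  let X := {x : G // (x : Γ) * c * (x : Γ)⁻¹ = d}
  have hfix : ∀ (a : C) (s : Γ), s ∈ S → s * a * s⁻¹ = a := fun a s hs => ((mem_C_iff hC).mp a.2).2 s hs
  let act : MulAction S X :=
    { smul := fun s x => ⟨⟨s * x.1 * (s : Γ)⁻¹, hnorm s s.2 x.1 x.1.2⟩, by
        show (s : Γ) * x.1 * (s : Γ)⁻¹ * c * ((s : Γ) * x.1 * (s : Γ)⁻¹)⁻¹ = d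
        calc _ = (s : Γ) * ((x.1 : Γ) * ((s : Γ)⁻¹ * c * (s : Γ)⁻¹⁻¹) * (x.1 : Γ)⁻¹) * (s : Γ)⁻¹ := by group
          _ = d := by rw [hfix c _ (inv_mem s.2), x.2, hfix d s s.2]⟩
      one_smul := fun x => Subtype.ext (Subtype.ext (by
        show ((1 : S) : Γ) * x.1 * ((1 : S) : Γ)⁻¹ = x.1
        simp))
      mul_smul := fun s t x => Subtype.ext (Subtype.ext (by
        show ((s * t : S) : Γ) * x.1 * ((s * t : S) : Γ)⁻¹ =
          (s : Γ) * ((t : Γ) * x.1 * (t : Γ)⁻¹) * (s : Γ)⁻¹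
        rw [Subgroup.coe_mul]; group)) }
  have hcard : Nat.card X ∣ Nat.card G := by
    have e : X ≃ (Subgroup.centralizer ({(⟨(c : Γ), le_G hC c.2⟩ : G)} : Set G)) :=
      { toFun := fun x => ⟨(⟨x₀, hx₀⟩ : G)⁻¹ * x.1, Subgroup.mem_centralizer_singleton_iff.mpr (Subtype.ext (by
          have h1 : (x.1 : Γ) * c * (x.1 : Γ)⁻¹ = x₀ * c * x₀⁻¹ := x.2.trans hxcd.symm
          simp only [Subgroup.coe_mul, InvMemClass.coe_inv]
          calc x₀⁻¹ * (x.1 : Γ) * c = x₀⁻¹ * ((x.1 : Γ) * c * (x.1 : Γ)⁻¹) * x.1 := by group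
            _ = c * (x₀⁻¹ * x.1) := by rw [h1]; group))⟩
        invFun := fun z => ⟨⟨x₀, hx₀⟩ * z.1, by
          have h1 : ((z.1 : G) : Γ) * c = c * (z.1 : G) :=
            congrArg Subtype.val (Subgroup.mem_centralizer_singleton_iff.mp z.2)
          simp only [Subgroup.coe_mul]
          rw [← hxcd, mul_inv_rev, mul_assoc x₀ ((z.1 : G) : Γ), h1]
          group⟩
        left_inv := fun x => Subtype.ext (mul_inv_cancel_left _ _)
        right_inv := fun z => Subtype.ext (inv_mul_cancel_left _ _) }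
    rw [Nat.card_congr e]
    exact Subgroup.card_subgroup_dvd_card _
  obtain ⟨x, hx⟩ := hS.nonempty_fixed_point_of_prime_not_dvd_card X fun h => hG (h.trans hcard)
  have hxC : (x.1 : Γ) ∈ C := (mem_C_iff hC).mpr ⟨x.1.2, fun s hs =>
    congrArg (fun z : X => (z.1 : Γ)) (hx ⟨s, hs⟩)⟩
  exact isConj_iff.mpr ⟨⟨x.1, hxC⟩, Subtype.ext x.2⟩

/-- Two characters of the fixed points with the same functional are equal. -/
theorem eq_of_omG_eq (hM : IsPModular p M) (hS : IsPGroup p S)
    (hnorm : ∀ s ∈ S, ∀ g ∈ G, s * g * s⁻¹ ∈ G) (hG : ¬ p ∣ Nat.card G) {β γ : IrrCharacter C}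
    (h : ∀ y : MonoidAlgebra (ResField M) Γ, Good G S y → omG M β y = omG M γ y) : β = γ := by
  classical
  have := Fact.mk hM.1
  refine eq_of_sameBlock_of_coprime hM (fun h' => hG (h'.trans (Subgroup.card_dvd_of_le (le_G hC)))) ?_
  rw [sameBlock_iff_centralRes]
  intro c
  set y : MonoidAlgebra (ResField M) Γ :=
    gaOfFun fun g => if ∃ x ∈ G, x * (c : Γ) * x⁻¹ = g then 1 else 0 with hy
  have hgood : Good G S y := by
    refine ⟨fun g hg => ?_, fun u hu g => ?_, fun u hu g => ?_⟩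
    · rw [hy, coeff_gaOfFun, if_neg]
      rintro ⟨x, hx, rfl⟩
      exact hg (mul_mem (mul_mem hx (le_G hC c.2)) (inv_mem hx))
    · simp only [hy, coeff_gaOfFun]
      refine if_congr ⟨fun ⟨x, hx, he⟩ => ⟨u⁻¹ * x, mul_mem (inv_mem hu) hx, ?_⟩,
        fun ⟨x, hx, he⟩ => ⟨u * x, mul_mem hu hx, ?_⟩⟩ rfl rfl
      · calc u⁻¹ * x * c * (u⁻¹ * x)⁻¹ = u⁻¹ * (x * c * x⁻¹) * u := by group
          _ = g := by rw [he]; group
      · rw [← he]; group
    · simp only [hy, coeff_gaOfFun]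
      have hc : ∀ v ∈ S, v * (c : Γ) * v⁻¹ = c := fun v hv => ((mem_C_iff hC).mp c.2).2 v hv
      refine if_congr ⟨fun ⟨x, hx, he⟩ => ⟨u⁻¹ * x * u, by simpa using hnorm u⁻¹ (inv_mem hu) x hx, ?_⟩,
        fun ⟨x, hx, he⟩ => ⟨u * x * u⁻¹, hnorm u hu x hx, ?_⟩⟩ rfl rfl
      · calc u⁻¹ * x * u * c * (u⁻¹ * x * u)⁻¹ = u⁻¹ * (x * (u * c * u⁻¹) * x⁻¹) * u := by group
          _ = g := by rw [hc u hu, he]; group
      · calc u * x * u⁻¹ * c * (u * x * u⁻¹)⁻¹ = u * (x * (u⁻¹ * c * u⁻¹⁻¹) * x⁻¹) * u⁻¹ := by group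
          _ = _ := by rw [hc _ (inv_mem hu), he]
  have hval : ∀ η : IrrCharacter C, omG M η y = centralRes M η c := by
    intro η
    rw [omG_eq η y (classBar M c) fun k => ?_, omegaBar_classBar]
    simp only [hy, classBar, classSum, coeff_gaOfFun]
    have hiff : IsConj c k ↔ ∃ x ∈ G, x * (c : Γ) * x⁻¹ = k := ⟨fun hk => by
        obtain ⟨u, hu⟩ := isConj_iff.mp hk
        exact ⟨(u : Γ), le_G hC u.2, congrArg Subtype.val hu⟩,
      fun h' => isConj_of_isConj hC hS hnorm hG h'⟩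
    split_ifs with h1 h2 h2
    all_goals first | rfl | exact absurd (hiff.mp ‹_›) ‹_› | exact absurd (hiff.mpr ‹_›) ‹_›
  rw [← hval β, ← hval γ, h y hgood]

/-- The values one and zero. -/
theorem omG_eG_01 (hM : IsPModular p M) (hS : IsPGroup p S)
    (hnorm : ∀ s ∈ S, ∀ g ∈ G, s * g * s⁻¹ ∈ G) (hG : ¬ p ∣ Nat.card G) {χ : IrrCharacter G}
    (hχ : GInv G S (χ : G → ℂ)) (β : IrrCharacter C) :
    omG M β (eG M ({χ} : Set (IrrCharacter G))) = 0 ∨ omG M β (eG M ({χ} : Set (IrrCharacter G))) = 1 := by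
  have hge := good_eG (M := M) hC hnorm hχ
  have h := omG_good_mul hC hM hS β hge hge
  rw [eG_mul_self hM (singleton_isPBlock hM hG χ)] at h
  rcases eq_or_ne (omG M β (eG M ({χ} : Set (IrrCharacter G)))) 0 with h0 | h0
  · exact Or.inl h0
  · exact Or.inr (mul_right_cancel₀ h0 (h.symm.trans (one_mul _).symm))

/-- Every invariant character has exactly one correspondent. -/
theorem existsUnique_down (hM : IsPModular p M) (hS : IsPGroup p S)
    (hnorm : ∀ s ∈ S, ∀ g ∈ G, s * g * s⁻¹ ∈ G) (hG : ¬ p ∣ Nat.card G) {χ : IrrCharacter G}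
    (hχ : GInv G S (χ : G → ℂ)) :
    ∃! β : IrrCharacter C, omG M β (eG M ({χ} : Set (IrrCharacter G))) = 1 := by
  classical
  set e : MonoidAlgebra (ResField M) Γ := eG M ({χ} : Set (IrrCharacter G)) with he
  have hb := singleton_isPBlock hM hG χ
  have hge := good_eG (M := M) hC hnorm hχ
  have hne : (trC S e).coeff ((1 : C) : Γ) ≠ 0 := by
    rw [coeff_trC _ (le_centralizer hC (1 : C).2), he,
      show ((1 : C) : Γ) = ((1 : G) : Γ) from rfl, coeff_eG, Ne, coeffRes_eq_zero_iff hM (.of_isPBlock hb)]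
    obtain ⟨hd, hd0⟩ := charDegree_eq χ
    have hval : blockCoeff ({χ} : Set (IrrCharacter G)) (1 : G) =
        ((charDegree (χ : G → ℂ) ^ 2 : ℕ) : ℂ) / (Nat.card G : ℂ) := by
      rw [blockCoeff, finsum_mem_singleton, hd, map_natCast, div_eq_inv_mul]
      push_cast; ring
    rw [hval]
    rintro ⟨a, b, ha, hb', hab⟩
    have hb0 := algInt_coe_ne_zero hb'
    have h1 : a * (Nat.card G : AlgInt) = ((charDegree (χ : G → ℂ) ^ 2 : ℕ) : AlgInt) * b := by
      apply Subtype.ext
      push_cast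
      rw [div_eq_div_iff hb0 (Nat.cast_ne_zero.mpr Nat.card_pos.ne')] at hab
      exact_mod_cast hab
    have h2 : ((charDegree (χ : G → ℂ) ^ 2 : ℕ) : AlgInt) * b ∈ M := h1 ▸ M.mul_mem_right _ ha
    rcases (Ideal.IsPrime.mem_or_mem inferInstance h2) with h3 | h3
    · exact hG (((Nat.Prime.dvd_of_dvd_pow hM.1 ((natCast_mem_iff hM _).mp h3))).trans
        (Char.degree_dvd_card χ hd))
    · exact hb' h3
  obtain ⟨β, hβ⟩ := exists_omG_eq_one (K := C) hM (hge.trC hC).1 (hge.trC hC).2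
    (by rw [← trC_mul hM hS hge.cinvS hge.cinvS, eG_mul_self hM hb]) hne
  replace hβ : omG M β e = 1 := by
    rw [← omG_trC hC β e]
    convert hβ using 2
  refine ⟨β, hβ, fun γ hγ => eq_of_omG_eq hC hM hS hnorm hG fun y hy => ?_⟩
  rw [omG_eq_of_eq_one hC hM hS hnorm hG hχ hγ hy, omG_eq_of_eq_one hC hM hS hnorm hG hχ hβ hy]

theorem exists_up (hM : IsPModular p M) (hS : IsPGroup p S)
    (hnorm : ∀ s ∈ S, ∀ g ∈ G, s * g * s⁻¹ ∈ G) (hG : ¬ p ∣ Nat.card G) (β : IrrCharacter C) :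
    ∃ χ : IrrCharacter G, GInv G S (χ : G → ℂ) ∧
      omG M β (eG M ({χ} : Set (IrrCharacter G))) = 1 := by
  classical
  have := Fact.mk hM.1
  have := charP_resField hM
  have := Fintype.ofFinite (IrrCharacter G)
  let act : MulAction S (IrrCharacter G) :=
    { smul := fun s χ => irrEquiv (cjHom (nG hC hnorm s.2)) χ
      one_smul := fun χ => Subtype.ext (funext fun g => by
        show (χ : G → ℂ) _ = _
        exact congrArg _ (Subtype.ext (by simp [cjHom])))
      mul_smul := fun s t χ => Subtype.ext (funext fun g => by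
        show (χ : G → ℂ) _ = (χ : G → ℂ) _
        exact congrArg _ (Subtype.ext (by simp [cjHom, mul_assoc]))) }
  set f : IrrCharacter G → ResField M := fun χ => omG M β (eG M ({χ} : Set (IrrCharacter G))) with hf
  have hinvf : ∀ (s : S) (χ : IrrCharacter G), f (s • χ) = f χ := fun s χ => by
    show omG M β (eG M ({irrEquiv (cjHom (nG hC hnorm s.2)) χ} : Set (IrrCharacter G))) = _
    rw [eG_singleton_conj]
    refine omG_congr β fun g hg => ?_
    rw [coeff_cj]
    congr 1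
    simpa using ((mem_C_iff hC).mp hg).2 (s : Γ)⁻¹ (inv_mem s.2)
  have hsum : ∑ χ, f χ = 1 := by
    rw [hf, ← omG_sum, ← omG_one (M := M) (G := Γ) β]
    congr 1
    have h1 : ∑ χ : IrrCharacter G, blockBar M ({χ} : Set (IrrCharacter G)) = (1 : ZK M G) := by
      refine eq_of_omegaBar_eq_of_idem hM ?_ (one_mul 1) fun ξ => ?_
      · rw [Finset.sum_mul_sum]
        refine Finset.sum_congr rfl fun χ _ => ?_
        rw [Finset.sum_eq_single χ (fun ψ _ hne => ?_) (by simp),
          blockBar_mul_self hM (.of_isPBlock (singleton_isPBlock hM hG χ))]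
        refine eq_of_omegaBar_eq_of_idem hM ?_ (mul_zero 0) fun ξ => ?_
        · rw [mul_mul_mul_comm, blockBar_mul_self hM (.of_isPBlock (singleton_isPBlock hM hG χ)),
            blockBar_mul_self hM (.of_isPBlock (singleton_isPBlock hM hG ψ))]
        · rw [map_mul, map_zero, omegaBar_blockBar hM (.of_isPBlock (singleton_isPBlock hM hG χ)),
            omegaBar_blockBar hM (.of_isPBlock (singleton_isPBlock hM hG ψ))]
          split_ifs with a b <;> try simp
          exact hne ((Set.mem_singleton_iff.mp b).symm.trans (Set.mem_singleton_iff.mp a))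
      · rw [map_sum, map_one, Finset.sum_eq_single ξ (fun χ _ hne => ?_) (by simp),
          omegaBar_blockBar hM (.of_isPBlock (singleton_isPBlock hM hG ξ)), if_pos (Set.mem_singleton ξ)]
        rw [omegaBar_blockBar hM (.of_isPBlock (singleton_isPBlock hM hG χ)), if_neg]
        exact fun h => hne (Set.mem_singleton_iff.mp h).symm
    refine ga_ext fun g => ?_
    rw [coeff_sum_apply]
    by_cases hg : g ∈ G
    · obtain ⟨k, rfl⟩ : ∃ k : G, (k : Γ) = g := ⟨⟨g, hg⟩, rfl⟩
      simp only [eG, coeff_emb_coe]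
      rw [← coeff_sum_apply, ← AddSubmonoidClass.coe_finsetSum, h1, OneMemClass.coe_one]
      simp only [MonoidAlgebra.one_def, MonoidAlgebra.coeff_single, Finsupp.single_apply]
      exact if_congr ⟨fun h => h ▸ rfl, fun h => Subtype.ext h⟩ rfl rfl
    · rw [suppIn_one (K := G) g hg]
      exact Finset.sum_eq_zero fun χ _ => suppIn_eG _ g hg
  rw [sum_eq_sum_fixedPoints hS f hinvf] at hsum
  obtain ⟨χ, hχ, hne⟩ := Finset.exists_ne_zero_of_sum_ne_zero (hsum ▸ one_ne_zero)
  have hinv : GInv G S (χ : G → ℂ) := fun s hs g g' he => by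
    have h := (Finset.mem_filter.mp hχ).2 ⟨s, hs⟩
    conv_lhs => rw [← h]
    show (χ : G → ℂ) _ = _
    exact congrArg _ (Subtype.ext (by simp [cjHom, he, mul_assoc]))
  exact ⟨χ, hinv, (omG_eG_01 hC hM hS hnorm hG hinv β).resolve_left hne⟩

theorem card_congr_C (hM : IsPModular p M) (hS : IsPGroup p S)
    (hnorm : ∀ s ∈ S, ∀ g ∈ G, s * g * s⁻¹ ∈ G) :
    (Nat.card G : ResField M) = (Nat.card C : ResField M) := by
  classical
  have := Fact.mk hM.1
  have := charP_resField hM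
  let act : MulAction S G :=
    { smul := fun s g => ⟨s * g * (s : Γ)⁻¹, hnorm s s.2 g g.2⟩
      one_smul := fun g => Subtype.ext (by show ((1 : S) : Γ) * g * ((1 : S) : Γ)⁻¹ = g; simp)
      mul_smul := fun s t g => Subtype.ext (by
        show ((s * t : S) : Γ) * g * ((s * t : S) : Γ)⁻¹ = (s : Γ) * ((t : Γ) * g * (t : Γ)⁻¹) * (s : Γ)⁻¹
        rw [Subgroup.coe_mul]; group) }
  have h := sum_eq_sum_fixedPoints hS (fun _ : G => (1 : ResField M)) (fun _ _ => rfl)
  rw [Finset.sum_const, Finset.sum_const, nsmul_one, nsmul_one, Finset.card_univ,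
    ← Nat.card_eq_fintype_card, ← Fintype.card_subtype, ← Nat.card_eq_fintype_card] at h
  rw [h]
  congr 1
  exact Nat.card_congr
    { toFun := fun x => ⟨(x.1 : Γ), (mem_C_iff hC).mpr ⟨x.1.2, fun s hs => congrArg Subtype.val (x.2 ⟨s, hs⟩)⟩⟩
      invFun := fun c => ⟨⟨c, le_G hC c.2⟩, fun s => Subtype.ext (((mem_C_iff hC).mp c.2).2 s s.2)⟩
      left_inv := fun x => rfl
      right_inv := fun c => rfl }

/-- The multiplicities in the restriction. -/
theorem mult_congr (hM : IsPModular p M) (hS : IsPGroup p S)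
    (hnorm : ∀ s ∈ S, ∀ g ∈ G, s * g * s⁻¹ ∈ G) (hG : ¬ p ∣ Nat.card G) {χ : IrrCharacter G}
    (hχ : GInv G S (χ : G → ℂ)) {β : IrrCharacter C}
    (hβ : omG M β (eG M ({χ} : Set (IrrCharacter G))) = 1) (γ : IrrCharacter C) {m : ℕ}
    (hm : classInner (fun c : C => (χ : G → ℂ) ⟨c, le_G hC c.2⟩) (γ : C → ℂ) = (m : ℂ)) :
    (γ = β → ((m : ResField M) = 1 ∨ (m : ResField M) = -1)) ∧ (γ ≠ β → (m : ResField M) = 0) := by
  classical
  have hpC : ¬ p ∣ Nat.card C := fun h' => hG (h'.trans (Subgroup.card_dvd_of_le (le_G hC)))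
  set e : MonoidAlgebra (ResField M) Γ := eG M ({χ} : Set (IrrCharacter G)) with he
  have hb := singleton_isPBlock hM hG χ
  have hb' := singleton_isPBlock hM hpC β
  have hge := good_eG (M := M) hC hnorm hχ
  have heq : trC S e = eG M ({β} : Set (IrrCharacter C)) := by
    refine eq_eG_of_omG (K := C) hM hb' (hge.trC hC).1 (hge.trC hC).2
      (by rw [← trC_mul hM hS hge.cinvS hge.cinvS, eG_mul_self hM hb]) fun θ => ?_
    suffices h : omG M θ (trC S e) = omG M θ (eG M ({β} : Set (IrrCharacter C))) by convert h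
    rw [omG_trC hC, omG_eG hM hb']
    split_ifs with hθ
    · rw [Set.mem_singleton_iff] at hθ; rw [hθ]; exact hβ
    · refine (omG_eG_01 hC hM hS hnorm hG hχ θ).resolve_right fun h1 => hθ ?_
      exact (existsUnique_down hC hM hS hnorm hG hχ).unique h1 hβ
  obtain ⟨hd, hd0⟩ := charDegree_eq χ
  obtain ⟨hd', hd0'⟩ := charDegree_eq β
  set a := charDegree (χ : G → ℂ)
  set b := charDegree (β : C → ℂ)
  -- integral numerators
  let A : C → locRing M := fun c =>
    ⟨(χ : G → ℂ) 1 * conj ((χ : G → ℂ) ⟨c, le_G hC c.2⟩), conj_irr_mem χ _⟩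
  let B : C → locRing M := fun c => ⟨(β : C → ℂ) 1 * conj ((β : C → ℂ) c), conj_irr_mem β _⟩
  have hA : ∀ c : C, (Nat.card G : ResField M) * coeffRes M ({χ} : Set (IrrCharacter G)) ⟨c, le_G hC c.2⟩ =
      res M (A c) := fun c => by
    rw [coeffRes, ← map_natCast (res M), ← map_mul]
    refine congrArg _ (Subtype.ext ?_)
    rw [Subring.coe_mul, coe_coeff_blockIdem hM (.of_isPBlock hb), blockCoeff, finsum_mem_singleton, hd,
      SubringClass.coe_natCast, ← mul_assoc, mul_inv_cancel₀ (Nat.cast_ne_zero.mpr Nat.card_pos.ne'), one_mul]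
    simp [A, hd]
  have hB : ∀ c : C, (Nat.card C : ResField M) * coeffRes M ({β} : Set (IrrCharacter C)) c =
      res M (B c) := fun c => by
    rw [coeffRes, ← map_natCast (res M), ← map_mul]
    refine congrArg _ (Subtype.ext ?_)
    rw [Subring.coe_mul, coe_coeff_blockIdem hM (.of_isPBlock hb'), blockCoeff, finsum_mem_singleton, hd',
      SubringClass.coe_natCast, ← mul_assoc, mul_inv_cancel₀ (Nat.cast_ne_zero.mpr Nat.card_pos.ne'), one_mul]
    simp [B, hd']
  have hAB : ∀ c : C, res M (A c) = res M (B c) := fun c => by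
    rw [← hA, ← hB, card_congr_C hC hM hS hnorm]
    congr 1
    rw [← coeff_eG (M := M) ({χ} : Set (IrrCharacter G)) ⟨c, le_G hC c.2⟩, ← coeff_eG (M := M) ({β} : Set (IrrCharacter C)) c,
      ← heq, coeff_trC _ (le_centralizer hC c.2)]
  have hsq : (a : ResField M) * a = b * b := by
    have h1 := hAB 1
    have e1 : A 1 = ((a * a : ℕ) : locRing M) := Subtype.ext (by
      simp only [A, Subring.coe_mul, SubringClass.coe_natCast]
      rw [show (⟨((1 : C) : Γ), le_G hC (1 : C).2⟩ : G) = 1 from rfl, hd, map_natCast]; push_cast; rfl)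
    have e2 : B 1 = ((b * b : ℕ) : locRing M) := Subtype.ext (by
      simp only [B, Subring.coe_mul, SubringClass.coe_natCast, hd', map_natCast]; push_cast; rfl)
    rw [e1, e2, res_natCast, res_natCast] at h1
    exact_mod_cast h1
  have hm' : ∑ c : C, conj ((χ : G → ℂ) ⟨c, le_G hC c.2⟩) * (γ : C → ℂ) c = (Nat.card C : ℂ) * m := by
    have h1 := congrArg conj hm
    rw [map_natCast, classInner, map_mul, map_inv₀, map_natCast, map_sum,
      inv_mul_eq_iff_eq_mul₀ (Nat.cast_ne_zero.mpr Nat.card_pos.ne')] at h1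
    rw [← h1]
    exact Finset.sum_congr rfl fun c _ => by rw [map_mul, Complex.conj_conj]
  let γv : C → locRing M := fun c => ⟨(γ : C → ℂ) c, integral_mem M (Char.isCharacter_isIntegral (Char.isCharacter_irr γ) c)⟩
  have hkey : (a * (Nat.card C * m) : ℕ) = ((b * (Nat.card C * if γ = β then 1 else 0) : ℕ) : ResField M) := by
    rw [← res_natCast, ← res_natCast]
    have e1 : ((a * (Nat.card C * m) : ℕ) : locRing M) = ∑ c : C, A c * γv c := Subtype.ext (by
      rw [AddSubmonoidClass.coe_finsetSum]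
      simp only [A, γv, Subring.coe_mul, SubringClass.coe_natCast, mul_assoc]
      rw [← Finset.mul_sum, hm', hd]; push_cast; rfl)
    have e2 : ((b * (Nat.card C * if γ = β then 1 else 0) : ℕ) : locRing M) = ∑ c : C, B c * γv c := Subtype.ext (by
      rw [AddSubmonoidClass.coe_finsetSum]
      simp only [B, γv, Subring.coe_mul, SubringClass.coe_natCast, mul_assoc]
      rw [← Finset.mul_sum]
      have h1 := Char.classInner_irr (G := C) γ β
      rw [classInner, inv_mul_eq_iff_eq_mul₀ (Nat.cast_ne_zero.mpr Nat.card_pos.ne')] at h1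
      rw [Finset.sum_congr rfl fun c _ => mul_comm _ _, h1]
      rw [hd']; split_ifs <;> push_cast <;> ring)
    rw [e1, e2, map_sum, map_sum]
    exact Finset.sum_congr rfl fun c _ => by rw [map_mul, map_mul, hAB]
  have hnz : ∀ n : ℕ, ¬ p ∣ n → (n : ResField M) ≠ 0 := fun n hn h0 => by
    have := charP_resField hM
    exact hn ((CharP.cast_eq_zero_iff (ResField M) p n).mp h0)
  have ha : (a : ResField M) ≠ 0 := hnz a fun h => hG (h.trans (Char.degree_dvd_card χ hd))
  push_cast at hkey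
  have hkey' : (a : ResField M) * m = b * if γ = β then 1 else 0 := by
    refine mul_left_cancel₀ (hnz _ hpC) ?_
    linear_combination hkey
  refine ⟨fun h => ?_, fun h => ?_⟩
  · rw [if_pos h, mul_one] at hkey'
    have : ((m : ResField M) - 1) * ((m : ResField M) + 1) = 0 := by
      refine mul_left_cancel₀ (mul_ne_zero ha ha) ?_
      linear_combination ((a : ResField M) * m + b) * hkey' - hsq
    rcases mul_eq_zero.mp this with h1 | h1
    · exact Or.inl (sub_eq_zero.mp h1)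
    · exact Or.inr (eq_neg_of_add_eq_zero_left h1)
  · rw [if_neg h, mul_zero] at hkey'
    exact (mul_eq_zero.mp hkey').resolve_left ha

end CfsgLib.Block.Glauberman
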