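import Cfsg.Agent.Lib.Block.Induced

/-!
# Transport of blocks along isomorphisms
-/

open Finset MonoidAlgebra
open scoped ComplexConjugate

set_option linter.unusedSectionVars false

namespace CfsgLib.Block

open Cfsg

universe u

variable {A A' : Type u} [Group A] [Group A']

/-- Irreducible characters along an isomorphism. -/
def irrEquiv (e : A ≃* A') : IrrCharacter A ≃ IrrCharacter A' where
  toFun χ := ⟨fun x => (χ : A → ℂ) (e.symm x),
    Char.isIrrCharacter_comp_surjective χ.2 e.symm.toMonoidHom e.symm.surjective⟩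
  invFun χ := ⟨fun x => (χ : A' → ℂ) (e x),
    Char.isIrrCharacter_comp_surjective χ.2 e.toMonoidHom e.surjective⟩
  left_inv χ := Subtype.ext (funext fun x => by simp)
  right_inv χ := Subtype.ext (funext fun x => by simp)

@[simp] theorem irrEquiv_apply (e : A ≃* A') (χ : IrrCharacter A) (x : A') :
    (irrEquiv e χ : A' → ℂ) x = (χ : A → ℂ) (e.symm x) := rfl

theorem centralizer_map_singleton (e : A ≃* A') (a : A) :
    (Subgroup.centralizer ({a} : Set A)).map e.toMonoidHom = Subgroup.centralizer ({e a} : Set A') := by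
  ext x
  simp only [Subgroup.mem_map_equiv, Subgroup.mem_centralizer_singleton_iff]
  constructor
  · intro h
    simpa using congrArg e h
  · intro h
    simpa using congrArg e.symm h

theorem centralChar_irrEquiv (e : A ≃* A') (χ : IrrCharacter A) (a : A) :
    centralChar (irrEquiv e χ : A' → ℂ) (e a) = centralChar (χ : A → ℂ) a := by
  rw [centralChar, centralChar, ← centralizer_map_singleton,
    show (Subgroup.map e.toMonoidHom (Subgroup.centralizer ({a} : Set A))).index = _ from
      Subgroup.index_map_equiv _ e]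
  simp

variable {M : Ideal AlgInt}

theorem sameBlock_irrEquiv (e : A ≃* A') (χ ψ : IrrCharacter A) :
    SameBlock M (irrEquiv e χ : A' → ℂ) (irrEquiv e ψ : A' → ℂ) ↔
      SameBlock M (χ : A → ℂ) (ψ : A → ℂ) := by
  constructor
  · intro h a
    simpa [centralChar_irrEquiv] using h (e a)
  · intro h b
    obtain ⟨a, rfl⟩ := e.surjective b
    simpa [centralChar_irrEquiv] using h a

theorem blockOf_irrEquiv (e : A ≃* A') (χ : IrrCharacter A) :
    blockOf M (irrEquiv e χ : A' → ℂ) = irrEquiv e '' blockOf M (χ : A → ℂ) := by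
  ext ψ
  obtain ⟨ψ, rfl⟩ := (irrEquiv e).surjective ψ
  simp [blockOf, sameBlock_irrEquiv]

theorem isPBlock_image_irrEquiv (e : A ≃* A') {B : Set (IrrCharacter A)} (hB : IsPBlock M B) :
    IsPBlock M (irrEquiv e '' B) := by
  obtain ⟨χ, rfl⟩ := hB
  exact ⟨irrEquiv e χ, (blockOf_irrEquiv e χ).symm⟩

theorem blockCoeff_image_irrEquiv (e : A ≃* A') (S : Set (IrrCharacter A)) (a : A) :
    blockCoeff (irrEquiv e '' S) (e a) = blockCoeff S a := by
  rw [blockCoeff, blockCoeff, Nat.card_congr e.toEquiv,
    finsum_mem_image (irrEquiv e).injective.injOn]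
  simp

variable [M.IsMaximal]

theorem coeffRes_image_irrEquiv (e : A ≃* A') (S : Set (IrrCharacter A)) (a : A) [Fintype A]
    [DecidableEq A] [Fintype A'] [DecidableEq A'] :
    coeffRes M (irrEquiv e '' S) (e a) = coeffRes M S a := by
  simp [coeffRes, blockIdem, blockCoeff_image_irrEquiv]

theorem centralRes_irrEquiv (e : A ≃* A') (χ : IrrCharacter A) (a : A) [Fintype A]
    [DecidableEq A] [Fintype A'] [DecidableEq A'] :
    centralRes M (irrEquiv e χ) (e a) = centralRes M χ a := by
  simp only [centralRes]
  exact congrArg (res M) (Subtype.ext (centralChar_irrEquiv e χ a))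

end CfsgLib.Block
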