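import Cfsg.Agent.Lib.Block.PSolvableHeight

/-!
# Blocks of `p`-solvable groups over an invariant character of the `p'`-core

Such a block has the Sylow `p`-subgroups as defect groups.
-/

open Finset MonoidAlgebra
open scoped ComplexConjugate

set_option linter.unusedSectionVars false

namespace CfsgLib.Block

open Cfsg
open scoped Pair

universe u

variable {p : ℕ} {M : Ideal AlgInt} [M.IsMaximal] {G : Type u} [Group G] [Fintype G] [DecidableEq G]
  [Fintype (IrrCharacter G)]

/-- A block over an invariant character of the `p'`-core has full defect. -/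
theorem card_defectGroup_of_invariant (hM : IsPModular p M) (hsolv : IsPSolvable p G)
    {N : Subgroup G} [N.Normal] [Fintype N] (hNd : N = pPrimeCore p G) {θ : IrrCharacter N}
    (hinv : ∀ g : G, cjN g θ = θ) {B : Set (IrrCharacter G)} (hB : IsPBlock M B)
    {χ : IrrCharacter G} (hχ : χ ∈ B)
    (hχθ : classInner (fun n : N => (χ : G → ℂ) n) (θ : N → ℂ) ≠ 0)
    {P : Subgroup G} (hP : IsDefectGroup p M B P) :
    Nat.card P = p ^ (Nat.card G).factorization p := by
  classical
  have hp : Fact p.Prime := ⟨hM.1⟩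
  have hNp : ¬ p ∣ Nat.card N := hNd ▸ CfsgLib.Coprime.pPrimeCore_not_dvd hM.1
  have hS : IsPSolvable p (G ⧸ N) := CfsgLib.PGroup.isPSolvable_quotient hM.1 hsolv N
  have hself := centralizer_pCore_le_of_isPSolvable hS (by
    subst hNd; exact CfsgLib.Coprime.pPrimeCore_quotient_eq_bot hM.1)
  set W := pCore p (G ⧸ N) with hW
  have : W.Normal := CfsgLib.Coprime.pCore_normal' p
  have hWp : IsPGroup p W := CfsgLib.Coprime.pCore_isPGroup p
  set U := W.comap (QuotientGroup.mk' N) with hU
  have hNU : N ≤ U := fun n hn => by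
    show QuotientGroup.mk' N n ∈ W
    rw [QuotientGroup.mk'_apply, (QuotientGroup.eq_one_iff n).mpr hn]
    exact W.one_mem
  obtain ⟨k, hk⟩ := IsPGroup.iff_card.mp hWp
  have hUN : (N.subgroupOf U).index = p ^ k := by
    rw [← hk, ← Subgroup.relIndex]
    have h1 : (W.comap (QuotientGroup.mk' N)).map (QuotientGroup.mk' N) = W :=
      Subgroup.map_comap_eq_self_of_surjective (QuotientGroup.mk'_surjective N) _
    rw [← Subgroup.relIndex_bot_left W, ← h1, ← Subgroup.relIndex_comap, MonoidHom.comap_bot,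
      QuotientGroup.ker_mk']
  have := Fintype.ofFinite (IrrCharacter U)
  -- a constituent on `U` over `θ`
  have hexp := Char.classFun_expand (f := fun a : U => (χ : G → ℂ) a)
    fun a b => Char.isClassFunction_irr χ (a : G) (b : G)
  obtain ⟨η, hη1, hη2⟩ : ∃ η : IrrCharacter U,
      classInner (fun a : U => (χ : G → ℂ) a) (η : U → ℂ) ≠ 0 ∧
      classInner (fun n : N => (η : U → ℂ) ⟨n, hNU n.2⟩) (θ : N → ℂ) ≠ 0 := by
    by_contra hc
    push Not at hc
    refine hχθ ?_
    have h1 : (fun n : N => (χ : G → ℂ) n) = ∑ η : IrrCharacter U,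
        classInner (fun a : U => (χ : G → ℂ) a) (η : U → ℂ) •
          fun n : N => (η : U → ℂ) ⟨n, hNU n.2⟩ := funext fun n => by
      have h := congrFun hexp ⟨n, hNU n.2⟩
      simpa [Finset.sum_apply] using h
    rw [h1, Char.classInner_sum_left]
    refine Finset.sum_eq_zero fun η _ => ?_
    rw [Char.classInner_smul_left]
    by_cases h : classInner (fun a : U => (χ : G → ℂ) a) (η : U → ℂ) = 0
    · rw [h, zero_mul]
    · rw [hc η h, mul_zero]
  set N' := N.subgroupOf U with hN'
  let e : N' ≃* N := Subgroup.subgroupOfEquivOfLe hNU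
  let θ' : IrrCharacter N' := irrEquiv e.symm θ
  have hN'c : Nat.card N' = Nat.card N := Nat.card_congr e.toEquiv
  have := Fintype.ofFinite (IrrCharacter N')
  have := Fintype.ofFinite (U ⧸ N')
  have := Fintype.ofFinite (G ⧸ U)
  have hb0 : IsPBlock M ({θ'} : Set (IrrCharacter N')) := Glauberman.singleton_isPBlock hM (hN'c ▸ hNp) θ'
  have hst0 : ∀ v : U, cjN v '' ({θ'} : Set (IrrCharacter N')) = {θ'} := by
    intro v
    rw [Set.image_singleton]
    congr 1
    refine Subtype.ext (funext fun x => ?_)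
    rw [cjN_apply]
    show (θ : N → ℂ) _ = (θ : N → ℂ) (e x)
    have h := congrFun (congrArg Subtype.val (hinv (v : G))) (e x)
    rw [cjN_apply] at h
    refine Eq.trans (congrArg _ (Subtype.ext ?_)) h
    simp [e]
    rfl
  have hover : ∀ η' : IrrCharacter U,
      classInner (fun x : N' => (η' : U → ℂ) x) (θ' : N' → ℂ) =
        classInner (fun n : N => (η' : U → ℂ) ⟨n, hNU n.2⟩) (θ : N → ℂ) := by
    intro η'
    rw [classInner, classInner, hN'c]
    congr 1
    exact Fintype.sum_equiv e.toEquiv _ _ fun x => rfl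
  set bU := blockOf M (η : U → ℂ) with hbU
  have hbUb : IsPBlock M bU := isPBlock_blockOf η
  have hcovU : Covers bU ({θ'} : Set (IrrCharacter N')) :=
    ⟨η, self_mem_blockOf η, θ', rfl, by rw [hover]; exact hη2⟩
  have hstU : ∀ g : G, cjN g '' bU = bU := by
    intro g
    refine covers_unique_of_ppow hM ⟨k, hUN⟩ (isPBlock_cjN g hbUb) hbUb hb0 ?_ hcovU
    refine ⟨cjN g η, ⟨η, self_mem_blockOf η, rfl⟩, θ', rfl, ?_⟩
    rw [hover]
    refine fun h0 => hη2 (Eq.trans ?_ h0)
    simp only [classInner]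
    congr 1
    refine Fintype.sum_equiv
      { toFun := fun n : N => (⟨g * n * g⁻¹, (inferInstance : N.Normal).conj_mem _ n.2 g⟩ : N)
        invFun := fun n : N => (⟨g⁻¹ * n * g, (inferInstance : N.Normal).conj_mem' _ n.2 g⟩ : N)
        left_inv := fun n => Subtype.ext (by simp [mul_assoc])
        right_inv := fun n => Subtype.ext (by simp [mul_assoc]) } _ _ fun n => ?_
    have h := congrFun (congrArg Subtype.val (hinv g)) ⟨g * n * g⁻¹, (inferInstance : N.Normal).conj_mem _ n.2 g⟩
    rw [cjN_apply] at h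
    simp only [Equiv.coe_fn_mk]
    rw [← h, cjN_apply]
    exact congrArg₂ (fun a c : ℂ => a * conj c)
      (congrArg (η : U → ℂ) (Subtype.ext (show (n : G) = g⁻¹ * (g * n * g⁻¹) * g by group)))
      (congrArg (θ : N → ℂ) (Subtype.ext (show (n : G) = g⁻¹ * (g * n * g⁻¹) * g by group)))
  have hcovB : Covers B bU := ⟨χ, hχ, η, self_mem_blockOf η, hη1⟩
  obtain ⟨Q', hQ'⟩ := exists_defectGroup hM hbUb
  have hQp := isPGroup_defectGroup hM hbUb hQ'
  obtain ⟨htop, -⟩ := ppow_defect hM ⟨k, hUN⟩ hb0 hst0 hbUb hcovU hQ'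
  have hdisj : N' ⊓ Q' = ⊥ := by
    obtain ⟨i, hi⟩ := IsPGroup.iff_card.mp hQp
    refine Subgroup.eq_bot_of_card_eq _ (Nat.eq_one_of_dvd_coprimes ?_
      (Subgroup.card_dvd_of_le inf_le_left) (Subgroup.card_dvd_of_le inf_le_right))
    rw [hN'c, hi]
    exact ((hM.1.coprime_iff_not_dvd.mpr hNp).pow_left i).symm
  set Q := Q'.map U.subtype with hQ
  have hQU : Q ≤ U := Subgroup.map_subtype_le Q'
  have hQQ : Q.subgroupOf U = Q' := Subgroup.comap_map_eq_self_of_injective U.subtype_injective Q'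
  have hNn : ∀ v ∈ Subgroup.normalizer (Q' : Set U), v ∈ Q' ⊔ CQ Q' := by
    intro v hv
    have hvt : v ∈ N' ⊔ Q' := htop ▸ Subgroup.mem_top v
    obtain ⟨m, hm, q, hq, rfl⟩ := Subgroup.mem_sup_of_normal_left.mp hvt
    have hmN : m ∈ Subgroup.normalizer (Q' : Set U) := by
      have := mul_mem hv ((Subgroup.normalizer (Q' : Set U)).inv_mem (Subgroup.le_normalizer hq))
      rwa [mul_inv_cancel_right] at this
    refine mul_mem (Subgroup.mem_sup_right (Subgroup.mem_centralizer_iff.mpr fun w hw => ?_))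
      (Subgroup.mem_sup_left hq)
    have h1 : m * w * m⁻¹ * w⁻¹ ∈ N' ⊓ Q' := by
      refine ⟨?_, mul_mem ((Subgroup.mem_normalizer_iff.mp hmN w).mp hw) (Q'.inv_mem hw)⟩
      rw [show m * w * m⁻¹ * w⁻¹ = m * (w * m⁻¹ * w⁻¹) by group]
      exact mul_mem hm ((inferInstance : N'.Normal).conj_mem _ (N'.inv_mem hm) w)
    rw [hdisj, Subgroup.mem_bot, mul_inv_eq_one, mul_inv_eq_iff_eq_mul] at h1
    exact h1.symm
  have hCU : CQ Q ≤ U := by
    intro c hc
    refine hself (Subgroup.mem_centralizer_iff.mpr fun w hw => ?_)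
    obtain ⟨u, rfl⟩ := QuotientGroup.mk_surjective w
    have hu : u ∈ U := hw
    have hut : (⟨u, hu⟩ : U) ∈ N' ⊔ Q' := htop ▸ Subgroup.mem_top _
    obtain ⟨m, hm, q, hq, hmq⟩ := Subgroup.mem_sup_of_normal_left.mp hut
    have hue : (m : G) * (q : G) = u := congrArg Subtype.val hmq
    have hmk : ((u : G) : G ⧸ N) = ((q : G) : G ⧸ N) := by
      rw [← hue, QuotientGroup.mk_mul, (QuotientGroup.eq_one_iff _).mpr (Subgroup.mem_subgroupOf.mp hm),
        one_mul]
    rw [hmk]
    show ((q : G) : G ⧸ N) * (c : G ⧸ N) = (c : G ⧸ N) * ((q : G) : G ⧸ N)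
    rw [← QuotientGroup.mk_mul, ← QuotientGroup.mk_mul]
    exact congrArg _ (Subgroup.mem_centralizer_iff.mp hc (q : G) (Subgroup.mem_map_of_mem _ hq))
  have hge := defect_ge_of_cq_le hM hbUb hstU hQU (by rw [hQQ]; exact hQ') hCU
    (by rw [hQQ]; exact hNn) hB hcovB
  -- full defect
  have hUc : Nat.card U = Nat.card N * Nat.card Q' := by
    have h := CfsgLib.PGroup.card_sup_mul_card_inf Q' N'
    rw [sup_comm, inf_comm, htop, hdisj, Subgroup.card_top, Subgroup.card_bot, mul_one, hN'c] at h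
    rw [h, mul_comm]
  have hvU : (Nat.card U).factorization p = blockDefect p bU := by
    rw [hUc, Nat.factorization_mul Nat.card_pos.ne' Nat.card_pos.ne', Finsupp.add_apply,
      Nat.factorization_eq_zero_of_not_dvd hNp, zero_add, defectGroup_card hM hbUb hQ',
      hM.1.factorization_pow, Finsupp.single_eq_same]
  have hfull : (Nat.card G).factorization p ≤ blockDefect p B := by
    rw [← U.index_mul_card, Nat.factorization_mul Subgroup.index_ne_zero_of_finite Nat.card_pos.ne',
      Finsupp.add_apply, hvU]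
    omega
  have hPc : Nat.card P = p ^ (Nat.card G).factorization p := by
    rw [defectGroup_card hM hB hP]
    congr 1
    have : blockDefect p B ≤ (Nat.card G).factorization p := Nat.sub_le _ _
    omega
  exact hPc

end CfsgLib.Block
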