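import Mathlib.RingTheory.Valuation.LocalSubring
import Mathlib.RingTheory.LocalRing.ResidueField.Basic
import Mathlib.Analysis.Complex.Polynomial.Basic
import Mathlib.RepresentationTheory.Character
import Mathlib.Algebra.CharP.Basic
import Mathlib.LinearAlgebra.Matrix.ToLin
import Mathlib.LinearAlgebra.Trace

/-!
# Integral forms over a valuation ring of the complex numbers

`exists_valuationSubring p`: a valuation subring of `ℂ` whose residue field has characteristic `p`.
`exists_integral_form`: every complex representation of a finite group is given by matrices over it.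
-/

set_option autoImplicit false
set_option linter.unusedSectionVars false

namespace CfsgLib.Block

open Module

universe u

/-- A valuation subring of the complex numbers over a prime. -/
theorem exists_valuationSubring {p : ℕ} (hp : p.Prime) :
    ∃ A : ValuationSubring ℂ, CharP (IsLocalRing.ResidueField A) p := by
  classical
  set R : Subring ℂ := (Int.castRingHom ℂ).range
  have hpR : ((p : ℂ)) ∈ R := ⟨p, by simp⟩
  have hI : Ideal.span {(⟨p, hpR⟩ : R)} ≠ ⊤ := by
    rw [Ne, Ideal.span_singleton_eq_top]
    intro hu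
    obtain ⟨⟨b, n, hn⟩, hb⟩ := isUnit_iff_exists_inv.mp hu
    have h1 : ((p : ℂ)) * (n : ℂ) = 1 := by
      have := congrArg Subtype.val hb
      simp only [Subring.coe_mul, Subring.coe_one] at this
      rw [← hn] at this
      simpa using this
    have h2 : (p : ℤ) * n = 1 := by exact_mod_cast h1
    have := Int.natAbs_mul (p : ℤ) n
    rw [h2] at this
    simp only [Int.natAbs_one, Int.natAbs_natCast] at this
    exact hp.one_lt.ne' (Nat.eq_one_of_mul_eq_one_right this.symm)
  obtain ⟨A, -, hA⟩ := Ideal.image_subset_nonunits_valuationSubring _ hI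
  refine ⟨A, ?_⟩
  have hpA : (p : ℂ) ∈ (A.nonunits : Set ℂ) := hA ⟨_, Ideal.mem_span_singleton_self _, rfl⟩
  rw [← A.image_maximalIdeal] at hpA
  obtain ⟨x, hx, hxp⟩ := hpA
  have hx' : x = (p : A) := Subtype.ext (by rw [hxp]; simp)
  have h0 : (p : IsLocalRing.ResidueField A) = 0 := by
    rw [← map_natCast (IsLocalRing.residue A), ← hx']
    exact (IsLocalRing.residue_eq_zero_iff x).mpr hx
  exact (CharP.charP_iff_prime_eq_zero hp).mpr h0

variable {A : ValuationSubring ℂ}

/-- One of finitely many coefficients dominates the others. -/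
theorem exists_dominant {ι : Type*} (s : Finset ι) (f : ι → ℂ) (hne : ∃ i ∈ s, f i ≠ 0) :
    ∃ j ∈ s, f j ≠ 0 ∧ ∀ i ∈ s, f i / f j ∈ A := by
  obtain ⟨i₀, hi₀, hi₀'⟩ := hne
  obtain ⟨j, hj, hmax⟩ := Finset.exists_max_image s (fun i => A.valuation (f i)) ⟨i₀, hi₀⟩
  have hj0 : f j ≠ 0 := fun h => hi₀' ((map_eq_zero A.valuation).mp
    (le_antisymm (by simpa [h] using hmax i₀ hi₀) zero_le'))
  refine ⟨j, hj, hj0, fun i hi => (A.valuation_le_one_iff _).mp ?_⟩
  rw [map_div₀]
  exact div_le_one_of_le₀ (hmax i hi) zero_le'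

/-- Every representation is given by matrices over a valuation subring. -/
theorem exists_integral_form (A : ValuationSubring ℂ) {G : Type u} [Group G] [Finite G] {d : ℕ}
    (ρ : Representation ℂ G (Fin d → ℂ)) :
    ∃ σ : G →* Matrix (Fin d) (Fin d) A,
      ∀ g, Matrix.trace ((σ g).map (A.subtype)) = ρ.character g := by
  classical
  haveI := Fintype.ofFinite G
  let S : Finset (Fin d → ℂ) := (Finset.univ : Finset (G × Fin d)).image
    fun a => ρ a.1 (Pi.single a.2 1)
  set L : Submodule A (Fin d → ℂ) := Submodule.span A (S : Set (Fin d → ℂ)) with hL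
  have hρL : ∀ g, ∀ v ∈ L, ρ g v ∈ L := by
    intro g v hv
    induction hv using Submodule.span_induction with
    | mem x hx =>
      obtain ⟨⟨g', i⟩, -, rfl⟩ := Finset.mem_image.mp hx
      refine Submodule.subset_span (Finset.mem_image.mpr ⟨(g * g', i), Finset.mem_univ _, ?_⟩)
      rw [map_mul]
      rfl
    | zero => rw [map_zero]; exact zero_mem _
    | add x y _ _ hx hy => rw [map_add]; exact add_mem hx hy
    | smul a x _ hx =>
      rw [show a • x = (a : ℂ) • x from rfl, map_smul]
      exact L.smul_mem a hx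
  have hex : ∃ n, ∃ T : Finset (Fin d → ℂ), T.card = n ∧ Submodule.span A (T : Set (Fin d → ℂ)) = L :=
    ⟨_, S, rfl, rfl⟩
  obtain ⟨T, hTc, hT⟩ := Nat.find_spec hex
  have hli : LinearIndependent ℂ (fun t : T => (t : Fin d → ℂ)) := by
    rw [Fintype.linearIndependent_iff]
    intro a ha
    by_contra hne
    push Not at hne
    obtain ⟨i₀, hi₀⟩ := hne
    obtain ⟨j, -, hj0, hj⟩ := exists_dominant (A := A) Finset.univ a ⟨i₀, Finset.mem_univ _, hi₀⟩
    have hjmem : (j : Fin d → ℂ) ∈ Submodule.span A ((T.erase j : Finset _) : Set (Fin d → ℂ)) := by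
      have e : (j : Fin d → ℂ) = ∑ i ∈ Finset.univ.erase j, (-(⟨a i / a j, hj i (Finset.mem_univ _)⟩ : A)) •
          (i : Fin d → ℂ) := by
        have h2 := congrArg (fun v => (a j)⁻¹ • v) ha
        simp only [Finset.smul_sum, smul_zero, smul_smul] at h2
        rw [← Finset.add_sum_erase _ _ (Finset.mem_univ j), inv_mul_cancel₀ hj0, one_smul,
          add_eq_zero_iff_eq_neg] at h2
        rw [h2, ← Finset.sum_neg_distrib]
        refine Finset.sum_congr rfl fun i _ => ?_
        show -(((a j)⁻¹ * a i) • (i : Fin d → ℂ)) = (-(a i / a j)) • (i : Fin d → ℂ)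
        rw [neg_smul, div_eq_inv_mul]
      have hsum : (∑ i ∈ Finset.univ.erase j, (-(⟨a i / a j, hj i (Finset.mem_univ _)⟩ : A)) •
          (i : Fin d → ℂ)) ∈ Submodule.span A ((T.erase j : Finset _) : Set (Fin d → ℂ)) :=
        sum_mem fun i hi => Submodule.smul_mem _ _ (Submodule.subset_span
          (Finset.mem_erase.mpr ⟨fun h => Finset.ne_of_mem_erase hi (Subtype.ext h), i.2⟩))
      rwa [← e] at hsum
    have hspan : Submodule.span A ((T.erase j : Finset _) : Set (Fin d → ℂ)) = L := by
      rw [← hT]
      refine le_antisymm (Submodule.span_mono (Finset.coe_subset.mpr (Finset.erase_subset _ _)))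
        (Submodule.span_le.mpr fun t ht => ?_)
      by_cases htj : t = j
      · exact htj ▸ hjmem
      · exact Submodule.subset_span (Finset.mem_erase.mpr ⟨htj, ht⟩)
    have := Nat.find_min' hex ⟨_, rfl, hspan⟩
    rw [← hTc] at this
    exact absurd this (Finset.card_erase_lt_of_mem j.2).not_ge
  have hTspan : L ≤ (Submodule.span ℂ (Set.range fun t : T => (t : Fin d → ℂ))).restrictScalars A := by
    rw [← hT, Submodule.span_le]
    exact fun t ht => Submodule.subset_span ⟨⟨t, ht⟩, rfl⟩
  have htop : ⊤ ≤ Submodule.span ℂ (Set.range fun t : T => (t : Fin d → ℂ)) := by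
    rw [← (Pi.basisFun ℂ (Fin d)).span_eq, Submodule.span_le]
    rintro _ ⟨i, rfl⟩
    refine hTspan (Submodule.subset_span (Finset.mem_image.mpr ⟨(1, i), Finset.mem_univ _, ?_⟩))
    rw [map_one, Pi.basisFun_apply]
    rfl
  let b₀ := Basis.mk hli htop
  have hcard : Fintype.card T = d := by
    rw [← Module.finrank_eq_card_basis b₀, Module.finrank_fin_fun]
  let e := Fintype.equivFinOfCardEq hcard
  let b := b₀.reindex e
  have hbL : ∀ j, b j ∈ L := fun j => by
    rw [Basis.reindex_apply, Basis.mk_apply, ← hT]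
    exact Submodule.subset_span (e.symm j).2
  have hcoord : ∀ v ∈ L, ∀ i, b.repr v i ∈ A := by
    intro v hv
    rw [← hT] at hv
    induction hv using Submodule.span_induction with
    | mem x hx =>
      intro i
      have hx' : x = b (e ⟨x, hx⟩) := by
        rw [Basis.reindex_apply, Basis.mk_apply, Equiv.symm_apply_apply]
      rw [hx', Basis.repr_self, Finsupp.single_apply]
      split
      · exact one_mem A
      · exact zero_mem A
    | zero => intro i; rw [map_zero, Finsupp.zero_apply]; exact zero_mem A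
    | add x y _ _ hx hy => intro i; rw [map_add, Finsupp.add_apply]; exact add_mem (hx i) (hy i)
    | smul a x _ hx =>
      intro i
      rw [show a • x = (a : ℂ) • x from rfl, map_smul, Finsupp.smul_apply, smul_eq_mul]
      exact mul_mem a.2 (hx i)
  have hent : ∀ g i j, LinearMap.toMatrix b b (ρ g) i j ∈ A := fun g i j => by
    rw [LinearMap.toMatrix_apply]
    exact hcoord _ (hρL g _ (hbL j)) i
  have hinj : Function.Injective fun m : Matrix (Fin d) (Fin d) A => m.map A.subtype :=
    Matrix.map_injective Subtype.val_injective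
  refine ⟨{ toFun := fun g i j => ⟨_, hent g i j⟩, map_one' := hinj ?_, map_mul' := fun g h => hinj ?_ },
    fun g => ?_⟩
  · show LinearMap.toMatrix b b (ρ 1) = (1 : Matrix (Fin d) (Fin d) A).map A.subtype
    rw [map_one, Module.End.one_eq_id, LinearMap.toMatrix_id, Matrix.map_one _ (map_zero _) (map_one _)]
  · show LinearMap.toMatrix b b (ρ (g * h)) = _
    rw [map_mul, LinearMap.toMatrix_mul]
    exact (Matrix.map_mul (f := A.subtype)
      (L := (fun i j => ⟨_, hent g i j⟩ : Matrix (Fin d) (Fin d) A))
      (M := (fun i j => ⟨_, hent h i j⟩ : Matrix (Fin d) (Fin d) A))).symm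
  · show Matrix.trace (LinearMap.toMatrix b b (ρ g)) = _
    exact (LinearMap.trace_eq_matrix_trace ℂ b (ρ g)).symm

end CfsgLib.Block
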