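import Cfsg.Agent.Lib.Block.BrauerPairs

/-!
# Maximal Brauer pairs

Maximal pairs have defect groups as subgroups, all maximal pairs are conjugate, every pair lies
below a maximal one.
-/

open Finset MonoidAlgebra
open scoped ComplexConjugate

set_option linter.unusedSectionVars false

namespace CfsgLib.Block

open Cfsg

open scoped Pair

universe u

variable {p : ℕ} {M : Ideal AlgInt} [M.IsMaximal] {G : Type u} [Group G] [Fintype G] [DecidableEq G]
  {Q R : Subgroup G}

variable (p M) in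
/-- No `p`-subgroup strictly above `Q` in the stabilizer of `f` sees the idempotent of `f`. -/
def HMax (Q : Subgroup G) (f : Set (IrrCharacter (CQ Q))) : Prop :=
  ∀ R : Subgroup G, IsPGroup p R → Q < R → R ≤ Subgroup.normalizer (Q : Set G) → CInv R (eG M f) →
    ∀ x ∈ CQ R, (eG M f).coeff x = 0

/-- A `p`-group in the stabilizer seeing the idempotent carries a pair above. -/
theorem exists_nSub_above (hM : IsPModular p M) {f : Set (IrrCharacter (CQ Q))}
    (hf : IsBrauerPair p M Q f) (hR : IsPGroup p R) (hQR : Q ≤ R)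
    (hRN : R ≤ Subgroup.normalizer (Q : Set G)) (hstab : CInv R (eG M f)) {x : G} (hx : x ∈ CQ R)
    (hne : (eG M f).coeff x ≠ 0) : ∃ g, NSub p M Q f R g := by
  classical
  set z := cenOf M (eG M f) (cinv_cq_eG hQR f) with hz
  have hzz : z * z = z := by
    refine Subtype.ext (ga_ext fun k => ?_)
    have h := congrArg (fun y => trC R y) (eG_mul_self hM hf.2)
    simp only [trC_mul hM hR hstab hstab] at h
    have htr : trC R (eG M f) = emb (z : MonoidAlgebra (ResField M) (CQ R)) := by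
      refine (eq_emb_of_suppIn (suppIn_trC (eG M f))).trans ?_
      congr 1
      exact ga_ext fun c => by simp [hz, coeff_trC _ c.2, coeff_cenOf]
    rw [htr, ← emb_mul] at h
    rw [MulMemClass.coe_mul, ← coeff_emb_coe (H := CQ R) (R := ResField M), h, coeff_emb_coe]
  have hex : ∃ ξ : IrrCharacter (CQ R), omegaBar M ξ z ≠ 0 := by
    by_contra hall
    push Not at hall
    obtain ⟨N, hN⟩ := isNilpotent_of_omegaBar hM hall
    have hid : IsIdempotentElem z := hzz
    have h0 : z = 0 := by rw [← hid.pow_succ_eq N, pow_succ, hN, zero_mul]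
    apply hne
    have := coeff_cenOf (eG M f) (cinv_cq_eG hQR f) ⟨x, hx⟩
    rw [← hz, h0] at this
    simpa using this.symm
  obtain ⟨ξ, hξ⟩ := hex
  have h1 : omG M ξ (eG M f) = 1 := by
    rw [← omG_cenOf ξ _ (cinv_cq_eG hQR f)]
    have h := congrArg (omegaBar M ξ) hzz
    rw [map_mul] at h
    exact mul_right_cancel₀ hξ (h.trans (one_mul _).symm)
  exact ⟨blockOf M (ξ : CQ R → ℂ), hf, ⟨hR, isPBlock_blockOf ξ⟩, hQR, hRN, hstab, fun ξ' hξ' =>
    (omG_congr_block (isPBlock_blockOf ξ) hξ' (self_mem_blockOf ξ) _).trans h1⟩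

theorem isMaximalBrauerPair_iff (hM : IsPModular p M) {B : Set (IrrCharacter G)}
    {f : Set (IrrCharacter (CQ Q))} :
    IsMaximalBrauerPair p M B Q f ↔ IsBrauerPairOf p M B Q f ∧ HMax p M Q f := by
  classical
  constructor
  · rintro ⟨hB, hmax⟩
    refine ⟨hB, fun R hR hlt hRN hstab x hx => ?_⟩
    by_contra hne
    obtain ⟨g, hg⟩ := exists_nSub_above hM hB.1 hR hlt.le hRN hstab hx hne
    exact hlt.ne' (hmax R g ((hg.isBrauerPairOf_iff hM).mpr hB) (SubpairLE.step hM hg))
  · rintro ⟨hB, hmax⟩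
    refine ⟨hB, fun R g _ hle => ?_⟩
    obtain h | ⟨T, t, hlt, hstep, -⟩ := SubpairLE.cases' hM hle
    · exact ((Sigma.mk.inj_iff.mp h).1).symm
    · exfalso
      obtain ⟨ξ, hξ⟩ := isPBlock_nonempty hstep.pairR.2
      have h0 := omG_congr (M := M) ξ (y := eG M f) (y' := 0) fun x hx =>
        hmax T hstep.pairR.1 hlt hstep.norm hstep.stab x hx
      rw [omG_zero, hstep.one ξ hξ] at h0
      exact one_ne_zero h0

/-- Every pair lies below a maximal one. -/
theorem exists_maximal_above (hM : IsPModular p M) {B : Set (IrrCharacter G)}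
    (Q : Subgroup G) (f : Set (IrrCharacter (CQ Q))) (h : IsBrauerPairOf p M B Q f) :
    ∃ (D : Subgroup G) (e : Set (IrrCharacter (CQ D))), IsMaximalBrauerPair p M B D e ∧
      SubpairLE p M Q f D e := by
  induction hn : Nat.card G - Nat.card Q using Nat.strong_induction_on generalizing Q with
  | _ n ih =>
    by_cases hmax : HMax p M Q f
    · exact ⟨Q, f, (isMaximalBrauerPair_iff hM).mpr ⟨h, hmax⟩, Relation.ReflTransGen.refl⟩
    · simp only [HMax, not_forall] at hmax
      obtain ⟨R, hR, hlt, hRN, hstab, x, hx, hne⟩ := hmax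
      obtain ⟨g, hg⟩ := exists_nSub_above hM h.1 hR hlt.le hRN hstab hx hne
      have hcard : Nat.card Q < Nat.card R :=
        (Nat.card_le_card_of_injective _ (Subgroup.inclusion_injective hlt.le)).lt_of_ne fun heq =>
          hlt.ne (Subgroup.eq_of_le_of_card_ge hlt.le heq.ge)
      have hle : Nat.card R ≤ Nat.card G := Nat.card_le_card_of_injective _ Subtype.val_injective
      obtain ⟨D, e, hD, hDle⟩ := ih _ (by omega) R g ((hg.isBrauerPairOf_iff hM).mpr h) rfl
      exact ⟨D, e, hD, (SubpairLE.step hM hg).trans hDle⟩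

/-! ### The orbit of a pair under the normalizer -/

variable (M) in
open scoped Classical in
/-- The blocks of `C(Q)` conjugate to `f` under `N(Q)`. -/
noncomputable def orbitN (Q : Subgroup G) (f : Set (IrrCharacter (CQ Q))) :
    Finset (BlockT M Q) :=
  Finset.univ.filter fun f' =>
    ∃ n ∈ Subgroup.normalizer (Q : Set G), conjSet n (CQ Q) (CQ Q) f = f'.1

variable (M) in
/-- The sum of the idempotents of the orbit. -/
noncomputable def eO (Q : Subgroup G) (f : Set (IrrCharacter (CQ Q))) :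
    MonoidAlgebra (ResField M) G :=
  ∑ f' ∈ orbitN M Q f, eG M f'.1

theorem mem_orbitN {f : Set (IrrCharacter (CQ Q))} {f' : BlockT M Q} :
    f' ∈ orbitN M Q f ↔ ∃ n ∈ Subgroup.normalizer (Q : Set G),
      conjSet n (CQ Q) (CQ Q) f = f'.1 := by
  classical
  simp [orbitN]

theorem conjN_mem_orbitN (hM : IsPModular p M) {f : Set (IrrCharacter (CQ Q))} (hf : IsPBlock M f)
    {u : G} (hu : u ∈ Subgroup.normalizer (Q : Set G)) {f' : BlockT M Q} (hf' : f' ∈ orbitN M Q f) :
    ⟨conjSet u (CQ Q) (CQ Q) f'.1, isPBlock_conjN hu f'.2⟩ ∈ orbitN M Q f := by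
  obtain ⟨n, hn, h⟩ := mem_orbitN.mp hf'
  refine mem_orbitN.mpr ⟨u * n, mul_mem hu hn, eG_inj hM (isPBlock_conjN (mul_mem hu hn) hf)
    (isPBlock_conjN hu f'.2) ?_⟩
  rw [eG_conjN (mul_mem hu hn), eG_conjN hu, ← h, eG_conjN hn, cj_cj]

theorem suppIn_eO (f : Set (IrrCharacter (CQ Q))) : SuppIn (CQ Q) (eO M Q f) := fun g hg => by
  rw [eO, coeff_sum_apply]
  exact Finset.sum_eq_zero fun f' _ => suppIn_eG f'.1 g hg

theorem cinv_eO (hM : IsPModular p M) {f : Set (IrrCharacter (CQ Q))} (hf : IsPBlock M f) :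
    CInv (Subgroup.normalizer (Q : Set G)) (eO M Q f) := by
  classical
  refine cinv_iff_cj.mpr fun u hu => ga_ext fun g => ?_
  simp only [coeff_cj, eO, coeff_sum_apply]
  refine Finset.sum_bij'
    (fun f' _ => ⟨conjSet u (CQ Q) (CQ Q) f'.1, isPBlock_conjN hu f'.2⟩)
    (fun f' _ => ⟨conjSet u⁻¹ (CQ Q) (CQ Q) f'.1, isPBlock_conjN (inv_mem hu) f'.2⟩)
    (fun f' h => conjN_mem_orbitN hM hf hu h)
    (fun f' h => conjN_mem_orbitN hM hf (inv_mem hu) h) (fun f' _ => ?_) (fun f' _ => ?_)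
    (fun f' _ => ?_)
  · refine Subtype.ext (eG_inj hM (isPBlock_conjN (inv_mem hu) (isPBlock_conjN hu f'.2)) f'.2 ?_)
    rw [eG_conjN (inv_mem hu), eG_conjN hu, cj_cj, inv_mul_cancel, cj_one]
  · refine Subtype.ext (eG_inj hM (isPBlock_conjN hu (isPBlock_conjN (inv_mem hu) f'.2)) f'.2 ?_)
    rw [eG_conjN hu, eG_conjN (inv_mem hu), cj_cj, mul_inv_cancel, cj_one]
  · rw [eG_conjN hu, coeff_cj]

theorem omG_eO (hM : IsPModular p M) {f g : Set (IrrCharacter (CQ Q))} (hg : IsPBlock M g)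
    {ξ : IrrCharacter (CQ Q)} (hξ : ξ ∈ g) :
    omG M ξ (eO M Q f) = @ite _ (⟨g, hg⟩ ∈ orbitN M Q f) (Classical.propDecidable _) 1 0 := by
  classical
  rw [eO, omG_sum]
  simp only [omG_eG hM (Subtype.prop _)]
  have : ∀ f' : BlockT M Q, ξ ∈ f'.1 ↔ (⟨g, hg⟩ : BlockT M Q) = f' := fun f' =>
    ⟨fun h => Subtype.ext (isPBlock_eq_of_mem hg f'.2 hξ h), fun h => h ▸ hξ⟩
  simp only [this, Finset.sum_ite_eq]
  congr

theorem self_mem_orbitN (hM : IsPModular p M) {f : Set (IrrCharacter (CQ Q))} (hf : IsPBlock M f) :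
    ⟨f, hf⟩ ∈ orbitN M Q f :=
  mem_orbitN.mpr ⟨1, one_mem _, eG_inj hM (isPBlock_conjN (one_mem _) hf) hf
    (by rw [eG_conjN (one_mem _), cj_one])⟩

/-- At a maximal pair, an element where the orbit idempotent does not vanish has `Q` as Sylow
subgroup of its centralizer. -/
theorem isSylowCent_of_eO (hM : IsPModular p M) {f : Set (IrrCharacter (CQ Q))}
    (hf : IsBrauerPair p M Q f) (hmax : HMax p M Q f) {x : G} (hx : (eO M Q f).coeff x ≠ 0) :
    IsSylowCent p x Q := by
  classical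
  have hpf : Fact p.Prime := ⟨hM.1⟩
  have := charP_resField hM
  have hxC : x ∈ CQ Q := by
    by_contra h
    exact hx (suppIn_eO f x h)
  have key : ∀ S : Subgroup G, IsPGroup p S → Q ≤ S → S ≤ Subgroup.normalizer (Q : Set G) →
      (∀ s ∈ S, Commute s x) → S = Q := by
    intro S hS hQS hSN hSx
    by_contra hne
    let T := {f' : BlockT M Q // f' ∈ orbitN M Q f}
    letI : MulAction S T :=
      { smul := fun u f' => ⟨_, conjN_mem_orbitN hM hf.2 (hSN u.2) f'.2⟩
        one_smul := fun f' => Subtype.ext (Subtype.ext (eG_inj hM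
          (isPBlock_conjN (hSN (one_mem S)) f'.1.2) f'.1.2
          ((eG_conjN (hSN (one_mem S)) f'.1.1).trans (cj_one _))))
        mul_smul := fun u v f' => Subtype.ext (Subtype.ext (eG_inj hM
          (isPBlock_conjN (hSN (u * v).2) f'.1.2)
          (isPBlock_conjN (hSN u.2) (isPBlock_conjN (hSN v.2) f'.1.2))
          ((eG_conjN (hSN (u * v).2) f'.1.1).trans ((show eG M (conjSet (u : G) (CQ Q) (CQ Q)
            (conjSet (v : G) (CQ Q) (CQ Q) f'.1.1)) = cj ((u * v : S) : G) (eG M f'.1.1) by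
              rw [eG_conjN (hSN u.2), eG_conjN (hSN v.2), cj_cj, Subgroup.coe_mul]).symm)))) }
    have hsmul : ∀ (u : S) (f' : T), eG M (u • f').1.1 = cj (u : G) (eG M f'.1.1) :=
      fun u f' => eG_conjN (hSN u.2) f'.1.1
    have hinv : ∀ (u : S) (f' : T),
        (eG M (u • f').1.1).coeff x = (eG M f'.1.1).coeff x := fun u f' => by
      rw [hsmul, coeff_cj, mul_assoc, ← (hSx u u.2).eq, inv_mul_cancel_left]
    apply hx
    rw [eO, coeff_sum_apply,
      Finset.sum_subtype (p := fun f' => f' ∈ orbitN M Q f) _ (fun _ => Iff.rfl),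
      sum_eq_sum_fixedPoints (p := p) hS (fun f' : T => (eG M f'.1.1).coeff x) hinv]
    refine Finset.sum_eq_zero fun f' hf' => ?_
    obtain ⟨n, hn, hnf⟩ := mem_orbitN.mp f'.2
    have hlt : Q < S := hQS.lt_of_ne (Ne.symm hne)
    have hstab : CInv (cjS n⁻¹ S) (eG M f) := by
      refine cinv_iff_cj.mpr fun u hu => ?_
      have hu' : n * u * n⁻¹ ∈ S := by simpa using mem_cjS.mp hu
      have h := hsmul ⟨_, hu'⟩ f'
      rw [(Finset.mem_filter.mp hf').2 ⟨_, hu'⟩, ← hnf, eG_conjN hn, cj_cj] at h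
      have h2 := congrArg (cj n⁻¹) h
      rw [cj_cj, cj_cj, inv_mul_cancel, cj_one] at h2
      refine (Eq.trans ?_ h2.symm)
      congr 1
      simp [mul_assoc]
    have hQS' : Q < cjS n⁻¹ S := by
      conv_lhs => rw [← cjS_eq_of_mem_normalizer (inv_mem hn)]
      exact lt_of_le_of_ne (cjS_mono hlt.le) fun h => hlt.ne (Subgroup.map_injective
        (MulAut.conj n⁻¹).injective h)
    have hN' : cjS n⁻¹ S ≤ Subgroup.normalizer (Q : Set G) := fun u hu => by
      have h1 := mem_cjS.mp hu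
      rw [inv_inv] at h1
      have := mul_mem (mul_mem (inv_mem hn) (hSN h1)) hn
      simpa [mul_assoc] using this
    rw [← hnf, eG_conjN hn, coeff_cj]
    refine hmax _ (hS.map _) hQS' hN' hstab _ (Subgroup.mem_centralizer_iff.mpr fun u hu => ?_)
    have h1 := mem_cjS.mp hu
    rw [inv_inv] at h1
    calc u * (n⁻¹ * x * n) = n⁻¹ * ((n * u * n⁻¹) * x) * n := by group
      _ = n⁻¹ * (x * (n * u * n⁻¹)) * n := by rw [(hSx _ h1).eq]
      _ = n⁻¹ * x * n * u := by group
  have hle : Q ≤ Subgroup.centralizer ({x} : Set G) := fun u hu =>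
    Subgroup.mem_centralizer_singleton_iff.mpr (Subgroup.mem_centralizer_iff.mp hxC u hu)
  obtain ⟨P, hP⟩ := (hf.1.of_equiv (Subgroup.subgroupOfEquivOfLe hle).symm).exists_le_sylow
  have hE := isSylowCent_map P
  rcases (show Q ≤ (P : Subgroup _).map (Subgroup.centralizer ({x} : Set G)).subtype from
    fun u hu => ⟨⟨u, hle hu⟩, hP hu, rfl⟩).lt_or_eq with hlt | heq
  · exfalso
    have h1 := lt_normalizer_inf hE.isPGroup hlt
    exact h1.ne (key _ (hE.isPGroup.to_le inf_le_right) h1.le inf_le_left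
      fun s hs => hE.commute s hs.2).symm
  · rwa [heq]

/-- Fusion of elements with Sylow centralizer `Q` inside `C(Q)` is controlled by `N(Q)`. -/
theorem exists_normalizer_conj_of_isSylowCent [Fact p.Prime] {x y : G} (hx : IsSylowCent p x Q)
    (hxy : IsConj x y) (hy : y ∈ CQ Q) :
    ∃ n ∈ Subgroup.normalizer (Q : Set G), n * x * n⁻¹ = y := by
  obtain ⟨c, hc⟩ := isConj_iff.mp hxy
  have hQy : ∀ u ∈ Q, Commute u y := fun u hu => Subgroup.mem_centralizer_iff.mp hy u hu
  have h1 : IsSylowCent p y (cjS c Q) := by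
    refine ⟨fun u hu => ?_, ?_⟩
    · obtain ⟨v, hv, rfl⟩ := hu
      rw [← hc]
      exact (hx.commute v hv).map (MulAut.conj c).toMonoidHom
    · rw [Subgroup.card_map_of_injective (f := (MulAut.conj c).toMonoidHom) (MulAut.conj c).injective,
        hx.card_eq, ← hc]
      congr 2
      have := centralizer_map_singleton (MulAut.conj c) x
      rw [MulAut.conj_apply] at this
      rw [← this, Subgroup.card_map_of_injective (f := (MulAut.conj c).toMonoidHom)
        (MulAut.conj c).injective]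
  obtain ⟨P, hP⟩ := h1.exists_sylow
  have hle : Q ≤ Subgroup.centralizer ({y} : Set G) := fun u hu =>
    Subgroup.mem_centralizer_singleton_iff.mpr (hQy u hu).eq
  obtain ⟨T, hT⟩ := ((hx.isPGroup).of_equiv (Subgroup.subgroupOfEquivOfLe hle).symm).exists_le_sylow
  obtain ⟨t, rfl⟩ := MulAction.exists_smul_eq (Subgroup.centralizer ({y} : Set G)) T P
  have hQ' : Q = cjS ((t : G)⁻¹ * c) Q := by
    refine Subgroup.eq_of_le_of_card_ge (fun u hu => ?_) ?_
    · rw [← cjS_cjS, mem_cjS, inv_inv, hP, Sylow.coe_subgroup_smul]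
      exact ⟨t * ⟨u, hle hu⟩ * t⁻¹, ⟨⟨u, hle hu⟩, hT hu, rfl⟩, rfl⟩
    · rw [Subgroup.card_map_of_injective (f := (MulAut.conj ((t : G)⁻¹ * c)).toMonoidHom)
        (MulAut.conj _).injective]
  refine ⟨(t : G)⁻¹ * c, mem_normalizer_of_cjS_eq hQ'.symm, ?_⟩
  have ht : Commute (t : G) y := Subgroup.mem_centralizer_singleton_iff.mp t.2
  calc (t : G)⁻¹ * c * x * ((t : G)⁻¹ * c)⁻¹ = (t : G)⁻¹ * (c * x * c⁻¹) * t := by group
    _ = (t : G)⁻¹ * (y * t) := by rw [hc, mul_assoc]
    _ = y := by rw [← ht.eq, inv_mul_cancel_left]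

/-- The value of any pair of `B` on the orbit idempotent of a maximal pair depends only on `B`. -/
theorem omG_eO_eq (hM : IsPModular p M) {B : Set (IrrCharacter G)} {f g : Set (IrrCharacter (CQ Q))}
    (hf : IsBrauerPair p M Q f) (hmax : HMax p M Q f) (hg : IsBrauerPairOf p M B Q g)
    {ξ : IrrCharacter (CQ Q)} (hξ : ξ ∈ g) {χ : IrrCharacter G} (hχ : χ ∈ B) :
    omG M ξ (eO M Q f) = ∑ C : ConjClasses (Subgroup.normalizer (Q : Set G)),
      (eO M Q f).coeff ((rep C : Subgroup.normalizer (Q : Set G)) : G) * centralRes M χ ((rep C : Subgroup.normalizer (Q : Set G)) : G) := by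
  classical
  have hpf : Fact p.Prime := ⟨hM.1⟩
  have h1 := ((isBrauerPairOf_iff_omG hM).mp hg).2.2 ξ hξ χ hχ
  rw [omG_congr ξ (y' := ∑ C : ConjClasses (Subgroup.normalizer (Q : Set G)),
      (eO M Q f).coeff ((rep C : Subgroup.normalizer (Q : Set G)) : G) • (classBar M ((rep C : Subgroup.normalizer (Q : Set G)) : G) : MonoidAlgebra (ResField M) G)) ?_,
    omG_sum]
  · exact Finset.sum_congr rfl fun C _ => by rw [omG_smul, h1, omegaBar_classBar]
  · intro y hy
    have hyN : y ∈ Subgroup.normalizer (Q : Set G) := centralizer_le_normalizer' Q hy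
    have hz := congrArg (fun w : ZK M (Subgroup.normalizer (Q : Set G)) =>
      (w : MonoidAlgebra (ResField M) (Subgroup.normalizer (Q : Set G))).coeff ⟨y, hyN⟩)
      (zk_eq_sum (cenOf M (eO M Q f) (cinv_eO hM hf.2)))
    simp only [coeff_cenOf, AddSubmonoidClass.coe_finsetSum, coeff_sum_apply, SetLike.val_smul,
      MonoidAlgebra.coeff_smul, Finsupp.smul_apply] at hz
    rw [hz, coeff_sum_apply]
    refine Finset.sum_congr rfl fun C _ => ?_
    rw [MonoidAlgebra.coeff_smul, Finsupp.smul_apply]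
    by_cases hc : (eO M Q f).coeff ((rep C : Subgroup.normalizer (Q : Set G)) : G) = 0
    · simp [hc]
    congr 1
    simp only [classBar, classSum, coeff_gaOfFun]
    have hiff : IsConj (rep C) (⟨y, hyN⟩ : Subgroup.normalizer (Q : Set G)) ↔ IsConj ((rep C : Subgroup.normalizer (Q : Set G)) : G) y := by
      constructor
      · intro h
        exact (Subgroup.subtype _).map_isConj h
      · intro h
        obtain ⟨n, hn, hny⟩ := exists_normalizer_conj_of_isSylowCent
          (isSylowCent_of_eO hM hf hmax hc) h hy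
        exact isConj_iff.mpr ⟨⟨n, hn⟩, Subtype.ext hny⟩
    by_cases h : IsConj ((rep C : Subgroup.normalizer (Q : Set G)) : G) y
    · rw [if_pos h, if_pos (hiff.mpr h)]
    · rw [if_neg h, if_neg (mt hiff.mp h)]

/-- The subgroup of a maximal pair is a defect group. -/
theorem isDefectGroup_of_maximal (hM : IsPModular p M) {B : Set (IrrCharacter G)}
    {f : Set (IrrCharacter (CQ Q))} (h : IsMaximalBrauerPair p M B Q f) :
    IsDefectGroup p M B Q := by
  classical
  have hpf : Fact p.Prime := ⟨hM.1⟩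
  obtain ⟨hB, hmax⟩ := (isMaximalBrauerPair_iff hM).mp h
  obtain ⟨ξ, hξ⟩ := isPBlock_nonempty hB.1.2
  obtain ⟨χ, hχ⟩ := isPBlock_nonempty hB.2.1
  have h1 := omG_eO_eq hM hB.1 hmax hB hξ hχ
  rw [omG_eO hM hB.1.2 hξ, if_pos (self_mem_orbitN hM hB.1.2)] at h1
  obtain ⟨C, -, hC⟩ := Finset.exists_ne_zero_of_sum_ne_zero (h1.symm.trans_ne one_ne_zero)
  have hS := isSylowCent_of_eO hM hB.1 hmax (left_ne_zero_of_mul hC)
  obtain ⟨D, hD⟩ := exists_defectGroup hM hB.2.1
  obtain ⟨g, hg, hgc, -⟩ := exists_isSylowCent_of_isDefectGroup hM hB.2.1 hD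
  have hDQ : ConjLE D Q := sylowCent_conjLE hM hB.2.1 hgc hχ (right_ne_zero_of_mul hC) hg hS
  have hQD : ConjLE Q D := by
    refine (brauer_blockIdem_ne_zero_iff hM hB.2.1 hD hB.1.1).mp ?_
    by_contra hall
    push Not at hall
    have h2 := ((isBrauerPairOf_iff_omG hM).mp hB).2.2 ξ hξ χ hχ (blockBar M B)
    rw [omegaBar_blockBar hM (.of_isPBlock hB.2.1), if_pos hχ,
      omG_congr ξ (y' := 0) (fun x hx => by rw [coeff_blockBar]; simp [hall x hx]), omG_zero] at h2
    exact zero_ne_one h2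
  obtain ⟨c, hc⟩ := hDQ.exists_eq hQD.card_le
  exact hc ▸ isDefectGroup_conj hM hB.2.1 hD c

/-- All pairs of `B` on the subgroup of a maximal pair are conjugate under the normalizer. -/
theorem exists_conjN_eq (hM : IsPModular p M) {B : Set (IrrCharacter G)}
    {f g : Set (IrrCharacter (CQ Q))} (h : IsMaximalBrauerPair p M B Q f)
    (hg : IsBrauerPairOf p M B Q g) :
    ∃ n ∈ Subgroup.normalizer (Q : Set G), conjSet n (CQ Q) (CQ Q) f = g := by
  classical
  obtain ⟨hB, hmax⟩ := (isMaximalBrauerPair_iff hM).mp h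
  obtain ⟨ξ, hξ⟩ := isPBlock_nonempty hB.1.2
  obtain ⟨η, hη⟩ := isPBlock_nonempty hg.1.2
  obtain ⟨χ, hχ⟩ := isPBlock_nonempty hB.2.1
  have h1 := (omG_eO_eq hM hB.1 hmax hB hξ hχ).trans (omG_eO_eq hM hB.1 hmax hg hη hχ).symm
  rw [omG_eO hM hB.1.2 hξ, if_pos (self_mem_orbitN hM hB.1.2), omG_eO hM hg.1.2 hη] at h1
  split_ifs at h1 with hmem
  · exact mem_orbitN.mp hmem
  · exact absurd h1 one_ne_zero

theorem exists_maximalPair (hM : IsPModular p M) {B : Set (IrrCharacter G)} (hB : IsPBlock M B) :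
    ∃ (D : Subgroup G) (e : Set (IrrCharacter (CQ D))), IsMaximalBrauerPair p M B D e := by
  obtain ⟨χ, hχ⟩ := isPBlock_nonempty hB
  obtain ⟨D, hD⟩ := exists_defectGroup hM hB
  obtain ⟨g, hg, hgc, -⟩ := exists_isSylowCent_of_isDefectGroup hM hB hD
  classical
  have hgC : g ∈ CQ D := Subgroup.mem_centralizer_iff.mpr fun u hu => (hg.commute u hu).eq
  have hpD := isPGroup_defectGroup hM hB hD
  set z := brC M hM hpD (blockBar M B) with hz
  have hne : ∃ ξ, omegaBar M ξ z ≠ 0 := by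
    by_contra hall
    push Not at hall
    obtain ⟨N, hN⟩ := isNilpotent_of_omegaBar hM hall
    have hid : IsIdempotentElem z := by
      show _ = _
      rw [hz, ← map_mul, blockBar_mul_self hM (.of_isPBlock hB)]
    have h0 : z = 0 := by rw [← hid.pow_succ_eq N, pow_succ, hN, zero_mul]
    have := coeff_brC hM hpD (blockBar M B) ⟨g, hgC⟩
    rw [← hz, h0, coeff_blockBar] at this
    exact hgc (by simpa using this.symm)
  obtain ⟨ξ, hξ⟩ := hne
  obtain ⟨B', hB'⟩ := (existsUnique_block_of_pair hM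
    (show IsBrauerPair p M D (blockOf M (ξ : CQ D → ℂ)) from ⟨hpD, isPBlock_blockOf ξ⟩)).exists
  obtain ⟨χ', hχ'⟩ := isPBlock_nonempty hB'.2.1
  rw [hz, (CfsgLib.Block.isBrauerPairOf_iff hM hpD (isPBlock_blockOf ξ) hB'.2.1).mp hB' ξ
    (self_mem_blockOf ξ) χ' hχ', omegaBar_blockBar hM (.of_isPBlock hB)] at hξ
  split_ifs at hξ with hmem
  · rw [← isPBlock_eq_of_mem hB hB'.2.1 hmem hχ'] at hB'
    obtain ⟨D', e, he, -⟩ := exists_maximal_above hM D _ hB'
    exact ⟨D', e, he⟩
  · exact absurd rfl hξ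

/-- Every pair of `B` is conjugate below a given maximal pair. -/
theorem exists_conj_subpairLE (hM : IsPModular p M) {B : Set (IrrCharacter G)} {P : Subgroup G}
    {e : Set (IrrCharacter (CQ P))} {f : Set (IrrCharacter (CQ Q))}
    (hmax : IsMaximalBrauerPair p M B P e) (hQ : IsBrauerPairOf p M B Q f) :
    ∃ x : G, SubpairLE p M (cjS x Q) (conjBlock Q x f) P e := by
  obtain ⟨D, d, hd, hle⟩ := exists_maximal_above hM Q f hQ
  obtain ⟨x, hx⟩ := defectGroup_conj hM hQ.2.1 (isDefectGroup_of_maximal hM hd)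
    (isDefectGroup_of_maximal hM hmax)
  have hx' : cjS x D = P := hx
  subst hx'
  obtain ⟨n, hn, hne⟩ := exists_conjN_eq hM hmax (IsBrauerPairOf.conj hM x hd.1)
  refine ⟨n⁻¹ * x, ?_⟩
  have h1 := SubpairLE.conj hM n⁻¹ (SubpairLE.conj hM x hle)
  have e1 : (⟨cjS n⁻¹ (cjS x Q), conjBlock (cjS x Q) n⁻¹ (conjBlock Q x f)⟩ : BrauerPairIdx G) =
      ⟨cjS (n⁻¹ * x) Q, conjBlock Q (n⁻¹ * x) f⟩ := cjP_cjP hM n⁻¹ x hQ.1.2
  have e2 : (⟨cjS n⁻¹ (cjS x D), conjBlock (cjS x D) n⁻¹ (conjBlock D x d)⟩ : BrauerPairIdx G) =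
      ⟨cjS x D, e⟩ := by
    refine pair_ext hM (isPBlock_conjBlock _ (isPBlock_conjBlock x hd.1.1.2)) hmax.1.1.2
      (cjS_eq_of_mem_normalizer (inv_mem hn)) ?_
    rw [← show conjSet n (CQ (cjS x D)) (CQ (cjS x D)) e = conjBlock D x d from hne, eG_conjBlock,
      eG_conjN hn, cj_cj, inv_mul_cancel, cj_one]
  show Relation.ReflTransGen _ _ _
  rw [← e1, ← e2]
  exact h1

end CfsgLib.Block
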