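import Cfsg.Agent.Lib.Block.DefectFusion
import Cfsg.Agent.Lib.Block.MaxPairs
import Cfsg.Agent.Lib.Block.FirstMain
import Mathlib.LinearAlgebra.Dimension.Constructions
import Mathlib.LinearAlgebra.Matrix.ToLin

/-!
# Numbers of blocks of given defect
-/

open Finset

set_option linter.unusedSectionVars false

namespace CfsgLib.Block

open Cfsg
open scoped Pair

universe u

variable {G : Type u} [Group G] [Fintype G] [DecidableEq G] {p : ℕ} {M : Ideal AlgInt}
  [M.IsMaximal]

/-- A `p`-regular class of defect at least `d`. -/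
def IsRegClassGE (p d : ℕ) (g : G) : Prop :=
  ¬ p ∣ orderOf g ∧ d ≤ (Nat.card (Subgroup.centralizer ({g} : Set G))).factorization p

theorem IsRegClassGE.congr {p d : ℕ} {g h : G} (hg : IsRegClassGE p d g) (e : IsConj g h) :
    IsRegClassGE p d h := by
  obtain ⟨c, rfl⟩ := isConj_iff.mp e
  refine ⟨by rw [show orderOf (c * g * c⁻¹) = orderOf g from MulEquiv.orderOf_eq (MulAut.conj c) g]; exact hg.1, ?_⟩
  rw [← show MulAut.conj c g = c * g * c⁻¹ from rfl, ← centralizer_map_singleton (MulAut.conj c),
    Subgroup.card_map_of_injective (f := (MulAut.conj c).toMonoidHom) (MulAut.conj c).injective]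
  exact hg.2

theorem factorization_card_centralizer (g : G) :
    (Nat.card (Subgroup.centralizer ({g} : Set G))).factorization p +
      (Subgroup.centralizer ({g} : Set G)).index.factorization p = (Nat.card G).factorization p := by
  rw [← Subgroup.card_mul_index (Subgroup.centralizer ({g} : Set G)),
    Nat.factorization_mul Nat.card_pos.ne' Subgroup.index_ne_zero_of_finite, Finsupp.add_apply]

theorem degVal_add_blockDefect (hM : IsPModular p M) {B : Set (IrrCharacter G)} (hB : IsPBlock M B)
    {χ : IrrCharacter G} (hχ : χ ∈ B) (h0 : blockHeight p B (χ : G → ℂ) = 0) :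
    degVal p χ + blockDefect p B = (Nat.card G).factorization p := by
  obtain ⟨g, hg⟩ := exists_defectClass hM hB
  obtain ⟨hgc, hgω⟩ := (isDefectClass_iff hM hB).mp hg
  have hmin := isLeast_degVal hM hB hgc hgω
  rw [blockHeight, hmin.csInf_eq, Nat.sub_eq_zero_iff_le] at h0
  rw [blockDefect, hmin.csInf_eq]
  have h1 : (Subgroup.centralizer ({g} : Set G)).index.factorization p ≤ degVal p χ :=
    hmin.2 ⟨χ, hχ, rfl⟩
  have h2 := factorization_card_centralizer (p := p) g
  simp only [degVal] at *
  omega

/-- There are at most as many blocks of defect at least `d` as `p`-regular classes of defect at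
least `d`. -/
theorem card_blocks_defect_ge_le (hM : IsPModular p M) (d : ℕ) :
    Nat.card {B : Set (IrrCharacter G) // IsPBlock M B ∧ d ≤ blockDefect p B} ≤
      Nat.card {C : ConjClasses G // IsRegClassGE p d (rep C)} := by
  classical
  have := Fintype.ofFinite (ConjClasses G)
  have := Fintype.ofFinite (IrrCharacter G)
  let v : {B : Set (IrrCharacter G) // IsPBlock M B ∧ d ≤ blockDefect p B} →
      ({C : ConjClasses G // IsRegClassGE p d (rep C)} → ResField M) :=
    fun B C => coeffRes M B.1 (rep C.1)
  have hv : LinearIndependent (ResField M) v := by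
    rw [Fintype.linearIndependent_iff]
    intro a ha B₀
    set z : ZK M G := ∑ B, a B • blockBar M B.1 with hz
    obtain ⟨χ, hχ, h0⟩ := exists_height_zero hM B₀.2.1
    have hω : omegaBar M χ z = a B₀ := by
      rw [hz, map_sum, Finset.sum_eq_single B₀]
      · rw [omegaBar_smul, omegaBar_blockBar hM (.of_isPBlock B₀.2.1), if_pos hχ, mul_one]
      · intro B _ hne
        rw [omegaBar_smul, omegaBar_blockBar hM (.of_isPBlock B.2.1), if_neg, mul_zero]
        exact fun hm => hne (Subtype.ext (isPBlock_eq_of_mem B.2.1 B₀.2.1 hm hχ))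
      · simp
    rw [← hω]
    by_contra hne
    obtain ⟨g, hg, hgω⟩ := exists_coeff_ne_zero_of_omegaBar_ne_zero hne
    have hcoeff : ∀ y : G, (z : MonoidAlgebra (ResField M) G).coeff y =
        ∑ B : {B : Set (IrrCharacter G) // IsPBlock M B ∧ d ≤ blockDefect p B},
          a B * coeffRes M B.1 y := fun y => by
      rw [hz, AddSubmonoidClass.coe_finsetSum, coeff_sum_apply]
      refine Finset.sum_congr rfl fun B _ => ?_
      simp
    rw [hcoeff] at hg
    obtain ⟨B, -, hB⟩ := Finset.exists_ne_zero_of_sum_ne_zero hg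
    have hreg := regular_of_coeffRes_ne_zero hM (.of_isPBlock B.2.1) (right_ne_zero_of_mul hB)
    have h1 := factorization_index_le hM hgω
    have h2 := factorization_card_centralizer (p := p) g
    have h3 := degVal_add_blockDefect hM B₀.2.1 hχ h0
    have hge : IsRegClassGE p d g := ⟨hreg, by have := B₀.2.2; omega⟩
    have h4 := congrFun ha ⟨ConjClasses.mk g, hge.congr (isConj_rep g).symm⟩
    simp only [Finset.sum_apply, Pi.smul_apply, smul_eq_mul, Pi.zero_apply, v] at h4
    refine hg (h4 ▸ Finset.sum_congr rfl fun B _ => ?_)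
    rw [coeffRes_isConj B.1 (isConj_rep g)]
  have h := hv.fintype_card_le_finrank
  rwa [Module.finrank_fintype_fun_eq_card, ← Nat.card_eq_fintype_card,
    ← Nat.card_eq_fintype_card] at h

/-- There are as many blocks of full defect as `p`-regular classes of full defect. -/
theorem card_blocks_full_defect_eq (hM : IsPModular p M) :
    Nat.card {B : Set (IrrCharacter G) //
        IsPBlock M B ∧ (Nat.card G).factorization p ≤ blockDefect p B} =
      Nat.card {C : ConjClasses G // IsRegClassGE p ((Nat.card G).factorization p) (rep C)} := by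
  classical
  refine le_antisymm (card_blocks_defect_ge_le hM _) ?_
  have := Fintype.ofFinite (ConjClasses G)
  have := Fintype.ofFinite (IrrCharacter G)
  have hidx : ∀ C : {C : ConjClasses G // IsRegClassGE p ((Nat.card G).factorization p) (rep C)},
      ¬ p ∣ (Subgroup.centralizer ({rep C.1} : Set G)).index := fun C hd => by
    have h1 := factorization_card_centralizer (p := p) (rep C.1)
    have h2 := hM.1.factorization_pos_of_dvd Subgroup.index_ne_zero_of_finite hd
    have := C.2.2
    omega
  have hχB : ∀ B : {B : Set (IrrCharacter G) //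
      IsPBlock M B ∧ (Nat.card G).factorization p ≤ blockDefect p B}, ∃ χ, χ ∈ B.1 :=
    fun B => isPBlock_nonempty B.2.1
  choose χB hχB using hχB
  let W : Matrix {C : ConjClasses G // IsRegClassGE p ((Nat.card G).factorization p) (rep C)}
      {B : Set (IrrCharacter G) // IsPBlock M B ∧ (Nat.card G).factorization p ≤ blockDefect p B}
      (ResField M) :=
    fun C B => res M (invNat hM (hidx C)) * centralRes M (χB B) (rep C.1)
  have hsurj : Function.Surjective W.mulVecLin := by
    intro f
    choose s hs using res_surjective (M := M)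
    let F : G → ℂ := fun y => if h : IsRegClassGE p ((Nat.card G).factorization p) (rep (ConjClasses.mk y))
      then (s (f ⟨ConjClasses.mk y, h⟩) : ℂ) else 0
    obtain ⟨b, hb⟩ := exists_regular_expand hM (f := F) (fun y _ => by
      simp only [F]; split_ifs
      · exact SetLike.coe_mem _
      · exact zero_mem _) (fun y z _ hyz => by
      have e : ConjClasses.mk y = ConjClasses.mk z := ConjClasses.mk_eq_mk_iff_isConj.mpr hyz
      simp only [F, e])
    refine ⟨fun B => ∑ χ ∈ Finset.univ.filter (fun χ => χ ∈ B.1),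
      res M (b χ) * res M (irrLoc M χ 1), funext fun C => ?_⟩
    have hFC : (∑ χ : IrrCharacter G, b χ * irrLoc M χ (rep C.1) : locRing M) = s (f C) := by
      apply Subtype.ext
      rw [AddSubmonoidClass.coe_finsetSum]
      simp only [MulMemClass.coe_mul, coe_irrLoc]
      rw [← hb _ C.2.1]
      have e : ConjClasses.mk (rep C.1) = C.1 := mk_rep C.1
      simp only [F, e]
      rw [dif_pos C.2]
    rw [Matrix.mulVecLin_apply, ← hs (f C), ← hFC, map_sum]
    simp only [Matrix.mulVec, dotProduct, W, Finset.mul_sum]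
    have hval : ∀ χ : IrrCharacter G, res M (irrLoc M χ (rep C.1)) =
        res M (invNat hM (hidx C)) * centralRes M χ (rep C.1) * res M (irrLoc M χ 1) := fun χ => by
      rw [centralRes, ← map_mul, ← map_mul]
      refine congrArg (res M) (Subtype.ext ?_)
      have h1 := Char.irr_one_ne_zero χ
      have h2 : ((Subgroup.centralizer ({rep C.1} : Set G)).index : ℂ) ≠ 0 :=
        Nat.cast_ne_zero.mpr Subgroup.index_ne_zero_of_finite
      simp only [MulMemClass.coe_mul, coe_irrLoc, invNat, centralChar]
      field_simp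
    have hzero : ∀ χ : IrrCharacter G,
        ¬ (Nat.card G).factorization p ≤ blockDefect p (blockOf M (χ : G → ℂ)) →
        res M (irrLoc M χ 1) = 0 := fun χ hlt => by
      by_contra hne
      have hpos : ¬ p ∣ charDegree (χ : G → ℂ) := fun hd => hne (by
        rw [show irrLoc M χ 1 = ((charDegree (χ : G → ℂ) : ℕ) : locRing M) from
          Subtype.ext (by simp [(charDegree_eq χ).1]), map_natCast]
        have := charP_resField hM
        exact (CharP.cast_eq_zero_iff _ p _).mpr hd)
      refine hlt (le_of_eq ?_)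
      have h0 : (0 : ℕ) ∈ ((fun θ : IrrCharacter G => (charDegree (θ : G → ℂ)).factorization p) ''
          blockOf M (χ : G → ℂ)) :=
        ⟨χ, self_mem_blockOf χ, Nat.factorization_eq_zero_of_not_dvd hpos⟩
      rw [blockDefect, Nat.sInf_eq_zero.mpr (Or.inl h0), Nat.sub_zero]
    have hterm : ∀ B : {B : Set (IrrCharacter G) //
        IsPBlock M B ∧ (Nat.card G).factorization p ≤ blockDefect p B},
        ∀ χ ∈ Finset.univ.filter (fun χ => χ ∈ B.1),
        res M (invNat hM (hidx C)) * centralRes M (χB B) (rep C.1) *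
          (res M (b χ) * res M (irrLoc M χ 1)) = res M (b χ * irrLoc M χ (rep C.1)) :=
      fun B χ hχ => by
        rw [centralRes_eq_of_mem B.2.1 (hχB B) (Finset.mem_filter.mp hχ).2, map_mul, hval]
        ring
    rw [Finset.sum_congr rfl fun B _ => Finset.sum_congr rfl (hterm B), ← Finset.sum_biUnion]
    · refine Finset.sum_subset (Finset.subset_univ _) fun χ _ hχ => ?_
      rw [map_mul, hval, hzero χ]
      · simp
      · exact fun h => hχ (Finset.mem_biUnion.mpr ⟨⟨_, isPBlock_blockOf χ, h⟩, Finset.mem_univ _,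
          Finset.mem_filter.mpr ⟨Finset.mem_univ _, self_mem_blockOf χ⟩⟩)
    · intro B _ B' _ hne
      simp only [Function.onFun, Finset.disjoint_left, Finset.mem_filter]
      exact fun χ h h' => hne (Subtype.ext (isPBlock_eq_of_mem B.2.1 B'.2.1 h.2 h'.2))
  have h := LinearMap.finrank_range_le W.mulVecLin
  rwa [LinearMap.range_eq_top.mpr hsurj, finrank_top, Module.finrank_fintype_fun_eq_card,
    Module.finrank_fintype_fun_eq_card, ← Nat.card_eq_fintype_card,
    ← Nat.card_eq_fintype_card] at h

/-- The number of blocks with a Sylow subgroup as a defect group. -/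
theorem card_blocks_sylow_defect (hM : IsPModular p M) [Fact p.Prime] (P : Sylow p G) :
    Nat.card {B : Set (IrrCharacter G) // IsPBlock M B ∧ IsDefectGroup p M B (P : Subgroup G)} =
      Nat.card {C : ConjClasses (Subgroup.normalizer ((P : Subgroup G) : Set G)) //
        ∀ n : Subgroup.normalizer ((P : Subgroup G) : Set G), ConjClasses.mk n = C →
          ¬ p ∣ orderOf n ∧ (n : G) ∈ Subgroup.centralizer ((P : Subgroup G) : Set G)} := by
  classical
  have hfull : Nat.card {B : Set (IrrCharacter G) // IsPBlock M B ∧ IsDefectGroup p M B (P : Subgroup G)} =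
      Nat.card {B : Set (IrrCharacter G) //
        IsPBlock M B ∧ (Nat.card G).factorization p ≤ blockDefect p B} := by
    refine Nat.card_congr (Equiv.subtypeEquivRight fun B => and_congr_right fun hB => ?_)
    constructor
    · intro h
      have := defectGroup_card hM hB h
      rw [P.card_eq_multiplicity] at this
      exact (Nat.pow_right_injective hM.1.two_le this).le
    · intro h
      obtain ⟨D, hD⟩ := exists_defectGroup hM hB
      have hcard := defectGroup_card hM hB hD
      rw [le_antisymm (show blockDefect p B ≤ (Nat.card G).factorization p from Nat.sub_le _ _) h] at hcard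
      obtain ⟨c, hc⟩ := MulAction.exists_smul_eq G (Sylow.ofCard D hcard) P
      have h2 := congrArg (fun S : Sylow p G => (S : Subgroup G)) hc
      simp only [Sylow.coe_subgroup_smul, Sylow.coe_ofCard] at h2
      have h3 := isDefectGroup_conj hM hB hD c
      rwa [← h2]
  rw [hfull, card_blocks_full_defect_eq hM]
  have hcent : ∀ n : Subgroup.normalizer ((P : Subgroup G) : Set G),
      (n : G) ∈ Subgroup.centralizer ((P : Subgroup G) : Set G) → IsSylowCent p (n : G) P := fun n hn =>
    ⟨fun u hu => Subgroup.mem_centralizer_iff.mp hn u hu, by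
      have h1 : (Subgroup.centralizer ({(n : G)} : Set G)).index.factorization p = 0 :=
        Nat.factorization_eq_zero_of_not_dvd fun hd => P.not_dvd_index (hd.trans
          (Subgroup.index_dvd_of_le fun u hu => Subgroup.mem_centralizer_singleton_iff.mpr
            (Subgroup.mem_centralizer_iff.mp hn u hu)))
      have h2 := factorization_card_centralizer (p := p) (n : G)
      rw [P.card_eq_multiplicity]
      congr 1
      omega⟩
  let nC : ConjClasses (Subgroup.normalizer ((P : Subgroup G) : Set G)) →
      Subgroup.normalizer ((P : Subgroup G) : Set G) := Quotient.out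
  have hnC : ∀ C, ConjClasses.mk (nC C) = C := fun C => Quotient.out_eq C
  symm
  refine Nat.card_congr (Equiv.ofBijective
    (fun C => ⟨ConjClasses.mk ((nC C.1 : G)), ?_⟩) ⟨fun C C' h => ?_, fun C => ?_⟩)
  · obtain ⟨hreg, hc⟩ := C.2 _ (hnC C.1)
    refine IsRegClassGE.congr ⟨by rwa [Subgroup.orderOf_coe], ?_⟩ (isConj_rep _).symm
    have h1 := (hcent _ hc).card_eq
    rw [P.card_eq_multiplicity] at h1
    exact (Nat.pow_right_injective hM.1.two_le h1).le
  · have hG : IsConj (nC C.1 : G) (nC C'.1 : G) :=
      ConjClasses.mk_eq_mk_iff_isConj.mp (congrArg Subtype.val h)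
    obtain ⟨m, hm, hme⟩ := exists_normalizer_conj_of_isSylowCent
      (hcent _ (C.2 _ (hnC C.1)).2) hG (C'.2 _ (hnC C'.1)).2
    exact Subtype.ext ((hnC C.1).symm.trans ((ConjClasses.mk_eq_mk_iff_isConj.mpr
      (isConj_iff.mpr ⟨⟨m, hm⟩, Subtype.ext hme⟩)).trans (hnC C'.1)))
  · obtain ⟨D, hD⟩ := exists_isSylowCent p (rep C.1)
    have hDcard : Nat.card D = p ^ (Nat.card G).factorization p := by
      rw [hD.card_eq]
      congr 1
      have h2 := factorization_card_centralizer (p := p) (rep C.1)
      have := C.2.2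
      omega
    obtain ⟨c, hc⟩ := MulAction.exists_smul_eq G (Sylow.ofCard D hDcard) P
    have h2 := congrArg (fun S : Sylow p G => (S : Subgroup G)) hc
    simp only [Sylow.coe_subgroup_smul, Sylow.coe_ofCard] at h2
    have hmem : c * rep C.1 * c⁻¹ ∈ Subgroup.centralizer ((P : Subgroup G) : Set G) := by
      rw [← h2]
      refine Subgroup.mem_centralizer_iff.mpr ?_
      rintro _ ⟨v, hv, rfl⟩
      exact ((hD.commute v hv).map (MulAut.conj c).toMonoidHom).eq
    set n : Subgroup.normalizer ((P : Subgroup G) : Set G) :=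
      ⟨_, centralizer_le_normalizer' _ hmem⟩ with hn
    refine ⟨⟨ConjClasses.mk n, fun m hm => ?_⟩, ?_⟩
    · obtain ⟨d, hd⟩ := isConj_iff.mp (ConjClasses.mk_eq_mk_iff_isConj.mp hm).symm
      rw [← hd]
      refine ⟨?_, (mem_centralizer_conj_iff d.2).mpr hmem⟩
      rw [show orderOf (d * n * d⁻¹) = orderOf n from MulEquiv.orderOf_eq (MulAut.conj d) n,
        ← Subgroup.orderOf_coe, show orderOf ((n : Subgroup.normalizer ((P : Subgroup G) : Set G)) : G) =
          orderOf (rep C.1) from MulEquiv.orderOf_eq (MulAut.conj c) _]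
      exact C.2.1
    · refine Subtype.ext (Eq.trans ?_ (mk_rep C.1))
      refine ConjClasses.mk_eq_mk_iff_isConj.mpr (IsConj.trans
        ((Subgroup.subtype _).map_isConj (ConjClasses.mk_eq_mk_iff_isConj.mp (hnC _))) ?_)
      exact (isConj_iff.mpr ⟨c, rfl⟩).symm

/-- Only classes of defect `d` matter for blocks of defect `d`. -/
theorem defect_class_eq (hM : IsPModular p M) {B B' : Set (IrrCharacter G)} (hB : IsPBlock M B)
    (hB' : IsPBlock M B') {g : G} (hg : coeffRes M B g ≠ 0) {χ : IrrCharacter G} (hχ : χ ∈ B')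
    (hω : centralRes M χ g ≠ 0) :
    blockDefect p B' ≤ (Nat.card (Subgroup.centralizer ({g} : Set G))).factorization p ∧
      (Nat.card (Subgroup.centralizer ({g} : Set G))).factorization p ≤ blockDefect p B := by
  classical
  have hpf : Fact p.Prime := ⟨hM.1⟩
  constructor
  · obtain ⟨θ, hθ, h0⟩ := exists_height_zero hM hB'
    rw [centralRes_eq_of_mem hB' hχ hθ] at hω
    have h1 := factorization_index_le hM hω
    have h2 := factorization_card_centralizer (p := p) g
    have h3 := degVal_add_blockDefect hM hB' hθ h0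
    omega
  · obtain ⟨D, hD⟩ := exists_defectGroup hM hB
    obtain ⟨E, hE⟩ := exists_isSylowCent p g
    have h1 := (coeff_ne_zero_le_defect hM hB hD hE.isPGroup hg hE.commute).card_le
    rw [hE.card_eq, defectGroup_card hM hB hD] at h1
    exact (Nat.pow_le_pow_iff_right hM.1.one_lt).mp h1

/-- There are at most as many blocks of defect `d` as `p`-regular classes of defect `d`. -/
theorem card_blocks_defect_eq_le (hM : IsPModular p M) (d : ℕ) :
    Nat.card {B : Set (IrrCharacter G) // IsPBlock M B ∧ blockDefect p B = d} ≤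
      Nat.card {C : ConjClasses G // ¬ p ∣ orderOf (rep C) ∧
        (Nat.card (Subgroup.centralizer ({rep C} : Set G))).factorization p = d} := by
  classical
  have := Fintype.ofFinite (ConjClasses G)
  have := Fintype.ofFinite (IrrCharacter G)
  let v : {B : Set (IrrCharacter G) // IsPBlock M B ∧ blockDefect p B = d} →
      ({C : ConjClasses G // ¬ p ∣ orderOf (rep C) ∧
        (Nat.card (Subgroup.centralizer ({rep C} : Set G))).factorization p = d} → ResField M) :=
    fun B C => coeffRes M B.1 (rep C.1)
  have hv : LinearIndependent (ResField M) v := by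
    rw [Fintype.linearIndependent_iff]
    intro a ha B₀
    set z : ZK M G := ∑ B, a B • blockBar M B.1 with hz
    obtain ⟨χ, hχ⟩ := isPBlock_nonempty B₀.2.1
    have hω : omegaBar M χ z = a B₀ := by
      rw [hz, map_sum, Finset.sum_eq_single B₀]
      · rw [omegaBar_smul, omegaBar_blockBar hM (.of_isPBlock B₀.2.1), if_pos hχ, mul_one]
      · intro B _ hne
        rw [omegaBar_smul, omegaBar_blockBar hM (.of_isPBlock B.2.1), if_neg, mul_zero]
        exact fun hm => hne (Subtype.ext (isPBlock_eq_of_mem B.2.1 B₀.2.1 hm hχ))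
      · simp
    rw [← hω]
    by_contra hne
    obtain ⟨g, hg, hgω⟩ := exists_coeff_ne_zero_of_omegaBar_ne_zero hne
    have hcoeff : ∀ y : G, (z : MonoidAlgebra (ResField M) G).coeff y =
        ∑ B : {B : Set (IrrCharacter G) // IsPBlock M B ∧ blockDefect p B = d},
          a B * coeffRes M B.1 y := fun y => by
      rw [hz, AddSubmonoidClass.coe_finsetSum, coeff_sum_apply]
      refine Finset.sum_congr rfl fun B _ => ?_
      simp
    obtain ⟨y, hy⟩ := exists_eq' (a' := rep (ConjClasses.mk g))
    have hgy : centralRes M χ y ≠ 0 := by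
      rw [← hy] at *
      rw [← omegaBar_classBar] at hgω ⊢
      obtain ⟨c, hc⟩ := isConj_iff.mp (isConj_rep g)
      rw [← hc, omegaBar_classBar, centralRes_conj_elt] at hgω
      rw [omegaBar_classBar]
      exact hgω
    have hg' : ∑ B : {B : Set (IrrCharacter G) // IsPBlock M B ∧ blockDefect p B = d},
        a B * coeffRes M B.1 y ≠ 0 := by
      rw [hcoeff] at hg
      convert hg using 2 with B
      rw [← hy, coeffRes_isConj B.1 (isConj_rep g)]
    obtain ⟨B, -, hB⟩ := Finset.exists_ne_zero_of_sum_ne_zero hg'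
    obtain ⟨h1, h2⟩ := defect_class_eq hM B.2.1 B₀.2.1 (right_ne_zero_of_mul hB) hχ hgy
    have hreg := regular_of_coeffRes_ne_zero hM (.of_isPBlock B.2.1) (right_ne_zero_of_mul hB)
    rw [B₀.2.2] at h1
    rw [B.2.2] at h2
    subst hy
    have h4 := congrFun ha ⟨ConjClasses.mk g, hreg, le_antisymm h2 h1⟩
    simp only [Finset.sum_apply, Pi.smul_apply, smul_eq_mul, Pi.zero_apply, v] at h4
    exact hg' h4
  have h := hv.fintype_card_le_finrank
  rwa [Module.finrank_fintype_fun_eq_card, ← Nat.card_eq_fintype_card,
    ← Nat.card_eq_fintype_card] at h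

/-- Blocks of defect `d` are separated by the classes of defect `d`. -/
theorem sameBlock_iff_of_defect (hM : IsPModular p M) {d : ℕ} {χ ψ : IrrCharacter G}
    (hχ : blockDefect p (blockOf M (χ : G → ℂ)) = d) (hψ : blockDefect p (blockOf M (ψ : G → ℂ)) = d) :
    SameBlock M (χ : G → ℂ) (ψ : G → ℂ) ↔ ∀ x : G, ¬ p ∣ orderOf x →
      (Nat.card (Subgroup.centralizer ({x} : Set G))).factorization p = d →
        MemLocalIdeal M (centralChar (χ : G → ℂ) x - centralChar (ψ : G → ℂ) x) := by
  classical
  refine ⟨fun h x _ _ => h x, fun h => ?_⟩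
  have := Fintype.ofFinite (ConjClasses G)
  have hB := isPBlock_blockOf (M := M) χ
  have hsum : omegaBar M ψ (blockBar M (blockOf M (χ : G → ℂ))) =
      omegaBar M χ (blockBar M (blockOf M (χ : G → ℂ))) := by
    rw [zk_eq_sum (blockBar M (blockOf M (χ : G → ℂ))), map_sum, map_sum]
    refine Finset.sum_congr rfl fun C _ => ?_
    rw [omegaBar_smul, omegaBar_smul, omegaBar_classBar, omegaBar_classBar]
    by_cases hc : coeffRes M (blockOf M (χ : G → ℂ)) (rep C) = 0
    · simp [hc]
    congr 1
    by_cases hψ0 : centralRes M ψ (rep C) = 0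
    · by_cases hχ0 : centralRes M χ (rep C) = 0
      · rw [hψ0, hχ0]
      obtain ⟨h1, h2⟩ := defect_class_eq hM hB hB hc (self_mem_blockOf χ) hχ0
      rw [hχ] at h1 h2
      have h3 := h _ (regular_of_coeffRes_ne_zero hM (.of_isPBlock hB) hc) (le_antisymm h2 h1)
      exact ((memLocalIdeal_sub_iff (M := M) ⟨_, centralChar_mem χ _⟩ ⟨_, centralChar_mem ψ _⟩).mp h3).symm
    · obtain ⟨h1, h2⟩ := defect_class_eq hM hB (isPBlock_blockOf ψ) hc (self_mem_blockOf ψ) hψ0
      rw [hψ] at h1
      rw [hχ] at h2
      have h3 := h _ (regular_of_coeffRes_ne_zero hM (.of_isPBlock hB) hc) (le_antisymm h2 h1)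
      exact ((memLocalIdeal_sub_iff (M := M) ⟨_, centralChar_mem χ _⟩ ⟨_, centralChar_mem ψ _⟩).mp h3).symm
  rw [omegaBar_blockBar hM (.of_isPBlock hB), omegaBar_blockBar hM (.of_isPBlock hB),
    if_pos (self_mem_blockOf χ)] at hsum
  by_contra hne
  rw [if_neg (show ψ ∉ blockOf M (χ : G → ℂ) from hne)] at hsum
  exact zero_ne_one hsum

end CfsgLib.Block
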