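import Cfsg.Agent.Lib.Block.Cyclic.RegularLift
import Cfsg.Agent.Lib.Block.CentralDefect
import Cfsg.Agent.Lib.Block.Rank

/-!
# Blocks modulo a central subgroup of order `p`

`quotSet b`: the characters of the quotient whose inflations lie in `b`.  It is empty or a block of
smaller defect, its size bounds `l(b)`, and the regular inner products of `b` factor through it.
-/

open Finset MonoidAlgebra
open scoped ComplexConjugate

set_option linter.unusedSectionVars false

namespace CfsgLib.Block

open Cfsg CfsgLib.Block.Cyclic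

universe u

variable {p : ℕ} [Fact p.Prime] {M : Ideal AlgInt} [M.IsMaximal] {A : Type u} [Group A] [Fintype A]
  [DecidableEq A]

/-- Blocks are detected by the central characters on the support of the idempotent. -/
theorem sameBlock_of_support (hM : IsPModular p M) {χ ψ : IrrCharacter A}
    (h : ∀ g, coeffRes M (blockOf M (χ : A → ℂ)) g ≠ 0 → centralRes M χ g = centralRes M ψ g) :
    SameBlock M (χ : A → ℂ) (ψ : A → ℂ) := by
  classical
  have := Fintype.ofFinite (ConjClasses A)
  have := Fintype.ofFinite (IrrCharacter A)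
  set B := blockOf M (χ : A → ℂ) with hBdef
  have hB : IsPBlock M B := isPBlock_blockOf χ
  have hχ : χ ∈ B := self_mem_blockOf χ
  have hS := IsBlockUnion.of_isPBlock hB
  have key : ∀ θ : IrrCharacter A, res M (omegaLoc M θ (blockIdem M B)) =
      ∑ C : ConjClasses A, coeffRes M B (rep C) * centralRes M θ (rep C) := fun θ => by
    have h' : omegaLoc M θ (blockIdem M B) = ∑ C : ConjClasses A,
        (blockIdem M B : MonoidAlgebra (locRing M) A).coeff (rep C) *
          ⟨_, centralChar_mem θ (rep C)⟩ := by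
      apply Subtype.ext
      rw [coe_omegaLoc, omega_toC_eq θ (mem_center_iff_isClassElt.mp (blockIdem M B).2),
        AddSubmonoidClass.coe_finsetSum]
      rfl
    rw [h', map_sum]
    exact Finset.sum_congr rfl fun C _ => map_mul _ _ _
  have e : res M (omegaLoc M ψ (blockIdem M B)) = res M (omegaLoc M χ (blockIdem M B)) := by
    rw [key, key]
    refine Finset.sum_congr rfl fun C _ => ?_
    by_cases hC : coeffRes M B (rep C) = 0
    · rw [hC, zero_mul, zero_mul]
    · rw [h _ hC]
  rw [omegaLoc_blockIdem hM hS, omegaLoc_blockIdem hM hS, if_pos hχ, map_one] at e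
  by_contra hne
  have hψ : ψ ∉ B := hne
  rw [if_neg hψ, map_zero] at e
  exact zero_ne_one e

/-- Blocks are detected by the central characters at the regular classes. -/
theorem sameBlock_of_regular (hM : IsPModular p M) {χ ψ : IrrCharacter A}
    (h : ∀ g, ¬ p ∣ orderOf g → centralRes M χ g = centralRes M ψ g) :
    SameBlock M (χ : A → ℂ) (ψ : A → ℂ) :=
  sameBlock_of_support hM fun g hg =>
    h g (regular_of_coeffRes_ne_zero hM (IsBlockUnion.of_isPBlock (isPBlock_blockOf χ)) hg)

variable {Z : Subgroup A} [Z.Normal] [Fintype (A ⧸ Z)]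

/-- The centralizer of a regular element is the preimage of the centralizer of its image. -/
theorem centralizer_mk_regular (hZ : IsPGroup p Z) (hZc : Z ≤ Subgroup.center A) {y : A}
    (hy : ¬ p ∣ orderOf y) :
    (Subgroup.centralizer ({(y : A ⧸ Z)} : Set (A ⧸ Z))).comap (QuotientGroup.mk' Z) =
      Subgroup.centralizer ({y} : Set A) := by
  ext g
  rw [Subgroup.mem_comap, Subgroup.mem_centralizer_singleton_iff, Subgroup.mem_centralizer_singleton_iff]
  constructor
  · intro h
    have e : ((g * y * g⁻¹ : A) : A ⧸ Z) = (y : A ⧸ Z) := by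
      rw [QuotientGroup.mk_mul, QuotientGroup.mk_mul, QuotientGroup.mk_inv, mul_inv_eq_iff_eq_mul]
      exact h
    have := regular_mk_inj hZ hZc (by rwa [orderOf_conj_eq]) hy e
    exact mul_inv_eq_iff_eq_mul.mp this
  · intro h
    exact congrArg (QuotientGroup.mk' Z) h |>.trans (by rfl)

theorem centralRes_inflQ [DecidableEq (A ⧸ Z)] (hZ : IsPGroup p Z) (hZc : Z ≤ Subgroup.center A)
    (θ : IrrCharacter (A ⧸ Z)) {y : A} (hy : ¬ p ∣ orderOf y) :
    centralRes M (inflQ θ) y = centralRes M θ (y : A ⧸ Z) := by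
  refine congrArg (res M) (Subtype.ext ?_)
  simp only [centralChar]
  rw [← centralizer_mk_regular hZ hZc hy,
    Subgroup.index_comap_of_surjective _ (QuotientGroup.mk'_surjective Z)]
  rfl

theorem sameBlock_inflQ_iff [DecidableEq (A ⧸ Z)] (hM : IsPModular p M) (hZ : IsPGroup p Z)
    (hZc : Z ≤ Subgroup.center A) (θ θ' : IrrCharacter (A ⧸ Z)) :
    SameBlock M (inflQ θ : A → ℂ) (inflQ θ' : A → ℂ) ↔
      SameBlock M (θ : A ⧸ Z → ℂ) (θ' : A ⧸ Z → ℂ) := by
  constructor
  · intro h
    refine sameBlock_of_regular hM fun q hq => ?_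
    obtain ⟨y, hy, rfl⟩ := exists_regular_lift hZ hq
    rw [← centralRes_inflQ hZ hZc θ hy, ← centralRes_inflQ hZ hZc θ' hy]
    exact sameBlock_iff_centralRes.mp h y
  · intro h
    refine sameBlock_of_regular hM fun y hy => ?_
    rw [centralRes_inflQ hZ hZc θ hy, centralRes_inflQ hZ hZc θ' hy]
    exact sameBlock_iff_centralRes.mp h _

/-- The characters of the quotient inflating into `b`. -/
def quotSet (Z : Subgroup A) [Z.Normal] (b : Set (IrrCharacter A)) : Set (IrrCharacter (A ⧸ Z)) :=
  {θ | inflQ θ ∈ b}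

theorem isPBlock_quotSet [DecidableEq (A ⧸ Z)] (hM : IsPModular p M) (hZ : IsPGroup p Z)
    (hZc : Z ≤ Subgroup.center A) {b : Set (IrrCharacter A)} (hb : IsPBlock M b)
    (hne : (quotSet Z b).Nonempty) : IsPBlock M (quotSet Z b) := by
  obtain ⟨θ, hθ⟩ := hne
  refine ⟨θ, Set.ext fun θ' => ?_⟩
  show inflQ θ' ∈ b ↔ SameBlock M (θ : A ⧸ Z → ℂ) (θ' : A ⧸ Z → ℂ)
  rw [← sameBlock_inflQ_iff hM hZ hZc, isPBlock_sameBlock hb hθ]

theorem blockDefect_quotSet_lt (hZcard : Nat.card Z = p) {b : Set (IrrCharacter A)}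
    (hne : (quotSet Z b).Nonempty) (hd : 0 < blockDefect p b) :
    blockDefect p (quotSet Z b) < blockDefect p b := by
  have hp : p.Prime := Fact.out
  have hn : (Nat.card A).factorization p = (Nat.card (A ⧸ Z)).factorization p + 1 := by
    rw [Subgroup.card_eq_card_quotient_mul_card_subgroup Z, hZcard,
      Nat.factorization_mul Nat.card_pos.ne' hp.ne_zero, Finsupp.add_apply, hp.factorization_self]
  obtain ⟨θ, hθ, hmin⟩ := exists_minDeg (p := p) hne
  have h1 : minDeg p b ≤ degVal p (inflQ θ) := minDeg_le hθ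
  have h2 : degVal p (inflQ θ) = degVal p θ := rfl
  show (Nat.card (A ⧸ Z)).factorization p - minDeg p (quotSet Z b) <
    (Nat.card A).factorization p - minDeg p b
  have hd' : 0 < (Nat.card A).factorization p - minDeg p b := hd
  omega

open scoped Classical in
/-- The regular inner products factor through the quotient. -/
theorem sum_regInner_inflQ [Fintype (IrrCharacter (A ⧸ Z))] [Fintype (IrrCharacter A)]
    (hM : IsPModular p M) (hZcard : Nat.card Z = p)
    (hZc : Z ≤ Subgroup.center A) {b : Set (IrrCharacter A)} (hb : IsPBlock M b) {η η' : IrrCharacter A}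
    (hη : η ∈ b) :
    regInner p η η' = (p : ℂ) * ∑ θ ∈ Finset.univ.filter (· ∈ quotSet Z b),
      regInner p η (inflQ θ) * regInner p (inflQ θ) η' := by
  have hZp : IsPGroup p Z := IsPGroup.of_card (n := 1) (by rw [hZcard, pow_one])
  have hp0 : (p : ℂ) ≠ 0 := Nat.cast_ne_zero.mpr (Fact.out : p.Prime).ne_zero
  rw [Finset.sum_subset (Finset.subset_univ _) fun θ _ hθ => by
    rw [regInner_eq_zero_of_not_mem hM (.of_isPBlock hb) hη (fun h => hθ (Finset.mem_filter.mpr ⟨Finset.mem_univ _, h⟩)), zero_mul]]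
  have hinfl : ∀ (f : IrrCharacter A) (θ : IrrCharacter (A ⧸ Z)),
      classInner (pushReg p Z (f : A → ℂ)) (θ : A ⧸ Z → ℂ) = (p : ℂ) * regInner p f (inflQ θ) :=
    fun f θ => classInner_pushReg hZcard hZc _ _
  have h1 : classInner (pushReg p Z (η : A → ℂ)) (pushReg p Z (η' : A → ℂ)) = (p : ℂ) * regInner p η η' := by
    rw [classInner_pushReg hZcard hZc]
    congr 1
    rw [regInner, classInner, classInner]
    congr 1
    refine Finset.sum_congr rfl fun a _ => ?_
    by_cases ha : p ∣ orderOf a
    · simp [regFun, ha]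
    · rw [pushReg_mk hZp hZc _ ha]
  have h2 := Char.classFun_expand (isClassFunction_pushReg (p := p) hZp hZc (Char.isClassFunction_irr η'))
  rw [h2, Char.classInner_sum_right, Finset.sum_congr rfl fun θ _ => by
    rw [Char.classInner_smul_right, hinfl, hinfl, map_mul, map_natCast, conj_regInner]] at h1
  apply mul_left_cancel₀ hp0
  rw [← h1, Finset.mul_sum, Finset.mul_sum]
  exact Finset.sum_congr rfl fun θ _ => by ring

open scoped Classical in
/-- The rank of a block is at most the number of characters in it trivial on `Z`. -/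
theorem blockRank_le_card_quotSet [DecidableEq (A ⧸ Z)] [Fintype (IrrCharacter (A ⧸ Z))]
    [Fintype (IrrCharacter A)] (hM : IsPModular p M) (hZcard : Nat.card Z = p)
    (hZc : Z ≤ Subgroup.center A) {b : Set (IrrCharacter A)} (hb : IsPBlock M b) :
    blockRank p b ≤ Nat.card (quotSet Z b) ∧ (blockRank p b : ℂ) =
      (p : ℂ) * ∑ θ ∈ Finset.univ.filter (· ∈ quotSet Z b), regInner p (inflQ θ) (inflQ θ) := by
  have hZp : IsPGroup p Z := IsPGroup.of_card (n := 1) (by rw [hZcard, pow_one])
  have hS := IsBlockUnion.of_isPBlock hb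
  have h1 : (blockRank p b : ℂ) =
      (p : ℂ) * ∑ θ ∈ Finset.univ.filter (· ∈ quotSet Z b), regInner p (inflQ θ) (inflQ θ) := by
    rw [blockRank_eq_sum_regInner hM hS, Finset.sum_congr rfl fun η hη =>
      sum_regInner_inflQ hM hZcard hZc hb (Finset.mem_filter.mp hη).2, ← Finset.mul_sum, Finset.sum_comm]
    congr 1
    refine Finset.sum_congr rfl fun θ hθ => ?_
    rw [Finset.sum_congr rfl fun η _ => mul_comm (regInner p η (inflQ θ)) _,
      Finset.sum_subset (Finset.subset_univ _) fun η _ hη => by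
        rw [regInner_eq_zero_of_not_mem hM hS (Finset.mem_filter.mp hθ).2 (by simpa using hη), zero_mul],
      sum_regInner_mul_regInner]
  refine ⟨?_, h1⟩
  rcases (quotSet Z b).eq_empty_or_nonempty with he | hne
  · rw [Finset.sum_eq_zero (fun θ hθ => absurd (Finset.mem_filter.mp hθ).2 (by simp [he])), mul_zero] at h1
    rw [Nat.cast_eq_zero.mp h1]
    exact Nat.zero_le _
  have hJ := isPBlock_quotSet hM hZp hZc hb hne
  have h2 : (blockRank p (quotSet Z b) : ℂ) = (blockRank p b : ℂ) := by
    rw [blockRank_eq_sum_regInner hM (.of_isPBlock hJ), h1, Finset.mul_sum]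
    refine Finset.sum_congr rfl fun θ _ => ?_
    rw [regInner, regInner]
    refine Eq.trans ?_ (classInner_pushReg hZcard hZc (inflQ θ : A → ℂ) (θ : A ⧸ Z → ℂ))
    congr 1
    funext q
    by_cases hq : p ∣ orderOf q
    · rw [pushReg_singular _ hq, regFun, if_pos hq]
    · obtain ⟨y, hy, rfl⟩ := exists_regular_lift hZp hq
      rw [pushReg_mk hZp hZc _ hy, regFun, if_neg hq, inflQ_apply]
  rw [← Nat.cast_inj.mp h2, blockRank, Nat.card_coe_set_eq, Set.ncard_eq_toFinset_card']
  refine (finrank_span_le_card _).trans ?_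
  rw [Set.toFinset_image]
  exact Finset.card_image_le

end CfsgLib.Block
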