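import Cfsg.Agent.Lib.Block.FirstMain
import Cfsg.Agent.Lib.Block.Principal
import Cfsg.Agent.Lib.Block.Subsection

/-!
# Blocks of local subgroups inducing a block with given defect

`sum_blockBar_eq_one`; `exists_block_inducing_coeff`: some block of a local subgroup induces `B`
and does not vanish at a given class where `B` does not; `exists_major_block`.
-/

open Finset
open scoped ComplexConjugate

set_option linter.unusedSectionVars false

namespace CfsgLib.Block

open Cfsg

universe u

variable {p : ℕ} {M : Ideal AlgInt} [M.IsMaximal] {G : Type u} [Group G] [Fintype G] [DecidableEq G]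

theorem sum_blockBar_eq_one {A : Type u} [Group A] [Fintype A] [DecidableEq A] (hM : IsPModular p M)
    (U : Finset (Set (IrrCharacter A))) (hU : ∀ b, b ∈ U ↔ IsPBlock M b) :
    ∑ b ∈ U, blockBar M b = 1 := by
  classical
  have := Fintype.ofFinite (IrrCharacter A)
  refine eq_of_omegaBar_eq_of_idem hM ?_ (mul_one 1) fun ξ => ?_
  · rw [Finset.sum_mul_sum]
    refine Finset.sum_congr rfl fun f hf => ?_
    rw [Finset.sum_eq_single f]
    · exact blockBar_mul_self hM (.of_isPBlock ((hU f).mp hf))
    · intro g hg hne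
      refine eq_of_omegaBar_eq_of_idem hM ?_ (mul_zero 0) fun ξ => ?_
      · rw [mul_mul_mul_comm, blockBar_mul_self hM (.of_isPBlock ((hU f).mp hf)),
          blockBar_mul_self hM (.of_isPBlock ((hU g).mp hg))]
      · rw [map_mul, map_zero, omegaBar_blockBar hM (.of_isPBlock ((hU f).mp hf)),
          omegaBar_blockBar hM (.of_isPBlock ((hU g).mp hg))]
        split_ifs with h1 h2 <;> try simp
        exact hne (isPBlock_eq_of_mem ((hU g).mp hg) ((hU f).mp hf) h2 h1)
    · exact fun h => absurd hf h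
  · rw [map_sum, map_one, Finset.sum_eq_single (blockOf M (ξ : A → ℂ))]
    · rw [omegaBar_blockBar hM (.of_isPBlock (isPBlock_blockOf ξ)), if_pos (self_mem_blockOf ξ)]
    · intro g hg hne
      rw [omegaBar_blockBar hM (.of_isPBlock ((hU g).mp hg)), if_neg]
      exact fun h => hne (isPBlock_eq_blockOf ((hU g).mp hg) h)
    · exact fun h => absurd ((hU _).mpr (isPBlock_blockOf ξ)) h

variable {P H : Subgroup G} [Fintype H] [Fintype (IrrCharacter G)]

/-- Some block of a local subgroup induces `B` and does not vanish at `x`. -/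
theorem exists_block_inducing_coeff (hM : IsPModular p M) (hP : IsPGroup p P) (hPH : P ≤ H)
    (hC : Subgroup.centralizer (P : Set G) ≤ H) (hN : H ≤ Subgroup.normalizer (P : Set G))
    {B : Set (IrrCharacter G)} (hB : IsPBlock M B) {x : G}
    (hx : x ∈ Subgroup.centralizer (P : Set G)) (hxc : coeffRes M B x ≠ 0) :
    ∃ b : Set (IrrCharacter H), IsInducedBlock M H b B ∧ coeffRes M b ⟨x, hC hx⟩ ≠ 0 := by
  classical
  have := Fintype.ofFinite (IrrCharacter H)
  set z := brMap M hM hP hC hN (blockBar M B) with hz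
  have hzz : z * z = z := by rw [hz, ← map_mul, blockBar_mul_self hM (.of_isPBlock hB)]
  let U : Finset (Set (IrrCharacter H)) := Finset.univ.filter (fun b => IsPBlock M b)
  have hU : ∀ b, b ∈ U ↔ IsPBlock M b := fun b => by simp [U]
  have hsum : z = ∑ b ∈ U, z * blockBar M b := by
    rw [← Finset.mul_sum, sum_blockBar_eq_one hM U hU, mul_one]
  have hcoef : (z : MonoidAlgebra (ResField M) H).coeff ⟨x, hC hx⟩ ≠ 0 := by
    rw [hz, coeff_brMap, if_pos hx, coeff_blockBar]
    exact hxc
  rw [hsum, AddSubmonoidClass.coe_finsetSum, coeff_sum_apply] at hcoef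
  obtain ⟨b, hbU, hb⟩ := Finset.exists_ne_zero_of_sum_ne_zero hcoef
  have hbB := (hU b).mp hbU
  obtain ⟨ξ, hξ⟩ := isPBlock_nonempty hbB
  have hid : z * blockBar M b * (z * blockBar M b) = z * blockBar M b := by
    rw [mul_mul_mul_comm, hzz, blockBar_mul_self hM (.of_isPBlock hbB)]
  have hξz : omegaBar M ξ z ≠ 0 := by
    intro h0
    have : z * blockBar M b = 0 := eq_of_omegaBar_eq_of_idem hM hid (mul_zero 0) fun η => by
      rw [map_mul, map_zero, omegaBar_blockBar hM (.of_isPBlock hbB)]
      split_ifs with hη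
      · rw [omegaBar_eq_of_mem hbB hη hξ, h0, zero_mul]
      · rw [mul_zero]
    exact hb (by rw [this]; simp)
  obtain ⟨B₁, hB₁⟩ := exists_inducedBlock hP hC hN hM hPH hbB
  obtain ⟨-, hB₁', hω⟩ := isInducedBlock_iff.mp hB₁
  obtain ⟨χ, hχ⟩ := isPBlock_nonempty hB₁'
  have hξ1 : omegaBar M ξ z = 1 := by
    have := congrArg (omegaBar M ξ) hzz
    rw [map_mul] at this
    exact mul_left_cancel₀ hξz (this.trans (mul_one _).symm)
  have heq : z * blockBar M b = blockBar M b :=
    eq_of_omegaBar_eq_of_idem hM hid (blockBar_mul_self hM (.of_isPBlock hbB)) fun η => by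
      rw [map_mul, omegaBar_blockBar hM (.of_isPBlock hbB)]
      split_ifs with hη
      · rw [omegaBar_eq_of_mem hbB hη hξ, hξ1, one_mul]
      · rw [mul_zero]
  refine ⟨b, ?_, fun h => hb (by rw [heq, coeff_blockBar, h])⟩
  rw [hz, ← omegaBar_resHK_eq_brMap hP hC hN hM hPH, hω ξ hξ χ hχ,
    omegaBar_blockBar hM (.of_isPBlock hB)] at hξz
  split_ifs at hξz with hmem
  · exact isPBlock_eq_of_mem hB hB₁' hmem hχ ▸ hB₁
  · exact absurd rfl hξz

variable {y : G} {C : Subgroup G} [Fintype C]

/-- If `y` lies in the centre of a defect group of `B`, some block of the centralizer of `y`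
induces `B` and has at least the defect of `B`. -/
theorem exists_major_block (hM : IsPModular p M) (hC : ∀ t : G, t ∈ C ↔ Commute t y)
    {B : Set (IrrCharacter G)} (hB : IsPBlock M B) {D : Subgroup G} (hD : IsDefectGroup p M B D)
    (hy : y ∈ D) (hcen : ∀ u ∈ D, Commute u y) :
    ∃ b : Set (IrrCharacter C), IsInducedBlock M C b B ∧ blockDefect p B ≤ blockDefect p b := by
  classical
  have hpf : Fact p.Prime := ⟨hM.1⟩
  obtain ⟨g, hg, hga, -⟩ := exists_isSylowCent_of_isDefectGroup hM hB hD
  have hP : IsPGroup p (Subgroup.zpowers y) := hg.isPGroup.to_le (Subgroup.zpowers_le.mpr hy)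
  have hCP : Subgroup.centralizer (Subgroup.zpowers y : Set G) = C := by
    ext t
    rw [Subgroup.zpowers_eq_closure, Subgroup.centralizer_closure,
      Subgroup.mem_centralizer_singleton_iff, hC]
    exact Iff.rfl
  have hgC : g ∈ Subgroup.centralizer (Subgroup.zpowers y : Set G) := by
    rw [hCP, hC]
    exact (hg.commute y hy).symm
  have hDC : D ≤ C := fun u hu => (hC u).mpr (hcen u hu)
  obtain ⟨b, hb, hbc⟩ := exists_block_inducing_coeff hM hP
    (by rw [Subgroup.zpowers_le, hC]) hCP.le (hCP ▸ centralizer_le_normalizer' _) hB hgC hga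
  refine ⟨b, hb, ?_⟩
  obtain ⟨Q, hQ⟩ := exists_defectGroup hM hb.1
  have hle := (coeff_ne_zero_le_defect hM hb.1 hQ (P := D.subgroupOf C)
    (hg.isPGroup.of_equiv (Subgroup.subgroupOfEquivOfLe hDC).symm) hbc
    (fun u hu => Subtype.ext (hg.commute (u : G) hu))).card_le
  rw [Nat.card_congr (Subgroup.subgroupOfEquivOfLe hDC).toEquiv, defectGroup_card hM hB hD,
    defectGroup_card hM hb.1 hQ] at hle
  exact (Nat.pow_le_pow_iff_right hM.1.one_lt).mp hle

end CfsgLib.Block
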