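import Mathlib.LinearAlgebra.FreeModule.PID
import Mathlib.LinearAlgebra.Matrix.SchurComplement
import Mathlib.Analysis.Matrix.PosDef
import Mathlib.LinearAlgebra.Dimension.Constructions
import Mathlib.Algebra.Field.ZMod
import Mathlib.Data.Real.StarOrdered

/-!
# Integral lattices of rank-one type modulo a prime

`rank_le_form`: let `Z` be a symmetric integral matrix with `Z * Z = p • Z`, of rank one modulo `p`
with diagonal entries prime to `p`, and `trace Z = p * l`.  Then `l ≤ aᵀ Z a` whenever this is not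
zero.  The kernel lattice has a basis with Gram determinant at most `p`; adjoining `a` gives a Gram
matrix of determinant at least the number of its rows minus its size plus one.
-/

open Finset Matrix

set_option linter.unusedSectionVars false

namespace CfsgLib.Block.IntLattice

theorem det_pos_of_injective {ι n : Type*} [Fintype ι] [Fintype n] [DecidableEq n] (A : Matrix ι n ℝ)
    (hA : Function.Injective A.mulVec) : 0 < (Aᵀ * A).det := by
  have h := Matrix.PosDef.conjTranspose_mul_self A hA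
  rw [Matrix.conjTranspose_eq_transpose_of_trivial] at h
  exact h.det_pos

theorem mulVec_cast {ι n : Type*} [Fintype ι] [Fintype n] [DecidableEq n] {A : Matrix ι n ℤ}
    (hA : Function.Injective A.mulVec) : Function.Injective (A.map (fun x => (x : ℝ))).mulVec := by
  classical
  have hdet : (Aᵀ * A).det ≠ 0 := fun h => by
    obtain ⟨y, hy, hy0⟩ := Matrix.exists_mulVec_eq_zero_iff.mpr h
    have h1 : (A *ᵥ y) ⬝ᵥ (A *ᵥ y) = 0 := by
      rw [dotProduct_mulVec, ← Matrix.mulVec_transpose, Matrix.mulVec_mulVec, hy0, zero_dotProduct]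
    exact hy (hA ((dotProduct_self_eq_zero.mp h1).trans (Matrix.mulVec_zero _).symm))
  intro x y hxy
  have e : (Aᵀ * A).map (fun x => (x : ℝ)) = (A.map fun x => (x : ℝ))ᵀ * A.map fun x => (x : ℝ) := by
    rw [← Matrix.transpose_map]
    exact Matrix.map_mul (f := Int.castRingHom ℝ)
  have hu : IsUnit ((Aᵀ * A).map (fun x => (x : ℝ))) := by
    rw [Matrix.isUnit_iff_isUnit_det, show ((Aᵀ * A).map fun x => (x : ℝ)) =
      (Int.castRingHom ℝ).mapMatrix (Aᵀ * A) from rfl, ← RingHom.map_det]
    exact isUnit_iff_ne_zero.mpr (Int.cast_ne_zero.mpr hdet)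
  refine Matrix.mulVec_injective_iff_isUnit.mpr hu ?_
  simp only [e, ← Matrix.mulVec_mulVec, hxy]

theorem det_gram_cast {ι n : Type*} [Fintype ι] [Fintype n] [DecidableEq n] (A : Matrix ι n ℤ) :
    ((Aᵀ * A).det : ℝ) = ((A.map fun x => (x : ℝ))ᵀ * A.map fun x => (x : ℝ)).det := by
  refine (RingHom.map_det (Int.castRingHom ℝ) (Aᵀ * A)).trans (congrArg Matrix.det ?_)
  rw [RingHom.mapMatrix_apply, Matrix.map_mul]
  rfl

/-- An injective integral matrix with non-zero rows has a large Gram determinant. -/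
theorem card_le_det_gram {n : ℕ} : ∀ {k : ℕ} (A : Matrix (Fin k) (Fin n) ℤ),
    Function.Injective A.mulVec → (∀ i, A i ≠ 0) → (k : ℤ) + 1 ≤ (Aᵀ * A).det + n := by
  intro k
  induction k with
  | zero =>
    intro A hA _
    have hn : n = 0 := by
      by_contra hn
      have h : (1 : Fin n → ℤ) = 0 := hA (funext fun i => i.elim0)
      exact one_ne_zero (congrFun h ⟨0, Nat.pos_of_ne_zero hn⟩)
    subst hn
    simp
  | succ k ih =>
    intro A hA hrow
    classical
    have hposR := det_pos_of_injective _ (mulVec_cast hA)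
    have hcast := det_gram_cast A
    have hpos : 0 < (Aᵀ * A).det := by exact_mod_cast hcast ▸ hposR
    by_cases hkn : k + 1 ≤ n
    · omega
    -- a row in the span of the others
    obtain ⟨g, hg, i₀, hi₀⟩ : ∃ g : Fin (k + 1) → ℚ,
        ∑ i, g i • (fun r => (A i r : ℚ)) = 0 ∧ ∃ i, g i ≠ 0 := by
      refine Fintype.not_linearIndependent_iff.mp fun h => hkn ?_
      simpa using h.fintype_card_le_finrank
    set B : Matrix (Fin k) (Fin n) ℤ := fun i r => A (i₀.succAbove i) r with hB
    have hBinj : Function.Injective B.mulVec := by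
      intro x y hxy
      have hz : ∀ i, i ≠ i₀ → (∑ r, (A i r : ℚ) * ((x - y) r : ℤ)) = 0 := fun i hi => by
        obtain ⟨j, rfl⟩ := Fin.exists_succAbove_eq hi
        have h := congrFun (sub_eq_zero.mpr hxy) j
        rw [← Matrix.mulVec_sub] at h
        simp only [Matrix.mulVec, dotProduct, hB, Pi.zero_apply] at h
        exact_mod_cast h
      have hz0 : (∑ r, (A i₀ r : ℚ) * ((x - y) r : ℤ)) = 0 := by
        have h := congrArg (fun v : Fin n → ℚ => ∑ r, v r * ((x - y) r : ℤ)) hg
        simp only [Finset.sum_apply, Pi.smul_apply, smul_eq_mul, Pi.zero_apply, zero_mul,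
          Finset.sum_const_zero, Finset.sum_mul] at h
        rw [Finset.sum_comm, Finset.sum_eq_single i₀ (fun i _ hi => by
          rw [Finset.sum_congr rfl fun r _ => mul_assoc _ _ _, ← Finset.mul_sum, hz i hi, mul_zero])
          (by simp), Finset.sum_congr rfl fun r _ => mul_assoc _ _ _, ← Finset.mul_sum] at h
        exact (mul_eq_zero.mp h).resolve_left hi₀
      refine hA (sub_eq_zero.mp ?_)
      rw [← Matrix.mulVec_sub]
      funext i
      simp only [Matrix.mulVec, dotProduct, Pi.zero_apply]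
      by_cases hi : i = i₀
      · subst hi; exact_mod_cast hz0
      · exact_mod_cast hz i hi
    have hih := ih B hBinj fun i => hrow _
    set r : Fin n → ℤ := A i₀ with hr
    have hsplit : Aᵀ * A = Bᵀ * B + Matrix.replicateCol (Fin 1) r * Matrix.replicateRow (Fin 1) r := by
      ext a b
      simp only [Matrix.mul_apply, Matrix.add_apply, Matrix.transpose_apply, Matrix.replicateCol_apply,
        Matrix.replicateRow_apply, Fin.sum_univ_succAbove _ i₀, hB, hr, Finset.univ_unique, Finset.sum_singleton]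
      exact add_comm _ _
    have hBR := mulVec_cast hBinj
    set BR := B.map (fun x => (x : ℝ)) with hBRdef
    have hPD : (BRᵀ * BR).PosDef := by
      have h := Matrix.PosDef.conjTranspose_mul_self BR hBR
      rwa [Matrix.conjTranspose_eq_transpose_of_trivial] at h
    set rR : Fin n → ℝ := fun a => (r a : ℝ) with hrR
    have hd : ((Aᵀ * A).det : ℝ) = (BRᵀ * BR).det * (1 + rR ⬝ᵥ ((BRᵀ * BR)⁻¹ *ᵥ rR)) := by
      rw [← eq_intCast (Int.castRingHom ℝ), RingHom.map_det, hsplit]
      have e : (Int.castRingHom ℝ).mapMatrix (Bᵀ * B + Matrix.replicateCol (Fin 1) r * Matrix.replicateRow (Fin 1) r) =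
          BRᵀ * BR + Matrix.replicateCol (Fin 1) rR * Matrix.replicateRow (Fin 1) rR := by
        ext a b
        simp [Matrix.mul_apply, hBRdef, hrR]
      rw [e]
      rw [Matrix.det_add_mul _ _ (isUnit_iff_ne_zero.mpr hPD.det_pos.ne')]
      congr 1
      rw [Matrix.det_unique, Matrix.add_apply, Matrix.one_apply_eq, Matrix.mul_assoc, ← Matrix.replicateCol_mulVec]
      rfl
    have hb : ((Bᵀ * B).det : ℝ) = (BRᵀ * BR).det := det_gram_cast B
    have hne : rR ≠ 0 := fun h => hrow i₀ (funext fun a => by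
      have := congrFun h a
      simpa [hrR, hr] using this)
    have hquad : 0 < rR ⬝ᵥ ((BRᵀ * BR)⁻¹ *ᵥ rR) := by
      simpa using (hPD.inv).dotProduct_mulVec_pos hne
    have hlt : ((Bᵀ * B).det : ℝ) < ((Aᵀ * A).det : ℝ) := by
      rw [hd, hb]
      nlinarith [hPD.det_pos]
    have : (Bᵀ * B).det < (Aᵀ * A).det := by exact_mod_cast hlt
    push_cast
    omega

variable {ι : Type*} [Fintype ι] [DecidableEq ι]

/-- The lattice inequality. -/
theorem rank_le_form {p : ℕ} (hp : p.Prime) (Z : Matrix ι ι ℤ) (hsymm : Zᵀ = Z)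
    (hsq : Z * Z = (p : ℤ) • Z) {l : ℕ} (htr : Z.trace = (p : ℤ) * l)
    {α : ZMod p} {w : ι → ZMod p} (hres : ∀ i j, (Z i j : ZMod p) = α * w i * w j)
    (hdiag : ∀ i, ¬ (p : ℤ) ∣ Z i i) {a : ι → ℤ} (ha : a ⬝ᵥ (Z *ᵥ a) ≠ 0) :
    (l : ℤ) ≤ a ⬝ᵥ (Z *ᵥ a) := by
  classical
  have : Fact p.Prime := ⟨hp⟩
  have hp0 : (p : ℤ) ≠ 0 := Int.natCast_ne_zero.mpr hp.ne_zero
  set W : Matrix ι ι ℤ := (p : ℤ) • 1 - Z with hW
  have hZW : Z * W = 0 := by rw [hW, Matrix.mul_sub, hsq, Matrix.mul_smul, Matrix.mul_one, sub_self]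
  -- a basis of the kernel
  obtain ⟨m, β⟩ := Submodule.basisOfPid (Pi.basisFun ℤ ι) (LinearMap.ker Z.mulVecLin)
  set V : Matrix ι (Fin m) ℤ := fun i r => (β r : ι → ℤ) i with hV
  have hVy : ∀ y : Fin m → ℤ, V *ᵥ y = ((∑ r, y r • β r : LinearMap.ker Z.mulVecLin) : ι → ℤ) := by
    intro y
    funext i
    simp [Matrix.mulVec, dotProduct, hV, Finset.sum_apply, mul_comm]
  have hinj : Function.Injective V.mulVec := by
    intro x y h
    have h' : V *ᵥ (x - y) = 0 := by rw [Matrix.mulVec_sub]; exact sub_eq_zero.mpr h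
    rw [hVy, ZeroMemClass.coe_eq_zero] at h'
    exact sub_eq_zero.mp (funext fun r => Fintype.linearIndependent_iff.mp β.linearIndependent _ h' r)
  have hker : ∀ x, Z *ᵥ x = 0 → ∃ y, V *ᵥ y = x := fun x hx =>
    ⟨fun r => β.repr ⟨x, LinearMap.mem_ker.mpr hx⟩ r, by rw [hVy, β.sum_repr]⟩
  have hZV : Z * V = 0 := by
    ext i r
    exact congrFun (LinearMap.mem_ker.mp (β r).2) i
  choose u hu using fun j => hker (fun i => W i j) (funext fun i => congrFun (congrFun hZW i) j)
  set Ut : Matrix (Fin m) ι ℤ := fun r j => u j r with hUt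
  have hVU : V * Ut = W := by
    ext i j
    exact congrFun (hu j) i
  have hVZ : Vᵀ * Z = 0 := by
    rw [← Matrix.transpose_transpose (Vᵀ * Z), Matrix.transpose_mul, hsymm, Matrix.transpose_transpose, hZV,
      Matrix.transpose_zero]
  set G := Vᵀ * V with hG
  have hGU : G * Ut = (p : ℤ) • Vᵀ := by
    rw [hG, Matrix.mul_assoc, hVU, hW, Matrix.mul_sub, hVZ, sub_zero, Matrix.mul_smul, Matrix.mul_one]
  have hUV : Ut * V = (p : ℤ) • (1 : Matrix (Fin m) (Fin m) ℤ) := by
    have h : V * (Ut * V) = V * ((p : ℤ) • (1 : Matrix (Fin m) (Fin m) ℤ)) := by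
      rw [← Matrix.mul_assoc, hVU, hW, Matrix.sub_mul, hZV, sub_zero, Matrix.smul_mul, Matrix.one_mul,
        Matrix.mul_smul, Matrix.mul_one]
    exact Matrix.ext fun r c => congrFun (hinj (funext fun i => congrFun (congrFun h i) c) :
      (fun r => (Ut * V) r c) = fun r => ((p : ℤ) • (1 : Matrix (Fin m) (Fin m) ℤ)) r c) r
  have hrowV : ∀ i, V i ≠ 0 := fun i h => hdiag i (by
    have h1 := congrFun (congrFun hVU i) i
    simp only [hW, Matrix.mul_apply, Matrix.sub_apply, Matrix.smul_apply, Matrix.one_apply_eq, smul_eq_mul,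
      mul_one] at h1
    rw [Finset.sum_eq_zero fun r _ => by rw [congrFun h r, Pi.zero_apply, zero_mul]] at h1
    exact ⟨1, by linarith⟩)
  have hm : (m : ℤ) + l = Fintype.card ι := by
    have h := congrArg Matrix.trace hVU
    rw [Matrix.trace_mul_comm, hUV, hW, Matrix.trace_sub, Matrix.trace_smul, Matrix.trace_smul,
      Matrix.trace_one, Matrix.trace_one, htr, Fintype.card_fin, smul_eq_mul, smul_eq_mul, ← mul_sub] at h
    have := mul_left_cancel₀ hp0 h
    omega
  -- injectivity modulo `p`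
  have hmodp : Function.Injective (V.map (fun x => (x : ZMod p))).mulVec := by
    intro x y h
    rw [← sub_eq_zero, ← Matrix.mulVec_sub] at h
    set z : Fin m → ℤ := fun r => ((x - y) r).val with hz
    have hz' : ∀ r, ((z r : ℤ) : ZMod p) = (x - y) r := fun r => by
      simp only [hz, Int.cast_natCast, ZMod.natCast_zmod_val]
    have hdvd : ∀ i, (p : ℤ) ∣ (V *ᵥ z) i := fun i => by
      rw [← ZMod.intCast_zmod_eq_zero_iff_dvd]
      refine Eq.trans ?_ (congrFun h i)
      simp only [Matrix.mulVec, dotProduct, Int.cast_sum, Int.cast_mul, hz', Matrix.map_apply]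
    choose q hq using hdvd
    have hq0 : Z *ᵥ q = 0 := by
      have e : V *ᵥ z = (p : ℤ) • q := funext fun i => by rw [hq]; rfl
      have h1 : (p : ℤ) • (Z *ᵥ q) = 0 := by
        rw [← Matrix.mulVec_smul, ← e, Matrix.mulVec_mulVec, hZV, Matrix.zero_mulVec]
      exact funext fun i => (mul_eq_zero.mp (congrFun h1 i)).resolve_left hp0
    obtain ⟨y', hy'⟩ := hker q hq0
    have hzy : z = (p : ℤ) • y' := hinj (by
      rw [Matrix.mulVec_smul, hy']
      exact funext fun i => (hq i).trans rfl)
    refine sub_eq_zero.mp (funext fun r => ?_)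
    rw [← hz' r, hzy]
    simp
  have hGp : G.det ≤ (p : ℤ) := by
    rcases Nat.eq_zero_or_pos m with rfl | hm0
    · rw [Matrix.det_isEmpty]; exact_mod_cast hp.one_le
    obtain ⟨L, hL⟩ : ∃ L : Matrix (Fin m) ι (ZMod p), L * V.map (fun x => (x : ZMod p)) = 1 := by
      obtain ⟨g, hg⟩ := LinearMap.exists_leftInverse_of_injective
        (V.map (fun x => (x : ZMod p))).mulVecLin (LinearMap.ker_eq_bot.mpr hmodp)
      refine ⟨LinearMap.toMatrix' g, ?_⟩
      apply Matrix.toLin'.injective
      rw [Matrix.toLin'_mul, Matrix.toLin'_toMatrix', Matrix.toLin'_one]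
      exact hg
    -- `Ut` has rank one modulo `p`
    set uu : Fin m → ℤ := fun r => ((-α * ∑ i, L r i * w i : ZMod p)).val with huu
    set zz : ι → ℤ := fun j => ((w j : ZMod p)).val with hzz
    have hrank : ∀ r j, ((Ut r j : ℤ) : ZMod p) = (uu r * zz j : ℤ) := by
      intro r j
      have e : L * W.map (fun x => (x : ZMod p)) = Ut.map (fun x => (x : ZMod p)) := by
        have e0 : W.map (fun x => (x : ZMod p)) = V.map (fun x => (x : ZMod p)) * Ut.map (fun x => (x : ZMod p)) := by
          rw [← hVU]; exact Matrix.map_mul (f := Int.castRingHom (ZMod p))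
        rw [e0, ← Matrix.mul_assoc, hL, Matrix.one_mul]
      have hWc : ∀ i, ((W i j : ℤ) : ZMod p) = -(α * w i * w j) := fun i => by
        simp only [hW, Matrix.sub_apply, Matrix.smul_apply, smul_eq_mul, Int.cast_sub, Int.cast_mul,
          Int.cast_natCast, ZMod.natCast_self, zero_mul, zero_sub, hres]
      refine (congrFun (congrFun e r) j).symm.trans ?_
      simp only [Matrix.mul_apply, Matrix.map_apply, hWc, huu, hzz, Int.cast_mul, Int.cast_natCast,
        ZMod.natCast_zmod_val, Finset.mul_sum, Finset.sum_mul]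
      exact Finset.sum_congr rfl fun i _ => by ring
    have hdvdU : ∀ r j, (p : ℤ) ∣ Ut r j - uu r * zz j := fun r j => by
      rw [← ZMod.intCast_zmod_eq_zero_iff_dvd, Int.cast_sub, hrank, sub_self]
    choose R hR using hdvdU
    set X : Matrix ι (Fin m) ℤ := fun i r => (L r i).val with hX
    set zX : Fin m → ℤ := fun c => ∑ j, zz j * X j c with hzX
    set RX : Matrix (Fin m) (Fin m) ℤ := fun r c => ∑ j, R r j * X j c with hRX
    have hUX : Ut * X = (p : ℤ) • RX - Matrix.replicateCol (Fin 1) uu * -Matrix.replicateRow (Fin 1) zX := by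
      ext r c
      have hmul : (Matrix.replicateCol (Fin 1) uu * Matrix.replicateRow (Fin 1) zX) r c = uu r * zX c := by
        simp [Matrix.mul_apply]
      rw [Matrix.mul_neg, Matrix.sub_apply, Matrix.neg_apply, Matrix.smul_apply, hmul, Matrix.mul_apply, smul_eq_mul]
      simp only [hRX, hzX, Finset.mul_sum, sub_neg_eq_add, ← Finset.sum_add_distrib]
      exact Finset.sum_congr rfl fun j _ => by linear_combination (X j c) * hR r j
    -- its determinant is divisible by `p ^ (m - 1)`
    obtain ⟨t, ht⟩ : (p : ℤ) ^ m ∣ (p : ℤ) * (Ut * X).det := by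
      set T := Matrix.fromBlocks ((p : ℤ) • RX) (Matrix.replicateCol (Fin 1) uu)
        (-Matrix.replicateRow (Fin 1) zX) (1 : Matrix (Fin 1) (Fin 1) ℤ) with hT
      have h1 : T.det = (Ut * X).det := by rw [hT, Matrix.det_fromBlocks_one₂₂, hUX]
      have h2 : T * Matrix.fromBlocks (1 : Matrix (Fin m) (Fin m) ℤ) 0 0 ((p : ℤ) • (1 : Matrix (Fin 1) (Fin 1) ℤ)) =
          Matrix.fromBlocks ((p : ℤ) • (1 : Matrix (Fin m) (Fin m) ℤ)) 0 0 (1 : Matrix (Fin 1) (Fin 1) ℤ) *
            Matrix.fromBlocks RX (Matrix.replicateCol (Fin 1) uu) (-Matrix.replicateRow (Fin 1) zX)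
              ((p : ℤ) • 1) := by
        rw [hT, Matrix.fromBlocks_multiply, Matrix.fromBlocks_multiply]
        simp only [Matrix.mul_zero, Matrix.zero_mul, Matrix.mul_smul, Matrix.smul_mul, Matrix.one_mul, Matrix.mul_one,
          smul_zero, add_zero, zero_add]
      have h3 := congrArg Matrix.det h2
      rw [Matrix.det_mul, Matrix.det_mul, Matrix.det_fromBlocks_zero₂₁, Matrix.det_fromBlocks_zero₂₁, h1,
        Matrix.det_one, Matrix.det_one, one_mul, mul_one, Matrix.det_smul, Matrix.det_smul,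
        Matrix.det_one, Matrix.det_one, mul_one, mul_one, Fintype.card_fin, Fintype.card_fin, pow_one,
        mul_comm (Ut * X).det] at h3
      exact ⟨_, h3⟩
    have he : G.det * (Ut * X).det = (p : ℤ) ^ m * (Vᵀ * X).det := by
      rw [← Matrix.det_mul, ← Matrix.mul_assoc, hGU, Matrix.smul_mul, Matrix.det_smul, Fintype.card_fin]
    have hunit : ¬ (p : ℤ) ∣ (Vᵀ * X).det := by
      rw [← ZMod.intCast_zmod_eq_zero_iff_dvd]
      have : ((Vᵀ * X).det : ZMod p) = ((Vᵀ * X).map (fun x => (x : ZMod p))).det :=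
        RingHom.map_det (Int.castRingHom (ZMod p)) _
      rw [this]
      have e : (Vᵀ * X).map (fun x => (x : ZMod p)) = (L * V.map (fun x => (x : ZMod p)))ᵀ := by
        ext r c
        rw [Matrix.map_apply, Matrix.mul_apply, Int.cast_sum, Matrix.transpose_apply, Matrix.mul_apply]
        refine Finset.sum_congr rfl fun i _ => ?_
        rw [Int.cast_mul, Matrix.transpose_apply, Matrix.map_apply]
        simp only [hX, Int.cast_natCast, ZMod.natCast_zmod_val]
        exact mul_comm _ _
      rw [e, hL, Matrix.transpose_one, Matrix.det_one]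
      exact one_ne_zero
    have hGt : G.det * t = (p : ℤ) * (Vᵀ * X).det := by
      refine mul_left_cancel₀ (pow_ne_zero m hp0) ?_
      linear_combination (p : ℤ) * he - G.det * ht
    have hHdvd : G.det ∣ (p : ℤ) ^ (2 * m) := by
      refine ⟨(Ut * Utᵀ).det, ?_⟩
      rw [← Matrix.det_mul, ← Matrix.mul_assoc, hGU, Matrix.smul_mul, Matrix.det_smul, ← Matrix.transpose_mul,
        hUV, Matrix.det_transpose, Matrix.det_smul, Matrix.det_one, mul_one, Fintype.card_fin, two_mul, pow_add]
    have hnat : G.det.natAbs ∣ p ^ (2 * m) := by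
      simpa [Int.natAbs_pow] using Int.natAbs_dvd_natAbs.mpr hHdvd
    obtain ⟨j, -, hj⟩ := (Nat.dvd_prime_pow hp).mp hnat
    refine le_trans (Int.le_natAbs) ?_
    rw [hj]
    exact_mod_cast (pow_le_pow_right₀ hp.one_le (show j ≤ 1 by
      by_contra hj2
      apply hunit
      have h2 : (p : ℤ) ^ 2 ∣ G.det :=
        Int.natAbs_dvd_natAbs.mp (by rw [Int.natAbs_pow, Int.natAbs_natCast, hj]; exact pow_dvd_pow p (by omega))
      obtain ⟨c, hc⟩ := h2
      exact ⟨c * t, mul_left_cancel₀ hp0 (by rw [← hGt, hc]; ring)⟩)).trans_eq (pow_one p)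
  -- adjoin `a`
  set h := a ⬝ᵥ (Z *ᵥ a) with hh
  set A : Matrix ι (Fin m ⊕ Fin 1) ℤ := fun i => Sum.elim (fun r => V i r) (fun _ => a i) with hA
  have hAinj : Function.Injective A.mulVec := by
    intro x y hxy
    rw [← sub_eq_zero, ← Matrix.mulVec_sub] at hxy
    set z := x - y with hz
    have e : V *ᵥ (fun r => z (Sum.inl r)) + z (Sum.inr 0) • a = 0 := by
      rw [← hxy]
      funext i
      simp only [Matrix.mulVec, dotProduct, Fintype.sum_sum_type, hA, Sum.elim_inl, Sum.elim_inr,
        Finset.univ_unique, Finset.sum_singleton, Pi.add_apply, Pi.smul_apply, smul_eq_mul, Fin.default_eq_zero]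
      ring
    have hs : z (Sum.inr 0) = 0 := by
      have h1 := congrArg (fun v => a ⬝ᵥ (Z *ᵥ v)) e
      simp only [Matrix.mulVec_add, Matrix.mulVec_mulVec, hZV, Matrix.zero_mulVec, zero_add, Matrix.mulVec_smul,
        dotProduct_smul, Matrix.mulVec_zero, dotProduct_zero, smul_eq_mul, ← hh] at h1
      exact (mul_eq_zero.mp h1).resolve_right ha
    rw [hs, zero_smul, add_zero] at e
    have hl := hinj (e.trans (Matrix.mulVec_zero V).symm)
    refine sub_eq_zero.mp (funext fun j => ?_)
    rcases j with r | c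
    · exact congrFun hl r
    · rw [Fin.fin_one_eq_zero c]; exact hs
  obtain ⟨eι⟩ : Nonempty (ι ≃ Fin (Fintype.card ι)) := ⟨Fintype.equivFin ι⟩
  set A' := A.submatrix eι.symm (finSumFinEquiv.symm) with hA'
  have hlow := card_le_det_gram A' (by
    intro x y hxy
    simp only [hA', Matrix.submatrix_mulVec_equiv] at hxy
    have := hAinj (eι.symm.surjective.injective_comp_right hxy)
    exact finSumFinEquiv.surjective.injective_comp_right this) fun i hi => hrowV (eι.symm i) (funext fun r => by
      have h := congrFun hi (finSumFinEquiv (Sum.inl r))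
      change A (eι.symm i) (finSumFinEquiv.symm (finSumFinEquiv (Sum.inl r))) = 0 at h
      rw [Equiv.symm_apply_apply] at h
      exact h)
  have hdet : (A'ᵀ * A').det = (Aᵀ * A).det := by
    rw [hA', Matrix.transpose_submatrix, Matrix.submatrix_mul_equiv _ _ _ eι.symm]
    exact Matrix.det_submatrix_equiv_self finSumFinEquiv.symm _
  have hblock : (Aᵀ * A).det * p = G.det * h := by
    set c : Fin m → ℤ := Vᵀ *ᵥ a with hc
    have eA : Aᵀ * A = Matrix.fromBlocks G (Matrix.replicateCol (Fin 1) c) (Matrix.replicateRow (Fin 1) c)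
        ((a ⬝ᵥ a) • (1 : Matrix (Fin 1) (Fin 1) ℤ)) := by
      ext i j
      rcases i with i | i <;> rcases j with j | j
      · rfl
      · rfl
      · exact Finset.sum_congr rfl fun x _ => mul_comm _ _
      · rw [Subsingleton.elim j i, Matrix.fromBlocks_apply₂₂, Matrix.smul_apply, Matrix.one_apply_eq, smul_eq_mul, mul_one]
        rfl
    have hGc : G *ᵥ (Ut *ᵥ a) = (p : ℤ) • c := by rw [Matrix.mulVec_mulVec, hGU, Matrix.smul_mulVec, hc]
    have e2 : Aᵀ * A * Matrix.fromBlocks (1 : Matrix (Fin m) (Fin m) ℤ)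
          (-Matrix.replicateCol (Fin 1) (Ut *ᵥ a)) 0 ((p : ℤ) • (1 : Matrix (Fin 1) (Fin 1) ℤ)) =
        Matrix.fromBlocks G 0 (Matrix.replicateRow (Fin 1) c) (h • (1 : Matrix (Fin 1) (Fin 1) ℤ)) := by
      rw [eA, Matrix.fromBlocks_multiply]
      congr 1
      · simp
      · rw [Matrix.mul_neg, ← Matrix.replicateCol_mulVec, hGc, Matrix.mul_smul, Matrix.mul_one]
        ext r q
        simp
      · simp
      · have e3 : c ⬝ᵥ (Ut *ᵥ a) = a ⬝ᵥ (W *ᵥ a) := by
          rw [← hVU, ← Matrix.mulVec_mulVec, hc, Matrix.mulVec_transpose, ← dotProduct_mulVec]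
        have e4 : a ⬝ᵥ (W *ᵥ a) = (p : ℤ) * (a ⬝ᵥ a) - h := by
          rw [hW, Matrix.sub_mulVec, Matrix.smul_mulVec, Matrix.one_mulVec, dotProduct_sub, dotProduct_smul, smul_eq_mul]
        ext q q'
        rw [Subsingleton.elim q' q]
        simp only [Matrix.add_apply, Matrix.mul_neg, Matrix.neg_apply, Matrix.smul_mul, Matrix.one_mul,
          Matrix.smul_apply, Matrix.one_apply_eq, smul_eq_mul, mul_one]
        rw [show (Matrix.replicateRow (Fin 1) c * Matrix.replicateCol (Fin 1) (Ut *ᵥ a)) q q = c ⬝ᵥ (Ut *ᵥ a) by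
          simp [Matrix.mul_apply, dotProduct], e3, e4]
        ring
    have h3 := congrArg Matrix.det e2
    rw [Matrix.det_mul, Matrix.det_fromBlocks_zero₂₁, Matrix.det_fromBlocks_zero₁₂, Matrix.det_one, one_mul,
      Matrix.det_smul, Matrix.det_smul, Matrix.det_one, mul_one, mul_one, Fintype.card_fin, pow_one, pow_one] at h3
    exact h3
  have hApos : (0 : ℤ) < (Aᵀ * A).det := by
    have h1 := det_pos_of_injective _ (mulVec_cast hAinj)
    rw [← det_gram_cast A] at h1
    exact_mod_cast h1
  have hGpos : 0 < G.det := by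
    have h1 := det_pos_of_injective _ (mulVec_cast hinj)
    rw [← det_gram_cast V] at h1
    exact_mod_cast h1
  have hhpos : 0 < h := by
    by_contra hle
    nlinarith [mul_pos hApos (Int.natCast_pos.mpr hp.pos)]
  rw [hdet] at hlow
  push_cast at hlow
  have : (l : ℤ) * p ≤ h * p := by
    nlinarith [mul_le_mul_of_nonneg_right hGp hhpos.le]
  exact le_of_mul_le_mul_right this (Int.natCast_pos.mpr hp.pos)

end CfsgLib.Block.IntLattice
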