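import Cfsg.Agent.Lib.Block.ContribLattice
import Cfsg.Agent.Lib.Block.CentralQuot
import Cfsg.Agent.Lib.Block.IntLattice
import Cfsg.Agent.Lib.Block.FusedSum
import Cfsg.Agent.Lib.Block.BrauerFeit
import Cfsg.Agent.Lib.Block.Deficiency

/-!
# The Brauer–Feit bound on the number of characters of a block

`major_card_mul_le`: if the non-zero values of the scaled Cartan form of a major subsection are at
least `m` then `k(B) * m ≤ l(b) p ^ d`.  For defect two the lattice of the block modulo the central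
element gives `m = l(b)`; with induction on the defect this is `k(B) ≤ p ^ d` for `d ≤ 2` and
`k(B) ≤ p ^ (2 d - 2)` for `d ≥ 3`.
-/

open Finset MonoidAlgebra
open scoped ComplexConjugate

set_option linter.unusedSectionVars false

namespace CfsgLib.Block

open Cfsg CfsgLib.Block.Cyclic

open scoped Pair

universe u

variable {p : ℕ} [hp : Fact p.Prime] {M : Ideal AlgInt} [M.IsMaximal] {G : Type u} [Group G] [Fintype G]
  [DecidableEq G] [Fintype (IrrCharacter G)] {C : Subgroup G} [Fintype (IrrCharacter C)]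

open scoped Classical in
/-- A lower bound for the form bounds the number of characters. -/
theorem major_card_mul_le (hM : IsPModular p M) {x : G} {k : ℕ} (hk : orderOf x = p ^ k)
    (hC : ∀ t : G, t ∈ C ↔ Commute t x) {b : Set (IrrCharacter C)} {B : Set (IrrCharacter G)}
    (hb : IsInducedBlock M C b B) (hd : blockDefect p b = blockDefect p B) {m : ℕ}
    (hm : ∀ (Z : {η // η ∈ b} → {η // η ∈ b} → ℤ) (α : ResField M) (w : {η // η ∈ b} → ResField M),
      (∀ η ζ, (Z η ζ : ℂ) = (p : ℂ) ^ blockDefect p b * regInner p η.1 ζ.1) →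
      (∀ η ζ, (Z η ζ : ResField M) = α * w η * w ζ) → ∀ v, hform Z v ≠ 0 → (m : ℤ) ≤ hform Z v) :
    Nat.card B * m ≤ blockRank p b * p ^ blockDefect p B := by
  have hC' : ∀ t : C, Commute (t : G) x := fun t => (hC t).mp t.2
  obtain ⟨Z, F, c, α, w, hF, hα, hc, hX, -, hZ, -⟩ := exists_lattice_data hM hk hC hb
  obtain ⟨χ₀, hχ₀, h00⟩ := exists_height_zero hM hb.2.1
  choose a ha using fun χ η => exists_int_coeff (hc χ η)
  have hv : ∀ χ η, c χ η = ∑ j, ((fun j η => a χ η j) j η : ℂ) *
      pRoot p k ^ ((j.1 : ℕ) + p ^ k * j.2) := fun χ η => ha χ η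
  choose T hT hT2 using fun χ => exists_trace_eq F hF (hv χ)
  set P : ℤ := (p : ℤ) - 1 with hP
  have hP0 : 0 < P := by have := hM.1.two_le; omega
  have hTsum : ∑ χ ∈ Finset.univ.filter (· ∈ B), T χ =
      (blockRank p b : ℤ) * (p : ℤ) ^ blockDefect p B * P := by
    have h1 := congrArg (ptr p k) (sum_secContrib_mul_conj hM hk hC hb χ₀).2
    rw [ptr_sum, Finset.sum_congr rfl fun χ _ => by rw [hX, hT χ], ← Int.cast_sum, hd,
      ← Nat.cast_pow, ← Nat.cast_mul, ← Int.cast_natCast, ptr_intCast] at h1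
    apply Int.cast_injective (α := ℂ)
    rw [h1, hP]
    push_cast
    ring
  have hlow : ∀ χ ∈ Finset.univ.filter (· ∈ B), P * m ≤ T χ := fun χ hχ => by
    refine trace_ge F hF (hv χ) (hT χ) (fun h => ?_) fun r i j h => hm Z α w hZ hα _ h
    have h0 := gH_eq_zero_of_self F hF h (c χ₀)
    rw [← hX] at h0
    obtain ⟨L, hL, hL0, -⟩ := exists_major_lift hM hk hC hb hd (Finset.mem_filter.mp hχ).2 hχ₀
    rw [h0] at hL
    refine hL0 h00 ?_
    rw [show L = 0 from Subtype.ext ((mul_eq_zero.mp hL.symm).resolve_left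
      (pow_ne_zero _ (Nat.cast_ne_zero.mpr hM.1.ne_zero))), map_zero]
  have h3 := Finset.sum_le_sum hlow
  rw [Finset.sum_const, nsmul_eq_mul, hTsum] at h3
  rw [Nat.card_eq_fintype_card, Fintype.card_subtype]
  have : (((Finset.univ.filter (· ∈ B)).card * m : ℕ) : ℤ) ≤ ((blockRank p b * p ^ blockDefect p B : ℕ) : ℤ) := by
    push_cast
    exact le_of_mul_le_mul_right (by linarith) hP0
  exact_mod_cast this

section Two

variable {A : Type u} [Group A] [Fintype A] [DecidableEq A] {Z₀ : Subgroup A} [Z₀.Normal]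
  [Fintype (A ⧸ Z₀)] [DecidableEq (A ⧸ Z₀)] [Fintype (IrrCharacter (A ⧸ Z₀))] [Fintype (IrrCharacter A)]

open scoped Classical in
/-- The form of a block of defect two with all heights zero, modulo a central subgroup of order `p`. -/
theorem blockRank_le_form (hM : IsPModular p M) (hZcard : Nat.card Z₀ = p)
    (hZc : Z₀ ≤ Subgroup.center A) {b : Set (IrrCharacter A)} (hb : IsPBlock M b)
    (hd : blockDefect p b = 2) (hh : ∀ η ∈ b, blockHeight p b (η : A → ℂ) = 0)
    (hl : blockRank p b ≤ p) (Z : {η // η ∈ b} → {η // η ∈ b} → ℤ) (α : ResField M)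
    (w : {η // η ∈ b} → ResField M)
    (hZ : ∀ η ζ, (Z η ζ : ℂ) = (p : ℂ) ^ blockDefect p b * regInner p η.1 ζ.1)
    (hα : ∀ η ζ, (Z η ζ : ResField M) = α * w η * w ζ) (v : {η // η ∈ b} → ℤ) (hv : hform Z v ≠ 0) :
    (blockRank p b : ℤ) ≤ hform Z v := by
  have := charP_resField hM
  have hp0 : (p : ℤ) ≠ 0 := Int.natCast_ne_zero.mpr hM.1.ne_zero
  let e : {θ // θ ∈ quotSet Z₀ b} → {η // η ∈ b} := fun θ => ⟨inflQ θ.1, θ.2⟩
  have hfac : ∀ η η', ∑ θ, Z η (e θ) * Z (e θ) η' = (p : ℤ) * Z η η' := fun η η' => by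
    apply Int.cast_injective (α := ℂ)
    push_cast
    rw [hZ η η', sum_regInner_inflQ hM hZcard hZc hb η.2 (η' := η'.1),
      Finset.sum_subtype (p := fun θ => θ ∈ quotSet Z₀ b) _ (fun θ => by simp), Finset.mul_sum, Finset.mul_sum,
      Finset.mul_sum]
    exact Finset.sum_congr rfl fun θ _ => by rw [hZ, hZ, hd]; ring
  rcases isEmpty_or_nonempty {θ // θ ∈ quotSet Z₀ b} with hemp | hne
  · refine absurd ?_ hv
    refine Finset.sum_eq_zero fun η _ => Finset.sum_eq_zero fun η' _ => ?_
    have h := hfac η η'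
    rw [Finset.sum_of_isEmpty] at h
    rw [(mul_eq_zero.mp h.symm).resolve_left hp0, mul_zero, zero_mul]
  obtain ⟨θ₀⟩ := hne
  set Zm : Matrix {θ // θ ∈ quotSet Z₀ b} {θ // θ ∈ quotSet Z₀ b} ℤ := fun i j => Z (e i) (e j) with hZm
  have hsymm : ∀ η η', Z η η' = Z η' η := fun η η' => Int.cast_injective (α := ℂ) (by
    show (Z η η' : ℂ) = (Z η' η : ℂ)
    rw [hZ, hZ, regInner_comm hM])
  have hdiag : ∀ i, ¬ (p : ℤ) ∣ Zm i i := fun i => by
    have := Fintype.ofFinite (ConjClasses A)
    obtain ⟨z, hz, -, hndvd⟩ := exists_scaled_regInner_ne_zero hM hb (e i).2 (e i).2 (hh _ (e i).2)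
    have : Zm i i = z := Int.cast_injective (α := ℂ) ((hZ _ _).trans hz)
    rw [this]
    exact hndvd (hh _ (e i).2)
  have hrank : ∀ η η', (p : ℤ) ∣ Z (e θ₀) (e θ₀) * Z η η' - Z η (e θ₀) * Z (e θ₀) η' := fun η η' => by
    rw [← CharP.intCast_eq_zero_iff (ResField M) p]
    push_cast
    rw [hα, hα, hα, hα]
    ring
  have h00 : ((Z (e θ₀) (e θ₀) : ℤ) : ZMod p) ≠ 0 := fun h =>
    hdiag θ₀ ((ZMod.intCast_zmod_eq_zero_iff_dvd _ _).mp h)
  have htr : Matrix.trace Zm = (p : ℤ) * blockRank p b := by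
    apply Int.cast_injective (α := ℂ)
    push_cast
    rw [(blockRank_le_card_quotSet hM hZcard hZc hb).2, Matrix.trace, Int.cast_sum,
      Finset.sum_subtype (p := fun θ => θ ∈ quotSet Z₀ b) _ (fun θ => by simp), Finset.mul_sum, Finset.mul_sum]
    refine Finset.sum_congr rfl fun θ _ => ?_
    simp only [Matrix.diag, hZm, e]
    rw [hZ, hd]
    ring
  have hsq : Zm * Zm = (p : ℤ) • Zm := Matrix.ext fun i j => by
    rw [Matrix.mul_apply, Matrix.smul_apply, smul_eq_mul]
    exact hfac (e i) (e j)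
  -- the values at the inflated characters
  set x : {θ // θ ∈ quotSet Z₀ b} → ℤ := fun θ => ∑ η, v η * Z η (e θ) with hx
  have hxx : dotProduct x x = (p : ℤ) * hform Z v := by
    simp only [dotProduct, hx, Finset.sum_mul_sum]
    simp only [hform, Finset.mul_sum]
    rw [Finset.sum_comm]
    refine Finset.sum_congr rfl fun η _ => ?_
    rw [Finset.sum_comm]
    refine Finset.sum_congr rfl fun η' _ => ?_
    calc ∑ θ, v η * Z η (e θ) * (v η' * Z η' (e θ)) = v η * v η' * ∑ θ, Z η (e θ) * Z (e θ) η' := by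
          rw [Finset.mul_sum]
          exact Finset.sum_congr rfl fun θ _ => by rw [hsymm η' (e θ)]; ring
      _ = _ := by rw [hfac]; ring
  set s : ℤ := ((((x θ₀ : ℤ) : ZMod p) * ((Z (e θ₀) (e θ₀) : ℤ) : ZMod p)⁻¹).val : ℤ) with hs
  have hdvd : ∀ θ, (p : ℤ) ∣ x θ - s * Z (e θ₀) (e θ) := fun θ => by
    rw [← ZMod.intCast_zmod_eq_zero_iff_dvd, Int.cast_sub, Int.cast_mul, hs, Int.cast_natCast,
      ZMod.natCast_zmod_val, sub_eq_zero]
    have hc : ((Z (e θ₀) (e θ₀) : ℤ) : ZMod p) * ((x θ : ℤ) : ZMod p) =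
        ((x θ₀ : ℤ) : ZMod p) * ((Z (e θ₀) (e θ) : ℤ) : ZMod p) := by
      rw [← Int.cast_mul, ← Int.cast_mul, ← sub_eq_zero, ← Int.cast_sub, ZMod.intCast_zmod_eq_zero_iff_dvd,
        hx, Finset.mul_sum, Finset.sum_mul, ← Finset.sum_sub_distrib]
      refine Finset.dvd_sum fun η _ => ?_
      have := dvd_mul_of_dvd_right (hrank η (e θ)) (v η)
      refine this.trans (dvd_of_eq ?_)
      ring
    field_simp
    linear_combination hc
  choose y hy using hdvd
  set ab : {θ // θ ∈ quotSet Z₀ b} → ℤ := fun θ => (if θ = θ₀ then s else 0) + y θ with hab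
  have hxZ : ∀ φ, ∑ θ, Zm φ θ * x θ = (p : ℤ) * x φ := fun φ => by
    simp only [hx, Finset.mul_sum]
    rw [Finset.sum_comm]
    refine Finset.sum_congr rfl fun η _ => ?_
    calc ∑ θ, Zm φ θ * (v η * Z η (e θ)) = v η * ∑ θ, Z η (e θ) * Z (e θ) (e φ) := by
          rw [Finset.mul_sum]
          exact Finset.sum_congr rfl fun θ _ => by simp only [hZm]; rw [hsymm (e φ) (e θ)]; ring
      _ = _ := by rw [hfac]; ring
  have hZab : ∀ φ, (p : ℤ) * ∑ θ, Zm φ θ * ab θ = (p : ℤ) * x φ := fun φ => by
    have h0 : ∑ θ, Zm φ θ * Zm θ₀ θ = (p : ℤ) * Zm θ₀ φ := by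
      rw [← hfac]
      exact Finset.sum_congr rfl fun θ _ => by simp only [hZm]; rw [hsymm (e φ) (e θ)]; ring
    have h1 : ∑ θ, Zm φ θ * ab θ = s * Zm φ θ₀ + ∑ θ, Zm φ θ * y θ := by
      simp only [hab, mul_add, Finset.sum_add_distrib, mul_ite, mul_zero, Finset.sum_ite_eq', Finset.mem_univ,
        if_true]
      ring
    have h2 : (p : ℤ) * ∑ θ, Zm φ θ * y θ = ∑ θ, Zm φ θ * x θ - s * ∑ θ, Zm φ θ * Zm θ₀ θ := by
      rw [Finset.mul_sum, Finset.mul_sum, ← Finset.sum_sub_distrib]
      refine Finset.sum_congr rfl fun θ _ => ?_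
      have := hy θ
      simp only [hZm] at this ⊢
      linear_combination -(Z (e φ) (e θ)) * this
    have h3 : Zm φ θ₀ = Zm θ₀ φ := hsymm _ _
    rw [h1, mul_add, h2, hxZ, h0, h3]
    ring
  have hval : dotProduct ab (Zm.mulVec ab) = hform Z v := by
    have hmv : Zm.mulVec ab = x := funext fun φ => mul_left_cancel₀ hp0 (hZab φ)
    have h : (p : ℤ) * dotProduct ab (Zm.mulVec ab) = (p : ℤ) * hform Z v := by
      rw [← hxx, hmv]
      calc (p : ℤ) * dotProduct ab x = ∑ φ, ab φ * ((p : ℤ) * x φ) := by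
            rw [dotProduct, Finset.mul_sum]
            exact Finset.sum_congr rfl fun φ _ => by ring
        _ = ∑ φ, ∑ θ, ab φ * (Zm φ θ * x θ) := Finset.sum_congr rfl fun φ _ => by
            rw [← hxZ, Finset.mul_sum]
        _ = ∑ θ, (∑ φ, Zm θ φ * ab φ) * x θ := by
            rw [Finset.sum_comm]
            refine Finset.sum_congr rfl fun θ _ => ?_
            rw [Finset.sum_mul]
            exact Finset.sum_congr rfl fun φ _ => by simp only [hZm]; rw [hsymm (e φ) (e θ)]; ring
        _ = dotProduct x x := Finset.sum_congr rfl fun θ _ => by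
            rw [show ∑ φ, Zm θ φ * ab φ = x θ from congrFun hmv θ]
    exact mul_left_cancel₀ hp0 h
  rw [← hval] at hv ⊢
  exact IntLattice.rank_le_form hM.1 Zm (Matrix.ext fun i j => hsymm _ _) hsq htr
    (α := ((Z (e θ₀) (e θ₀) : ℤ) : ZMod p)⁻¹) (w := fun i => ((Z (e i) (e θ₀) : ℤ) : ZMod p))
    (fun i j => by
      have h := (ZMod.intCast_zmod_eq_zero_iff_dvd _ _).mpr (hrank (e i) (e j))
      push_cast at h
      rw [hsymm (e θ₀) (e j)] at h
      simp only [hZm]
      field_simp
      linear_combination h) hdiag hv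

end Two

/-- The bound for the defect. -/
def bfBound (p d : ℕ) : ℕ := if d ≤ 2 then p ^ d else p ^ (2 * d - 2)

theorem bfBound_mono (hp : 0 < p) {d e : ℕ} (h : d ≤ e) : bfBound p d ≤ bfBound p e := by
  unfold bfBound
  split_ifs <;> exact Nat.pow_le_pow_right hp (by omega)

/-- The number of characters of a block is bounded by `bfBound`. -/
theorem card_le_bfBound (hM : IsPModular p M) (d : ℕ) : ∀ (G : Type u) [Group G] [Finite G]
    (B : Set (IrrCharacter G)), IsPBlock M B → blockDefect p B = d → Nat.card B ≤ bfBound p d := by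
  induction d using Nat.strong_induction_on with
  | _ d ih =>
    intro G _ _ B hB hd
    classical
    let _ := Fintype.ofFinite G
    let _ := Fintype.ofFinite (IrrCharacter G)
    have hcard : Nat.card B = (Finset.univ.filter (· ∈ B)).card := by
      rw [Nat.card_eq_fintype_card, Fintype.card_subtype]
    rcases Nat.eq_zero_or_pos d with rfl | hdpos
    · have h4 := four_mul_sum_sq_heights_le hM hB
      rw [hd, pow_zero, one_pow] at h4
      have h1 : (Finset.univ.filter (· ∈ B)).card ≤
          ∑ χ ∈ Finset.univ.filter (· ∈ B), p ^ (2 * blockHeight p B (χ : G → ℂ)) := by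
        rw [Finset.card_eq_sum_ones]
        exact Finset.sum_le_sum fun χ _ => Nat.one_le_pow _ _ hM.1.pos
      rw [bfBound, if_pos (Nat.zero_le _), pow_zero, hcard]
      omega
    obtain ⟨D, hD⟩ := exists_defectGroup hM hB
    have hDp := isPGroup_defectGroup hM hB hD
    have hDcard := defectGroup_card hM hB hD
    rw [hd] at hDcard
    have : Nontrivial D := Finite.one_lt_card_iff_nontrivial.mp (hDcard ▸ Nat.one_lt_pow hdpos.ne' hM.1.one_lt)
    have := hDp.center_nontrivial
    obtain ⟨j, hj⟩ := IsPGroup.iff_card.mp (hDp.to_subgroup (Subgroup.center D))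
    have hj0 : j ≠ 0 := fun h => by
      rw [h, pow_zero] at hj
      exact absurd hj (Finite.one_lt_card.ne')
    obtain ⟨z₀, hz₀⟩ := exists_prime_orderOf_dvd_card' (G := Subgroup.center D) p (hj ▸ dvd_pow_self p hj0)
    set z : G := ((z₀ : D) : G) with hzdef
    have hzD : z ∈ D := (z₀ : D).2
    have hzo : orderOf z = p ^ 1 := by rw [pow_one, hzdef, Subgroup.orderOf_coe, Subgroup.orderOf_coe, hz₀]
    have hcen : ∀ u ∈ D, Commute u z := fun u hu =>
      congrArg Subtype.val (Subgroup.mem_center_iff.mp z₀.2 ⟨u, hu⟩)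
    let C : Subgroup G := Subgroup.centralizer ({z} : Set G)
    have hC : ∀ t : G, t ∈ C ↔ Commute t z := fun t => Subgroup.mem_centralizer_singleton_iff
    let _ := Fintype.ofFinite (IrrCharacter C)
    obtain ⟨b, hb, hle⟩ := exists_major_block hM hC hB hD hzD hcen
    have hdb : blockDefect p b = blockDefect p B := by
      refine le_antisymm ?_ hle
      obtain ⟨Q, hQ⟩ := exists_defectGroup hM hb.1
      obtain ⟨E, hE, hQE⟩ := exists_defectGroup_ge hM hb hQ
      refine (Nat.pow_le_pow_iff_right hM.1.one_lt).mp ?_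
      rw [← defectGroup_card hM hb.1 hQ, ← defectGroup_card hM hb.2.1 hE,
        ← Subgroup.card_map_of_injective (f := C.subtype) C.subtype_injective]
      exact Subgroup.card_le_of_le hQE
    let z' : C := ⟨z, (hC z).mpr (Commute.refl z)⟩
    let Z₀ : Subgroup C := Subgroup.zpowers z'
    have hZc : Z₀ ≤ Subgroup.center C := Subgroup.zpowers_le.mpr
      (Subgroup.mem_center_iff.mpr fun t => Subtype.ext ((hC t).mp t.2))
    have : Z₀.Normal := ⟨fun a ha g => by
      rwa [Subgroup.mem_center_iff.mp (hZc ha) g, mul_inv_cancel_right]⟩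
    have hZcard : Nat.card Z₀ = p := by
      rw [Nat.card_zpowers, ← Subgroup.orderOf_coe]
      show orderOf z = p
      rw [hzo, pow_one]
    let _ := Fintype.ofFinite (C ⧸ Z₀)
    let _ := Fintype.ofFinite (IrrCharacter (C ⧸ Z₀))
    have hZp : IsPGroup p Z₀ := IsPGroup.of_card (n := 1) (by rw [hZcard, pow_one])
    have hl : blockRank p b ≤ bfBound p (d - 1) := by
      refine (blockRank_le_card_quotSet hM hZcard hZc hb.1).1.trans ?_
      rcases (quotSet Z₀ b).eq_empty_or_nonempty with he | hne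
      · rw [he]; simp
      have hlt := blockDefect_quotSet_lt hZcard hne (b := b) (by omega)
      exact (ih _ (by omega) (C ⧸ Z₀) _ (isPBlock_quotSet hM hZp hZc hb.1 hne) rfl).trans
        (bfBound_mono hM.1.pos (by omega))
    rcases Nat.lt_or_ge d 3 with hd3 | hd3
    · rcases Nat.lt_or_ge d 2 with hd2 | hd2
      · obtain rfl : d = 1 := by omega
        rw [bfBound, if_pos (Nat.zero_le 2), Nat.sub_self, pow_zero] at hl
        rw [bfBound, if_pos one_le_two, hcard, ← hd]
        rcases major_card_le_or hM hzo hC hb hdb with h | h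
        · exact h
        · have h1 : blockRank p b * p ^ blockDefect p B ≤ p ^ blockDefect p B :=
            (Nat.mul_le_mul_right _ hl).trans (one_mul _).le
          omega
      · obtain rfl : d = 2 := by omega
        rw [bfBound, if_pos (show 2 - 1 ≤ 2 by omega), show 2 - 1 = 1 from rfl, pow_one] at hl
        rw [bfBound, if_pos le_rfl, hcard]
        rcases major_card_le_or hM hzo hC hb hdb with h | h
        · rwa [hd] at h
        rcases Nat.eq_zero_or_pos (blockRank p b) with hl0 | hl0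
        · rw [hl0, zero_mul] at h
          omega
        have hh : ∀ η ∈ b, blockHeight p b (η : C → ℂ) = 0 := fun η hη => by
          by_contra h
          have := blockHeight_add_two_le_defect hM hb.1 hη (Nat.pos_of_ne_zero h)
          omega
        have h1 := major_card_mul_le hM hzo hC hb hdb (m := blockRank p b)
          (blockRank_le_form hM hZcard hZc hb.1 (by omega) hh hl)
        rw [hd, mul_comm (blockRank p b)] at h1
        rw [← hcard]
        exact Nat.le_of_mul_le_mul_right h1 hl0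
    · rw [bfBound, if_neg (by omega), hcard]
      by_cases hpos : ∃ χ ∈ B, 0 < blockHeight p B (χ : G → ℂ)
      · have h := two_mul_card_le_of_positive_height hM hB hpos
        rw [hd, ← pow_mul] at h
        have e : p ^ (d * 2) = p ^ 2 * p ^ (2 * d - 2) := by
          rw [← pow_add]; congr 1; omega
        rw [e] at h
        have := Nat.le_of_mul_le_mul_left h (pow_pos hM.1.pos 2)
        omega
      · push Not at hpos
        have h := card_sq_le_of_heights_zero hM ⟨1, hzo⟩ hC hb hdb
          fun χ hχ => Nat.le_zero.mp (hpos χ hχ)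
        rw [hdb, hd] at h
        have hl' : blockRank p b ≤ p ^ (2 * d - 4) := by
          refine hl.trans ?_
          unfold bfBound
          split_ifs <;> exact Nat.pow_le_pow_right hM.1.pos (by omega)
        have h2 : Nat.card B ^ 2 ≤ (p ^ (2 * d - 2)) ^ 2 := h.trans ((Nat.mul_le_mul_left _ hl').trans_eq (by
          rw [← pow_add, ← pow_mul]; congr 1; omega))
        rw [← hcard]
        exact (Nat.pow_le_pow_iff_left two_ne_zero).mp h2

end CfsgLib.Block
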