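import Cfsg.Agent.Lib.Block.CyclicDefect.RankOne
import Cfsg.Agent.Lib.Block.RegularIndicator
import Cfsg.Agent.Lib.Block.Orthogonality
import Cfsg.Agent.Lib.Char.Brauer

/-!
# Brauer characters and decomposition numbers of a block

Points of the reduced group algebra below the block give decomposition numbers; the Brauer characters
are the unique solutions of the decomposition of the members on regular elements.
`exists_brauerChars` packages the facts.
-/

open Finset MonoidAlgebra
open scoped ComplexConjugate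

set_option autoImplicit false
set_option linter.unusedSectionVars false

namespace CfsgLib.Block.BrauerChars

open Cfsg CfsgLib.Block CfsgLib.Block.Points CfsgLib.Block.CyclicDefect

universe u

theorem exists_regExp {p n : ℕ} (hp : p.Prime) (hn : n ≠ 0) :
    ∃ k : ℕ, p ^ n.factorization p ∣ k ∧ k ≡ 1 [MOD ordCompl[p] n] := by
  obtain ⟨k, h1, h2⟩ := Nat.chineseRemainder ((Nat.coprime_ordCompl hp hn).pow_left (n.factorization p)) 0 1
  exact ⟨k, Nat.modEq_zero_iff_dvd.1 h1, h2⟩

theorem pow_regExp_of_regular {G : Type u} [Group G] [Finite G] {p k : ℕ} (hp : p.Prime)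
    (hk : k ≡ 1 [MOD ordCompl[p] (Nat.card G)]) {g : G} (hg : ¬ p ∣ orderOf g) : g ^ k = g := by
  have hd : orderOf g ∣ ordCompl[p] (Nat.card G) := by
    refine (Nat.Coprime.pow_right ((Nat.card G).factorization p)
      ((hp.coprime_iff_not_dvd.2 hg).symm)).dvd_of_dvd_mul_left ?_
    rw [Nat.ordProj_mul_ordCompl_eq_self]
    exact orderOf_dvd_natCard g
  have h : g ^ k = g ^ 1 := pow_eq_pow_iff_modEq.2 (hk.of_dvd hd)
  rwa [pow_one] at h

theorem regular_pow_regExp {G : Type u} [Group G] [Finite G] {p k : ℕ} (hp : p.Prime)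
    (hk : p ^ (Nat.card G).factorization p ∣ k) (g : G) : ¬ p ∣ orderOf (g ^ k) := by
  intro h
  have h1 : orderOf (g ^ k) ∣ ordCompl[p] (Nat.card G) := by
    refine orderOf_dvd_of_pow_eq_one ?_
    rw [← pow_mul]
    obtain ⟨l, rfl⟩ := hk
    rw [mul_right_comm, Nat.ordProj_mul_ordCompl_eq_self, pow_mul, pow_card_eq_one', one_pow]
  exact Nat.not_dvd_ordCompl hp Nat.card_pos.ne' (h.trans h1)

/-- A power map projecting onto the part prime to `p` is multiplicative on a nilpotent group. -/
theorem mul_pow_regExp {E : Type u} [Group E] [Finite E] [Group.IsNilpotent E] {p n k : ℕ} (hp : p.Prime)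
    (hn : n ≠ 0) (hE : Nat.card E ∣ n) (h0 : p ^ n.factorization p ∣ k)
    (h1 : k ≡ 1 [MOD ordCompl[p] n]) (a b : E) : (a * b) ^ k = a ^ k * b ^ k := by
  let e := Sylow.directProductOfNormal (G := E) (fun {q} _ P => inferInstance)
  have key : ∀ (q : (Nat.card E).primeFactors) (P : Sylow (q : ℕ) E) (x y : P),
      (x * y) ^ k = x ^ k * y ^ k := by
    intro q P x y
    have hq : (q : ℕ).Prime := Nat.prime_of_mem_primeFactors q.2
    haveI : Fact (q : ℕ).Prime := ⟨hq⟩
    obtain ⟨i, hi⟩ := IsPGroup.iff_card.1 P.isPGroup'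
    have hin : (q : ℕ) ^ i ∣ n := (hi ▸ Subgroup.card_subgroup_dvd_card (P : Subgroup E)).trans hE
    have hz : ∀ z : P, orderOf z ∣ (q : ℕ) ^ i := fun z => hi ▸ orderOf_dvd_natCard z
    by_cases hqp : (q : ℕ) = p
    · have hdk : (q : ℕ) ^ i ∣ k := by
        rw [hqp] at hin ⊢
        exact (pow_dvd_pow p ((hp.pow_dvd_iff_le_factorization hn).1 hin)).trans h0
      have : ∀ z : P, z ^ k = 1 := fun z => orderOf_dvd_iff_pow_eq_one.1 ((hz z).trans hdk)
      simp [this]
    · have hcop : ((q : ℕ) ^ i).Coprime (p ^ n.factorization p) :=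
        ((Nat.coprime_primes hq hp).2 hqp).pow _ _
      have hd : (q : ℕ) ^ i ∣ ordCompl[p] n :=
        hcop.dvd_of_dvd_mul_left (by rwa [Nat.ordProj_mul_ordCompl_eq_self])
      have : ∀ z : P, z ^ k = z := fun z => by
        have h : z ^ k = z ^ 1 := pow_eq_pow_iff_modEq.2 (h1.of_dvd ((hz z).trans hd))
        rwa [pow_one] at h
      simp [this]
  apply e.symm.injective
  rw [map_mul, map_pow, map_pow, map_pow, map_mul]
  funext q P
  exact key q P _ _

variable {p : ℕ} {M : Ideal AlgInt} [M.IsMaximal] {G : Type u} [Group G] [Fintype G] [DecidableEq G]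
  [Fintype (IrrCharacter G)] {B : Set (IrrCharacter G)}

/-- Representatives of the points below a block. -/
theorem exists_points (hM : IsPModular p M) (hB : IsPBlock M B) :
    ∃ (n : ℕ) (j : Fin n → MonoidAlgebra (ResField M) G) (m : Fin n → ℕ),
      n ≤ blockRank p B ∧ (∀ i, IsPt (j i)) ∧ (∀ i, j i * eK M B = j i) ∧ (∀ i, 0 < m i) ∧
      (∀ χ : IrrCharacter G, χ ∈ B → charDegree (χ : G → ℂ) = ∑ i, m i * idemVal χ (j i)) ∧
      ∀ e : MonoidAlgebra (ResField M) G, e * e = e → e * eK M B = e →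
        ∃ c : Fin n → ℕ, ∀ χ : IrrCharacter G, idemVal χ e = ∑ i, c i * idemVal χ (j i) := by
  classical
  haveI : IsAlgClosed (ResField M) := isAlgClosed_resField
  obtain ⟨N, s, hs, horth, hsum, hbelow⟩ :=
    Points.exists_decomp (k := ResField M) (eK M B) (eK_idem hM hB)
  let S : Setoid (Fin N) := ⟨fun r r' => EqPt (s r) (s r'),
    ⟨fun r => EqPt.refl (hs r).idem, fun h => h.symm, fun h h' => h.trans h'⟩⟩
  let eq := Fintype.equivFin (Quotient S)
  let j : Fin (Fintype.card (Quotient S)) → MonoidAlgebra (ResField M) G := fun i => s (eq.symm i).out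
  have hrep : ∀ r, EqPt (s r) (j (eq ⟦r⟧)) := fun r => by
    show EqPt (s r) (s (eq.symm (eq ⟦r⟧)).out)
    rw [Equiv.symm_apply_apply]
    exact EqPt.symm (Quotient.mk_out (s := S) r)
  refine ⟨_, j, fun i => (Finset.univ.filter fun r => eq ⟦r⟧ = i).card, ?_, fun i => hs _,
    fun i => (hbelow _).2, fun i => ?_, fun χ hχ => ?_, fun e he hef => ?_⟩
  · have h := card_points_le_blockRank hM (.of_isPBlock hB) j (fun i => hs _)
      (fun i => (hbelow _).2) fun i i' hne h => hne (eq.symm.injective ?_)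
    · simpa using h
    · rw [← Quotient.out_eq (eq.symm i), ← Quotient.out_eq (eq.symm i')]
      exact Quotient.sound h
  · refine Finset.card_pos.2 ⟨(eq.symm i).out, Finset.mem_filter.2 ⟨Finset.mem_univ _, ?_⟩⟩
    rw [Quotient.out_eq, Equiv.apply_symm_apply]
  · have h := idemVal_blockIdem hM (.of_isPBlock hB) hχ
    rw [(charDegree_eq χ).1, Nat.cast_inj] at h
    rw [← h, show toK M (blockIdem M B : MonoidAlgebra (locRing M) G) = ∑ r, s r from hsum.symm,
      idemVal_sum hM χ Finset.univ s (fun r _ => (hs r).idem) (fun r _ r' _ h => horth r r' h),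
      ← Finset.sum_fiberwise Finset.univ (fun r => eq ⟦r⟧)]
    refine Finset.sum_congr rfl fun i _ => ?_
    rw [Finset.sum_congr rfl fun r hr => (idemVal_eqPt hM χ (hrep r)).trans (by
      rw [(Finset.mem_filter.1 hr).2]), Finset.sum_const, smul_eq_mul]
  · obtain ⟨n, t, ht, hto, htsum, htin⟩ := Points.exists_decomp (k := ResField M) e he
    have hex : ∀ r, ∃ r', EqPt (t r) (s r') := by
      intro r
      by_contra hall
      push Not at hall
      have h0 : ∀ r', val (ResField M) (ht r) (t r * s r' * t r) = 0 := fun r' => by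
        by_contra hv
        exact hall r' (eqPt_of_val_ne_zero (ht r) (hs r') hv)
      have hf : t r * eK M B = t r := by rw [← (htin r).2, mul_assoc, hef]
      have h1 : val (ResField M) (ht r) (t r * eK M B * t r) = 1 := by
        rw [hf, (ht r).idem, val_self]
      rw [← hsum, Finset.mul_sum, Finset.sum_mul, map_sum, Finset.sum_eq_zero fun x _ => h0 x] at h1
      exact zero_ne_one h1
    choose w hw using hex
    refine ⟨fun i => (Finset.univ.filter fun r => eq ⟦w r⟧ = i).card, fun χ => ?_⟩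
    rw [← htsum, idemVal_sum hM χ Finset.univ t (fun r _ => (ht r).idem) (fun r _ r' _ h => hto r r' h),
      ← Finset.sum_fiberwise Finset.univ (fun r => eq ⟦w r⟧)]
    refine Finset.sum_congr rfl fun i _ => ?_
    rw [Finset.sum_congr rfl fun r hr => (idemVal_eqPt hM χ ((hw r).trans (hrep (w r)))).trans (by
      rw [(Finset.mem_filter.1 hr).2]), Finset.sum_const, smul_eq_mul]

/-- The members restricted to a nilpotent group of order prime to `p`. -/
theorem exists_restrict (hM : IsPModular p M) (hB : IsPBlock M B) {n : ℕ}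
    {j : Fin n → MonoidAlgebra (ResField M) G}
    (hdec : ∀ e : MonoidAlgebra (ResField M) G, e * e = e → e * eK M B = e →
        ∃ c : Fin n → ℕ, ∀ χ : IrrCharacter G, idemVal χ e = ∑ i, c i * idemVal χ (j i))
    {R : Type u} [Group R] [Fintype R] [Group.IsNilpotent R] (hR : ¬ p ∣ Nat.card R) (ι : R →* G) :
    ∃ θ : Fin n → R → ℂ, (∀ i, IsGeneralizedCharacter R (θ i)) ∧
      ∀ η ∈ B, ∀ x : R, (η : G → ℂ) (ι x) = ∑ i, (idemVal η (j i) : ℂ) * θ i x := by
  classical
  have := Fintype.ofFinite (IrrCharacter R)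
  have hmult : ∀ ξ : IrrCharacter R, ∃ m : Fin n → ℕ, ∀ η ∈ B,
      classInner (fun x : R => (η : G → ℂ) (ι x)) (ξ : R → ℂ) =
        ((∑ i, m i * idemVal η (j i) : ℕ) : ℂ) := by
    intro ξ
    obtain ⟨U, lam, hU⟩ := Char.nilpotent_monomial R (ξ : R → ℂ) ξ.2
    have := Fintype.ofFinite U
    have hnd : ¬ p ∣ Nat.card U := fun h => hR (h.trans U.card_subgroup_dvd_card)
    have hmem : ∀ u : U, conj ((lam u : ℂˣ) : ℂ) ∈ locRing M := fun u =>
      integral_mem M (Char.isIntegral_of_pow_eq_one (n := Nat.card U) Nat.card_pos.ne' (by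
        rw [← map_pow, ← Units.val_pow_eq_pow_val, ← map_pow, pow_card_eq_one', map_one,
          Units.val_one, map_one]))
    set kk : U → locRing M := fun u => invNat hM hnd * ⟨_, hmem u⟩ with hkk
    set c0 : MonoidAlgebra (locRing M) G := ∑ u : U, single (ι u) (kk u) with hc0
    have hc0s : ∀ u : U, single (ι u) (⟨_, hmem u⟩ : locRing M) * c0 = c0 := by
      intro u
      rw [hc0, Finset.mul_sum]
      refine Fintype.sum_equiv (Equiv.mulLeft u) _ _ fun s => ?_
      rw [MonoidAlgebra.single_mul_single, Equiv.coe_mulLeft, Subgroup.coe_mul, map_mul]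
      congr 1
      refine Subtype.ext ?_
      simp only [hkk, Subring.coe_mul, map_mul, Units.val_mul]
      ring
    have hcc : c0 * c0 = c0 := by
      conv_lhs => arg 1; rw [hc0]
      rw [Finset.sum_mul, Finset.sum_congr rfl (g := fun _ : U => invNat hM hnd • c0) fun u _ => by
        rw [show single (ι u) (kk u) = invNat hM hnd • single (ι u) (⟨_, hmem u⟩ : locRing M) by
          rw [MonoidAlgebra.smul_single, smul_eq_mul], smul_mul_assoc, hc0s u],
        Finset.sum_const, Finset.card_univ, ← Nat.card_eq_fintype_card,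
        ← Nat.cast_smul_eq_nsmul (locRing M), smul_smul, mul_comm, invNat_mul hM hnd, one_smul]
    set d := (blockIdem M B : MonoidAlgebra (locRing M) G) with hd
    have hcd : c0 * d * (c0 * d) = c0 * d := by
      have hdc : Commute d c0 := (mem_center_iff_isClassElt.mp (blockIdem M B).2).commute c0
      rw [hdc.mul_mul_mul_comm, hcc,
        show d * d = d from congrArg Subtype.val (blockIdem_mul_self hM (.of_isPBlock hB))]
    obtain ⟨m, hm⟩ := hdec (toK M (c0 * d)) (by rw [← map_mul, hcd])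
      (by rw [map_mul, mul_assoc]; exact congrArg _ (eK_idem hM hB))
    refine ⟨m, fun η hη => ?_⟩
    rw [hU, Char.classInner_indFun_right _ _ _ fun a b => by
      simp only [map_mul, map_inv, Char.isClassFunction_irr η (ι a) (ι b)]]
    rw [← hm, ← idemVal_spec hM hcd rfl η, hd, TwoChar.evalGA_mul_blockIdem hM (.of_isPBlock hB),
      if_pos hη, evalGA, classInner]
    have hcoeff : ∀ t : G,
        (c0.coeff t : ℂ) = ∑ u : U, if ι u = t then (kk u : ℂ) else 0 := fun t => by
      rw [hc0, coeff_sum_apply, AddSubmonoidClass.coe_finsetSum]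
      refine Finset.sum_congr rfl fun u _ => ?_
      rw [MonoidAlgebra.coeff_single, Finsupp.single_apply]
      split_ifs <;> rfl
    simp only [hcoeff, Finset.sum_mul, ite_mul, zero_mul]
    rw [Finset.sum_comm]
    simp only [Finset.sum_ite_eq, Finset.mem_univ, if_true, Finset.mul_sum]
    refine Finset.sum_congr rfl fun u _ => ?_
    rw [show (kk u : ℂ) = (Nat.card U : ℂ)⁻¹ * conj ((lam u : ℂˣ) : ℂ) from rfl]
    ring
  choose m hm using hmult
  refine ⟨fun i => ∑ ξ : IrrCharacter R, ((m ξ i : ℤ) : ℂ) • (ξ : R → ℂ), fun i =>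
    Char.isGeneralizedCharacter_sum _ _ fun ξ _ => Char.isGeneralizedCharacter_zsmul
      (Char.isGeneralizedCharacter_of_isCharacter (Char.isCharacter_irr ξ)) _, fun η hη x => ?_⟩
  have hexp := congrFun (Char.classFun_expand (f := fun y : R => (η : G → ℂ) (ι y))
    (fun a b => by simp only [map_mul, map_inv, Char.isClassFunction_irr η (ι a) (ι b)])) x
  rw [hexp, Finset.sum_apply]
  simp only [Pi.smul_apply, smul_eq_mul, Finset.sum_apply, Finset.mul_sum]
  rw [Finset.sum_comm]
  refine Finset.sum_congr rfl fun ξ _ => ?_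
  rw [hm ξ η hη]
  push_cast
  rw [Finset.sum_mul]
  exact Finset.sum_congr rfl fun i _ => by ring

/-- Decomposition numbers and Brauer characters of a block. -/
theorem exists_brauerChars (hM : IsPModular p M) (hB : IsPBlock M B) :
    ∃ (d : IrrCharacter G → Fin (blockRank p B) → ℕ) (φ : Fin (blockRank p B) → G → ℂ)
      (m : Fin (blockRank p B) → ℕ) (c : Fin (blockRank p B) → IrrCharacter G → ℤ),
      (∀ χ, χ ∉ B → d χ = 0) ∧
      (∀ χ ∈ B, ∀ g, ¬ p ∣ orderOf g → (χ : G → ℂ) g = ∑ i, (d χ i : ℂ) * φ i g) ∧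
      (∀ i, φ i 1 = (m i : ℂ) ∧ 0 < m i) ∧
      (∀ i g, p ∣ orderOf g → ∑ χ : IrrCharacter G, (d χ i : ℂ) * (χ : G → ℂ) g = 0) ∧
      (∀ i g, ¬ p ∣ orderOf g →
        φ i g = ∑ χ ∈ (Set.toFinite B).toFinset, (c i χ : ℂ) * (χ : G → ℂ) g) ∧
      ∀ y : Fin (blockRank p B) → ℂ, (∀ χ ∈ B, ∑ i, (d χ i : ℂ) * y i = 0) → y = 0 := by
  classical
  obtain ⟨n, j, m, hn, hj, hjB, hm0, hdeg, hdec⟩ := exists_points hM hB
  have hloc : ∀ g : G, ∃ x : Fin n → ℂ, ¬ p ∣ orderOf g → ∀ η ∈ B,
      (η : G → ℂ) g = ∑ i, (idemVal η (j i) : ℂ) * x i := by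
    intro g
    by_cases hg : p ∣ orderOf g
    · exact ⟨0, fun h => absurd hg h⟩
    letI : CommGroup (Subgroup.zpowers g) := IsCyclic.commGroup
    obtain ⟨θ, -, hθ⟩ := exists_restrict hM hB hdec (R := Subgroup.zpowers g)
      (by rwa [Nat.card_zpowers]) (Subgroup.zpowers g).subtype
    exact ⟨fun i => θ i ⟨g, Subgroup.mem_zpowers g⟩,
      fun _ η hη => hθ η hη ⟨g, Subgroup.mem_zpowers g⟩⟩
  choose x hx using hloc
  let φ : Fin n → G → ℂ := fun i g => if p ∣ orderOf g then 0 else x g i
  let D : IrrCharacter G → Fin n → ℂ := fun χ i => (idemVal χ (j i) : ℂ)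
  let E : (Fin n → ℂ) →ₗ[ℂ] (G → ℂ) := Fintype.linearCombination ℂ φ
  let W : Submodule ℂ (Fin n → ℂ) := Submodule.span ℂ (D '' B)
  have hE : ∀ χ ∈ B, pRegularPart p (χ : G → ℂ) = E (D χ) := by
    intro χ hχ
    funext g
    rw [Fintype.linearCombination_apply, Finset.sum_apply, pRegularPart_eq_regFun, regFun]
    by_cases hg : p ∣ orderOf g
    · simp [hg, φ]
    · simp [hg, φ, D, hx g hg χ hχ]
  have hspan : Submodule.span ℂ ((fun χ : IrrCharacter G => pRegularPart p (χ : G → ℂ)) '' B) =
      W.map E := by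
    rw [Submodule.map_span, ← Set.image_comp]
    exact congrArg _ (Set.image_congr fun χ hχ => hE χ hχ)
  have h1 : blockRank p B ≤ Module.finrank ℂ W := by
    rw [blockRank, hspan]
    exact Submodule.finrank_map_le E W
  have h2 : Module.finrank ℂ W ≤ n := (Submodule.finrank_le W).trans (by simp)
  have hWtop : W = ⊤ := Submodule.eq_top_of_finrank_eq (by rw [Module.finrank_fin_fun]; omega)
  obtain rfl : n = blockRank p B := by omega
  have huniq : ∀ y : Fin (blockRank p B) → ℂ,
      (∀ χ ∈ B, ∑ i, (idemVal χ (j i) : ℂ) * y i = 0) → y = 0 := by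
    intro y hy
    let L : (Fin (blockRank p B) → ℂ) →ₗ[ℂ] ℂ := ∑ i, y i • LinearMap.proj i
    have hL : ∀ v, L v = ∑ i, v i * y i := fun v => by
      simp [L, LinearMap.sum_apply, mul_comm]
    have hW : W ≤ LinearMap.ker L := Submodule.span_le.2 (by
      rintro _ ⟨χ, hχ, rfl⟩
      show L (D χ) = 0
      rw [hL]
      exact hy χ hχ)
    funext i
    have := hW (hWtop ▸ Submodule.mem_top : Pi.single i 1 ∈ W)
    rw [LinearMap.mem_ker, hL] at this
    simpa [Pi.single_apply] using this
  have hφ : ∀ χ ∈ B, ∀ g, ¬ p ∣ orderOf g →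
      (χ : G → ℂ) g = ∑ i, (idemVal χ (j i) : ℂ) * φ i g := by
    intro χ hχ g hg
    simp [φ, hg, hx g hg χ hχ]
  have hφeq : ∀ (g : G) (y : Fin (blockRank p B) → ℂ), ¬ p ∣ orderOf g →
      (∀ χ ∈ B, (χ : G → ℂ) g = ∑ i, (idemVal χ (j i) : ℂ) * y i) → ∀ i, φ i g = y i := by
    intro g y hg hy i
    have := congrFun (huniq (fun i => φ i g - y i) fun χ hχ => by
      simp only [mul_sub, Finset.sum_sub_distrib, ← hφ χ hχ g hg, ← hy χ hχ, sub_self]) i
    exact sub_eq_zero.1 this
  have hreg1 : ¬ p ∣ orderOf (1 : G) := by simp [hM.1.ne_one]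
  have hm : ∀ i, φ i 1 = (m i : ℂ) := hφeq 1 _ hreg1 fun χ hχ => by
    rw [(charDegree_eq χ).1, hdeg χ hχ]
    push_cast
    exact Finset.sum_congr rfl fun i _ => mul_comm _ _
  have hproj : ∀ i g, p ∣ orderOf g →
      ∑ χ : IrrCharacter G, (idemVal χ (j i) : ℂ) * (χ : G → ℂ) g = 0 := by
    intro i g hg
    obtain ⟨cc, hc, hcK⟩ := exists_lift (M := M) (hj i).idem
    have h0 := evalGA_eq_zero_of_regular hM hc
      (f := fun t => ∑ χ : IrrCharacter G, (χ : G → ℂ) t * conj ((χ : G → ℂ) g))
      (fun a b => Finset.sum_congr rfl fun χ _ => by rw [Char.isClassFunction_irr χ a b])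
      fun t ht => by
        rw [Char.sum_irr_mul_conj, if_neg]
        intro hc'
        obtain ⟨u, hu⟩ := isConj_iff.1 hc'
        exact ht (by rw [← hu, orderOf_conj_eq] at hg; exact hg)
    have h3 : ∑ χ : IrrCharacter G, (idemVal χ (j i) : ℂ) * conj ((χ : G → ℂ) g) = 0 := by
      rw [← h0, evalGA]
      simp only [Finset.mul_sum]
      rw [Finset.sum_comm]
      refine Finset.sum_congr rfl fun χ _ => ?_
      rw [← idemVal_spec hM hc hcK χ, evalGA, Finset.sum_mul]
      exact Finset.sum_congr rfl fun t _ => by ring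
    have h4 := congrArg (starRingEnd ℂ) h3
    simpa [map_sum, map_mul] using h4
  have hint : ∀ i, ∃ c : IrrCharacter G → ℤ, ∀ g, ¬ p ∣ orderOf g →
      φ i g = ∑ χ ∈ (Set.toFinite B).toFinset, (c χ : ℂ) * (χ : G → ℂ) g := by
    intro i
    obtain ⟨k, hk0, hk1⟩ := exists_regExp (n := Nat.card G) hM.1 Nat.card_pos.ne'
    have hreg := regular_pow_regExp (G := G) hM.1 hk0
    have hcf : IsClassFunction G (fun g => φ i (g ^ k)) := fun a b => by
      refine hφeq _ (fun i => φ i (a ^ k)) (hreg _) (fun χ hχ => ?_) i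
      rw [conj_pow, Char.isClassFunction_irr χ]
      exact hφ χ hχ _ (hreg a)
    have hgen : IsGeneralizedCharacter G (fun g => φ i (g ^ k)) := by
      refine Char.isGeneralizedCharacter_of_elementary hcf fun E q hq hE => ?_
      haveI := Char.isNilpotent_of_isElementary hq hE
      let π : E →* E := MonoidHom.mk' (fun e => e ^ k) (mul_pow_regExp hM.1 Nat.card_pos.ne'
        (Subgroup.card_subgroup_dvd_card E) hk0 hk1)
      have hπR : ¬ p ∣ Nat.card π.range := by
        intro h
        haveI : Fact p.Prime := ⟨hM.1⟩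
        obtain ⟨z, hz⟩ := exists_prime_orderOf_dvd_card' (G := π.range) p h
        obtain ⟨e, he⟩ := z.2
        rw [← Subgroup.orderOf_coe, ← he] at hz
        refine hreg (e : G) ?_
        rw [show (e : G) ^ k = ((π e : E) : G) from rfl, Subgroup.orderOf_coe, hz]
      haveI := Fintype.ofFinite π.range
      obtain ⟨θ, hθg, hθ⟩ := exists_restrict hM hB hdec (R := π.range) hπR
        (E.subtype.comp π.range.subtype)
      have := Char.isGeneralizedCharacter_comp (hθg i) π.rangeRestrict
      convert this using 1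
      funext e
      exact hφeq _ (fun i => θ i (π.rangeRestrict e)) (hreg _)
        (fun χ hχ => hθ χ hχ (π.rangeRestrict e)) i
    obtain ⟨c, -, hc, -⟩ := Char.generalized_expand hgen
    have hmem : (Pi.single i 1 : Fin (blockRank p B) → ℂ) ∈
        Submodule.span ℂ (Set.range fun χ : B => D χ) := by
      rw [show (Set.range fun χ : B => D χ) = D '' B from (Set.image_eq_range D B).symm]
      exact (show W = ⊤ from hWtop).ge Submodule.mem_top
    obtain ⟨a, ha⟩ := (Submodule.mem_span_range_iff_exists_fun ℂ).1 hmem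
    let b' : IrrCharacter G → ℂ := fun χ => if h : χ ∈ B then a ⟨χ, h⟩ else 0
    have hb' : ∀ y, ¬ p ∣ orderOf y → ∑ χ : IrrCharacter G, b' χ * (χ : G → ℂ) y = φ i y := by
      intro y hy
      calc ∑ χ : IrrCharacter G, b' χ * (χ : G → ℂ) y
          = ∑ χ : B, a χ * ((χ : IrrCharacter G) : G → ℂ) y := by
            rw [← Finset.sum_subtype (Finset.univ.filter (· ∈ B)) (by simp)
              (fun χ => b' χ * (χ : G → ℂ) y) |>.trans (Finset.sum_congr rfl fun χ _ => by
                simp [b', χ.2]), Finset.sum_filter]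
            exact Finset.sum_congr rfl fun χ _ => by
              by_cases h : χ ∈ B <;> simp [b', h]
        _ = ∑ χ : B, a χ * ∑ l, D χ l * φ l y :=
            Finset.sum_congr rfl fun χ _ => by rw [← hφ χ χ.2 y hy]
        _ = ∑ l, (∑ χ : B, a χ • D χ) l * φ l y := by
            simp only [Finset.mul_sum, Finset.sum_apply, Pi.smul_apply, smul_eq_mul, Finset.sum_mul]
            rw [Finset.sum_comm]
            exact Finset.sum_congr rfl fun l _ => Finset.sum_congr rfl fun χ _ => by ring
        _ = φ i y := by rw [ha]; simp [Pi.single_apply]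
    refine ⟨c, fun g hg => ?_⟩
    have key := sum_block_eq_of_eq_regular hM (S := B) (.of_isPBlock hB) (b := fun χ => (c χ : ℂ))
      (b' := b') (fun y hy => by
        rw [hb' y hy]
        have := congrFun hc y
        rw [Finset.sum_apply] at this
        simp only [Pi.smul_apply, smul_eq_mul] at this
        rw [← this, pow_regExp_of_regular hM.1 hk1 hy]) hg
    rw [show (Set.toFinite B).toFinset = Finset.univ.filter (· ∈ B) by ext; simp, key, ← hb' g hg,
      Finset.sum_filter]
    exact Finset.sum_congr rfl fun χ _ => by by_cases h : χ ∈ B <;> simp [b', h]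
  choose c hc using hint
  refine ⟨fun χ i => idemVal χ (j i), φ, m, c, fun χ hχ => funext fun i =>
    idemVal_eq_zero_of_not_mem hM (.of_isPBlock hB) (hj i).idem (hjB i) hχ, hφ,
    fun i => ⟨hm i, hm0 i⟩, hproj, hc, huniq⟩

end CfsgLib.Block.BrauerChars
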