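import Cfsg.Agent.Lib.Block.SubAlg
import Cfsg.Agent.Lib.Block.Principal
import Cfsg.Prelude.Def_BrauerPairs
import Mathlib.GroupTheory.Nilpotent

/-!
# Brauer pairs

`NSub` : normal inclusion in terms of `omG`, existence and uniqueness of normal subpairs, inclusion
of pairs, uniqueness of subpairs, blocks of pairs, conjugation.
-/

open Finset MonoidAlgebra
open scoped ComplexConjugate

set_option linter.unusedSectionVars false

namespace CfsgLib.Block

open Cfsg

universe u

/-- The centralizer of a subgroup. -/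
abbrev CQ {G : Type u} [Group G] (Q : Subgroup G) : Subgroup G := Subgroup.centralizer (Q : Set G)

namespace Pair

noncomputable scoped instance subgroupFintype {G : Type u} [Group G] [Finite G] (K : Subgroup G) :
    Fintype K := Fintype.ofFinite K

noncomputable scoped instance conjClassesFintype {G : Type u} [Group G] [Finite G] :
    Fintype (ConjClasses G) := Fintype.ofFinite _

end Pair

open scoped Pair

variable {p : ℕ} {M : Ideal AlgInt} [M.IsMaximal] {G : Type u} [Group G] [Fintype G] [DecidableEq G]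
  {Q R S : Subgroup G}

theorem cq_mono (h : Q ≤ R) : CQ R ≤ CQ Q := Subgroup.centralizer_le h

theorem cq_conj_iff {n : G} (hn : n ∈ Subgroup.normalizer (Q : Set G)) (g : G) :
    g ∈ CQ Q ↔ n * g * n⁻¹ ∈ CQ Q := (mem_centralizer_conj_iff hn).symm

theorem cinv_iff_cj {S : Type*} [CommRing S] {y : MonoidAlgebra S G} :
    CInv R y ↔ ∀ u ∈ R, cj u y = y := by
  constructor
  · intro h u hu
    refine ga_ext fun g => ?_
    rw [coeff_cj]
    simpa using h u⁻¹ (inv_mem hu) g
  · intro h u hu g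
    rw [← show (cj u⁻¹ y).coeff g = y.coeff g by rw [h _ (inv_mem hu)], coeff_cj, inv_inv]

/-- The conjugate of a block of `C(Q)` by an element of `N(Q)`. -/
theorem isPBlock_conjN {n : G} (hn : n ∈ Subgroup.normalizer (Q : Set G))
    {f : Set (IrrCharacter (CQ Q))} (hf : IsPBlock M f) :
    IsPBlock M (conjSet n (CQ Q) (CQ Q) f) :=
  isPBlock_conjSet (cq_conj_iff hn) hf

theorem eG_conjN {n : G} (hn : n ∈ Subgroup.normalizer (Q : Set G))
    (f : Set (IrrCharacter (CQ Q))) :
    eG M (conjSet n (CQ Q) (CQ Q) f) = cj n (eG M f) :=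
  eG_conjSet (cq_conj_iff hn) f

theorem stabilizesBlock_iff (hM : IsPModular p M) {n : G}
    (hn : n ∈ Subgroup.normalizer (Q : Set G)) {f : Set (IrrCharacter (CQ Q))} (hf : IsPBlock M f) :
    StabilizesBlock (CQ Q) f n ↔ cj n (eG M f) = eG M f := by
  have hnC : n ∈ Subgroup.normalizer (CQ Q : Set G) :=
    Subgroup.mem_normalizer_iff.mpr (cq_conj_iff hn)
  rw [← eG_conjN hn, StabilizesBlock, and_iff_right hnC, conjSet_eq_image (cq_conj_iff hn)]
  set e := irrEquiv (cjHom (K := CQ Q) (K' := CQ Q) (cq_conj_iff hn)) with he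
  constructor
  · intro h
    have hsub : e '' f ⊆ f := by
      rintro _ ⟨χ, hχ, rfl⟩
      obtain ⟨χ', hχ', hc⟩ := h χ hχ
      convert hχ' using 1
      refine Subtype.ext (funext fun c' => ?_)
      rw [he, irrEquiv_apply]
      exact (hc _ c' (by simp [cjHom, mul_assoc])).symm
    have := Fintype.ofFinite (IrrCharacter (CQ Q))
    rw [Set.eq_of_subset_of_ncard_le hsub (Set.ncard_image_of_injective f e.injective).ge
      (Set.toFinite f)]
  · intro h χ hχ
    have h' : e '' f = f := eG_inj hM (isPBlock_image_irrEquiv _ hf) hf h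
    refine ⟨e χ, h' ▸ Set.mem_image_of_mem e hχ, fun k k' hk => ?_⟩
    rw [he, irrEquiv_apply, show k' = cjHom (cq_conj_iff hn) k from Subtype.ext hk,
      MulEquiv.symm_apply_apply]

/-- The functional of a pair at `R` on the elements fixed by `R`. -/
theorem omG_mul_fixed (hM : IsPModular p M) (hR : IsPGroup p R) (ξ : IrrCharacter (CQ R))
    {a b : MonoidAlgebra (ResField M) G} (ha : CInv R a) (hb : CInv R b) (ha' : CInv (CQ R) a)
    (hb' : CInv (CQ R) b) : omG M ξ (a * b) = omG M ξ a * omG M ξ b := by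
  have h : ∀ y : MonoidAlgebra (ResField M) G, omG M ξ y = omG M ξ (trC R y) := fun y =>
    omG_congr ξ fun g hg => (coeff_trC y hg).symm
  rw [h (a * b), trC_mul hM hR ha hb,
    omG_mul ξ (suppIn_trC a) (suppIn_trC b) (ha'.trC (centralizer_le_normalizer' R))
      (hb'.trC (centralizer_le_normalizer' R)), ← h, ← h]

theorem omG_pow_fixed (hM : IsPModular p M) (hR : IsPGroup p R) (ξ : IrrCharacter (CQ R))
    {a : MonoidAlgebra (ResField M) G} (ha : CInv R a) (ha' : CInv (CQ R) a) (n : ℕ) :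
    omG M ξ (a ^ (n + 1)) = omG M ξ a ^ (n + 1) := by
  induction n with
  | zero => simp
  | succ n ih =>
    have hc : ∀ {K : Subgroup G}, CInv K a → CInv K (a ^ (n + 1)) := fun hK =>
      cinv_of_commute fun s hs => (hK.commute hs).pow_right _
    rw [pow_succ a (n + 1), omG_mul_fixed hM hR ξ (hc ha) ha (hc ha') ha', ih,
      ← pow_succ (omG M ξ a) (n + 1)]

/-! ### Normal inclusion -/

variable (p M) in
/-- Normal inclusion of pairs, in terms of the functionals. -/
structure NSub (Q : Subgroup G) (f : Set (IrrCharacter (CQ Q))) (R : Subgroup G)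
    (e : Set (IrrCharacter (CQ R))) : Prop where
  pairL : IsBrauerPair p M Q f
  pairR : IsBrauerPair p M R e
  le : Q ≤ R
  norm : R ≤ Subgroup.normalizer (Q : Set G)
  stab : CInv R (eG M f)
  one : ∀ ξ ∈ e, omG M ξ (eG M f) = 1

theorem brauerOmega_sub_iff (hM : IsPModular p M) (hQR : Q ≤ R)
    {f : Set (IrrCharacter (CQ Q))} (hf : IsPBlock M f) (ξ : IrrCharacter (CQ R)) :
    MemLocalIdeal M (brauerOmega R (subgroupBlockCoeff (CQ Q) f) (ξ : CQ R → ℂ) - 1) ↔
      omG M ξ (eG M f) = 1 := by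
  classical
  let e := blockIdem M f
  let zL : ZL M (CQ R) := ⟨gaOfFun fun c =>
      (e : MonoidAlgebra (locRing M) (CQ Q)).coeff ⟨c, cq_mono hQR c.2⟩,
    mem_center_iff_isClassElt.mpr fun g h => by
      simp only [coeff_gaOfFun]
      exact mem_center_iff_isClassElt.mp e.2 ⟨g, cq_mono hQR g.2⟩ ⟨h, cq_mono hQR h.2⟩⟩
  have hz : omG M ξ (eG M f) = omegaBar M ξ (toKC M zL) := omG_eq ξ _ _ fun c => by
    rw [coe_toKC, coeff_toK]
    simp only [zL, coeff_gaOfFun]
    exact (coeff_eG f ⟨(c : G), cq_mono hQR c.2⟩).symm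
  rw [hz, omegaBar_toKC, omegaRes, RingHom.comp_apply, ← map_one (res M), ← memLocalIdeal_sub_iff,
    coe_omegaLoc, OneMemClass.coe_one]
  have : omega (ξ : CQ R → ℂ) (toC M (zL : MonoidAlgebra (locRing M) (CQ R))) =
      brauerOmega R (subgroupBlockCoeff (CQ Q) f) (ξ : CQ R → ℂ) := by
    rw [brauerOmega, finsum_eq_sum_of_fintype, omega, Finset.sum_div]
    refine Finset.sum_congr rfl fun x _ => ?_
    simp only [zL, coeff_toC, coeff_gaOfFun, subgroupBlockCoeff, dif_pos (cq_mono hQR x.2), e,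
      coe_coeff_blockIdem hM (IsBlockUnion.of_isPBlock hf)]
  rw [this]

theorem isNormalSubpair_iff (hM : IsPModular p M) {f : Set (IrrCharacter (CQ Q))}
    {e : Set (IrrCharacter (CQ R))} : IsNormalSubpair p M Q f R e ↔ NSub p M Q f R e := by
  constructor
  · rintro ⟨hQ, hR, hle, hn, hs, h1⟩
    exact ⟨hQ, hR, hle, hn, cinv_iff_cj.mpr fun u hu =>
      (stabilizesBlock_iff hM (hn hu) hQ.2).mp (hs u hu),
      fun ξ hξ => (brauerOmega_sub_iff hM hle hQ.2 ξ).mp (h1 ξ hξ)⟩
  · rintro ⟨hQ, hR, hle, hn, hs, h1⟩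
    exact ⟨hQ, hR, hle, hn, fun u hu =>
      (stabilizesBlock_iff hM (hn hu) hQ.2).mpr (cinv_iff_cj.mp hs u hu),
      fun ξ hξ => (brauerOmega_sub_iff hM hle hQ.2 ξ).mpr (h1 ξ hξ)⟩

theorem cinv_cq_eG (hQR : Q ≤ R) (f : Set (IrrCharacter (CQ Q))) : CInv (CQ R) (eG M f) :=
  (cinv_eG f).mono (cq_mono hQR)

theorem IsPBlock_nonempty_irr {f : Set (IrrCharacter (CQ Q))} (hf : IsPBlock M f) :
    ∃ ξ, ξ ∈ f := isPBlock_nonempty hf

/-- The blocks of `C(Q)`. -/
abbrev BlockT (M : Ideal AlgInt) (Q : Subgroup G) : Type u :=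
  {f : Set (IrrCharacter (CQ Q)) // IsPBlock M f}

noncomputable instance (Q : Subgroup G) : Fintype (BlockT M Q) := Fintype.ofFinite _

theorem sum_eG_eq_one (hM : IsPModular p M) (Q : Subgroup G) :
    ∑ f : BlockT M Q, eG M f.1 = 1 := by
  classical
  have h : ∑ f : BlockT M Q, blockBar M f.1 = 1 := by
    refine eq_of_omegaBar_eq_of_idem hM ?_ (mul_one 1) fun ξ => ?_
    · rw [Finset.sum_mul_sum]
      refine Finset.sum_congr rfl fun f _ => ?_
      rw [Finset.sum_eq_single f]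
      · exact blockBar_mul_self hM (.of_isPBlock f.2)
      · intro g _ hg
        refine eq_of_omegaBar_eq_of_idem hM ?_ (mul_zero 0) fun ξ => ?_
        · rw [mul_mul_mul_comm, blockBar_mul_self hM (.of_isPBlock f.2),
            blockBar_mul_self hM (.of_isPBlock g.2)]
        · rw [map_mul, map_zero, omegaBar_blockBar hM (.of_isPBlock f.2),
            omegaBar_blockBar hM (.of_isPBlock g.2)]
          split_ifs with h1 h2 <;> try simp
          exact hg (Subtype.ext (isPBlock_eq_of_mem g.2 f.2 h2 h1))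
      · simp
    · rw [map_sum, map_one, Finset.sum_eq_single ⟨blockOf M (ξ : CQ Q → ℂ), isPBlock_blockOf ξ⟩]
      · rw [omegaBar_blockBar hM (.of_isPBlock (isPBlock_blockOf ξ)), if_pos (self_mem_blockOf ξ)]
      · intro g _ hg
        rw [omegaBar_blockBar hM (.of_isPBlock g.2), if_neg]
        exact fun h => hg (Subtype.ext (isPBlock_eq_blockOf g.2 h))
      · simp
  refine ga_ext fun g => ?_
  rw [coeff_sum_apply]
  by_cases hg : g ∈ CQ Q
  · have := congrArg (fun z : ZK M (CQ Q) =>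
      (z : MonoidAlgebra (ResField M) (CQ Q)).coeff ⟨g, hg⟩) h
    simp only [AddSubmonoidClass.coe_finsetSum, coeff_sum_apply, coeff_blockBar, OneMemClass.coe_one] at this
    refine Eq.trans (Finset.sum_congr rfl fun f _ => coeff_eG f.1 ⟨g, hg⟩) (this.trans ?_)
    simp only [MonoidAlgebra.one_def, MonoidAlgebra.coeff_single, Finsupp.single_apply]
    by_cases h1 : (1 : G) = g
    · subst h1; simp; rfl
    · have : ¬ (1 : CQ Q) = ⟨g, hg⟩ := fun e => h1 (congrArg Subtype.val e)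
      simp [h1, this]
  · rw [suppIn_one (K := CQ Q) g hg]
    exact Finset.sum_eq_zero fun f _ => suppIn_eG f.1 g hg

/-- Existence of normal subpairs. -/
theorem exists_nSub (hM : IsPModular p M) (hQR : Q ≤ R) (hRN : R ≤ Subgroup.normalizer (Q : Set G))
    {e : Set (IrrCharacter (CQ R))} (he : IsBrauerPair p M R e) : ∃ f, NSub p M Q f R e := by
  classical
  have hpf : Fact p.Prime := ⟨hM.1⟩
  have := charP_resField hM
  obtain ⟨ξ, hξ⟩ := isPBlock_nonempty he.2
  letI : MulAction R (BlockT M Q) :=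
    { smul := fun u f => ⟨conjSet (u : G) (CQ Q) (CQ Q) f.1, isPBlock_conjN (hRN u.2) f.2⟩
      one_smul := fun f => Subtype.ext (eG_inj hM (isPBlock_conjN (hRN (one_mem R)) f.2) f.2
        ((eG_conjN (hRN (one_mem R)) f.1).trans (cj_one _)))
      mul_smul := fun u v f => Subtype.ext (eG_inj hM (isPBlock_conjN (hRN (u * v).2) f.2)
        (isPBlock_conjN (hRN u.2) (isPBlock_conjN (hRN v.2) f.2))
        ((eG_conjN (hRN (u * v).2) f.1).trans ((show eG M (conjSet (u : G) (CQ Q) (CQ Q)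
          (conjSet (v : G) (CQ Q) (CQ Q) f.1)) = cj ((u * v : R) : G) (eG M f.1) by
            rw [eG_conjN (hRN u.2), eG_conjN (hRN v.2), cj_cj, Subgroup.coe_mul]).symm))) }
  have hsmul : ∀ (u : R) (f : BlockT M Q), eG M (u • f).1 = cj (u : G) (eG M f.1) :=
    fun u f => eG_conjN (hRN u.2) f.1
  have hconst : ∀ (u : R) (f : BlockT M Q), omG M ξ (eG M (u • f).1) = omG M ξ (eG M f.1) := by
    intro u f
    refine omG_congr ξ fun g hg => ?_
    rw [hsmul, coeff_cj]
    congr 1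
    rw [mul_assoc, ← Subgroup.mem_centralizer_iff.mp hg u u.2, inv_mul_cancel_left]
  have h1 : ∑ f : BlockT M Q, omG M ξ (eG M f.1) = 1 := by
    rw [← omG_sum, sum_eG_eq_one hM, omG_one]
  rw [sum_eq_sum_fixedPoints (p := p) he.1 _ hconst] at h1
  obtain ⟨f, hf, hne⟩ := Finset.exists_ne_zero_of_sum_ne_zero (h1.trans_ne one_ne_zero)
  have hfix : CInv R (eG M f.1) := cinv_iff_cj.mpr fun u hu => by
    rw [← hsmul ⟨u, hu⟩, (Finset.mem_filter.mp hf).2]
  have hid : omG M ξ (eG M f.1) = 1 := by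
    have h := omG_mul_fixed hM he.1 ξ hfix hfix (cinv_cq_eG hQR f.1) (cinv_cq_eG hQR f.1)
    rw [eG_mul_self hM f.2] at h
    exact mul_right_cancel₀ hne (h.symm.trans (one_mul _).symm)
  exact ⟨f.1, ⟨he.1.to_le hQR, f.2⟩, he, hQR, hRN, hfix,
    fun ξ' hξ' => (omG_congr_block he.2 hξ' hξ _).trans hid⟩

/-- Uniqueness of normal subpairs. -/
theorem NSub.unique (hM : IsPModular p M) {f f' : Set (IrrCharacter (CQ Q))}
    {e : Set (IrrCharacter (CQ R))} (h : NSub p M Q f R e) (h' : NSub p M Q f' R e) : f = f' := by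
  by_contra hne
  obtain ⟨ξ, hξ⟩ := isPBlock_nonempty h.pairR.2
  have := omG_mul_fixed hM h.pairR.1 ξ h.stab h'.stab (cinv_cq_eG h.le f) (cinv_cq_eG h.le f')
  rw [eG_mul_eq_zero hM h.pairL.2 h'.pairL.2 hne, omG_zero, h.one ξ hξ, h'.one ξ hξ, one_mul] at this
  exact zero_ne_one this

/-- A normal subpair on the same subgroup is equal. -/
theorem NSub.eq_of_eq (hM : IsPModular p M) {f e : Set (IrrCharacter (CQ Q))}
    (h : NSub p M Q f Q e) : f = e := by
  classical
  obtain ⟨ξ, hξ⟩ := isPBlock_nonempty h.pairR.2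
  have h1 := h.one ξ hξ
  rw [omG_eG hM h.pairL.2] at h1
  split_ifs at h1 with hmem
  · exact isPBlock_eq_of_mem h.pairL.2 h.pairR.2 hmem hξ
  · exact absurd h1 zero_ne_one

/-- The functional of the upper pair restricts to the one of the lower pair. -/
theorem NSub.omG_eq (hM : IsPModular p M) {f : Set (IrrCharacter (CQ Q))}
    {e : Set (IrrCharacter (CQ R))} (h : NSub p M Q f R e) {ξ : IrrCharacter (CQ R)} (hξ : ξ ∈ e)
    {η : IrrCharacter (CQ Q)} (hη : η ∈ f) {y : MonoidAlgebra (ResField M) G}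
    (hy : SuppIn (CQ Q) y) (hyC : CInv (CQ Q) y) (hyR : CInv R y) :
    omG M ξ y = omG M η y := by
  classical
  set c := omG M η y with hc
  let d : ZK M (CQ Q) := (cenOf M y hyC - algebraMap (ResField M) _ c) * blockBar M f
  obtain ⟨N, hN⟩ := isNilpotent_of_omegaBar hM (z := d) fun θ => by
    rw [map_mul, map_sub, omegaBar_algebraMap, omG_cenOf, omegaBar_blockBar hM (.of_isPBlock h.pairL.2)]
    split_ifs with hθ
    · rw [omG_congr_block h.pairL.2 hθ hη, ← hc, sub_self, zero_mul]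
    · rw [mul_zero]
  have he1 : emb ((cenOf M y hyC : ZK M (CQ Q)) : MonoidAlgebra (ResField M) (CQ Q)) = y :=
    (eq_emb_of_suppIn hy).symm
  have hd : emb (d : MonoidAlgebra (ResField M) (CQ Q)) = (y - c • 1) * eG M f := by
    rw [MulMemClass.coe_mul, emb_mul, eG]
    congr 1
    refine ga_ext fun g => ?_
    rw [MonoidAlgebra.coeff_sub, Finsupp.sub_apply, MonoidAlgebra.coeff_smul, Finsupp.smul_apply]
    by_cases hg : g ∈ CQ Q
    · rw [show g = ((⟨g, hg⟩ : CQ Q) : G) from rfl, coeff_emb_coe, AddSubgroupClass.coe_sub,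
        MonoidAlgebra.coeff_sub, Finsupp.sub_apply, coeff_cenOf, Algebra.algebraMap_eq_smul_one,
        SetLike.val_smul, OneMemClass.coe_one, MonoidAlgebra.coeff_smul, Finsupp.smul_apply]
      congr 2
      simp only [MonoidAlgebra.one_def, MonoidAlgebra.coeff_single, Finsupp.single_apply]
      by_cases h1 : (1 : G) = g
      · subst h1; simp; rfl
      · have : ¬ (1 : CQ Q) = ⟨g, hg⟩ := fun e => h1 (congrArg Subtype.val e)
        simp [h1, this]
    · rw [suppIn_emb _ g hg, hy g hg, suppIn_one (K := CQ Q) g hg, smul_zero, sub_zero]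
  have hpow : ((y - c • 1) * eG M f) ^ (N + 1) = 0 := by
    have hp : ∀ (a : MonoidAlgebra (ResField M) (CQ Q)) (m : ℕ),
        (emb a : MonoidAlgebra (ResField M) G) ^ (m + 1) = emb (a ^ (m + 1)) := fun a m => by
      induction m with
      | zero => simp
      | succ m ih => rw [pow_succ, ih, ← emb_mul, ← pow_succ]
    rw [← hd, hp, ← SubmonoidClass.coe_pow, pow_succ, hN, zero_mul]
    exact ga_ext fun g => by simp [emb]
  have hcl : ∀ {K : Subgroup G}, CInv K y → CInv K (y - c • (1 : MonoidAlgebra (ResField M) G)) :=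
    fun hK => cinv_of_commute fun s hs =>
      (hK.commute hs).sub_right ((Commute.one_right _).smul_right c)
  have hCR : CQ R ≤ CQ Q := cq_mono h.le
  have hz := omG_pow_fixed hM h.pairR.1 ξ ((hcl hyR).mul h.stab)
    ((hcl (hyC.mono hCR)).mul (cinv_cq_eG h.le f)) N
  rw [hpow, omG_zero, omG_mul_fixed hM h.pairR.1 ξ (hcl hyR) h.stab (hcl (hyC.mono hCR))
    (cinv_cq_eG h.le f), h.one ξ hξ, mul_one, omG_sub, omG_smul, omG_one, mul_one] at hz
  exact sub_eq_zero.mp (eq_zero_of_pow_eq_zero hz.symm)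

/-- Composition of normal inclusions inside the normalizer. -/
theorem NSub.trans (hM : IsPModular p M) {f : Set (IrrCharacter (CQ Q))}
    {g : Set (IrrCharacter (CQ R))} {h : Set (IrrCharacter (CQ S))} (h1 : NSub p M Q f R g)
    (h2 : NSub p M R g S h) (hS : S ≤ Subgroup.normalizer (Q : Set G)) : NSub p M Q f S h := by
  obtain ⟨f0, h0⟩ := exists_nSub hM (h1.le.trans h2.le) hS h2.pairR
  suffices h' : NSub p M Q f0 R g by rwa [h1.unique hM h']
  refine ⟨h0.pairL, h1.pairR, h1.le, h1.norm, h0.stab.mono h2.le, fun η hη => ?_⟩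
  obtain ⟨ξ, hξ⟩ := isPBlock_nonempty h2.pairR.2
  have hy1 : CInv (CQ R) (trC R (eG M f0)) :=
    (cinv_cq_eG h1.le f0).trC (centralizer_le_normalizer' R)
  have := h2.omG_eq hM hξ hη (suppIn_trC _) hy1 (h0.stab.trC h2.norm)
  rw [omG_congr η (y' := trC R (eG M f0)) fun x hx => (coeff_trC _ hx).symm, ← this,
    omG_congr ξ (y' := eG M f0) fun x hx => coeff_trC _ (cq_mono h2.le hx), h0.one ξ hξ]

/-! ### Inclusion of pairs -/

theorem SubpairLE.le {f : Set (IrrCharacter (CQ Q))} {e : Set (IrrCharacter (CQ R))}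
    (h : SubpairLE p M Q f R e) : Q ≤ R := by
  suffices ∀ {a b : BrauerPairIdx G}, Relation.ReflTransGen (NormalSubpairRel p M) a b → a.1 ≤ b.1
    from this h
  intro a b h
  induction h with
  | refl => exact le_rfl
  | tail _ hbc ih => exact ih.trans hbc.2.2.1

theorem SubpairLE.step (hM : IsPModular p M) {f : Set (IrrCharacter (CQ Q))}
    {e : Set (IrrCharacter (CQ R))} (h : NSub p M Q f R e) : SubpairLE p M Q f R e :=
  Relation.ReflTransGen.single ((isNormalSubpair_iff hM).mpr h)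

/-- An inclusion is trivial or starts with a strict normal step. -/
theorem SubpairLE.cases' (hM : IsPModular p M) {f : Set (IrrCharacter (CQ Q))}
    {e : Set (IrrCharacter (CQ R))} (h : SubpairLE p M Q f R e) :
    (⟨Q, f⟩ : BrauerPairIdx G) = ⟨R, e⟩ ∨
      ∃ (T : Subgroup G) (g : Set (IrrCharacter (CQ T))), Q < T ∧ NSub p M Q f T g ∧
        SubpairLE p M T g R e := by
  suffices ∀ {a b : BrauerPairIdx G}, Relation.ReflTransGen (NormalSubpairRel p M) a b →
      a = b ∨ ∃ c : BrauerPairIdx G, a.1 < c.1 ∧ NSub p M a.1 a.2 c.1 c.2 ∧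
        Relation.ReflTransGen (NormalSubpairRel p M) c b by
    obtain h | ⟨⟨T, g⟩, h1, h2, h3⟩ := this h
    exacts [Or.inl h, Or.inr ⟨T, g, h1, h2, h3⟩]
  intro a b h
  induction h using Relation.ReflTransGen.head_induction_on with
  | refl => exact Or.inl rfl
  | @head a c hac hcb ih =>
    have hac' : NSub p M a.1 a.2 c.1 c.2 := (isNormalSubpair_iff hM).mp hac
    rcases hac'.le.lt_or_eq with hlt | heq
    · exact Or.inr ⟨c, hlt, hac', hcb⟩
    · obtain ⟨T, g⟩ := c
      obtain ⟨T', g'⟩ := a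
      obtain rfl : T' = T := heq
      obtain rfl : g' = g := hac'.eq_of_eq hM
      exact ih

theorem SubpairLE.eq_of_eq (hM : IsPModular p M) {f e : Set (IrrCharacter (CQ Q))}
    (h : SubpairLE p M Q f Q e) : f = e := by
  obtain h' | ⟨T, g, hlt, -, h3⟩ := SubpairLE.cases' hM h
  · exact eq_of_heq (Sigma.mk.inj_iff.mp h').2
  · exact absurd (SubpairLE.le h3) hlt.not_ge

theorem lt_normalizer_inf {P Q : Subgroup G} (hP : IsPGroup p P) [Fact p.Prime] (h : Q < P) :
    Q < Subgroup.normalizer (Q : Set G) ⊓ P := by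
  refine lt_of_le_of_ne (le_inf Subgroup.le_normalizer h.le) fun he => ?_
  have hne : Q.subgroupOf P < ⊤ := by
    rw [lt_top_iff_ne_top, Ne, Subgroup.subgroupOf_eq_top]
    exact h.not_ge
  have hN := @NormalizerCondition P _
  have hlt : Q.subgroupOf P < Subgroup.normalizer (Q.subgroupOf P : Set P) :=
    (@normalizerCondition_of_isNilpotent P _ hP.isNilpotent) _ hne
  obtain ⟨x, hx, hxQ⟩ := SetLike.exists_of_lt hlt
  have hxN : (x : G) ∈ Subgroup.normalizer (Q : Set G) := by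
    rw [Subgroup.mem_normalizer_iff] at hx ⊢
    intro u
    constructor
    · intro hu
      exact (hx ⟨u, h.le hu⟩).mp hu
    · intro hu
      have hu' : u ∈ P := by
        have := P.mul_mem (P.mul_mem (P.inv_mem x.2) (h.le hu)) x.2
        simpa [mul_assoc] using this
      exact (hx ⟨u, hu'⟩).mpr hu
  exact hxQ (show (x : G) ∈ Q from he ▸ ⟨hxN, x.2⟩)

/-- Existence of subpairs on every subgroup. -/
theorem exists_subpairLE (hM : IsPModular p M) {P : Subgroup G} {e : Set (IrrCharacter (CQ P))}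
    (he : IsBrauerPair p M P e) (Q : Subgroup G) (hQ : Q ≤ P) :
    ∃ f, IsBrauerPair p M Q f ∧ SubpairLE p M Q f P e := by
  have hpf : Fact p.Prime := ⟨hM.1⟩
  induction hn : Nat.card P - Nat.card Q using Nat.strong_induction_on generalizing Q with
  | _ n ih =>
    rcases hQ.eq_or_lt with rfl | hlt
    · exact ⟨e, he, Relation.ReflTransGen.refl⟩
    · set N := Subgroup.normalizer (Q : Set G) ⊓ P
      have hQN := lt_normalizer_inf he.1 hlt
      have hcard : Nat.card Q < Nat.card N :=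
        (Nat.card_le_card_of_injective _ (Subgroup.inclusion_injective hQN.le)).lt_of_ne fun heq =>
          hQN.ne (Subgroup.eq_of_le_of_card_ge hQN.le heq.ge)
      have hNP : Nat.card N ≤ Nat.card P :=
        Nat.card_le_card_of_injective _ (Subgroup.inclusion_injective inf_le_right)
      obtain ⟨g, hg, hle⟩ := ih _ (by omega) N inf_le_right rfl
      obtain ⟨f, hf⟩ := exists_nSub hM hQN.le inf_le_left hg
      exact ⟨f, hf.pairL, (SubpairLE.step hM hf).trans hle⟩

/-- Subpairs are unique. -/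
theorem SubpairLE.unique (hM : IsPModular p M) {P : Subgroup G} {e : Set (IrrCharacter (CQ P))}
    (he : IsBrauerPair p M P e) {f f' : Set (IrrCharacter (CQ Q))}
    (h : SubpairLE p M Q f P e) (h' : SubpairLE p M Q f' P e) : f = f' := by
  have hpf : Fact p.Prime := ⟨hM.1⟩
  induction hn : Nat.card P - Nat.card Q using Nat.strong_induction_on generalizing Q with
  | _ n ih =>
    rcases (SubpairLE.le h).eq_or_lt with rfl | hlt
    · rw [SubpairLE.eq_of_eq hM h, SubpairLE.eq_of_eq hM h']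
    · set N := Subgroup.normalizer (Q : Set G) ⊓ P with hN
      have hQN := lt_normalizer_inf he.1 hlt
      obtain ⟨gN, hgN, hNle⟩ := exists_subpairLE hM he N inf_le_right
      suffices key : ∀ f0, SubpairLE p M Q f0 P e → NSub p M Q f0 N gN from
        (key f h).unique hM (key f' h')
      intro f0 h0
      obtain heq | ⟨T, g, hQT, hstep, hTP⟩ := SubpairLE.cases' hM h0
      · exact absurd (Sigma.mk.inj_iff.mp heq).1 hlt.ne
      have hTN : T ≤ N := le_inf hstep.norm (SubpairLE.le hTP)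
      obtain ⟨g', hg', hg'le⟩ := exists_subpairLE hM hgN T hTN
      have hcard : Nat.card Q < Nat.card T :=
        (Nat.card_le_card_of_injective _ (Subgroup.inclusion_injective hQT.le)).lt_of_ne fun heq =>
          hQT.ne (Subgroup.eq_of_le_of_card_ge hQT.le heq.ge)
      have hTP' : Nat.card T ≤ Nat.card P :=
        Nat.card_le_card_of_injective _ (Subgroup.inclusion_injective (SubpairLE.le hTP))
      obtain rfl : g' = g := ih _ (by omega) (hg'le.trans hNle) hTP rfl
      suffices ∀ {b : BrauerPairIdx G},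
          Relation.ReflTransGen (NormalSubpairRel p M) ⟨T, g'⟩ b → b.1 ≤ N →
            NSub p M Q f0 b.1 b.2 from this (b := ⟨N, gN⟩) hg'le le_rfl
      intro b hb
      induction hb with
      | refl => exact fun _ => hstep
      | @tail b c hTb hbc ihb =>
        intro hc
        have hbc' : NSub p M b.1 b.2 c.1 c.2 := (isNormalSubpair_iff hM).mp hbc
        exact (ihb (hbc'.le.trans hc)).trans hM hbc' (hc.trans inf_le_left)

/-! ### Blocks of pairs -/

theorem isBrauerPairOf_iff_omG (hM : IsPModular p M) {e : Set (IrrCharacter (CQ Q))}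
    {B : Set (IrrCharacter G)} : IsBrauerPairOf p M B Q e ↔ IsBrauerPair p M Q e ∧ IsPBlock M B ∧
      ∀ ξ ∈ e, ∀ χ ∈ B, ∀ z : ZK M G,
        omG M ξ (z : MonoidAlgebra (ResField M) G) = omegaBar M χ z := by
  have key : ∀ (hQ : IsPGroup p Q) (ξ : IrrCharacter (CQ Q)) (z : ZK M G),
      omG M ξ (z : MonoidAlgebra (ResField M) G) = omegaBar M ξ (brC M hM hQ z) :=
    fun hQ ξ z => omG_eq ξ _ _ fun k => coeff_brC hM hQ z k
  constructor
  · intro h
    refine ⟨h.1, h.2.1, fun ξ hξ χ hχ z => ?_⟩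
    rw [key h.1.1, (isBrauerPairOf_iff hM h.1.1 h.1.2 h.2.1).mp h ξ hξ χ hχ]
  · rintro ⟨hQ, hB, h⟩
    refine (isBrauerPairOf_iff hM hQ.1 hQ.2 hB).mpr fun ξ hξ χ hχ z => ?_
    rw [← key hQ.1, h ξ hξ χ hχ]

theorem NSub.isBrauerPairOf_iff (hM : IsPModular p M) {f : Set (IrrCharacter (CQ Q))}
    {e : Set (IrrCharacter (CQ R))} (h : NSub p M Q f R e) {B : Set (IrrCharacter G)} :
    IsBrauerPairOf p M B R e ↔ IsBrauerPairOf p M B Q f := by
  have key : ∀ ξ ∈ e, ∀ η ∈ f, ∀ z : ZK M G, omG M ξ (z : MonoidAlgebra (ResField M) G) =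
      omG M η (z : MonoidAlgebra (ResField M) G) := by
    intro ξ hξ η hη z
    rw [omG_congr ξ (y' := trC Q (z : MonoidAlgebra (ResField M) G)) fun x hx =>
        (coeff_trC _ (cq_mono h.le hx)).symm,
      omG_congr η (y' := trC Q (z : MonoidAlgebra (ResField M) G)) fun x hx => (coeff_trC _ hx).symm]
    exact h.omG_eq hM hξ hη (suppIn_trC _)
      ((cinv_of_central z _).trC (centralizer_le_normalizer' Q)) ((cinv_of_central z _).trC h.norm)
  rw [isBrauerPairOf_iff_omG hM, isBrauerPairOf_iff_omG hM]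
  obtain ⟨ξ₀, hξ₀⟩ := isPBlock_nonempty h.pairR.2
  obtain ⟨η₀, hη₀⟩ := isPBlock_nonempty h.pairL.2
  constructor
  · rintro ⟨-, hB, hb⟩
    exact ⟨h.pairL, hB, fun η hη χ hχ z => (key ξ₀ hξ₀ η hη z).symm.trans (hb ξ₀ hξ₀ χ hχ z)⟩
  · rintro ⟨-, hB, hb⟩
    exact ⟨h.pairR, hB, fun ξ hξ χ hχ z => (key ξ hξ η₀ hη₀ z).trans (hb η₀ hη₀ χ hχ z)⟩

theorem SubpairLE.isBrauerPairOf_iff (hM : IsPModular p M) {f : Set (IrrCharacter (CQ Q))}
    {e : Set (IrrCharacter (CQ R))} (h : SubpairLE p M Q f R e) {B : Set (IrrCharacter G)} :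
    IsBrauerPairOf p M B R e ↔ IsBrauerPairOf p M B Q f := by
  suffices ∀ {a b : BrauerPairIdx G}, Relation.ReflTransGen (NormalSubpairRel p M) a b →
      (IsBrauerPairOf p M B b.1 b.2 ↔ IsBrauerPairOf p M B a.1 a.2) from this h
  intro a b h
  induction h with
  | refl => exact Iff.rfl
  | tail _ hbc ih => exact (((isNormalSubpair_iff hM).mp hbc).isBrauerPairOf_iff hM).trans ih

theorem existsUnique_block_of_pair (hM : IsPModular p M) {e : Set (IrrCharacter (CQ Q))}
    (he : IsBrauerPair p M Q e) : ∃! B : Set (IrrCharacter G), IsBrauerPairOf p M B Q e := by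
  obtain ⟨ξ, hξ⟩ := isPBlock_nonempty he.2
  obtain ⟨χ, hχ⟩ := exists_omegaBar_eq hM ((omegaBar M ξ).comp (brC M hM he.1)) fun c => by
    rw [RingHom.comp_apply, brC_algebraMap, omegaBar_algebraMap]
  refine ⟨blockOf M (χ : G → ℂ), (CfsgLib.Block.isBrauerPairOf_iff hM he.1 he.2 (isPBlock_blockOf χ)).mpr
    fun ξ' hξ' χ' hχ' z => ?_, fun B hB => ?_⟩
  · rw [← omegaBar_eq_of_sameBlock (hχ' : SameBlock M (χ : G → ℂ) (χ' : G → ℂ)),
      omegaBar_eq_of_mem he.2 hξ' hξ]
    exact RingHom.congr_fun hχ z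
  · obtain ⟨χ', hχ'⟩ := isPBlock_nonempty hB.2.1
    refine isPBlock_eq_of_mem hB.2.1 (isPBlock_blockOf χ) hχ' ?_
    exact sameBlock_iff_omegaBar.mpr (RingHom.ext fun z => by
      rw [← (CfsgLib.Block.isBrauerPairOf_iff hM he.1 he.2 hB.2.1).mp hB ξ hξ χ' hχ' z, ← hχ]
      rfl)

/-! ### Conjugation -/

/-- The conjugate subgroup. -/
abbrev cjS (n : G) (Q : Subgroup G) : Subgroup G := Q.map (MulAut.conj n).toMonoidHom

theorem mem_cjS {n g : G} {Q : Subgroup G} : g ∈ cjS n Q ↔ n⁻¹ * g * n ∈ Q := by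
  rw [cjS, Subgroup.mem_map_equiv]
  simp [MulAut.conj_symm_apply]

theorem conj_mem_cjS {n g : G} {Q : Subgroup G} : n * g * n⁻¹ ∈ cjS n Q ↔ g ∈ Q := by
  rw [mem_cjS]; simp [mul_assoc]

theorem cjS_cjS (n m : G) (Q : Subgroup G) : cjS n (cjS m Q) = cjS (n * m) Q := by
  ext g; simp [mem_cjS, mul_assoc]

theorem cjS_one (Q : Subgroup G) : cjS 1 Q = Q := by
  ext g; simp [mem_cjS]

theorem cjS_mono {n : G} (h : Q ≤ R) : cjS n Q ≤ cjS n R := Subgroup.map_mono h

theorem cjS_eq_of_mem_normalizer {n : G} (hn : n ∈ Subgroup.normalizer (Q : Set G)) : cjS n Q = Q := by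
  ext g
  rw [mem_cjS]
  exact (Subgroup.mem_normalizer_iff''.mp hn g).symm

theorem mem_normalizer_of_cjS_eq {n : G} (h : cjS n Q = Q) : n ∈ Subgroup.normalizer (Q : Set G) :=
  Subgroup.mem_normalizer_iff.mpr fun g => by
    conv_rhs => rw [← h]
    exact conj_mem_cjS.symm

theorem cq_cjS_iff (n : G) (Q : Subgroup G) (g : G) :
    g ∈ CQ Q ↔ n * g * n⁻¹ ∈ CQ (cjS n Q) := by
  simp only [Subgroup.mem_centralizer_iff, SetLike.mem_coe]
  constructor
  · intro h u hu
    have h1 := h _ (mem_cjS.mp hu)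
    calc u * (n * g * n⁻¹) = n * ((n⁻¹ * u * n) * g) * n⁻¹ := by group
      _ = n * (g * (n⁻¹ * u * n)) * n⁻¹ := by rw [h1]
      _ = n * g * n⁻¹ * u := by group
  · intro h u hu
    have h1 := h _ (conj_mem_cjS.mpr hu : n * u * n⁻¹ ∈ cjS n Q)
    calc u * g = n⁻¹ * ((n * u * n⁻¹) * (n * g * n⁻¹)) * n := by group
      _ = n⁻¹ * ((n * g * n⁻¹) * (n * u * n⁻¹)) * n := by rw [h1]
      _ = g * u := by group

theorem isPBlock_conjBlock (n : G) {f : Set (IrrCharacter (CQ Q))} (hf : IsPBlock M f) :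
    IsPBlock M (conjBlock Q n f) :=
  isPBlock_conjSet (K' := CQ (cjS n Q)) (cq_cjS_iff n Q) hf

theorem eG_conjBlock (n : G) (f : Set (IrrCharacter (CQ Q))) :
    eG M (conjBlock Q n f : Set (IrrCharacter (CQ (cjS n Q)))) = cj n (eG M f) :=
  eG_conjSet (K' := CQ (cjS n Q)) (cq_cjS_iff n Q) f

theorem isBrauerPair_conj (n : G) {f : Set (IrrCharacter (CQ Q))} (h : IsBrauerPair p M Q f) :
    IsBrauerPair p M (cjS n Q) (conjBlock Q n f) :=
  ⟨h.1.map _, isPBlock_conjBlock n h.2⟩

/-- Two pairs with the same subgroup and idempotent are equal. -/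
theorem pair_ext (hM : IsPModular p M) {f : Set (IrrCharacter (CQ Q))}
    {e : Set (IrrCharacter (CQ R))} (hf : IsPBlock M f) (he : IsPBlock M e) (h : Q = R)
    (heG : eG M f = eG M e) : (⟨Q, f⟩ : BrauerPairIdx G) = ⟨R, e⟩ := by
  subst h
  rw [eG_inj hM hf he heG]

/-- Conjugation on pairs. -/
def cjP (n : G) (a : BrauerPairIdx G) : BrauerPairIdx G := ⟨cjS n a.1, conjBlock a.1 n a.2⟩

theorem NSub.conj (hM : IsPModular p M) (n : G) {f : Set (IrrCharacter (CQ Q))}
    {e : Set (IrrCharacter (CQ R))} (h : NSub p M Q f R e) :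
    NSub p M (cjS n Q) (conjBlock Q n f) (cjS n R) (conjBlock R n e) := by
  refine ⟨isBrauerPair_conj n h.pairL, isBrauerPair_conj n h.pairR, cjS_mono h.le, ?_, ?_, ?_⟩
  · intro u hu
    refine mem_normalizer_of_cjS_eq ?_
    have h1 : cjS (n⁻¹ * u * n) Q = Q := cjS_eq_of_mem_normalizer (h.norm (mem_cjS.mp hu))
    conv_rhs => rw [← h1, cjS_cjS]
    rw [cjS_cjS]
    congr 1
    group
  · refine cinv_iff_cj.mpr fun u hu => ?_
    rw [eG_conjBlock, cj_cj]
    have := congrArg (cj n) (cinv_iff_cj.mp h.stab _ (mem_cjS.mp hu))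
    rw [cj_cj] at this
    convert this using 2
    group
  · intro ξ' hξ'
    rw [show conjBlock R n e = _ from conjSet_eq_image (K' := CQ (cjS n R)) (cq_cjS_iff n R) e] at hξ'
    obtain ⟨ξ, hξ, rfl⟩ := hξ'
    rw [eG_conjBlock, omG_cj (cq_cjS_iff n R) ξ (cinv_cq_eG h.le f), h.one ξ hξ]

theorem SubpairLE.conj (hM : IsPModular p M) (n : G) {f : Set (IrrCharacter (CQ Q))}
    {e : Set (IrrCharacter (CQ R))} (h : SubpairLE p M Q f R e) :
    SubpairLE p M (cjS n Q) (conjBlock Q n f) (cjS n R) (conjBlock R n e) := by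
  suffices ∀ {a b : BrauerPairIdx G}, Relation.ReflTransGen (NormalSubpairRel p M) a b →
      Relation.ReflTransGen (NormalSubpairRel p M) (cjP n a) (cjP n b) from this h
  intro a b h
  induction h with
  | refl => exact Relation.ReflTransGen.refl
  | tail _ hbc ih =>
    exact ih.tail ((isNormalSubpair_iff hM).mpr (((isNormalSubpair_iff hM).mp hbc).conj hM n))

theorem cjP_cjP (hM : IsPModular p M) (n m : G) {f : Set (IrrCharacter (CQ Q))}
    (hf : IsPBlock M f) : cjP n (cjP m ⟨Q, f⟩) = cjP (n * m) ⟨Q, f⟩ := by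
  refine pair_ext hM (isPBlock_conjBlock n (isPBlock_conjBlock m hf)) (isPBlock_conjBlock _ hf)
    (cjS_cjS n m Q) ?_
  refine (eG_conjBlock (Q := cjS m Q) n (conjBlock Q m f)).trans ?_
  exact ((congrArg (cj n) (eG_conjBlock m f)).trans (cj_cj n m _)).trans (eG_conjBlock _ f).symm

theorem cjP_one (hM : IsPModular p M) {f : Set (IrrCharacter (CQ Q))} (hf : IsPBlock M f) :
    cjP 1 ⟨Q, f⟩ = (⟨Q, f⟩ : BrauerPairIdx G) := by
  refine pair_ext hM (isPBlock_conjBlock 1 hf) hf (cjS_one Q) ?_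
  exact (eG_conjBlock 1 f).trans (cj_one _)

theorem cjP_eq_of_mem (hM : IsPModular p M) {n : G} (hn : n ∈ Subgroup.normalizer (Q : Set G))
    {f : Set (IrrCharacter (CQ Q))} (hf : IsPBlock M f) :
    cjP n ⟨Q, f⟩ = (⟨Q, conjSet n (CQ Q) (CQ Q) f⟩ : BrauerPairIdx G) := by
  refine pair_ext hM (isPBlock_conjBlock n hf) (isPBlock_conjN hn hf) (cjS_eq_of_mem_normalizer hn) ?_
  rw [eG_conjN hn]
  exact eG_conjBlock n f

theorem IsBrauerPairOf.conj (hM : IsPModular p M) (n : G) {f : Set (IrrCharacter (CQ Q))}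
    {B : Set (IrrCharacter G)} (h : IsBrauerPairOf p M B Q f) :
    IsBrauerPairOf p M B (cjS n Q) (conjBlock Q n f) := by
  rw [isBrauerPairOf_iff_omG hM] at h ⊢
  obtain ⟨hQ, hB, h⟩ := h
  refine ⟨isBrauerPair_conj n hQ, hB, fun ξ' hξ' χ hχ z => ?_⟩
  rw [show conjBlock Q n f = _ from conjSet_eq_image (K' := CQ (cjS n Q)) (cq_cjS_iff n Q) f] at hξ'
  obtain ⟨ξ, hξ, rfl⟩ := hξ'
  rw [← h ξ hξ χ hχ z, ← omG_cj (cq_cjS_iff n Q) ξ (cinv_of_central z _)]
  congr 1
  exact ga_ext fun g => by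
    rw [coeff_cj]
    simpa using (mem_center_iff_isClassElt.mp z.2 g n⁻¹).symm

end CfsgLib.Block
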