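import Cfsg.Agent.Lib.Block.LocalComb
import Cfsg.Agent.Lib.Block.Defect
import Cfsg.Agent.Lib.Char.Galois
import Cfsg.Agent.Lib.Char.Integrality

/-!
# The inner products `[χ°, ψ]` of restrictions to `p`-regular elements

`regInner`, `exists_regInner_int` (`p ^ (n - v(χ 1)) * [χ°, ψ] ∈ ℤ`), vanishing off the block,
the idempotent relation, valuations and heights.
-/

open Finset
open scoped ComplexConjugate

set_option linter.unusedSectionVars false

namespace CfsgLib.Block

open Cfsg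

universe u

variable {G : Type u} [Group G] [Fintype G] [DecidableEq G]

/-- The function equal to `f` on `p`-regular elements and `0` elsewhere. -/
noncomputable def regFun (p : ℕ) (f : G → ℂ) : G → ℂ :=
  fun x => if p ∣ orderOf x then 0 else f x

/-- `[χ°, ψ]`. -/
noncomputable def regInner (p : ℕ) (χ ψ : IrrCharacter G) : ℂ :=
  classInner (regFun p (χ : G → ℂ)) (ψ : G → ℂ)

theorem orderOf_conj_eq (c y : G) : orderOf (c * y * c⁻¹) = orderOf y :=
  MulEquiv.orderOf_eq (MulAut.conj c) y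

theorem isClassFunction_regFun (p : ℕ) {f : G → ℂ} (hf : IsClassFunction G f) :
    IsClassFunction G (regFun p f) := fun g h => by
  simp only [regFun, orderOf_conj_eq, hf g h]

theorem card_mul_regInner (p : ℕ) (χ ψ : IrrCharacter G) :
    (Nat.card G : ℂ) * regInner p χ ψ =
      ∑ x ∈ Finset.univ.filter (fun x : G => ¬ p ∣ orderOf x),
        (χ : G → ℂ) x * (ψ : G → ℂ) x⁻¹ := by
  have hG : (Nat.card G : ℂ) ≠ 0 := Nat.cast_ne_zero.mpr Nat.card_pos.ne'
  rw [regInner, classInner, ← mul_assoc, mul_inv_cancel₀ hG, one_mul, Finset.sum_filter]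
  refine Finset.sum_congr rfl fun x _ => ?_
  simp only [regFun, Char.irr_inv]
  by_cases hx : p ∣ orderOf x <;> simp [hx]

theorem conj_regInner (p : ℕ) (χ ψ : IrrCharacter G) :
    conj (regInner p χ ψ) = regInner p ψ χ := by
  have hG : (Nat.card G : ℂ) ≠ 0 := Nat.cast_ne_zero.mpr Nat.card_pos.ne'
  apply mul_left_cancel₀ hG
  rw [card_mul_regInner, ← map_natCast (starRingEnd ℂ), ← map_mul, card_mul_regInner, map_sum]
  refine Finset.sum_congr rfl fun x _ => ?_
  rw [map_mul, Char.irr_inv, Char.irr_inv, Complex.conj_conj, mul_comm]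

/-- `|G| [χ°, ψ]` is a rational integer. -/
theorem exists_card_mul_regInner_int (p : ℕ) (χ ψ : IrrCharacter G) :
    ∃ z : ℤ, (Nat.card G : ℂ) * regInner p χ ψ = z := by
  set R := Finset.univ.filter (fun x : G => ¬ p ∣ orderOf x) with hR
  have hint : IsIntegral ℤ ((Nat.card G : ℂ) * regInner p χ ψ) := by
    rw [card_mul_regInner]
    exact IsIntegral.sum _ fun x _ => (irr_isIntegral χ x).mul (irr_isIntegral ψ x⁻¹)
  refine Char.exists_int_of_fixed hint fun φ => ?_
  obtain ⟨m, hm, hφ⟩ := Char.exists_char_twist (G := G) φ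
  let cK : IrrCharacter G → G → Char.Alg := fun η g =>
    ⟨(η : G → ℂ) g, Char.mem_alg_of_isIntegral (irr_isIntegral η g)⟩
  have hx : (⟨_, Char.mem_alg_of_isIntegral hint⟩ : Char.Alg) =
      ∑ x ∈ R, cK χ x * cK ψ x⁻¹ := Subtype.ext (by
    simp only [card_mul_regInner, hR, cK, AddSubmonoidClass.coe_finsetSum, MulMemClass.coe_mul])
  rw [hx, map_sum, card_mul_regInner]
  simp only [map_mul]
  rw [Finset.sum_congr rfl fun x _ => by
    rw [hφ χ (Char.isCharacter_irr χ) x (cK χ x) rfl,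
      hφ ψ (Char.isCharacter_irr ψ) x⁻¹ (cK ψ x⁻¹) rfl, inv_pow]]
  refine Finset.sum_equiv (powCoprime hm.symm) (fun x => ?_) (fun x _ => rfl)
  rw [powCoprime_apply, hR, Finset.mem_filter, Finset.mem_filter, Nat.Coprime.orderOf_pow
    (hm.symm.coprime_dvd_left (orderOf_dvd_natCard x))]
  simp

variable [Fintype (IrrCharacter G)]

theorem sum_regInner_mul (p : ℕ) (χ : IrrCharacter G) (g : G) :
    ∑ ψ : IrrCharacter G, regInner p χ ψ * (ψ : G → ℂ) g = regFun p (χ : G → ℂ) g := by
  conv_rhs => rw [Char.classFun_expand (isClassFunction_regFun p (Char.isClassFunction_irr χ))]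
  simp [regInner]

/-- The matrix `[χ°, ψ]` is idempotent. -/
theorem sum_regInner_mul_regInner (p : ℕ) (χ θ : IrrCharacter G) :
    ∑ ψ : IrrCharacter G, regInner p χ ψ * regInner p ψ θ = regInner p χ θ := by
  have h := Char.classInner_expand (f := regFun p (χ : G → ℂ))
    (isClassFunction_regFun p (Char.isClassFunction_irr θ))
  rw [show classInner (regFun p (χ : G → ℂ)) (regFun p (θ : G → ℂ)) = regInner p χ θ by
    simp only [regInner, classInner, regFun]
    congr 1
    refine Finset.sum_congr rfl fun x _ => ?_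
    by_cases hx : p ∣ orderOf x <;> simp [hx]] at h
  rw [h]
  refine Finset.sum_congr rfl fun ψ _ => ?_
  show _ * _ = _ * conj (regInner p θ ψ)
  rw [conj_regInner]
  rfl

variable {p : ℕ} {M : Ideal AlgInt} [M.IsMaximal]

/-- `[χ°, ψ] = 0` for `χ`, `ψ` in different blocks. -/
theorem regInner_eq_zero_of_not_mem (hM : IsPModular p M) {S : Set (IrrCharacter G)}
    [DecidablePred (· ∈ S)] (hS : IsBlockUnion M S) {χ ψ : IrrCharacter G} (hχ : χ ∈ S)
    (hψ : ψ ∉ S) : regInner p χ ψ = 0 := by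
  classical
  set F : G → ℂ := ∑ θ ∈ Finset.univ.filter (fun θ => ¬ θ ∈ S), regInner p χ θ • (θ : G → ℂ) with hF
  have hF0 : ∀ g, ¬ p ∣ orderOf g → F g = 0 := by
    intro g hg
    have h1 := sum_block_eq_of_eq_regular hM hS
      (b := fun θ => if θ = χ then 1 else 0) (b' := fun θ => regInner p χ θ) (fun y hy => by
        rw [sum_regInner_mul]; simp [regFun, hy]) hg
    have h2 : ∑ θ ∈ Finset.univ.filter (· ∈ S), regInner p χ θ * (θ : G → ℂ) g = (χ : G → ℂ) g := by
      rw [← h1]; simp [hχ]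
    have h3 := sum_regInner_mul p χ g
    rw [← Finset.sum_filter_add_sum_filter_not Finset.univ (· ∈ S), h2] at h3
    simp only [regFun, hg, if_false, add_eq_left] at h3
    simpa [hF] using h3
  have h0 : classInner (regFun p (χ : G → ℂ)) F = 0 := by
    rw [classInner, Finset.sum_eq_zero, mul_zero]
    intro x _
    by_cases hx : p ∣ orderOf x
    · simp [regFun, hx]
    · simp [hF0 x hx]
  rw [hF, Char.classInner_sum_right] at h0
  simp only [Char.classInner_smul_right] at h0
  have h1 : ∑ θ ∈ Finset.univ.filter (fun θ => ¬ θ ∈ S), Complex.normSq (regInner p χ θ) = 0 := by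
    rw [← Complex.ofReal_eq_zero, Complex.ofReal_sum, ← h0]
    exact Finset.sum_congr rfl fun θ _ => (Complex.normSq_eq_conj_mul_self)
  rw [Finset.sum_eq_zero_iff_of_nonneg fun i _ => Complex.normSq_nonneg _] at h1
  exact Complex.normSq_eq_zero.mp (h1 ψ (by simp [hψ]))

theorem charDegree_dvd (χ : IrrCharacter G) : charDegree (χ : G → ℂ) ∣ Nat.card G :=
  Char.degree_dvd_card χ (charDegree_eq χ).1

theorem degVal_le_card (χ : IrrCharacter G) :
    degVal p χ ≤ (Nat.card G).factorization p :=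
  (Nat.factorization_le_iff_dvd (charDegree_eq χ).2 Nat.card_pos.ne').mpr (charDegree_dvd χ) p

variable [Fintype (ConjClasses G)]

variable (p M) in
/-- The residue of `(|G| / χ 1) [χ°, ψ]` for `χ` in a fixed block: it depends on `χ` only through
the reduced central character. -/
noncomputable def regN (χ ψ : IrrCharacter G) : ResField M :=
  ∑ C ∈ Finset.univ.filter (fun C : ConjClasses G => ¬ p ∣ orderOf (rep C)),
    centralRes M χ (rep C) * res M (irrLoc M ψ (rep C)⁻¹)

/-- `(|G| / χ 1) [χ°, ψ]` in the local ring. -/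
theorem exists_regN_lift (χ ψ : IrrCharacter G) :
    ∃ R : locRing M, (R : ℂ) * (χ : G → ℂ) 1 = (Nat.card G : ℂ) * regInner p χ ψ ∧
      res M R = regN p M χ ψ := by
  classical
  refine ⟨∑ C ∈ Finset.univ.filter (fun C : ConjClasses G => ¬ p ∣ orderOf (rep C)),
    ⟨_, centralChar_mem χ (rep C)⟩ * irrLoc M ψ (rep C)⁻¹, ?_, by
      rw [map_sum]; simp only [map_mul, regN, centralRes]⟩
  rw [card_mul_regInner, AddSubmonoidClass.coe_finsetSum, Finset.sum_mul,
    ← Finset.sum_fiberwise_of_maps_to (s := Finset.univ.filter (fun x : G => ¬ p ∣ orderOf x))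
      (g := ConjClasses.mk) (t := Finset.univ.filter
        (fun C : ConjClasses G => ¬ p ∣ orderOf (rep C))) (fun x hx => by
        simp only [Finset.mem_filter, Finset.mem_univ, true_and] at hx ⊢
        obtain ⟨c, hc⟩ := isConj_iff.mp (isConj_rep x)
        rwa [← hc, orderOf_conj_eq] at hx)]
  refine Finset.sum_congr rfl fun C hC => ?_
  have hC' : ¬ p ∣ orderOf (rep C) := (Finset.mem_filter.mp hC).2
  have hfib : ((Finset.univ.filter (fun x : G => ¬ p ∣ orderOf x)).filter
      (fun x => ConjClasses.mk x = C)) = Finset.univ.filter (fun x => IsConj (rep C) x) := by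
    ext x
    simp only [Finset.mem_filter, Finset.mem_univ, true_and]
    constructor
    · rintro ⟨-, rfl⟩; exact isConj_rep x
    · intro h
      refine ⟨?_, by rw [← mk_rep C]; exact ConjClasses.mk_eq_mk_iff_isConj.mpr h.symm⟩
      obtain ⟨c, hc⟩ := isConj_iff.mp h
      rwa [← hc, orderOf_conj_eq]
  rw [hfib, Finset.sum_congr rfl (g := fun _ => (χ : G → ℂ) (rep C) * (ψ : G → ℂ) (rep C)⁻¹)
    (fun x hx => by
      have h := (Finset.mem_filter.mp hx).2
      obtain ⟨c, hc⟩ := isConj_iff.mp h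
      rw [← hc, Char.isClassFunction_irr χ, show (c * rep C * c⁻¹)⁻¹ = c * (rep C)⁻¹ * c⁻¹ by group,
        Char.isClassFunction_irr ψ]), Finset.sum_const, nsmul_eq_mul,
    ← Fintype.card_subtype, ← Nat.card_eq_fintype_card, Char.card_isConj]
  have h1 : (χ : G → ℂ) 1 ≠ 0 := Char.irr_one_ne_zero χ
  simp only [Subring.coe_mul, coe_irrLoc, centralChar]
  field_simp

/-- `[χ°, ψ]` is local at primes other than `p`. -/
theorem regInner_mem_locRing {q : ℕ} {N : Ideal AlgInt} [N.IsMaximal] (hN : IsPModular q N)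
    (hp : p.Prime) (hqp : q ≠ p) (χ ψ : IrrCharacter G) : regInner p χ ψ ∈ locRing N := by
  classical
  have h : IsLocComb N (regFun p (χ : G → ℂ)) := by
    have hind := isLocComb_sectionIndicator hN (T := {x : G | ¬ p ∣ orderOf x})
      (fun x c => by simp only [Set.mem_setOf_eq, orderOf_conj_eq]) (fun x y hc ⟨k, hk⟩ hy => by
        have hcop : Nat.Coprime (orderOf x) (orderOf y) := by
          rw [hk]; exact (hN.1.coprime_iff_not_dvd.mpr hy).pow_left _
        simp only [Set.mem_setOf_eq, hc.orderOf_mul_eq_mul_orderOf_of_coprime hcop, hk]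
        rw [hp.dvd_mul]
        exact not_congr ⟨fun h => h.resolve_left fun h' => hqp ((Nat.prime_dvd_prime_iff_eq hp hN.1).mp
          (hp.dvd_of_dvd_pow h')).symm, Or.inr⟩)
    have := hind.mul (isLocComb_irr (M := N) χ)
    have e : regFun p (χ : G → ℂ) =
        (fun g => if g ∈ {x : G | ¬ p ∣ orderOf x} then (1 : ℂ) else 0) * (χ : G → ℂ) := by
      funext g
      by_cases hg : p ∣ orderOf g <;> simp [regFun, hg]
    rwa [e]
  exact h.inner_mem ψ

/-- `p ^ (n - v (χ 1)) * [χ°, ψ]` is an integer, and modulo `p` it is a unit multiple of `regN`. -/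
theorem exists_regInner_int (hM : IsPModular p M) (χ : IrrCharacter G) :
    ∃ u : ResField M, u ≠ 0 ∧ ∀ ψ : IrrCharacter G, ∃ z : ℤ,
      (p : ℂ) ^ ((Nat.card G).factorization p - degVal p χ) * regInner p χ ψ = z ∧
      (z : ResField M) = u * regN p M χ ψ := by
  have hG0 : Nat.card G ≠ 0 := Nat.card_pos.ne'
  set n := (Nat.card G).factorization p with hn
  obtain ⟨hd, hd0⟩ := charDegree_eq χ
  set d := charDegree (χ : G → ℂ) with hdd
  have hm : ¬ p ∣ ordCompl[p] (Nat.card G) := Nat.not_dvd_ordCompl hM.1 hG0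
  have hd' : ¬ p ∣ ordCompl[p] d := Nat.not_dvd_ordCompl hM.1 hd0
  have eG : (Nat.card G : ℂ) = (p : ℂ) ^ n * (ordCompl[p] (Nat.card G) : ℕ) := by
    exact_mod_cast (Nat.ordProj_mul_ordCompl_eq_self (Nat.card G) p).symm
  have ed : (d : ℂ) = (p : ℂ) ^ degVal p χ * (ordCompl[p] d : ℕ) := by
    rw [degVal, ← hdd]
    exact_mod_cast (Nat.ordProj_mul_ordCompl_eq_self d p).symm
  generalize ordCompl[p] (Nat.card G) = G' at hm eG
  generalize ordCompl[p] d = d' at hd' ed
  have hle : degVal p χ ≤ n := degVal_le_card χ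
  have hp0 : (p : ℂ) ≠ 0 := Nat.cast_ne_zero.mpr hM.1.ne_zero
  have hG' : (G' : ℂ) ≠ 0 := Nat.cast_ne_zero.mpr fun h => hm (h ▸ dvd_zero p)
  refine ⟨res M ((d' : locRing M) * invNat hM hm), ?_, fun ψ => ?_⟩
  · have := charP_resField hM
    rw [map_mul, res_natCast]
    exact mul_ne_zero (fun h => hd' ((CharP.cast_eq_zero_iff _ p _).mp h)) (res_invNat_ne_zero hM hm)
  obtain ⟨z₀, hz₀⟩ := exists_card_mul_regInner_int p χ ψ
  obtain ⟨R, hR, hRres⟩ := exists_regN_lift (p := p) (M := M) χ ψ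
  set m := regInner p χ ψ with hmdef
  have hval : (p : ℂ) ^ (n - degVal p χ) * m =
      (((d' : locRing M) * invNat hM hm * R : locRing M) : ℂ) := by
    rw [Subring.coe_mul, Subring.coe_mul, SubringClass.coe_natCast]
    show _ = (d' : ℂ) * (G' : ℂ)⁻¹ * (R : ℂ)
    rw [hd, ed, eG, ← Nat.sub_add_cancel hle, pow_add] at hR
    field_simp
    apply mul_left_cancel₀ (pow_ne_zero (degVal p χ) hp0)
    linear_combination -hR
  have hint : IsIntegral ℤ ((p : ℂ) ^ (n - degVal p χ) * m) := by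
    refine isIntegral_of_forall_locRing fun N _ => ?_
    obtain ⟨q, hN⟩ := exists_isPModular_of_isMaximal N
    rcases eq_or_ne q p with rfl | hqp
    · obtain ⟨R', hR', -⟩ := exists_regN_lift (p := q) (M := N) χ ψ
      have : (q : ℂ) ^ (n - degVal q χ) * m =
          (((d' : locRing N) * invNat hN hm * R' : locRing N) : ℂ) := by
        rw [Subring.coe_mul, Subring.coe_mul, SubringClass.coe_natCast]
        show _ = (d' : ℂ) * (G' : ℂ)⁻¹ * (R' : ℂ)
        rw [hd, ed, eG, ← Nat.sub_add_cancel hle, pow_add] at hR'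
        field_simp
        apply mul_left_cancel₀ (pow_ne_zero (degVal q χ) hp0)
        linear_combination -hR'
      rw [this]
      exact SetLike.coe_mem _
    · exact Subring.mul_mem _ (Subring.pow_mem _ (natCast_mem _ _) _)
        (regInner_mem_locRing hN hM.1 hqp χ ψ)
  have hrat : ∃ q : ℚ, (p : ℂ) ^ (n - degVal p χ) * m = algebraMap ℚ ℂ q :=
    ⟨(p : ℚ) ^ (n - degVal p χ) * ((z₀ : ℚ) / (Nat.card G : ℚ)), by
      rw [← mul_div_cancel_left₀ m (Nat.cast_ne_zero.mpr hG0 : (Nat.card G : ℂ) ≠ 0), hz₀]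
      simp⟩
  obtain ⟨q, hq⟩ := hrat
  have hq' : IsIntegral ℤ q :=
    (isIntegral_algebraMap_iff (algebraMap ℚ ℂ).injective).mp (hq ▸ hint)
  obtain ⟨z, hz⟩ := IsIntegrallyClosed.isIntegral_iff.mp hq'
  have hzC : (p : ℂ) ^ (n - degVal p χ) * m = (z : ℂ) := by rw [hq, ← hz]; simp
  refine ⟨z, hzC, ?_⟩
  rw [← map_intCast (res M), ← hRres, ← map_mul]
  congr 1
  exact Subtype.ext (by rw [SubringClass.coe_intCast, ← hzC, hval])

theorem regN_congr {B : Set (IrrCharacter G)} (hB : IsPBlock M B) {χ χ' : IrrCharacter G}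
    (hχ : χ ∈ B) (hχ' : χ' ∈ B) (ψ : IrrCharacter G) : regN p M χ ψ = regN p M χ' ψ :=
  Finset.sum_congr rfl fun C _ => by rw [centralRes_eq_of_mem hB hχ hχ']

/-- The idempotent coefficients are local combinations of the members of the block. -/
theorem exists_blockCoeff_expand (hM : IsPModular p M) {S : Set (IrrCharacter G)}
    [DecidablePred (· ∈ S)] (hS : IsBlockUnion M S) :
    ∃ b : IrrCharacter G → locRing M, ∀ g, ¬ p ∣ orderOf g →
      blockCoeff S g = ∑ χ ∈ Finset.univ.filter (· ∈ S), (b χ : ℂ) * (χ : G → ℂ) g⁻¹ := by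
  classical
  obtain ⟨b, hb⟩ := exists_regular_expand hM (f := fun y => blockCoeff S y⁻¹)
    (fun y _ => blockCoeff_mem hM hS _) (fun y z _ hyz => by
      obtain ⟨c, rfl⟩ := isConj_iff.mp hyz
      rw [show (c * y * c⁻¹)⁻¹ = c * y⁻¹ * c⁻¹ by group, blockCoeff_conj])
  let b' : IrrCharacter G → ℂ := fun χ =>
    if χ ∈ S then (Nat.card G : ℂ)⁻¹ * (χ : G → ℂ) 1 else 0
  have hb' : ∀ y, blockCoeff S y⁻¹ = ∑ χ : IrrCharacter G, b' χ * (χ : G → ℂ) y := by
    intro y
    rw [blockCoeff, finsum_mem_eq_toFinset_sum, Finset.mul_sum]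
    simp only [b', ite_mul, zero_mul]
    rw [← Finset.sum_filter]
    refine Finset.sum_congr ?_ fun χ _ => by rw [← Char.irr_inv, inv_inv, mul_assoc]
    ext χ; simp
  refine ⟨b, fun g hg => ?_⟩
  have hg' : ¬ p ∣ orderOf g⁻¹ := by rwa [orderOf_inv]
  have key := sum_block_eq_of_eq_regular hM hS (b := fun χ => (b χ : ℂ)) (b' := b')
    (fun y hy => (hb y hy).symm.trans (hb' y)) hg'
  rw [key, ← inv_inv g, hb', inv_inv]
  refine (Finset.sum_subset (Finset.filter_subset _ _) fun χ _ hχ => ?_).symm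
  have : χ ∉ S := by simpa using hχ
  simp [b', this]

theorem exists_regN_ne_zero (hM : IsPModular p M) {B : Set (IrrCharacter G)} (hB : IsPBlock M B)
    {χ : IrrCharacter G} (hχ : χ ∈ B) : ∃ ψ ∈ B, regN p M χ ψ ≠ 0 := by
  classical
  have hS := IsBlockUnion.of_isPBlock hB
  obtain ⟨b, hb⟩ := exists_blockCoeff_expand hM hS
  by_contra hall
  push Not at hall
  have h1 := coeffRes_one_eq hM hB hχ
  apply one_ne_zero (α := ResField M)
  rw [← h1, ← Finset.sum_filter_add_sum_filter_not Finset.univ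
    (fun C : ConjClasses G => ¬ p ∣ orderOf (rep C)),
    Finset.sum_eq_zero (s := Finset.univ.filter fun C : ConjClasses G => ¬ ¬ p ∣ orderOf (rep C))
      fun C hC => ?_, add_zero]
  · have hval : ∀ C ∈ Finset.univ.filter (fun C : ConjClasses G => ¬ p ∣ orderOf (rep C)),
        coeffRes M B (rep C) * centralRes M χ (rep C) = ∑ ψ ∈ Finset.univ.filter (· ∈ B),
          res M (b ψ) * (centralRes M χ (rep C) * res M (irrLoc M ψ (rep C)⁻¹)) := by
      intro C hC
      have : (blockIdem M B : MonoidAlgebra (locRing M) G).coeff (rep C) =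
          ∑ ψ ∈ Finset.univ.filter (· ∈ B), b ψ * irrLoc M ψ (rep C)⁻¹ := by
        apply Subtype.ext
        rw [coe_coeff_blockIdem hM hS, hb _ (Finset.mem_filter.mp hC).2,
          AddSubmonoidClass.coe_finsetSum]
        rfl
      rw [coeffRes, this, map_sum, Finset.sum_mul]
      exact Finset.sum_congr rfl fun ψ _ => by rw [map_mul]; ring
    rw [Finset.sum_congr rfl hval, Finset.sum_comm]
    refine Finset.sum_eq_zero fun ψ hψ => ?_
    rw [← Finset.mul_sum]
    exact mul_eq_zero_of_right _ (hall ψ (Finset.mem_filter.mp hψ).2)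
  · have : coeffRes M B (rep C) = 0 := by
      by_contra h
      exact (Finset.mem_filter.mp hC).2 (regular_of_coeffRes_ne_zero hM hS h)
    rw [this, zero_mul]

/-- Over `ℤ`, the divisibility of the scaled inner products. -/
theorem regInner_valuation (hM : IsPModular p M) (χ ψ : IrrCharacter G) :
    ∃ I : ℤ, (p : ℂ) ^ (Nat.card G).factorization p * regInner p χ ψ = I ∧
      (p : ℤ) ^ degVal p χ ∣ I ∧ ((p : ℤ) ^ (degVal p χ + 1) ∣ I ↔ regN p M χ ψ = 0) := by
  obtain ⟨u, hu, h⟩ := exists_regInner_int hM χ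
  obtain ⟨z, hz, hzres⟩ := h ψ
  refine ⟨(p : ℤ) ^ degVal p χ * z, ?_, dvd_mul_right _ _, ?_⟩
  · push_cast
    rw [← hz, ← mul_assoc, ← pow_add, Nat.add_sub_cancel' (degVal_le_card χ)]
  · have hchar := charP_resField hM
    rw [pow_succ, mul_dvd_mul_iff_left (pow_ne_zero _ (Int.natCast_ne_zero.mpr hM.1.ne_zero)),
      ← CharP.intCast_eq_zero_iff (ResField M) p, hzres, mul_eq_zero]
    exact or_iff_right hu

theorem regInner_comm (hM : IsPModular p M) (χ ψ : IrrCharacter G) :
    regInner p χ ψ = regInner p ψ χ := by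
  obtain ⟨z, hz⟩ := exists_card_mul_regInner_int p χ ψ
  have hG : (Nat.card G : ℂ) ≠ 0 := Nat.cast_ne_zero.mpr Nat.card_pos.ne'
  have h : conj (regInner p χ ψ) = regInner p χ ψ := by
    have h1 : regInner p χ ψ = (z : ℂ) / (Nat.card G : ℂ) := by rw [← hz]; field_simp
    rw [h1, map_div₀, map_intCast, map_natCast]
  exact h.symm.trans (conj_regInner p χ ψ)

/-- `regN χ ψ ≠ 0` exactly when `ψ` has least degree exponent in the block. -/
theorem regN_ne_zero_iff (hM : IsPModular p M) {B : Set (IrrCharacter G)} (hB : IsPBlock M B)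
    {χ ψ : IrrCharacter G} (hχ : χ ∈ B) (hψ : ψ ∈ B) :
    regN p M χ ψ ≠ 0 ↔ ∀ θ ∈ B, degVal p ψ ≤ degVal p θ := by
  -- if `regN θ η ≠ 0` then `η` has least degree exponent
  have key : ∀ θ ∈ B, ∀ η ∈ B, regN p M θ η ≠ 0 → ∀ θ' ∈ B, degVal p η ≤ degVal p θ' := by
    intro θ hθ η hη hne θ' hθ'
    rw [regN_congr hB hθ hθ'] at hne
    obtain ⟨I, hI, -, hI2⟩ := regInner_valuation hM θ' η
    obtain ⟨J, hJ, hJ1, -⟩ := regInner_valuation hM η θ'
    have hIJ : I = J := by
      have : (I : ℂ) = (J : ℂ) := by rw [← hI, ← hJ, regInner_comm hM]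
      exact_mod_cast this
    subst hIJ
    by_contra hlt
    exact hne (hI2.mp ((pow_dvd_pow _ (not_le.mp hlt)).trans hJ1))
  refine ⟨key χ hχ ψ hψ, fun hmin => ?_⟩
  obtain ⟨ψ₀, hψ₀, hne⟩ := exists_regN_ne_zero hM hB hψ
  have hmin₀ := key ψ hψ ψ₀ hψ₀ hne
  have heq : degVal p ψ₀ = degVal p ψ := le_antisymm (hmin₀ ψ hψ) (hmin ψ₀ hψ₀)
  intro h0
  rw [regN_congr hB hχ hψ₀] at h0
  obtain ⟨I, hI, -, hI2⟩ := regInner_valuation hM ψ₀ ψ
  obtain ⟨J, hJ, -, hJ2⟩ := regInner_valuation hM ψ ψ₀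
  have hIJ : I = J := by
    have : (I : ℂ) = (J : ℂ) := by rw [← hI, ← hJ, regInner_comm hM]
    exact_mod_cast this
  subst hIJ
  exact hne (hJ2.mp (heq ▸ hI2.mpr h0))

end CfsgLib.Block
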