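import Cfsg.Agent.Lib.Block.MinimalDegree
import Cfsg.Agent.Lib.Block.CyclicDefect.RankOne

/-!
# The dimension of the centre of a block over the residue field

`zOf v` : the class element with coefficients `v`; `classMat` : multiplication by the idempotent of a
block union on the class sums; `finrank_range_classMat` : its rank over the residue field is the number
of characters of the union.
-/

open Finset MonoidAlgebra
open scoped ComplexConjugate

set_option autoImplicit false
set_option linter.unusedSectionVars false
set_option linter.style.haveILetI false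

namespace CfsgLib.Block.CenterDim

open Cfsg CfsgLib.Block

universe u

variable {p : ℕ} {M : Ideal AlgInt} [M.IsMaximal] {G : Type u} [Group G] [Fintype G] [DecidableEq G]
  [Fintype (IrrCharacter G)] [Fintype (ConjClasses G)] [DecidableEq (ConjClasses G)]

/-- The class element with the given coefficients. -/
noncomputable def zOf {R : Type*} [CommRing R] (v : ConjClasses G → R) : MonoidAlgebra R G :=
  gaOfFun fun g => v (ConjClasses.mk g)

theorem isClassElt_zOf {R : Type*} [CommRing R] (v : ConjClasses G → R) : IsClassElt (zOf v) := by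
  intro g h
  simp only [zOf, coeff_gaOfFun]
  rw [ConjClasses.mk_eq_mk_iff_isConj.mpr
    (isConj_iff.mpr ⟨h⁻¹, by group⟩ : IsConj (h * g * h⁻¹) g)]

theorem zOf_eq_sum {R : Type*} [CommRing R] (v : ConjClasses G → R) :
    zOf v = ∑ C : ConjClasses G, v C • classSum R (rep C) := by
  refine (classElt_eq_sum (isClassElt_zOf v)).trans (Finset.sum_congr rfl fun C _ => ?_)
  rw [zOf, coeff_gaOfFun, mk_rep]

variable (M) in
/-- Multiplication by the idempotent of a block union, on the class sums. -/
noncomputable def classMat (S : Set (IrrCharacter G)) :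
    Matrix (ConjClasses G) (ConjClasses G) (locRing M) :=
  Matrix.of fun C' C => (classSum (locRing M) (rep C) *
    (blockIdem M S : MonoidAlgebra (locRing M) G)).coeff (rep C')

theorem coeff_zOf_mul {R : Type*} [CommRing R] (v : ConjClasses G → R) (e : MonoidAlgebra R G)
    (g : G) : (zOf v * e).coeff g = ∑ C : ConjClasses G, (classSum R (rep C) * e).coeff g * v C := by
  rw [zOf_eq_sum, Finset.sum_mul, coeff_sum_apply]
  refine Finset.sum_congr rfl fun C _ => ?_
  rw [smul_mul_assoc, MonoidAlgebra.coeff_smul, Finsupp.smul_apply, smul_eq_mul, mul_comm]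

theorem classMat_mul_self (hM : IsPModular p M) {S : Set (IrrCharacter G)} (hS : IsBlockUnion M S) :
    classMat M S * classMat M S = classMat M S := by
  ext1 C' C
  set e := (blockIdem M S : MonoidAlgebra (locRing M) G) with he
  have hee : e * e = e := congrArg Subtype.val (blockIdem_mul_self hM hS)
  set x := classSum (locRing M) (rep C) * e with hx
  have hxc : IsClassElt x :=
    (isClassElt_classSum _).mul (mem_center_iff_isClassElt.mp (blockIdem M S).2)
  have hxz : x = zOf fun D : ConjClasses G => x.coeff (rep D) := by
    refine ga_ext fun g => ?_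
    rw [zOf, coeff_gaOfFun]
    exact (hxc.apply_eq_of_isConj (isConj_rep g)).symm
  have h := coeff_zOf_mul (fun D : ConjClasses G => x.coeff (rep D)) e (rep C')
  rw [← hxz, hx, mul_assoc, hee] at h
  rw [Matrix.mul_apply]
  exact h.symm

theorem trace_classMat (hM : IsPModular p M) {S : Set (IrrCharacter G)} (hS : IsBlockUnion M S) :
    ((classMat M S).map (locRing M).subtype).trace = (Nat.card S : ℂ) := by
  classical
  have hG : (Nat.card G : ℂ) ≠ 0 := Nat.cast_ne_zero.mpr Nat.card_pos.ne'
  have hdiag : ∀ C : ConjClasses G, (classMat M S C C : ℂ) = (Nat.card G : ℂ)⁻¹ *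
      ∑ χ ∈ Finset.univ.filter (· ∈ S), (∑ g : G, if IsConj (rep C) g then
        (χ : G → ℂ) g * conj ((χ : G → ℂ) g) else 0) := by
    intro C
    have hz : IsClassElt (classSum ℂ (rep C) * gaOfFun (blockCoeff S)) := by
      refine (isClassElt_classSum _).mul ?_
      rw [← toC_blockIdem hM hS]
      exact isClassElt_toC _
    rw [classMat, Matrix.of_apply, ← coeff_toC, map_mul, toC_blockIdem hM hS,
      show toC M (classSum (locRing M) (rep C)) = classSum ℂ (rep C) from map_classSum _ _,
      coeff_classElt hz, Finset.sum_filter]
    congr 1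
    refine Finset.sum_congr rfl fun χ _ => ?_
    rw [omega_mul χ.2 (isClassElt_classSum _) (by rw [← toC_blockIdem hM hS]; exact isClassElt_toC _),
      omega_gaOfFun_blockCoeff]
    by_cases h : χ ∈ S
    · rw [if_pos h, if_pos h, mul_one, omega, ← mul_assoc, div_mul_cancel₀ _ (Char.irr_one_ne_zero χ),
        Finset.sum_mul]
      refine Finset.sum_congr rfl fun g _ => ?_
      simp only [classSum, coeff_gaOfFun]
      by_cases hg : IsConj (rep C) g
      · rw [if_pos hg, if_pos hg, one_mul]
        obtain ⟨c, hc⟩ := isConj_iff.mp hg
        rw [← hc, Char.isClassFunction_irr χ (rep C) c]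
      · rw [if_neg hg, if_neg hg, zero_mul, zero_mul]
    · rw [if_neg h, if_neg h, mul_zero, zero_mul]
  simp only [Matrix.trace, Matrix.diag_apply, Matrix.map_apply, Subring.subtype_apply, hdiag,
    ← Finset.mul_sum]
  rw [Finset.sum_comm, Finset.mul_sum, Finset.sum_congr rfl (g := fun _ => (1 : ℂ)) fun χ _ => ?_,
    Finset.sum_const, nsmul_one, Nat.card_eq_fintype_card (α := S), Fintype.card_subtype]
  rw [Finset.sum_comm, Finset.sum_congr rfl (g := fun g => (χ : G → ℂ) g * conj ((χ : G → ℂ) g))
    fun g _ => ?_]
  · exact Char.classInner_irr_self χ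
  · rw [Finset.sum_eq_single (ConjClasses.mk g), if_pos (isConj_rep g)]
    · intro C _ hC
      rw [if_neg fun h => hC (by rw [← mk_rep C]; exact ConjClasses.mk_eq_mk_iff_isConj.mpr h)]
    · simp

/-- The dimension of the block component of the centre. -/
theorem finrank_range_classMat (hM : IsPModular p M) {S : Set (IrrCharacter G)}
    (hS : IsBlockUnion M S) :
    Module.finrank (ResField M) (LinearMap.range ((classMat M S).map (res M)).mulVecLin) =
      Nat.card S := by
  classical
  have hι : Function.Injective (locRing M).subtype := Subtype.val_injective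
  set A := classMat M S with hA
  have hAA : A * A = A := classMat_mul_self hM hS
  have h1A : (1 - A) * (1 - A) = 1 - A := by
    rw [sub_mul, mul_sub, mul_sub, one_mul, one_mul, mul_one, hAA]; abel
  have hrA := natCast_rank_of_idem (A.map (locRing M).subtype) (by rw [← Matrix.map_mul, hAA])
  have hrB := natCast_rank_of_idem ((1 - A).map (locRing M).subtype) (by rw [← Matrix.map_mul, h1A])
  have hle1 := rank_map_le_rank_map (locRing M).subtype hι (res M) res_surjective A
  have hle2 := rank_map_le_rank_map (locRing M).subtype hι (res M) res_surjective (1 - A)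
  have hsum : (A.map (locRing M).subtype).rank + ((1 - A).map (locRing M).subtype).rank =
      Fintype.card (ConjClasses G) := by
    have h : ((A.map (locRing M).subtype).rank : ℂ) + ((1 - A).map (locRing M).subtype).rank =
        (Fintype.card (ConjClasses G) : ℂ) := by
      rw [hrA, hrB, ← Matrix.trace_add, ← Matrix.map_add _ (map_add _), add_sub_cancel,
        Matrix.map_one _ (map_zero _) (map_one _), Matrix.trace_one]
    exact_mod_cast h
  have hge : Fintype.card (ConjClasses G) ≤ (A.map (res M)).rank + ((1 - A).map (res M)).rank := by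
    have h1 : A.map (res M) + (1 - A).map (res M) = 1 := by
      rw [← Matrix.map_add _ (map_add _), add_sub_cancel, Matrix.map_one _ (map_zero _) (map_one _)]
    have h2 : (⊤ : Submodule (ResField M) (ConjClasses G → ResField M)) ≤
        LinearMap.range (A.map (res M)).mulVecLin ⊔
          LinearMap.range ((1 - A).map (res M)).mulVecLin := fun v _ =>
      Submodule.mem_sup.mpr ⟨_, ⟨v, rfl⟩, _, ⟨v, rfl⟩, by
        rw [← LinearMap.add_apply, ← Matrix.mulVecLin_add, h1, Matrix.mulVecLin_one]; rfl⟩
    have h3 := (Submodule.finrank_mono h2).trans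
      (Submodule.finrank_add_le_finrank_add_finrank _ _)
    rwa [finrank_top, Module.finrank_pi] at h3
  have hk : (A.map (locRing M).subtype).rank = Nat.card S := by
    have := hrA.trans (trace_classMat hM hS)
    exact_mod_cast this
  show (A.map (res M)).rank = Nat.card S
  omega

theorem mul_eK_of_mem_range (hM : IsPModular p M) {B : Set (IrrCharacter G)} (hB : IsPBlock M B)
    {v : ConjClasses G → ResField M}
    (hv : v ∈ LinearMap.range ((classMat M B).map (res M)).mulVecLin) :
    zOf v * CyclicDefect.eK M B = zOf v := by
  obtain ⟨w, rfl⟩ := hv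
  suffices h : zOf (((classMat M B).map (res M)).mulVecLin w) = zOf w * CyclicDefect.eK M B by
    rw [h, mul_assoc, CyclicDefect.eK_idem hM hB]
  refine ga_ext fun g => ?_
  have hc : IsClassElt (zOf w * CyclicDefect.eK M B) :=
    (isClassElt_zOf w).mul ((mem_center_iff_isClassElt.mp (blockIdem M B).2).map (res M))
  rw [← hc.apply_eq_of_isConj (isConj_rep g), coeff_zOf_mul, zOf, coeff_gaOfFun,
    Matrix.mulVecLin_apply, Matrix.mulVec, dotProduct]
  refine Finset.sum_congr rfl fun C _ => ?_
  rw [Matrix.map_apply, classMat, Matrix.of_apply, CyclicDefect.eK, toK, ← map_classSum (res M),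
    ← map_mul, coeff_mapRingHom]

end CfsgLib.Block.CenterDim
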