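import Cfsg.Agent.Lib.Block.Deficiency
import Cfsg.Agent.Lib.Block.BrauerFeit

/-!
# Characters vanishing on the elements of order `p`

`omegaBar_ordP_eq_zero`: the sum of all `x` with `x ^ p = 1` is killed by every block of positive
defect; `blockDefect_eq_zero_of_vanishes`.
-/

open Finset MonoidAlgebra
open scoped ComplexConjugate

set_option linter.unusedSectionVars false

namespace CfsgLib.Block

open Cfsg

universe u

variable {p : ℕ} {M : Ideal AlgInt} [M.IsMaximal] {G : Type u} [Group G] [Fintype G] [DecidableEq G]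

theorem ordP_conj_iff (p : ℕ) (x c : G) :
    c * x * c⁻¹ ∈ {x : G | x ^ p = 1} ↔ x ∈ {x : G | x ^ p = 1} := by
  simp only [Set.mem_setOf_eq, conj_pow, conj_eq_one_iff]

variable (M) in
/-- The sum of the elements `x` with `x ^ p = 1`. -/
noncomputable def ordPBar (p : ℕ) (G : Type u) [Group G] [Fintype G] [DecidableEq G] : ZK M G :=
  toKC M (setSum M {x : G | x ^ p = 1} (ordP_conj_iff p))

theorem coeff_ordPBar (g : G) :
    (ordPBar M p G : MonoidAlgebra (ResField M) G).coeff g = if g ^ p = 1 then 1 else 0 := by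
  classical
  simp only [ordPBar, coe_toKC, coeff_toK, setSum, coeff_gaOfFun, Set.mem_setOf_eq]
  by_cases h : g ^ p = 1 <;> simp [h]

/-- With a central element of order `p` the sum squares to zero. -/
theorem ordPBar_sq_eq_zero (hM : IsPModular p M) {z : G} (hz : orderOf z = p)
    (hcen : ∀ g, Commute g z) : ordPBar M p G * ordPBar M p G = 0 := by
  classical
  have hpf : Fact p.Prime := ⟨hM.1⟩
  have := charP_resField hM
  refine Subtype.ext (ga_ext fun g => ?_)
  rw [MulMemClass.coe_mul, coeff_mul_sum, ZeroMemClass.coe_zero]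
  simp only [coeff_ordPBar, MonoidAlgebra.coeff_zero, Finsupp.zero_apply]
  have hP : IsPGroup p (Subgroup.zpowers z) :=
    IsPGroup.of_card (n := 1) (by rw [Nat.card_zpowers, hz, pow_one])
  have hpow : ∀ (u : Subgroup.zpowers z) (x : G), ((u : G) * x) ^ p = x ^ p := by
    intro u x
    obtain ⟨i, hi⟩ := Subgroup.mem_zpowers_iff.mp u.2
    have hu : (u : G) ^ p = 1 := by
      rw [← hi, ← zpow_natCast, ← zpow_mul, mul_comm, zpow_mul, zpow_natCast, ← hz,
        pow_orderOf_eq_one, one_zpow]
    rw [((hi ▸ (hcen x).zpow_right i : Commute x (u : G)).symm).mul_pow, hu, one_mul]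
  rw [sum_eq_sum_fixedPoints (X := G) hP _ fun u x => ?_]
  · refine Finset.sum_eq_zero fun x hx => absurd ((Finset.mem_filter.mp hx).2
      ⟨z, Subgroup.mem_zpowers z⟩) fun h => ?_
    have h1 : z = 1 := mul_eq_right.mp (show z * x = x from h)
    rw [h1, orderOf_one] at hz
    exact hM.1.one_lt.ne hz
  · have hcomm : Commute (x⁻¹ * g) ((u : G)⁻¹) := by
      obtain ⟨i, hi⟩ := Subgroup.mem_zpowers_iff.mp u.2
      exact (hi ▸ (hcen _).zpow_right i : Commute (x⁻¹ * g) (u : G)).inv_right
    show (if ((u : G) * x) ^ p = 1 then (1 : ResField M) else 0) *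
      (if (((u : G) * x)⁻¹ * g) ^ p = 1 then 1 else 0) = _
    have h2 : ((u : G) * x)⁻¹ * g = (u⁻¹ : Subgroup.zpowers z) * (x⁻¹ * g) := by
      obtain ⟨i, hi⟩ := Subgroup.mem_zpowers_iff.mp u.2
      have hux : Commute (u : G)⁻¹ x⁻¹ :=
        ((hi ▸ (hcen x).zpow_right i : Commute x (u : G)).symm).inv_inv
      rw [mul_inv_rev, ← hux.eq, Subgroup.coe_inv, mul_assoc]
    rw [h2, hpow, hpow]

variable [Fintype (IrrCharacter G)]

/-- A block of positive defect kills the sum of the `x` with `x ^ p = 1`. -/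
theorem omegaBar_ordP_eq_zero (hM : IsPModular p M) {B : Set (IrrCharacter G)} (hB : IsPBlock M B)
    (hd : 0 < blockDefect p B) {χ : IrrCharacter G} (hχ : χ ∈ B) :
    omegaBar M χ (ordPBar M p G) = 0 := by
  classical
  have hpf : Fact p.Prime := ⟨hM.1⟩
  obtain ⟨D, hD⟩ := exists_defectGroup hM hB
  have hcard := defectGroup_card hM hB hD
  have hDp : IsPGroup p D := IsPGroup.of_card hcard
  have hnt : Nontrivial D := Finite.one_lt_card_iff_nontrivial.mp
    (hcard ▸ one_lt_pow₀ hM.1.one_lt (by omega))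
  have := IsPGroup.center_nontrivial hDp
  have hdvd : p ∣ Nat.card (Subgroup.center D) := by
    obtain ⟨k, hk⟩ := (hDp.to_subgroup (Subgroup.center D)).exists_card_eq
    have := Finite.one_lt_card (α := Subgroup.center D)
    rw [hk] at this ⊢
    exact dvd_pow_self p (by intro h0; rw [h0] at this; simp at this)
  obtain ⟨z, hz⟩ := exists_prime_orderOf_dvd_card' p hdvd
  set y : G := ((z : D) : G) with hy
  have hyo : orderOf y = p := by rw [hy, Subgroup.orderOf_coe, Subgroup.orderOf_coe, hz]
  set C := Subgroup.centralizer ({y} : Set G) with hC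
  have := Fintype.ofFinite (IrrCharacter C)
  obtain ⟨b, hb, -⟩ := exists_major_block hM (C := C)
    (fun t => Subgroup.mem_centralizer_singleton_iff) hB hD (z : D).2 (fun u hu =>
      congrArg Subtype.val (Subgroup.mem_center_iff.mp z.2 ⟨u, hu⟩))
  obtain ⟨hb', -, hω⟩ := isInducedBlock_iff.mp hb
  obtain ⟨ξ, hξ⟩ := isPBlock_nonempty hb'
  rw [← hω ξ hξ χ hχ, show resHK M C (ordPBar M p G) = ordPBar M p C from
    Subtype.ext (ga_ext fun h => by
      rw [coeff_resHK, coeff_ordPBar, coeff_ordPBar]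
      simp only [← Subgroup.coe_pow, OneMemClass.coe_eq_one])]
  have hyC : y ∈ C := Subgroup.mem_centralizer_singleton_iff.mpr rfl
  have h0 := congrArg (omegaBar M ξ) (ordPBar_sq_eq_zero (G := C) hM (z := ⟨y, hyC⟩)
    (by rw [← Subgroup.orderOf_coe]; exact hyo)
    (fun g => Subtype.ext (Subgroup.mem_centralizer_singleton_iff.mp g.2)))
  rw [map_mul, map_zero] at h0
  exact mul_self_eq_zero.mp h0

/-- A character vanishing on the elements of order `p` lies in a block of defect zero. -/
theorem blockDefect_eq_zero_of_vanishes (hM : IsPModular p M) {B : Set (IrrCharacter G)}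
    (hB : IsPBlock M B) {χ : IrrCharacter G} (hχ : χ ∈ B)
    (hvan : ∀ g : G, orderOf g = p → (χ : G → ℂ) g = 0) : blockDefect p B = 0 := by
  classical
  by_contra hd
  have h0 := omegaBar_ordP_eq_zero hM hB (Nat.pos_of_ne_zero hd) hχ
  have h1 : omegaBar M χ (ordPBar M p G) = 1 := by
    rw [ordPBar, omegaBar_toKC, omegaRes, RingHom.comp_apply, ← map_one (res M)]
    refine congrArg (res M) (Subtype.ext ?_)
    rw [coe_omegaLoc, omega_setSum, finsum_mem_eq_toFinset_sum, Finset.sum_eq_single 1]
    · rw [div_self (Char.irr_one_ne_zero χ)]; rfl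
    · intro x hx hne
      rw [Set.mem_toFinset, Set.mem_setOf_eq] at hx
      rcases (Nat.dvd_prime hM.1).mp (orderOf_dvd_of_pow_eq_one hx) with h | h
      · exact absurd (orderOf_eq_one_iff.mp h) hne
      · rw [hvan x h, zero_div]
    · simp
  exact one_ne_zero (h1.symm.trans h0)

end CfsgLib.Block
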