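import Cfsg.Agent.Lib.Block.Rank
import Cfsg.Agent.Lib.Block.CentralDefect
import Cfsg.Agent.Lib.Block.Knorr
import Mathlib.LinearAlgebra.Dimension.Constructions

/-!
# Regular rank against the number of characters
-/

open Finset

set_option linter.unusedSectionVars false

namespace CfsgLib.Block

open Cfsg

universe u

variable {G : Type u} [Group G] [Fintype G] [DecidableEq G] {p : ℕ} {M : Ideal AlgInt}
  [M.IsMaximal]

theorem blockRank_eq_one_of_central (hM : IsPModular p M) {B : Set (IrrCharacter G)}
    (hB : IsPBlock M B) {P : Subgroup G} (hP : IsDefectGroup p M B P) (hPZ : P ≤ Subgroup.center G) :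
    blockRank p B = 1 := by
  classical
  have := Fintype.ofFinite (IrrCharacter G)
  have hd : blockDefect p B = (Nat.card P).factorization p := by
    rw [defectGroup_card hM hB hP, hM.1.factorization_pow, Finsupp.single_eq_same]
  obtain ⟨θ, hθ, hker, -⟩ :=
    exists_kernel_of_central_defect hM hB hPZ (isPGroup_defectGroup hM hB hP) hd
  obtain ⟨-, -, hall, -⟩ := central_defect_rank_one hM hB hPZ (isPGroup_defectGroup hM hB hP) hd hθ hker
  have hne : pRegularPart p (θ : G → ℂ) ≠ 0 := fun h => Char.irr_one_ne_zero θ (by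
    have := congrFun h 1
    rw [pRegularPart_eq_regFun] at this
    simpa [regFun, hM.1.ne_one] using this)
  have hspan : Submodule.span ℂ ((fun χ : IrrCharacter G => pRegularPart p (χ : G → ℂ)) '' B) =
      ℂ ∙ pRegularPart p (θ : G → ℂ) := by
    refine le_antisymm (Submodule.span_le.mpr ?_) (Submodule.span_mono ?_)
    · rintro _ ⟨η, hη, rfl⟩
      refine Submodule.mem_span_singleton.mpr ⟨(Nat.card P : ℂ) * regInner p θ η, funext fun y => ?_⟩
      simp only [pRegularPart_eq_regFun, regFun, Pi.smul_apply, smul_eq_mul]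
      split_ifs with hy
      · rw [mul_zero]
      · exact (hall η hη y hy).symm
    · rintro _ rfl
      exact ⟨θ, hθ, rfl⟩
  rw [blockRank, hspan, finrank_span_singleton hne]

theorem blockRank_le_card {B : Set (IrrCharacter G)} : blockRank p B ≤ Nat.card B := by
  classical
  have := Fintype.ofFinite (IrrCharacter G)
  rw [blockRank, show ((fun χ : IrrCharacter G => pRegularPart p (χ : G → ℂ)) '' B) =
    Set.range (fun χ : B => pRegularPart p ((χ : IrrCharacter G) : G → ℂ)) by ext; simp,
    Nat.card_eq_fintype_card]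
  exact finrank_range_le_card _

/-- When the regular rank is the number of characters the block has defect zero. -/
theorem blockDefect_eq_zero_of_rank_eq_card (hM : IsPModular p M) {B : Set (IrrCharacter G)}
    (hB : IsPBlock M B) (h : blockRank p B = Nat.card B) : blockDefect p B = 0 := by
  classical
  have := Fintype.ofFinite (IrrCharacter G)
  set r : B → G → ℂ := fun χ => pRegularPart p ((χ : IrrCharacter G) : G → ℂ) with hr
  have hli : LinearIndependent ℂ r := by
    rw [linearIndependent_iff_card_eq_finrank_span, Set.finrank, ← Nat.card_eq_fintype_card, ← h,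
      blockRank, show ((fun χ : IrrCharacter G => pRegularPart p (χ : G → ℂ)) '' B) = Set.range r by
        ext; simp [hr]]
  obtain ⟨χ, hχ⟩ := isPBlock_nonempty hB
  refine blockDefect_eq_zero_of_vanishes hM hB hχ fun g hg => ?_
  have hrel : ∑ ψ : B, regInner p χ (ψ : IrrCharacter G) • r ψ = r ⟨χ, hχ⟩ := by
    funext y
    simp only [Finset.sum_apply, Pi.smul_apply, smul_eq_mul, hr, pRegularPart_eq_regFun, regFun]
    split_ifs with hy
    · simp
    · rw [← (show regFun p (χ : G → ℂ) y = (χ : G → ℂ) y by simp [regFun, hy]), ← sum_regInner_mul]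
      rw [← Finset.sum_subset (Finset.filter_subset (· ∈ B) Finset.univ) (fun ψ _ hψ => by
        rw [regInner_eq_zero_of_not_mem hM (.of_isPBlock hB) hχ (by simpa using hψ), zero_mul])]
      symm
      exact Finset.sum_subtype _ (fun x => by simp) fun ψ : IrrCharacter G =>
        regInner p χ ψ * (ψ : G → ℂ) y
  have hcoef : ∀ ψ : B, regInner p χ (ψ : IrrCharacter G) = if ψ = ⟨χ, hχ⟩ then 1 else 0 := by
    intro ψ
    have h1 : ∑ η : B, (regInner p χ (η : IrrCharacter G) - if η = ⟨χ, hχ⟩ then 1 else 0) • r η = 0 := by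
      simp only [sub_smul, Finset.sum_sub_distrib, hrel, ite_smul, one_smul, zero_smul,
        Finset.sum_ite_eq', Finset.mem_univ, if_true, sub_self]
    exact sub_eq_zero.mp (Fintype.linearIndependent_iff.mp hli _ h1 ψ)
  have h2 : (χ : G → ℂ) g = regFun p (χ : G → ℂ) g := by
    rw [← sum_regInner_mul, Finset.sum_eq_single χ]
    · rw [show regInner p χ χ = 1 by simpa using hcoef ⟨χ, hχ⟩, one_mul]
    · intro ψ _ hne
      by_cases hψ : ψ ∈ B
      · rw [show regInner p χ ψ = 0 by simpa [hne] using hcoef ⟨ψ, hψ⟩, zero_mul]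
      · rw [regInner_eq_zero_of_not_mem hM (.of_isPBlock hB) hχ hψ, zero_mul]
    · simp
  rw [h2, regFun, if_pos (by rw [hg])]

theorem rank_card_of_defect_zero (hM : IsPModular p M) {B : Set (IrrCharacter G)}
    (hB : IsPBlock M B) (h : blockDefect p B = 0) : Nat.card B = 1 ∧ blockRank p B = 1 := by
  classical
  have := Fintype.ofFinite (IrrCharacter G)
  obtain ⟨D, hD⟩ := exists_defectGroup hM hB
  have hD1 : D = ⊥ := Subgroup.card_eq_one.mp (by rw [defectGroup_card hM hB hD, h, pow_zero])
  subst hD1
  refine ⟨?_, blockRank_eq_one_of_central hM hB hD bot_le⟩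
  have hd : blockDefect p B = (Nat.card (⊥ : Subgroup G)).factorization p := by
    rw [Subgroup.card_bot, Nat.factorization_one, h]; rfl
  obtain ⟨θ, hθ⟩ := isPBlock_nonempty hB
  have hker : ∀ ψ : IrrCharacter G, ∀ z ∈ (⊥ : Subgroup G), (ψ : G → ℂ) z = (ψ : G → ℂ) 1 :=
    fun ψ z hz => by rw [Subgroup.mem_bot.mp hz]
  obtain ⟨-, huniq, -⟩ := central_defect_rank_one hM hB bot_le (isPGroup_defectGroup hM hB hD) hd hθ
    (hker θ)
  rw [Nat.card_eq_one_iff_unique]
  exact ⟨⟨fun a b => Subtype.ext ((huniq a a.2 (hker a)).trans (huniq b b.2 (hker b)).symm)⟩, ⟨⟨θ, hθ⟩⟩⟩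

end CfsgLib.Block
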