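import Cfsg.Agent.Lib.Block.NormalPQuot
import Cfsg.Agent.Lib.Block.RankOne
import Cfsg.Agent.S4521

/-!
# Blocks of `D C(D)` with defect group `D`

Each member is the product of a character of `D` and the regular values of the canonical character.
-/

open Finset
open scoped ComplexConjugate

set_option linter.unusedSectionVars false

namespace CfsgLib.Block.CentralizedDefect

open Cfsg CfsgLib.Block CfsgLib.Block.Cyclic CfsgLib.Block.NormalPQuot

universe u

variable {p : ℕ} [Fact p.Prime] {M : Ideal AlgInt} [M.IsMaximal] {G : Type u} [Group G] [Fintype G]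
  [DecidableEq G] {D : Subgroup G}

theorem normal_of_sup_centralizer (hG : D ⊔ Subgroup.centralizer (D : Set G) = ⊤) : D.Normal := by
  rw [← Subgroup.normalizer_eq_top_iff, ← top_le_iff, ← hG, sup_le_iff]
  exact ⟨Subgroup.le_normalizer, centralizer_le_normalizer' _⟩

theorem exists_decomp (hG : D ⊔ Subgroup.centralizer (D : Set G) = ⊤) (g : G) :
    ∃ d ∈ D, ∃ c ∈ Subgroup.centralizer (D : Set G), d * c = g :=
  haveI := normal_of_sup_centralizer hG
  Subgroup.mem_sup_of_normal_left.mp (hG.symm ▸ Subgroup.mem_top g)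

theorem regCentral (hD : IsPGroup p D) (hG : D ⊔ Subgroup.centralizer (D : Set G) = ⊤) :
    RegCentral p D := by
  haveI := normal_of_sup_centralizer hG
  haveI : (Subgroup.centralizer (D : Set G)).Normal := Subgroup.normal_centralizer
  intro x hx
  obtain ⟨d, hd, c, hc, rfl⟩ := exists_decomp hG x
  obtain ⟨k, hk⟩ := hD ⟨d, hd⟩
  have hk' : d ^ p ^ k = 1 := congrArg Subtype.val hk
  rw [← QuotientGroup.eq_one_iff, ← orderOf_eq_one_iff]
  refine Nat.eq_one_of_dvd_coprimes ((((Fact.out : p.Prime).coprime_iff_not_dvd.mpr hx)).pow_left k)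
    ?_ (orderOf_map_dvd (QuotientGroup.mk' (Subgroup.centralizer (D : Set G))) (d * c))
  rw [QuotientGroup.mk_mul, (QuotientGroup.eq_one_iff c).mpr hc, mul_one]
  exact orderOf_dvd_of_pow_eq_one (by rw [← QuotientGroup.mk_pow, hk', QuotientGroup.mk_one])

/-- A block with defect group `D` has rank one. -/
theorem blockRank_eq_one (hM : IsPModular p M) (hD : IsPGroup p D)
    (hG : D ⊔ Subgroup.centralizer (D : Set G) = ⊤) {B : Set (IrrCharacter G)} (hB : IsPBlock M B)
    (hBD : IsDefectGroup p M B D) {χ : IrrCharacter G} (hχ : χ ∈ B)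
    (hχD : ∀ y ∈ D, (χ : G → ℂ) y = (χ : G → ℂ) 1) : blockRank p B = 1 := by
  classical
  haveI := normal_of_sup_centralizer hG
  have := Fintype.ofFinite (G ⧸ D)
  have hC := regCentral hD hG
  rw [blockRank_quotSet hM hD hC hB]
  obtain ⟨χ', hχ'⟩ := exists_deflate χ hχD
  have hinf : inflQ χ' = χ := Subtype.ext (funext hχ')
  have hmem : χ' ∈ quotSet D B := show inflQ χ' ∈ B by rw [hinf]; exact hχ
  have hQ : IsPBlock M (quotSet D B) := by
    refine ⟨χ', Set.ext fun θ => ?_⟩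
    show inflQ θ ∈ B ↔ SameBlock M (χ' : G ⧸ D → ℂ) (θ : G ⧸ D → ℂ)
    rw [← NormalPQuot.sameBlock_inflQ_iff hM hD hC]
    exact isPBlock_sameBlock hB (show inflQ χ' ∈ B by rw [hinf]; exact hχ)
  refine (rank_card_of_defect_zero hM hQ ?_).2
  have hd := defectGroup_card hM hB hBD
  have hvD : (Nat.card D).factorization p = blockDefect p B := by
    rw [hd, (Fact.out : p.Prime).factorization_pow, Finsupp.single_eq_same]
  have hcard : (Nat.card G).factorization p =
      (Nat.card (G ⧸ D)).factorization p + (Nat.card D).factorization p := by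
    rw [Subgroup.card_eq_card_quotient_mul_card_subgroup D,
      Nat.factorization_mul Nat.card_pos.ne' Nat.card_pos.ne']
    rfl
  obtain ⟨ψ, hψ, hψm⟩ := exists_minDeg (p := p) (B := quotSet D B) ⟨χ', hmem⟩
  have h1 := minDeg_le (p := p) (B := B) (χ := inflQ ψ) hψ
  have h2 : degVal p (inflQ ψ) = degVal p ψ := rfl
  have h3 : blockDefect p B = (Nat.card G).factorization p - minDeg p B := rfl
  show (Nat.card (G ⧸ D)).factorization p - minDeg p (quotSet D B) = 0
  omega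

/-- The regular values of the members are proportional. -/
theorem regular_value (hM : IsPModular p M) {B : Set (IrrCharacter G)} (hrank : blockRank p B = 1)
    {χ θ : IrrCharacter G} (hχ : χ ∈ B) (hθ : θ ∈ B) {x : G} (hx : ¬ p ∣ orderOf x) :
    (θ : G → ℂ) x * (χ : G → ℂ) 1 = (θ : G → ℂ) 1 * (χ : G → ℂ) x := by
  classical
  have := Fintype.ofFinite (IrrCharacter G)
  set V := Submodule.span ℂ ((fun η : IrrCharacter G => pRegularPart p (η : G → ℂ)) '' B)
  have h1 : ∀ η ∈ B, pRegularPart p (η : G → ℂ) ∈ V := fun η hη => Submodule.subset_span ⟨η, hη, rfl⟩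
  have hval : ∀ (η : IrrCharacter G) (g : G), ¬ p ∣ orderOf g →
      pRegularPart p (η : G → ℂ) g = (η : G → ℂ) g := fun η g hg => by
    rw [pRegularPart_eq_regFun]; simp [regFun, hg]
  have hone : ¬ p ∣ orderOf (1 : G) := by simp [hM.1.ne_one]
  have hne : (⟨_, h1 χ hχ⟩ : V) ≠ 0 := fun h => Char.irr_one_ne_zero χ (by
    rw [← hval χ 1 hone]
    exact congrFun (congrArg Subtype.val h) 1)
  obtain ⟨c, hc⟩ := (finrank_eq_one_iff_of_nonzero' _ hne).mp hrank ⟨_, h1 θ hθ⟩
  have e : ∀ g : G, ¬ p ∣ orderOf g → c * (χ : G → ℂ) g = (θ : G → ℂ) g := fun g hg => by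
    rw [← hval χ g hg, ← hval θ g hg]
    exact congrFun (congrArg Subtype.val hc) g
  rw [← e x hx, ← e 1 hone]
  ring

variable [Fintype D]

/-- The elements whose `p`-part lies in `D`, parametrised. -/
theorem sum_partIn (hD : IsPGroup p D) (hG : D ⊔ Subgroup.centralizer (D : Set G) = ⊤) (F : G → ℂ)
    (hF : ∀ z : G, (∀ y : G, IsPPart p z y → y ∉ D) → F z = 0) :
    ∑ g, F g = ∑ y : D, ∑ x ∈ Finset.univ.filter (fun x : G => ¬ p ∣ orderOf x), F ((y : G) * x) := by
  classical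
  have hC := regCentral hD hG
  have hpart : ∀ (y : D) (x : G), ¬ p ∣ orderOf x → IsPPart p ((y : G) * x) y := fun y x hx => by
    obtain ⟨k, hk⟩ := IsPGroup.iff_orderOf.mp hD y
    exact ⟨x, rfl, Subgroup.mem_centralizer_iff.mp (hC x hx) _ y.2,
      ⟨k, by rw [← hk, Subgroup.orderOf_coe]⟩, hx⟩
  rw [← Finset.sum_product', ← Finset.sum_filter_add_sum_filter_not Finset.univ
    (fun g : G => ∃ y ∈ D, IsPPart p g y),
    Finset.sum_eq_zero (s := Finset.univ.filter fun g : G => ¬ ∃ y ∈ D, IsPPart p g y) fun g hg =>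
      hF g fun y hy hyD => (Finset.mem_filter.mp hg).2 ⟨y, hyD, hy⟩, add_zero]
  symm
  refine Finset.sum_bij (fun q _ => (q.1 : G) * q.2) ?_ ?_ ?_ fun _ _ => rfl
  · intro q hq
    simp only [Finset.mem_product, Finset.mem_filter, Finset.mem_univ, true_and] at hq ⊢
    exact ⟨q.1, q.1.2, hpart q.1 q.2 hq⟩
  · intro a ha b hb hab
    simp only [Finset.mem_product, Finset.mem_filter, Finset.mem_univ, true_and] at ha hb hab
    have h1 : (a.1 : G) = b.1 := isPPart_unique Fact.out (hpart a.1 a.2 ha)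
      (hab ▸ hpart b.1 b.2 hb)
    exact Prod.ext (Subtype.ext h1) (mul_left_cancel (h1 ▸ hab : (b.1 : G) * a.2 = _))
  · intro g hg
    obtain ⟨y, hy, x, hxy, -, -, hx⟩ := (Finset.mem_filter.mp hg).2
    exact ⟨(⟨y, hy⟩, x), by simp [hx], hxy⟩

/-- The values on a `p`-element of `D` times a regular element. -/
theorem value_mul (hD : IsPGroup p D) (hG : D ⊔ Subgroup.centralizer (D : Set G) = ⊤)
    (θ : IrrCharacter G) {ζ : IrrCharacter D}
    (h : classInner (fun y : D => (θ : G → ℂ) y) (ζ : D → ℂ) ≠ 0) (y : D) {x : G}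
    (hx : ¬ p ∣ orderOf x) :
    (θ : G → ℂ) ((y : G) * x) * (ζ : D → ℂ) 1 = (ζ : D → ℂ) y * (θ : G → ℂ) x := by
  haveI := normal_of_sup_centralizer hG
  have hc : ∀ z : G, ∀ u : D, ∃ a ∈ D, z⁻¹ * (u : G) * z = a⁻¹ * (u : G) * a := fun z u => by
    obtain ⟨a, ha, b, hb, rfl⟩ := exists_decomp hG z
    refine ⟨a, ha, ?_⟩
    rw [show (a * b)⁻¹ * (u : G) * (a * b) = b⁻¹ * (a⁻¹ * u * a) * b by group, mul_assoc,
      Subgroup.mem_centralizer_iff.mp hb _ (D.mul_mem (D.mul_mem (D.inv_mem ha) u.2) ha),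
      inv_mul_cancel_left]
  have hm := Agent.S4521.mul_apply θ (u := (y : G)) (v := x) fun z hz => by
    obtain ⟨w, hw⟩ := isConj_iff.mp hz
    obtain ⟨a, ha, b, hb, rfl⟩ := exists_decomp hG w
    refine isConj_iff.mpr ⟨a, ?_⟩
    rw [← hw, show a * b * (y : G) * (a * b)⁻¹ = a * (b * y * b⁻¹) * a⁻¹ by group,
      ← Subgroup.mem_centralizer_iff.mp hb _ y.2, mul_inv_cancel_right,
      show a * ((y : G) * x) * a⁻¹ = a * y * (x * a⁻¹) by group,
      ← Subgroup.mem_centralizer_iff.mp (regCentral hD hG x hx) _ (D.inv_mem ha)]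
    group
  have e := Agent.S4521.res_ratio D hc θ ζ h y
  refine mul_left_cancel₀ (Char.irr_one_ne_zero θ) ?_
  linear_combination (ζ : D → ℂ) 1 * hm + (θ : G → ℂ) x * e

/-- Some constituent on `D`. -/
theorem exists_constituent (θ : IrrCharacter G) :
    ∃ ζ : IrrCharacter D, classInner (fun y : D => (θ : G → ℂ) y) (ζ : D → ℂ) ≠ 0 := by
  by_contra hall
  push Not at hall
  have := congrFun (Char.classFun_eq_zero_of_perp (Char.isClassFunction_of_isCharacter
    (Char.isCharacter_comp (Char.isCharacter_irr θ) D.subtype)) hall) 1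
  exact Char.irr_one_ne_zero θ (by simpa using this)

/-- Every member, through a constituent on `D`. -/
theorem member_value (hM : IsPModular p M) (hD : IsPGroup p D)
    (hG : D ⊔ Subgroup.centralizer (D : Set G) = ⊤) {B : Set (IrrCharacter G)} (hB : IsPBlock M B)
    (hBD : IsDefectGroup p M B D) {χ : IrrCharacter G} (hχ : χ ∈ B)
    (hχD : ∀ y ∈ D, (χ : G → ℂ) y = (χ : G → ℂ) 1) {θ : IrrCharacter G} (hθ : θ ∈ B)
    {ζ : IrrCharacter D} (h : classInner (fun y : D => (θ : G → ℂ) y) (ζ : D → ℂ) ≠ 0) :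
    (∀ (y : D) (x : G), ¬ p ∣ orderOf x →
      (θ : G → ℂ) ((y : G) * x) = (ζ : D → ℂ) y * (χ : G → ℂ) x) ∧
      ∀ z : G, (∀ y : G, IsPPart p z y → y ∉ D) → (θ : G → ℂ) z = 0 := by
  classical
  have := normal_of_sup_centralizer hG
  have hC := regCentral hD hG
  have hrank := blockRank_eq_one hM hD hG hB hBD hχ hχD
  have hvan : ∀ η ∈ B, ∀ z : G, (∀ y : G, IsPPart p z y → y ∉ D) → (η : G → ℂ) z = 0 := by
    intro η hη z hz
    obtain ⟨x, hx⟩ := exists_isPPart (p := p) hM.1 z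
    refine irr_eq_zero_of_not_mem_defect hM hB hBD hx (fun c hc => hz x hx ?_) hη
    have h1 := Subgroup.Normal.conj_mem inferInstance _ hc c⁻¹
    rwa [inv_inv, show c⁻¹ * (c * x * c⁻¹) * c = x by group] at h1
  refine ⟨?_, hvan θ hθ⟩
  obtain ⟨a, ha0, ha⟩ : ∃ a : ℝ, 0 < a ∧ (θ : G → ℂ) 1 = (a : ℂ) * (ζ : D → ℂ) 1 * (χ : G → ℂ) 1 := by
    refine ⟨(charDegree (θ : G → ℂ) : ℝ) / (charDegree (ζ : D → ℂ) * charDegree (χ : G → ℂ)),
      div_pos (Nat.cast_pos.mpr (Nat.pos_of_ne_zero (charDegree_eq θ).2))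
        (mul_pos (Nat.cast_pos.mpr (Nat.pos_of_ne_zero (charDegree_eq ζ).2))
          (Nat.cast_pos.mpr (Nat.pos_of_ne_zero (charDegree_eq χ).2))), ?_⟩
    have e1 : (charDegree (ζ : D → ℂ) : ℂ) ≠ 0 := Nat.cast_ne_zero.mpr (charDegree_eq ζ).2
    have e2 : (charDegree (χ : G → ℂ) : ℂ) ≠ 0 := Nat.cast_ne_zero.mpr (charDegree_eq χ).2
    rw [(charDegree_eq θ).1, (charDegree_eq ζ).1, (charDegree_eq χ).1]
    push_cast
    field_simp
  have hform : ∀ (y : D) (x : G), ¬ p ∣ orderOf x →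
      (θ : G → ℂ) ((y : G) * x) = (a : ℂ) * ((ζ : D → ℂ) y * (χ : G → ℂ) x) := fun y x hx => by
    refine mul_right_cancel₀ (mul_ne_zero (Char.irr_one_ne_zero ζ) (Char.irr_one_ne_zero χ)) ?_
    linear_combination (χ : G → ℂ) 1 * value_mul hD hG θ h y hx +
      (ζ : D → ℂ) y * regular_value hM hrank hχ hθ hx + (ζ : D → ℂ) y * (χ : G → ℂ) x * ha
  have hchi : ∀ (y : D) (x : G), ¬ p ∣ orderOf x → (χ : G → ℂ) ((y : G) * x) = (χ : G → ℂ) x := by
    intro y x hx
    obtain ⟨χ', hχ'⟩ := exists_deflate χ hχD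
    rw [← hχ', ← hχ', QuotientGroup.mk_mul, (QuotientGroup.eq_one_iff (y : G)).mpr y.2, one_mul]
  have hnorm : ∀ {H : Type u} [Group H] [Fintype H] (η : IrrCharacter H),
      ∑ g : H, (η : H → ℂ) g * conj ((η : H → ℂ) g) = (Nat.card H : ℂ) := by
    intro H _ _ η
    have h1 := Char.classInner_irr_self η
    rw [classInner, inv_mul_eq_one₀ (Nat.cast_ne_zero.mpr Nat.card_pos.ne')] at h1
    exact h1.symm
  set S := ∑ x ∈ Finset.univ.filter (fun x : G => ¬ p ∣ orderOf x),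
    (χ : G → ℂ) x * conj ((χ : G → ℂ) x) with hS
  have hsq : ∀ η ∈ B, ∀ z : G, (∀ y : G, IsPPart p z y → y ∉ D) →
      (η : G → ℂ) z * conj ((η : G → ℂ) z) = 0 := fun η hη z hz => by rw [hvan η hη z hz, zero_mul]
  have h1 : (Nat.card G : ℂ) = (a : ℂ) ^ 2 * (Nat.card D : ℂ) * S := by
    rw [← hnorm θ, sum_partIn hD hG _ (hsq θ hθ), ← hnorm ζ, hS, mul_assoc, Finset.sum_mul_sum,
      Finset.mul_sum]
    refine Finset.sum_congr rfl fun y _ => ?_
    rw [Finset.mul_sum]
    refine Finset.sum_congr rfl fun x hx => ?_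
    rw [hform y x (Finset.mem_filter.mp hx).2, map_mul, map_mul, Complex.conj_ofReal]
    ring
  have h2 : (Nat.card G : ℂ) = (Nat.card D : ℂ) * S := by
    rw [← hnorm χ, sum_partIn hD hG _ (hsq χ hχ), hS, Finset.sum_congr rfl fun y _ =>
      Finset.sum_congr rfl fun x hx => by rw [hchi y x (Finset.mem_filter.mp hx).2]]
    simp [Nat.card_eq_fintype_card]
  have hS0 : (Nat.card D : ℂ) * S ≠ 0 := h2 ▸ Nat.cast_ne_zero.mpr Nat.card_pos.ne'
  have ha1 : (a : ℂ) ^ 2 = 1 := by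
    refine mul_right_cancel₀ hS0 ?_
    rw [one_mul, ← mul_assoc, ← h1, h2]
  have ha2 : a = 1 := (pow_left_inj₀ ha0.le one_pos.le two_ne_zero).mp
    (by rw [one_pow]; exact_mod_cast ha1)
  intro y x hx
  rw [hform y x hx, ha2, Complex.ofReal_one, one_mul]

/-- Every character of `D` occurs below the block. -/
theorem exists_member_over (hM : IsPModular p M) (hD : IsPGroup p D) {B : Set (IrrCharacter G)}
    (hB : IsPBlock M B) (ζ : IrrCharacter D) :
    ∃ θ ∈ B, classInner (fun y : D => (θ : G → ℂ) y) (ζ : D → ℂ) ≠ 0 := by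
  classical
  by_contra hall
  push Not at hall
  have := Fintype.ofFinite (IrrCharacter G)
  set s := Finset.univ.filter (fun θ : IrrCharacter G => θ ∈ B)
  have hfin : ∀ F : IrrCharacter G → ℂ, (∑ᶠ θ ∈ B, F θ) = ∑ θ ∈ s, F θ := fun F => by
    rw [finsum_mem_eq_toFinset_sum]
    exact Finset.sum_congr (by ext; simp [s]) fun _ _ => rfl
  have h0 : ∀ θ ∈ s, ∑ y : D, (θ : G → ℂ) y * conj ((ζ : D → ℂ) y) = 0 := by
    intro θ hθ
    have h1 := hall θ (Finset.mem_filter.mp hθ).2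
    rw [classInner, mul_eq_zero] at h1
    exact h1.resolve_left (inv_ne_zero (Nat.cast_ne_zero.mpr Nat.card_pos.ne'))
  have h1 : ∑ θ ∈ s, (θ : G → ℂ) 1 * conj (∑ y : D, (θ : G → ℂ) y * conj ((ζ : D → ℂ) y)) = 0 :=
    Finset.sum_eq_zero fun θ hθ => by rw [h0 θ hθ, map_zero, mul_zero]
  simp only [map_sum, map_mul, Complex.conj_conj, Finset.mul_sum, ← mul_assoc] at h1
  rw [Finset.sum_comm, Finset.sum_eq_single (1 : D)] at h1
  · rw [← Finset.sum_mul, mul_eq_zero] at h1
    rcases h1 with h1 | h1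
    · obtain ⟨θ₀, hθ₀⟩ := isPBlock_nonempty hB
      have hr : ((∑ θ ∈ s, Complex.normSq ((θ : G → ℂ) 1) : ℝ) : ℂ) = 0 := by
        rw [Complex.ofReal_sum]
        simpa [Complex.mul_conj] using h1
      have hpos : (0 : ℝ) < ∑ θ ∈ s, Complex.normSq ((θ : G → ℂ) 1) :=
        Finset.sum_pos' (fun θ _ => Complex.normSq_nonneg _) ⟨θ₀, by simp [s, hθ₀],
          Complex.normSq_pos.mpr (Char.irr_one_ne_zero θ₀)⟩
      exact hpos.ne' (Complex.ofReal_eq_zero.mp hr)
    · exact Char.irr_one_ne_zero ζ h1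
  · intro y _ hy
    rw [← Finset.sum_mul, ← hfin, blockUnion_orthogonal_regular_singular hM (.of_isPBlock hB)
      (by simp [hM.1.ne_one]) ?_, zero_mul]
    obtain ⟨k, hk⟩ := IsPGroup.iff_orderOf.mp hD y
    rw [Subgroup.orderOf_coe, hk]
    rcases Nat.eq_zero_or_pos k with rfl | hk0
    · rw [pow_zero, orderOf_eq_one_iff] at hk
      exact absurd hk hy
    · exact dvd_pow_self p hk0.ne'
  · simp

end CfsgLib.Block.CentralizedDefect
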