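import Cfsg.Agent.Lib.Block.Reduced
import Cfsg.Agent.Lib.Block.Sections

/-!
# Induced blocks

`resHK` (truncation to a subgroup), `isInducedBlock_iff`, induced blocks and the Brauer
homomorphism, defect groups of induced blocks.
-/

open Finset MonoidAlgebra
open scoped ComplexConjugate

set_option linter.unusedSectionVars false

namespace CfsgLib.Block

open Cfsg

universe u

variable {p : ℕ} {M : Ideal AlgInt} [M.IsMaximal] {G : Type u} [Group G] [Fintype G] [DecidableEq G]

/-! ### Linearity -/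

theorem omegaBar_smul (χ : IrrCharacter G) (c : ResField M) (z : ZK M G) :
    omegaBar M χ (c • z) = c * omegaBar M χ z := by
  rw [Algebra.smul_def, map_mul, omegaBar_algebraMap]

theorem zk_eq_sum [Fintype (ConjClasses G)] (z : ZK M G) :
    z = ∑ C : ConjClasses G,
      (z : MonoidAlgebra (ResField M) G).coeff (rep C) • classBar M (rep C) := by
  apply Subtype.ext
  rw [AddSubmonoidClass.coe_finsetSum]
  conv_lhs => rw [classElt_eq_sum (mem_center_iff_isClassElt.mp z.2)]
  rfl

theorem exists_coeff_ne_zero_of_omegaBar_ne_zero {χ : IrrCharacter G} {z : ZK M G}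
    (h : omegaBar M χ z ≠ 0) :
    ∃ g, (z : MonoidAlgebra (ResField M) G).coeff g ≠ 0 ∧ centralRes M χ g ≠ 0 := by
  classical
  have := Fintype.ofFinite (ConjClasses G)
  rw [zk_eq_sum z, map_sum] at h
  obtain ⟨C, -, hC⟩ := Finset.exists_ne_zero_of_sum_ne_zero h
  rw [omegaBar_smul, omegaBar_classBar] at hC
  exact ⟨rep C, left_ne_zero_of_mul hC, right_ne_zero_of_mul hC⟩

variable {H : Subgroup G} [Fintype H]

variable (M H) in
/-- Truncation of a central element to a subgroup, over the local ring. -/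
noncomputable def resHL (z : ZL M G) : ZL M H :=
  ⟨resTo H (z : MonoidAlgebra (locRing M) G), mem_center_iff_isClassElt.mpr fun g h => by
    simpa using mem_center_iff_isClassElt.mp z.2 (g : G) (h : G)⟩

variable (M H) in
/-- Truncation of a central element to a subgroup. -/
noncomputable def resHK : ZK M G →ₗ[ResField M] ZK M H where
  toFun z := ⟨resTo H (z : MonoidAlgebra (ResField M) G), mem_center_iff_isClassElt.mpr fun g h => by
    simpa using mem_center_iff_isClassElt.mp z.2 (g : G) (h : G)⟩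
  map_add' a b := Subtype.ext (ga_ext fun g => by simp)
  map_smul' c a := Subtype.ext (ga_ext fun g => by simp)

theorem coeff_resHK (z : ZK M G) (h : H) :
    ((resHK M H z : ZK M H) : MonoidAlgebra (ResField M) H).coeff h =
      (z : MonoidAlgebra (ResField M) G).coeff (h : G) := rfl

theorem resHK_toKC (z : ZL M G) : resHK M H (toKC M z) = toKC M (resHL M H z) :=
  Subtype.ext (ga_ext fun h => by simp [coeff_resHK, resHL])

variable (M) in
/-- The indicator of a conjugation invariant set, in the centre. -/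
noncomputable def setSum {A : Type u} [Group A] [Fintype A] [DecidableEq A] (T : Set A)
    (hT : ∀ x c : A, c * x * c⁻¹ ∈ T ↔ x ∈ T) : ZL M A :=
  ⟨gaOfFun fun x => @ite _ (x ∈ T) (Classical.propDecidable _) 1 0,
    mem_center_iff_isClassElt.mpr fun x c => by
      classical
      simp only [coeff_gaOfFun]
      by_cases hx : x ∈ T <;> simp [hx, hT x c]⟩

theorem omega_setSum {A : Type u} [Group A] [Fintype A] [DecidableEq A] (T : Set A)
    (hT : ∀ x c : A, c * x * c⁻¹ ∈ T ↔ x ∈ T) (ξ : A → ℂ) :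
    omega ξ (toC M (setSum M T hT : MonoidAlgebra (locRing M) A)) = ∑ᶠ x ∈ T, ξ x / ξ 1 := by
  classical
  rw [omega, finsum_mem_eq_toFinset_sum, Finset.sum_div,
    ← Finset.sum_subset (Finset.subset_univ T.toFinset) (fun x _ hx => by
      simp [setSum, Set.mem_toFinset.not.mp hx])]
  refine Finset.sum_congr rfl fun x hx => ?_
  simp [setSum, Set.mem_toFinset.mp hx]

/-- A sum of character values over an invariant set, divided by the degree, reduces to the value
of the reduced central character. -/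
theorem memLocalIdeal_finsum_sub {A : Type u} [Group A] [Fintype A] [DecidableEq A] (T : Set A)
    (hT : ∀ x c : A, c * x * c⁻¹ ∈ T ↔ x ∈ T) (ξ : IrrCharacter A) (w : locRing M) :
    MemLocalIdeal M ((∑ᶠ x ∈ T, (ξ : A → ℂ) x / (ξ : A → ℂ) 1) - w) ↔
      omegaBar M ξ (toKC M (setSum M T hT)) = res M w := by
  rw [omegaBar_toKC, omegaRes, RingHom.comp_apply, ← memLocalIdeal_sub_iff, coe_omegaLoc,
    omega_setSum]

theorem setSum_conj_mem (g : G) :
    ∀ x c : H, c * x * c⁻¹ ∈ {h : H | IsConj g (h : G)} ↔ x ∈ {h : H | IsConj g (h : G)} := by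
  intro x c
  have h : IsConj (x : G) ((c * x * c⁻¹ : H) : G) := isConj_iff.mpr ⟨c, by simp⟩
  exact ⟨fun e => e.trans h.symm, fun e => e.trans h⟩

theorem toKC_setSum_class (g : G) :
    toKC M (setSum M {h : H | IsConj g (h : G)} (setSum_conj_mem g)) = resHK M H (classBar M g) := by
  classical
  refine Subtype.ext (ga_ext fun h => ?_)
  rw [coeff_resHK]
  simp only [coe_toKC, coeff_toK, setSum, classBar, classSum, coeff_gaOfFun, Set.mem_setOf_eq]
  split_ifs <;> simp

theorem memLocalIdeal_induced_iff (ξ : IrrCharacter H) (χ : IrrCharacter G) (g : G) :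
    MemLocalIdeal M (inducedCentralChar H (ξ : H → ℂ) g - centralChar (χ : G → ℂ) g) ↔
      omegaBar M ξ (resHK M H (classBar M g)) = omegaBar M χ (classBar M g) := by
  rw [← toKC_setSum_class, omegaBar_classBar]
  exact memLocalIdeal_finsum_sub (M := M) _ _ ξ ⟨_, centralChar_mem χ g⟩

theorem isInducedBlock_iff {b : Set (IrrCharacter H)} {B : Set (IrrCharacter G)} :
    IsInducedBlock M H b B ↔ IsPBlock M b ∧ IsPBlock M B ∧
      ∀ ξ ∈ b, ∀ χ ∈ B, ∀ z, omegaBar M ξ (resHK M H z) = omegaBar M χ z := by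
  classical
  have := Fintype.ofFinite (ConjClasses G)
  refine and_congr_right fun _ => and_congr_right fun _ => forall_congr' fun ξ => imp_congr_right
    fun _ => forall_congr' fun χ => imp_congr_right fun _ => ⟨fun h z => ?_, fun h g =>
      (memLocalIdeal_induced_iff ξ χ g).mpr (h _)⟩
  rw [zk_eq_sum z, map_sum, map_sum, map_sum]
  refine Finset.sum_congr rfl fun C _ => ?_
  rw [map_smul, omegaBar_smul, omegaBar_smul, (memLocalIdeal_induced_iff ξ χ _).mp (h _)]

/-- The block `B` is induced from the block of `ξ` when the functional of `ξ` is the reduced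
central character of `B`. -/
theorem isInducedBlock_blockOf {ξ : IrrCharacter H} {χ : IrrCharacter G}
    (h : ∀ z, omegaBar M ξ (resHK M H z) = omegaBar M χ z) :
    IsInducedBlock M H (blockOf M (ξ : H → ℂ)) (blockOf M (χ : G → ℂ)) :=
  isInducedBlock_iff.mpr ⟨isPBlock_blockOf ξ, isPBlock_blockOf χ, fun ξ' hξ' χ' hχ' z => by
    rw [← omegaBar_eq_of_sameBlock (hξ' : SameBlock M (ξ : H → ℂ) (ξ' : H → ℂ)),
      ← omegaBar_eq_of_sameBlock (hχ' : SameBlock M (χ : G → ℂ) (χ' : G → ℂ)), h]⟩

theorem inducedBlock_unique {b : Set (IrrCharacter H)} {B B' : Set (IrrCharacter G)}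
    (h : IsInducedBlock M H b B) (h' : IsInducedBlock M H b B') : B = B' := by
  obtain ⟨hb, hB, h1⟩ := isInducedBlock_iff.mp h
  obtain ⟨-, hB', h2⟩ := isInducedBlock_iff.mp h'
  obtain ⟨ξ, hξ⟩ := isPBlock_nonempty hb
  obtain ⟨χ, hχ⟩ := isPBlock_nonempty hB
  obtain ⟨χ', hχ'⟩ := isPBlock_nonempty hB'
  have : SameBlock M (χ : G → ℂ) (χ' : G → ℂ) := sameBlock_iff_omegaBar.mpr (RingHom.ext fun z =>
    (h1 ξ hξ χ hχ z).symm.trans (h2 ξ hξ χ' hχ' z))
  exact isPBlock_eq_of_mem hB hB' ((isPBlock_sameBlock hB hχ).mpr this) hχ'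

/-- A defect group of `b` lies in one of the induced block. -/
theorem exists_defectGroup_ge (hM : IsPModular p M) {b : Set (IrrCharacter H)}
    {B : Set (IrrCharacter G)} (h : IsInducedBlock M H b B) {D : Subgroup H}
    (hD : IsDefectGroup p M b D) :
    ∃ E : Subgroup G, IsDefectGroup p M B E ∧ D.map H.subtype ≤ E := by
  classical
  have hpf : Fact p.Prime := ⟨hM.1⟩
  obtain ⟨hb, hB, hω⟩ := isInducedBlock_iff.mp h
  obtain ⟨ξ, hξ⟩ := isPBlock_nonempty hb
  obtain ⟨χ, hχ⟩ := isPBlock_nonempty hB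
  have h1 : omegaBar M ξ (resHK M H (blockBar M B)) ≠ 0 := by
    rw [hω ξ hξ χ hχ, omegaBar_blockBar hM (.of_isPBlock hB), if_pos hχ]
    exact one_ne_zero
  obtain ⟨x, hxc, hxω⟩ := exists_coeff_ne_zero_of_omegaBar_ne_zero h1
  rw [coeff_resHK, coeff_blockBar] at hxc
  obtain ⟨g, hg, hgc, -⟩ := exists_isSylowCent_of_isDefectGroup hM hb hD
  obtain ⟨S, hS⟩ := exists_isSylowCent p x
  obtain ⟨c, hc⟩ := conjLE_iff.mp (sylowCent_conjLE hM hb hgc hξ hxω hg hS)
  obtain ⟨E, hE⟩ := exists_defectGroup hM hB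
  have hPx : ∀ u ∈ D.map H.subtype, Commute u ((c⁻¹ * x * c : H) : G) := by
    rintro _ ⟨u, hu, rfl⟩
    have := ((hS.commute _ (hc u hu)).map (MulAut.conj c⁻¹).toMonoidHom).map H.subtype
    simpa [mul_assoc] using this
  have hne : coeffRes M B ((c⁻¹ * x * c : H) : G) ≠ 0 := by
    have := coeffRes_conj (M := M) B (x : G) (c : G)⁻¹
    rw [inv_inv] at this
    simpa [this] using hxc
  obtain ⟨y, hy⟩ := conjLE_iff.mp
    (coeff_ne_zero_le_defect hM hB hE (hg.isPGroup.map _) hne hPx)
  exact ⟨_, isDefectGroup_conj hM hB hE y⁻¹, fun u hu => ⟨_, hy u hu, by simp [mul_assoc]⟩⟩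

/-! ### Local subgroups -/

section local_sub

variable {P : Subgroup G} (hP : IsPGroup p P) (hC : Subgroup.centralizer (P : Set G) ≤ H)
  (hN : H ≤ Subgroup.normalizer (P : Set G))

include hP hN in
theorem centralRes_eq_zero_of_not_mem_centralizer (hM : IsPModular p M) (hPH : P ≤ H)
    (ξ : IrrCharacter H) {h : H} (hh : (h : G) ∉ Subgroup.centralizer (P : Set G)) :
    centralRes M ξ h = 0 := by
  have : (P.subgroupOf H).Normal := Subgroup.normal_subgroupOf_iff hPH |>.mpr fun a b ha hb =>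
    (Subgroup.mem_normalizer_iff.mp (hN hb) a).mp ha
  refine centralRes_eq_zero_of_not_centralize hM ξ (hP.of_equiv (Subgroup.subgroupOfEquivOfLe hPH).symm)
    fun hc => hh ?_
  rw [Subgroup.mem_centralizer_iff] at hc ⊢
  intro u hu
  exact congrArg Subtype.val (hc ⟨u, hPH hu⟩ (Subgroup.mem_subgroupOf.mpr hu))

include hP hC hN in
theorem omegaBar_resHK_eq_brMap (hM : IsPModular p M) (hPH : P ≤ H) (ξ : IrrCharacter H)
    (z : ZK M G) : omegaBar M ξ (resHK M H z) = omegaBar M ξ (brMap M hM hP hC hN z) := by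
  classical
  rw [← sub_eq_zero, ← map_sub]
  by_contra hne
  obtain ⟨h, hh, hω⟩ := exists_coeff_ne_zero_of_omegaBar_ne_zero hne
  apply hω
  refine centralRes_eq_zero_of_not_mem_centralizer hP hN hM hPH ξ fun hmem => hh ?_
  simp [coeff_resHK, coeff_brMap, hmem]

include hP hC hN in
theorem exists_inducedBlock (hM : IsPModular p M) (hPH : P ≤ H) {b : Set (IrrCharacter H)}
    (hb : IsPBlock M b) : ∃ B : Set (IrrCharacter G), IsInducedBlock M H b B := by
  obtain ⟨ξ, hξ⟩ := isPBlock_nonempty hb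
  obtain ⟨χ, hχ⟩ := exists_omegaBar_eq hM ((omegaBar M ξ).comp (brMap M hM hP hC hN)) fun c => by
    rw [RingHom.comp_apply, brMap_algebraMap, omegaBar_algebraMap]
  refine ⟨blockOf M (χ : G → ℂ), ?_⟩
  rw [isPBlock_eq_blockOf hb hξ]
  refine isInducedBlock_blockOf fun z => ?_
  rw [omegaBar_resHK_eq_brMap hP hC hN hM hPH, ← hχ]
  rfl

include hP hC hN in
theorem memLocalIdeal_brauer_iff (hM : IsPModular p M) (ξ : IrrCharacter H) (χ : IrrCharacter G)
    (g : G) :
    MemLocalIdeal M (brauerCentralChar P H (ξ : H → ℂ) g - centralChar (χ : G → ℂ) g) ↔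
      omegaBar M ξ (brMap M hM hP hC hN (classBar M g)) = omegaBar M χ (classBar M g) := by
  classical
  have hT : ∀ x c : H, c * x * c⁻¹ ∈ {h : H | IsConj g (h : G) ∧ (h : G) ∈ Subgroup.centralizer (P : Set G)} ↔
      x ∈ {h : H | IsConj g (h : G) ∧ (h : G) ∈ Subgroup.centralizer (P : Set G)} := by
    intro x c
    refine and_congr (setSum_conj_mem g x c) ?_
    have key : ∀ a b : G, a ∈ Subgroup.normalizer (P : Set G) → b ∈ Subgroup.centralizer (P : Set G) →
        a * b * a⁻¹ ∈ Subgroup.centralizer (P : Set G) := by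
      intro a b ha hb
      rw [Subgroup.mem_centralizer_iff] at hb ⊢
      intro u hu
      have h1 := hb _ ((Subgroup.mem_normalizer_iff''.mp ha u).mp hu)
      calc u * (a * b * a⁻¹) = a * ((a⁻¹ * u * a) * b) * a⁻¹ := by group
        _ = a * (b * (a⁻¹ * u * a)) * a⁻¹ := by rw [h1]
        _ = a * b * a⁻¹ * u := by group
    refine ⟨fun h => ?_, fun h => by simpa using key _ _ (hN c.2) h⟩
    simpa [mul_assoc] using key _ _ (inv_mem (hN c.2)) h
  have he : toKC M (setSum M _ hT) = brMap M hM hP hC hN (classBar M g) := by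
    refine Subtype.ext (ga_ext fun h => ?_)
    rw [coeff_brMap]
    simp only [coe_toKC, coeff_toK, setSum, classBar, classSum, coeff_gaOfFun, Set.mem_setOf_eq]
    split_ifs <;> simp_all
  rw [← he, omegaBar_classBar]
  exact memLocalIdeal_finsum_sub (M := M) _ hT ξ ⟨_, centralChar_mem χ g⟩

end local_sub

end CfsgLib.Block
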