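import Cfsg.Agent.Lib.Block.MaxPairs
import Cfsg.Agent.Lib.Block.FirstMain
import Cfsg.Agent.Lib.Block.Induced

/-!
# Induction from a subgroup containing the centralizer of a defect group

If `C(P) ≤ H` for a defect group `P` of the block `b` of `H`, then `b` is seen by a pair on `P`; so
it induces a block, one of whose defect groups `E` contains `P` and has its centre inside `P`.
-/

open Finset MonoidAlgebra
open scoped ComplexConjugate

set_option linter.unusedSectionVars false

namespace CfsgLib.Block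

open Cfsg
open scoped Pair

universe u

variable {p : ℕ} {M : Ideal AlgInt} [M.IsMaximal] {G : Type u} [Group G] [Fintype G] [DecidableEq G]
  {H P : Subgroup G}

theorem cinv_emb_zk (w : ZK M H) :
    CInv H (emb (w : MonoidAlgebra (ResField M) H) : MonoidAlgebra (ResField M) G) :=
  cinv_of_commute fun s hs =>
    commute_single_emb (mem_center_iff_isClassElt.mp w.2) ⟨s, hs⟩

/-- A pair on `P` carrying the central character of a block of `H`. -/
theorem exists_pair_of_block (hM : IsPModular p M) (hP : IsPGroup p P) (hPH : P ≤ H)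
    (hC : CQ P ≤ H) {b : Set (IrrCharacter H)} (hb : IsPBlock M b)
    (hne : ∃ x ∈ CQ P, (eG M b).coeff x ≠ 0) :
    ∃ e : Set (IrrCharacter (CQ P)), IsBrauerPair p M P e ∧ ∀ ξ ∈ e, ∀ η ∈ b, ∀ w : ZK M H,
      omG M ξ (emb (w : MonoidAlgebra (ResField M) H) : MonoidAlgebra (ResField M) G) =
        omegaBar M η w := by
  classical
  have := Fintype.ofFinite (ConjClasses H)
  set y := eG M b with hy
  have hyH : CInv H y := cinv_eG b
  obtain ⟨x, hx, hxne⟩ := hne
  set z := cenOf M y (hyH.mono hC) with hz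
  have hzz : z * z = z := by
    refine Subtype.ext (ga_ext fun k => ?_)
    have h := congrArg (fun a => trC P a) (eG_mul_self hM hb)
    simp only [← hy, trC_mul hM hP (hyH.mono hPH) (hyH.mono hPH)] at h
    have htr : trC P y = emb (z : MonoidAlgebra (ResField M) (CQ P)) := by
      refine (eq_emb_of_suppIn (suppIn_trC y)).trans ?_
      congr 1
      exact ga_ext fun c => by simp [hz, coeff_trC _ c.2, coeff_cenOf]
    rw [htr, ← emb_mul] at h
    rw [MulMemClass.coe_mul, ← coeff_emb_coe (H := CQ P) (R := ResField M), h, coeff_emb_coe]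
  obtain ⟨ξ, hξ⟩ : ∃ ξ : IrrCharacter (CQ P), omegaBar M ξ z ≠ 0 := by
    by_contra hall
    push Not at hall
    obtain ⟨N, hN⟩ := isNilpotent_of_omegaBar hM hall
    have hid : IsIdempotentElem z := hzz
    have h0 : z = 0 := by rw [← hid.pow_succ_eq N, pow_succ, hN, zero_mul]
    apply hxne
    have := coeff_cenOf y (hyH.mono hC) ⟨x, hx⟩
    rw [← hz, h0] at this
    simpa using this.symm
  have h1 : omG M ξ y = 1 := by
    rw [← omG_cenOf ξ _ (hyH.mono hC)]
    have h := congrArg (omegaBar M ξ) hzz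
    rw [map_mul] at h
    exact mul_right_cancel₀ hξ (h.trans (one_mul _).symm)
  -- the functional of `ξ` on the centre of `kH`
  let φ : ZK M H →+* ResField M :=
    { toFun := fun w => omG M ξ (emb (w : MonoidAlgebra (ResField M) H) : MonoidAlgebra (ResField M) G)
      map_one' := by
        refine (omG_congr ξ fun g hg => ?_).trans (omG_one ξ)
        exact emb_one_apply (hC hg)
      map_mul' := fun a c => by
        show omG M ξ (emb ((a * c : ZK M H) : MonoidAlgebra (ResField M) H) :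
          MonoidAlgebra (ResField M) G) = _
        rw [MulMemClass.coe_mul, emb_mul]
        exact omG_mul_fixed hM hP ξ ((cinv_emb_zk a).mono hPH) ((cinv_emb_zk c).mono hPH)
          ((cinv_emb_zk a).mono hC) ((cinv_emb_zk c).mono hC)
      map_zero' := by
        refine (omG_congr ξ fun g hg => ?_).trans (omG_zero ξ)
        rw [show g = ((⟨g, hC hg⟩ : H) : G) from rfl, coeff_emb_coe]
        simp
      map_add' := fun a c => by
        show omG M ξ (emb ((a + c : ZK M H) : MonoidAlgebra (ResField M) H) :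
          MonoidAlgebra (ResField M) G) = _
        rw [← omG_add]
        refine omG_congr ξ fun g hg => ?_
        rw [show g = ((⟨g, hC hg⟩ : H) : G) from rfl, MonoidAlgebra.coeff_add, Finsupp.add_apply,
          coeff_emb_coe, coeff_emb_coe, coeff_emb_coe]
        simp }
  have hφ : ∀ w : ZK M H,
      φ w = omG M ξ (emb (w : MonoidAlgebra (ResField M) H) : MonoidAlgebra (ResField M) G) :=
    fun _ => rfl
  obtain ⟨η₀, hη₀⟩ := exists_omegaBar_eq hM φ fun c => by
    rw [hφ]
    refine Eq.trans (omG_congr ξ (y' := c • 1) fun g hg => ?_) (by rw [omG_smul, omG_one, mul_one])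
    rw [show g = ((⟨g, hC hg⟩ : H) : G) from rfl, coeff_emb_coe, MonoidAlgebra.coeff_smul,
      Finsupp.smul_apply, Subalgebra.coe_algebraMap, Algebra.algebraMap_eq_smul_one,
      MonoidAlgebra.coeff_smul, Finsupp.smul_apply]
    congr 1
    exact ((coeff_emb_coe (1 : MonoidAlgebra (ResField M) H) ⟨g, hC hg⟩).symm.trans
      (emb_one_apply (N := H) (R := ResField M) (hC hg)))
  have hmem : η₀ ∈ b := by
    by_contra hn
    have h := RingHom.congr_fun hη₀ (blockBar M b)
    rw [hφ, omegaBar_blockBar hM (.of_isPBlock hb), if_neg hn] at h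
    rw [hy, eG] at h1
    exact one_ne_zero (h1.symm.trans h)
  refine ⟨blockOf M (ξ : CQ P → ℂ), ⟨hP, isPBlock_blockOf ξ⟩, fun ξ' hξ' η hη w => ?_⟩
  rw [omG_congr_block (isPBlock_blockOf ξ) hξ' (self_mem_blockOf ξ), ← hφ, hη₀,
    omegaBar_eq_of_mem hb hmem hη]

theorem omG_eq_omG_resHK (hC : CQ P ≤ H) (ξ : IrrCharacter (CQ P)) (z : ZK M G) :
    omG M ξ (z : MonoidAlgebra (ResField M) G) =
      omG M ξ (emb (resHK M H z : MonoidAlgebra (ResField M) H) : MonoidAlgebra (ResField M) G) :=
  omG_congr ξ fun g hg => by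
    rw [show g = ((⟨g, hC hg⟩ : H) : G) from rfl, coeff_emb_coe, coeff_resHK]

/-- With the centralizer of `P` inside, the block of `H` induces the block of the pair. -/
theorem isInducedBlock_of_pair (hM : IsPModular p M) (hC : CQ P ≤ H) {b : Set (IrrCharacter H)}
    (hb : IsPBlock M b) {e : Set (IrrCharacter (CQ P))}
    (heq : ∀ ξ ∈ e, ∀ η ∈ b, ∀ w : ZK M H,
      omG M ξ (emb (w : MonoidAlgebra (ResField M) H) : MonoidAlgebra (ResField M) G) =
        omegaBar M η w)
    {B : Set (IrrCharacter G)} (hB : IsBrauerPairOf p M B P e) : IsInducedBlock M H b B := by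
  classical
  obtain ⟨he, hBb, hω⟩ := (isBrauerPairOf_iff_omG hM).mp hB
  obtain ⟨ξ, hξ⟩ := isPBlock_nonempty he.2
  refine isInducedBlock_iff.mpr ⟨hb, hBb, fun η hη χ hχ z => ?_⟩
  rw [← heq ξ hξ η hη, ← omG_eq_omG_resHK hC ξ z, hω ξ hξ χ hχ z]

/-- A defect group of the induced block over `P` has its centre inside `P`. -/
theorem exists_defectGroup_center_le (hM : IsPModular p M) (hC : CQ P ≤ H) (hPH : P ≤ H)
    {b : Set (IrrCharacter H)} (hb : IsPBlock M b)
    (hD : IsDefectGroup p M b (P.subgroupOf H)) {e : Set (IrrCharacter (CQ P))}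
    (heq : ∀ ξ ∈ e, ∀ η ∈ b, ∀ w : ZK M H,
      omG M ξ (emb (w : MonoidAlgebra (ResField M) H) : MonoidAlgebra (ResField M) G) =
        omegaBar M η w)
    {B : Set (IrrCharacter G)} (hB : IsBrauerPairOf p M B P e) :
    ∃ E : Subgroup G, IsDefectGroup p M B E ∧ P ≤ E ∧ (Subgroup.center E).map E.subtype ≤ P := by
  classical
  have hpf : Fact p.Prime := ⟨hM.1⟩
  have := Fintype.ofFinite (ConjClasses H)
  obtain ⟨E, f, hmax, hle⟩ := exists_maximal_above hM P e hB
  have hPE : P ≤ E := SubpairLE.le hle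
  have hf := ((isMaximalBrauerPair_iff hM).mp hmax).1.1
  refine ⟨E, isDefectGroup_of_maximal hM hmax, hPE, ?_⟩
  set Z := (Subgroup.center E).map E.subtype with hZ
  have hZE : Z ≤ E := Subgroup.map_subtype_le _
  have hZC : Z ≤ CQ P := by
    rintro _ ⟨z, hz, rfl⟩
    rw [Subgroup.mem_centralizer_iff]
    intro u hu
    exact congrArg Subtype.val (Subgroup.mem_center_iff.mp hz ⟨u, hPE hu⟩)
  set Q := P ⊔ Z with hQ
  have hQE : Q ≤ E := sup_le hPE hZE
  have hQH : Q ≤ H := sup_le hPH (hZC.trans hC)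
  have hQN : Q ≤ Subgroup.normalizer (P : Set G) :=
    sup_le Subgroup.le_normalizer (hZC.trans (centralizer_le_normalizer' P))
  obtain ⟨g, hg, hgle⟩ := exists_subpairLE hM hf Q hQE
  obtain ⟨e₀, he₀⟩ := exists_nSub hM (le_sup_left : P ≤ Q) hQN hg
  obtain rfl : e₀ = e := SubpairLE.unique hM hf ((SubpairLE.step hM he₀).trans hgle) hle
  obtain ⟨ξ, hξ⟩ := isPBlock_nonempty he₀.pairL.2
  obtain ⟨ζ, hζ⟩ := isPBlock_nonempty hg.2
  obtain ⟨η, hη⟩ := isPBlock_nonempty hb
  have h1 : omG M ξ (eG M b) = 1 := by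
    rw [eG, heq ξ hξ η hη, omegaBar_blockBar hM (.of_isPBlock hb), if_pos hη]
  have h2 : omG M ζ (trC P (eG M b)) = omG M ξ (trC P (eG M b)) :=
    he₀.omG_eq hM hζ hξ (suppIn_trC _)
      (((cinv_eG b).mono hC).trC (centralizer_le_normalizer' P)) (((cinv_eG b).mono hQH).trC hQN)
  rw [omG_congr ξ (y' := eG M b) fun x hx => coeff_trC _ hx, h1,
    omG_congr ζ (y' := eG M b) fun x hx => coeff_trC _ (cq_mono le_sup_left hx)] at h2
  obtain ⟨C, -, hne⟩ := Finset.exists_ne_zero_of_sum_ne_zero (h2.trans_ne one_ne_zero)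
  have hxQ : ((rep C : CQ Q) : G) ∈ CQ Q := (rep C).2
  have hxH : ((rep C : CQ Q) : G) ∈ H := hC (cq_mono le_sup_left hxQ)
  have hcoeff : coeffRes M b ⟨_, hxH⟩ ≠ 0 := by
    have := left_ne_zero_of_mul hne
    rwa [show ((rep C : CQ Q) : G) = ((⟨_, hxH⟩ : H) : G) from rfl, coeff_eG] at this
  have hQp : IsPGroup p Q := hg.1
  have hcl := coeff_ne_zero_le_defect hM hb hD
    (P := Q.subgroupOf H) (hQp.of_equiv (Subgroup.subgroupOfEquivOfLe hQH).symm) hcoeff fun u hu =>
      Subtype.ext (Subgroup.mem_centralizer_iff.mp hxQ u (Subgroup.mem_subgroupOf.mp hu))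
  have hcard := hcl.card_le
  rw [Nat.card_congr (Subgroup.subgroupOfEquivOfLe hQH).toEquiv,
    Nat.card_congr (Subgroup.subgroupOfEquivOfLe hPH).toEquiv] at hcard
  exact le_trans le_sup_right (Subgroup.eq_of_le_of_card_ge (le_sup_left : P ≤ Q) hcard).ge

end CfsgLib.Block
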