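import Cfsg.Agent.Lib.Block.LocalDefect

/-!
# Block idempotents vanish off the centralizer of a normal `p`-subgroup
-/

open Finset MonoidAlgebra
open scoped ComplexConjugate

set_option linter.unusedSectionVars false

namespace CfsgLib.Block

open Cfsg

universe u

open scoped Pair

variable {p : ℕ} {M : Ideal AlgInt} [M.IsMaximal] {G : Type u} [Group G] [Fintype G] [DecidableEq G]
  {P : Subgroup G} [hPn : P.Normal]

include hPn in
theorem trC_blockBar (hM : IsPModular p M) (hP : IsPGroup p P) {B : Set (IrrCharacter G)}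
    (hB : IsPBlock M B) :
    trC P (blockBar M B : MonoidAlgebra (ResField M) G) =
      (blockBar M B : MonoidAlgebra (ResField M) G) := by
  classical
  have := Fintype.ofFinite (ConjClasses G)
  set y := (blockBar M B : MonoidAlgebra (ResField M) G) with hy
  have hc : CInv ⊤ y := cinv_of_central _ _
  have hN : (⊤ : Subgroup G) ≤ Subgroup.normalizer (P : Set G) := by
    rw [Subgroup.normalizer_eq_top]
  have hcl : IsClassElt (trC P y) := fun g h => hc.trC hN h (Subgroup.mem_top h) g
  set z : ZK M G := ⟨trC P y, mem_center_iff_isClassElt.mpr hcl⟩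
  have hBB := blockBar_mul_self (G := G) hM (.of_isPBlock hB)
  have hzz : z * z = z := Subtype.ext (by
    show trC P y * trC P y = trC P y
    rw [← trC_mul hM hP (hc.mono le_top) (hc.mono le_top)]
    exact congrArg (trC P) (congrArg Subtype.val hBB))
  refine congrArg Subtype.val (eq_of_omegaBar_eq_of_idem (a := z) hM hzz hBB fun χ => ?_)
  rw [zk_eq_sum z, zk_eq_sum (blockBar M B), map_sum, map_sum]
  refine Finset.sum_congr rfl fun C _ => ?_
  rw [omegaBar_smul, omegaBar_smul, omegaBar_classBar]
  by_cases h : rep C ∈ Subgroup.centralizer (P : Set G)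
  · rw [show (z : MonoidAlgebra (ResField M) G).coeff (rep C) = _ from coeff_trC y h]
  · rw [centralRes_eq_zero_of_not_centralize hM χ hP h, mul_zero, mul_zero]

include hPn in
/-- The idempotent of a block vanishes off the centralizer of a normal `p`-subgroup, and is the
idempotent of a union of blocks of the centralizer. -/
theorem exists_blockCoeff_eq_centralizer (hM : IsPModular p M) (hP : IsPGroup p P)
    {B : Set (IrrCharacter G)} (hB : IsPBlock M B) :
    ∃ S : Set (IrrCharacter (CQ P)), IsBlockUnion M S ∧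
      ∀ g, blockCoeff B g = subgroupBlockCoeff (CQ P) S g := by
  classical
  have := Fintype.ofFinite (IrrCharacter (CQ P))
  have := Fintype.ofFinite (IrrCharacter G)
  have hn : (CQ P).Normal := inferInstanceAs (Subgroup.centralizer (P : Set G)).Normal
  set y := (blockBar M B : MonoidAlgebra (ResField M) G) with hy
  have hyS : SuppIn (CQ P) y := hy ▸ trC_blockBar hM hP hB ▸ suppIn_trC _
  have hyC : CInv (CQ P) y := cinv_of_central _ _
  have hyy : y * y = y := congrArg Subtype.val (blockBar_mul_self (G := G) hM (.of_isPBlock hB))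
  set w := cenOf M y hyC with hw
  have hye : y = emb (w : MonoidAlgebra (ResField M) (CQ P)) :=
    (eq_emb_of_suppIn hyS).trans (congrArg emb (ga_ext fun k => rfl))
  have hww : w * w = w := Subtype.ext (ga_ext fun k => by
    rw [MulMemClass.coe_mul, ← coeff_emb_coe (H := CQ P) (R := ResField M), emb_mul, ← hye, hyy]
    rfl)
  let S : Set (IrrCharacter (CQ P)) := {θ | omG M θ y = 1}
  have hS : IsBlockUnion M S := fun θ hθ η hη => by
    have : omG M η y = omG M θ y := omG_congr_block (isPBlock_blockOf θ) hη (self_mem_blockOf θ) y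
    exact this.trans hθ
  have hwS : w = blockBar M S := by
    refine eq_of_omegaBar_eq_of_idem hM hww (blockBar_mul_self hM hS) fun θ => ?_
    rw [hw, omG_cenOf, omegaBar_blockBar hM hS]
    split_ifs with h
    · exact h
    · have h1 : omG M θ y * omG M θ y = omG M θ y := by rw [← omG_mul θ hyS hyS hyC hyC, hyy]
      rcases eq_or_ne (omG M θ y) 0 with h0 | h0
      · exact h0
      · exact absurd (mul_right_cancel₀ h0 (h1.trans (one_mul _).symm)) h
  -- the exact idempotent
  set f : G → ℂ := subgroupBlockCoeff (CQ P) S with hf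
  have hfc : ∀ g h : G, f (h * g * h⁻¹) = f g := by
    intro g h
    have hiff : ∀ x, x ∈ CQ P ↔ h * x * h⁻¹ ∈ CQ P := fun x =>
      ⟨fun hx => hn.conj_mem x hx h, fun hx => by
        simpa [mul_assoc] using hn.conj_mem _ hx h⁻¹⟩
    have himg : irrEquiv (cjHom (K := CQ P) (K' := CQ P) hiff) '' S = S := by
      have hcjy : cj h y = y := ga_ext fun x => by
        rw [coeff_cj]
        have := mem_center_iff_isClassElt.mp (blockBar M B).2 x h⁻¹
        rw [inv_inv] at this
        exact this
      have key : ∀ θ, omG M (irrEquiv (cjHom (K := CQ P) (K' := CQ P) hiff) θ) y = omG M θ y :=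
        fun θ => by conv_lhs => rw [← hcjy, omG_cj hiff θ hyC]
      ext θ'
      obtain ⟨θ, rfl⟩ := (irrEquiv (cjHom (K := CQ P) (K' := CQ P) hiff)).surjective θ'
      simp only [Set.mem_image, EmbeddingLike.apply_eq_iff_eq, exists_eq_right, S, Set.mem_setOf_eq, key]
    by_cases hg : g ∈ CQ P
    · have h1 := blockCoeff_image_irrEquiv (cjHom (K := CQ P) (K' := CQ P) hiff) S ⟨g, hg⟩
      rw [himg] at h1
      exact (subgroupBlockCoeff_coe S (cjHom (K := CQ P) (K' := CQ P) hiff ⟨g, hg⟩)).trans
        (h1.trans (subgroupBlockCoeff_coe S ⟨g, hg⟩).symm)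
    · rw [hf, subgroupBlockCoeff_of_notMem S hg,
        subgroupBlockCoeff_of_notMem S (fun h' => hg ((hiff g).mpr h'))]
  have hfe : gaOfFun f = emb (gaOfFun (blockCoeff S) : MonoidAlgebra ℂ (CQ P)) := by
    refine ga_ext fun g => ?_
    by_cases hg : g ∈ CQ P
    · rw [show g = ((⟨g, hg⟩ : CQ P) : G) from rfl, coeff_emb_coe, coeff_gaOfFun, coeff_gaOfFun]
      exact subgroupBlockCoeff_coe S _
    · rw [suppIn_emb _ g hg, coeff_gaOfFun, hf, subgroupBlockCoeff_of_notMem S hg]
  have hz : IsClassElt (gaOfFun f) := fun g h => by simp only [coeff_gaOfFun, hfc]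
  have hzz : gaOfFun f * gaOfFun f = gaOfFun f := by
    rw [hfe, ← emb_mul, gaOfFun_blockCoeff_mul_self]
  let T : Set (IrrCharacter G) := {χ | omega (χ : G → ℂ) (gaOfFun f) = 1}
  have hT : gaOfFun f = gaOfFun (blockCoeff T) := by
    refine classElt_ext hz (fun g h => by simp only [coeff_gaOfFun, blockCoeff_conj]) fun χ => ?_
    rw [omega_gaOfFun_blockCoeff]
    have h := congrArg (omega (χ : G → ℂ)) hzz
    rw [omega_mul χ.2 hz hz] at h
    by_cases h1 : χ ∈ T
    · rw [if_pos h1]; exact h1
    · rw [if_neg h1]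
      by_contra h0
      exact h1 (mul_right_cancel₀ h0 (h.trans (one_mul _).symm))
  have hTf : ∀ g, blockCoeff T g = f g := fun g => by
    rw [← coeff_gaOfFun (blockCoeff T), ← hT, coeff_gaOfFun]
  have hTmem : ∀ g, blockCoeff T g ∈ locRing M := fun g => by
    rw [hTf, hf]
    by_cases hg : g ∈ CQ P
    · rw [show g = ((⟨g, hg⟩ : CQ P) : G) from rfl, subgroupBlockCoeff_coe]
      exact blockCoeff_mem hM hS _
    · rw [subgroupBlockCoeff_of_notMem S hg]; exact Subring.zero_mem _
  have hTU : IsBlockUnion M T := isBlockUnion_of_blockCoeff_mem hTmem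
  have hbar : blockBar M T = blockBar M B := Subtype.ext (ga_ext fun g => by
    rw [coeff_blockBar, coeffRes]
    by_cases hg : g ∈ CQ P
    · show _ = y.coeff g
      rw [hye, show g = ((⟨g, hg⟩ : CQ P) : G) from rfl, coeff_emb_coe, hwS, coeff_blockBar,
        coeffRes]
      refine congrArg (res M) (Subtype.ext ?_)
      rw [coe_coeff_blockIdem hM hTU, coe_coeff_blockIdem hM hS, hTf, hf]
      exact subgroupBlockCoeff_coe S _
    · show _ = y.coeff g
      rw [hyS g hg, show ((blockIdem M T : ZL M G) : MonoidAlgebra (locRing M) G).coeff g = 0 from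
        Subtype.ext (by
          rw [coe_coeff_blockIdem hM hTU, hTf, hf, subgroupBlockCoeff_of_notMem S hg]
          rfl), map_zero])
  have hTB : T = B := by
    ext χ
    have := congrArg (omegaBar M χ) hbar
    rw [omegaBar_blockBar hM hTU, omegaBar_blockBar hM (.of_isPBlock hB)] at this
    by_cases h1 : χ ∈ T <;> by_cases h2 : χ ∈ B
    · exact iff_of_true h1 h2
    · rw [if_pos h1, if_neg h2] at this; exact absurd this one_ne_zero
    · rw [if_neg h1, if_pos h2] at this; exact absurd this zero_ne_one
    · exact iff_of_false h1 h2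
  exact ⟨S, hS, fun g => by rw [← hTB, hTf]⟩

include hPn in
theorem blockCoeff_eq_zero_of_notMem_centralizer (hM : IsPModular p M) (hP : IsPGroup p P)
    {B : Set (IrrCharacter G)} (hB : IsPBlock M B) {g : G}
    (hg : g ∉ Subgroup.centralizer (P : Set G)) : blockCoeff B g = 0 := by
  obtain ⟨S, -, h⟩ := exists_blockCoeff_eq_centralizer hM hP hB
  rw [h, subgroupBlockCoeff_of_notMem S hg]

end CfsgLib.Block
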