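import Cfsg.Agent.Lib.Block.CoveringMax
import Cfsg.Agent.Lib.Block.CyclicPairs

/-!
# Nilpotency under extensions by `p`-groups

A stable block of a normal subgroup of `p`-power index is nilpotent if and only if the block above
it is (Cabanes).
-/

open Finset MonoidAlgebra

set_option linter.unusedSectionVars false

namespace CfsgLib.Block

open Cfsg CfsgLib.Block.Iso
open scoped Pair

universe u

variable {p : ℕ} {M : Ideal AlgInt} [M.IsMaximal]

section general

variable {A : Type u} [Group A] [Fintype A] [DecidableEq A] {K : Subgroup A}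

/-- An invariant idempotent of a subgroup fixes or kills each block. -/
theorem idem_mul_block (hM : IsPModular p M) [Fintype K] [Fintype (ConjClasses K)]
    {y : MonoidAlgebra (ResField M) A} (hyS : SuppIn K y) (hyC : CInv K y) (hyy : y * y = y)
    {f : Set (IrrCharacter K)} (hf : IsPBlock M f) {η : IrrCharacter K} (hη : η ∈ f) :
    (y * eG M f = eG M f ∧ omG M η y = 1) ∨ (y * eG M f = 0 ∧ omG M η y = 0) := by
  classical
  set w := cenOf M y hyC with hw
  have hye : y = emb (w : MonoidAlgebra (ResField M) K) :=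
    (eq_emb_of_suppIn hyS).trans (congrArg emb (ga_ext fun k => rfl))
  have hww : w * w = w := Subtype.ext (ga_ext fun k => by
    rw [MulMemClass.coe_mul, ← coeff_emb_coe (H := K) (R := ResField M), emb_mul, ← hye, hyy]
    rfl)
  set a := omG M η y with ha
  have haa : a * a = a := by rw [ha, ← omG_mul η hyS hyS hyC hyC, hyy]
  have hmain : w * blockBar M f = a • blockBar M f := by
    refine eq_of_omegaBar_eq_of_idem hM ?_ ?_ fun θ => ?_
    · rw [mul_mul_mul_comm, hww, blockBar_mul_self hM (.of_isPBlock hf)]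
    · rw [smul_mul_smul_comm, haa, blockBar_mul_self hM (.of_isPBlock hf)]
    · rw [map_mul, omegaBar_smul, hw, omG_cenOf, omegaBar_blockBar hM (.of_isPBlock hf)]
      split_ifs with hθ
      · rw [omG_congr_block hf hθ hη]
      · simp
  have hmul : y * eG M f = emb ((a • blockBar M f : ZK M K) : MonoidAlgebra (ResField M) K) := by
    rw [← hmain, MulMemClass.coe_mul, emb_mul, ← hye, eG]
  rcases eq_or_ne a 0 with h0 | h0
  · refine Or.inr ⟨?_, h0⟩
    rw [hmul, h0, zero_smul, ZeroMemClass.coe_zero]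
    exact ga_ext fun g => by simp [emb]
  · have h1 : a = 1 := mul_right_cancel₀ h0 (haa.trans (one_mul _).symm)
    refine Or.inl ⟨?_, h1⟩
    rw [hmul, h1, one_smul, eG]

theorem omG_eq_one_of_mul (hM : IsPModular p M) [Fintype K] [Fintype (ConjClasses K)]
    {y : MonoidAlgebra (ResField M) A} (hyS : SuppIn K y) (hyC : CInv K y)
    {f : Set (IrrCharacter K)} (hf : IsPBlock M f) {η : IrrCharacter K} (hη : η ∈ f)
    (h : y * eG M f = eG M f) : omG M η y = 1 := by
  classical
  have h1 := congrArg (omG M η) h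
  rwa [omG_mul η hyS (suppIn_eG f) hyC (cinv_eG f), omG_eG hM hf, if_pos hη, mul_one] at h1

theorem eG_ne_zero (hM : IsPModular p M) [Fintype K] [Fintype (ConjClasses K)]
    {f : Set (IrrCharacter K)} (hf : IsPBlock M f) : (eG M f : MonoidAlgebra (ResField M) A) ≠ 0 := by
  classical
  obtain ⟨η, hη⟩ := isPBlock_nonempty hf
  intro h
  have h1 := omG_eG hM hf η
  rw [h, omG_zero, if_pos hη] at h1
  exact zero_ne_one h1

/-- A pair is a pair of a block as soon as its functional takes the value one on the idempotent. -/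
theorem isBrauerPairOf_of_omG_one (hM : IsPModular p M) {Q : Subgroup A}
    {f : Set (IrrCharacter (CQ Q))} (hf : IsBrauerPair p M Q f) {B : Set (IrrCharacter A)}
    (hB : IsPBlock M B) {ξ : IrrCharacter (CQ Q)} (hξ : ξ ∈ f)
    (h : omG M ξ (blockBar M B : MonoidAlgebra (ResField M) A) = 1) :
    IsBrauerPairOf p M B Q f := by
  classical
  obtain ⟨B', hB'⟩ := (existsUnique_block_of_pair hM hf).exists
  obtain ⟨χ, hχ⟩ := isPBlock_nonempty hB'.2.1
  have h1 := ((isBrauerPairOf_iff_omG hM).mp hB').2.2 ξ hξ χ hχ (blockBar M B)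
  rw [h, omegaBar_blockBar hM (.of_isPBlock hB)] at h1
  split_ifs at h1 with hmem
  · rwa [isPBlock_eq_of_mem hB hB'.2.1 hmem hχ]
  · exact absurd h1 one_ne_zero

theorem omG_pair_eq_one (hM : IsPModular p M) {Q : Subgroup A} {f : Set (IrrCharacter (CQ Q))}
    {B : Set (IrrCharacter A)} (h : IsBrauerPairOf p M B Q f) {ξ : IrrCharacter (CQ Q)}
    (hξ : ξ ∈ f) : omG M ξ (blockBar M B : MonoidAlgebra (ResField M) A) = 1 := by
  classical
  obtain ⟨χ, hχ⟩ := isPBlock_nonempty h.2.1
  rw [((isBrauerPairOf_iff_omG hM).mp h).2.2 ξ hξ χ hχ, omegaBar_blockBar hM (.of_isPBlock h.2.1),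
    if_pos hχ]

theorem trC_blockBar_idem (hM : IsPModular p M) {Q : Subgroup A} (hQ : IsPGroup p Q)
    {B : Set (IrrCharacter A)} (hB : IsPBlock M B) :
    trC Q (blockBar M B : MonoidAlgebra (ResField M) A) *
      trC Q (blockBar M B : MonoidAlgebra (ResField M) A) =
      trC Q (blockBar M B : MonoidAlgebra (ResField M) A) := by
  rw [← trC_mul hM hQ (cinv_of_central _ _) (cinv_of_central _ _), ← MulMemClass.coe_mul,
    blockBar_mul_self hM (.of_isPBlock hB)]

theorem cinv_trC_blockBar {Q : Subgroup A} (B : Set (IrrCharacter A)) :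
    CInv (CQ Q) (trC Q (blockBar M B : MonoidAlgebra (ResField M) A)) :=
  (cinv_of_central _ _).trC (centralizer_le_normalizer' Q)

end general

variable {G : Type u} [Group G] [Fintype G] [DecidableEq G] {N : Subgroup G} [hNn : N.Normal]
  [Fintype N]

theorem emb_injective : Function.Injective
    (emb : MonoidAlgebra (ResField M) N → MonoidAlgebra (ResField M) G) :=
  fun u v h => ga_ext fun n => by rw [← coeff_emb_coe u n, h, coeff_emb_coe]

theorem cj_emb (x : N) (y : MonoidAlgebra (ResField M) N) :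
    cj (x : G) (emb y : MonoidAlgebra (ResField M) G) = emb (cj x y) := by
  refine ga_ext fun g => ?_
  rw [coeff_cj]
  by_cases hg : g ∈ N
  · rw [show g = ((⟨g, hg⟩ : N) : G) from rfl, coeff_emb_coe, coeff_cj,
      show (x : G)⁻¹ * ((⟨g, hg⟩ : N) : G) * x = ((x⁻¹ * ⟨g, hg⟩ * x : N) : G) from rfl, coeff_emb_coe]
  · rw [suppIn_emb _ g hg, suppIn_emb]
    exact fun h => hg (by
      have := mul_mem (mul_mem x.2 h) (inv_mem x.2)
      simpa [mul_assoc] using this)

theorem mem_cq_map {R : Subgroup N} {n : N} :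
    n ∈ CQ R ↔ (n : G) ∈ CQ (R.map N.subtype) := by
  simp only [Subgroup.mem_centralizer_iff, Subgroup.coe_map, Set.forall_mem_image]
  exact forall₂_congr fun r _ => Subtype.ext_iff

theorem emb_trC (R : Subgroup N) (y : MonoidAlgebra (ResField M) N) :
    (emb (trC R y) : MonoidAlgebra (ResField M) G) = trC (R.map N.subtype) (emb y) := by
  refine ga_ext fun g => ?_
  by_cases hg : g ∈ N
  · rw [show g = ((⟨g, hg⟩ : N) : G) from rfl, coeff_emb_coe]
    by_cases hc : (⟨g, hg⟩ : N) ∈ CQ R
    · rw [coeff_trC _ hc, coeff_trC _ (mem_cq_map.mp hc), coeff_emb_coe]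
    · rw [suppIn_trC _ _ hc, suppIn_trC _ _ fun h => hc (mem_cq_map.mpr h)]
  · rw [suppIn_emb _ g hg]
    by_cases hc : g ∈ CQ (R.map N.subtype)
    · rw [coeff_trC _ hc, suppIn_emb _ g hg]
    · rw [suppIn_trC _ g hc]

/-- The conjugate of a block of the centralizer in the normal subgroup. -/
theorem exists_conj_block {R : Subgroup N} {x : G}
    (hx : x ∈ Subgroup.normalizer (R.map N.subtype : Set G)) {f : Set (IrrCharacter (CQ R))}
    (hf : IsPBlock M f) :
    ∃ f' : Set (IrrCharacter (CQ R)), IsPBlock M f' ∧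
      (emb (eG M f' : MonoidAlgebra (ResField M) N) : MonoidAlgebra (ResField M) G) =
        cj x (emb (eG M f)) := by
  classical
  have hiff : ∀ n : N, n ∈ CQ R ↔ (⟨x * n * x⁻¹, hNn.conj_mem n n.2 x⟩ : N) ∈ CQ R := fun n => by
    rw [mem_cq_map, mem_cq_map]
    exact cq_conj_iff hx _
  let α : CQ R ≃* CQ R :=
    { toFun := fun c => ⟨⟨x * (c : N) * x⁻¹, hNn.conj_mem _ (c : N).2 x⟩, (hiff c).mp c.2⟩
      invFun := fun c => ⟨⟨x⁻¹ * (c : N) * x, by simpa using hNn.conj_mem _ (c : N).2 x⁻¹⟩,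
        (hiff _).mpr (by simpa [mul_assoc] using c.2)⟩
      left_inv := fun c => Subtype.ext (Subtype.ext (by simp [mul_assoc]))
      right_inv := fun c => Subtype.ext (Subtype.ext (by simp [mul_assoc]))
      map_mul' := fun a b => Subtype.ext (Subtype.ext (by simp [mul_assoc])) }
  refine ⟨irrEquiv α '' f, isPBlock_image_irrEquiv α hf, ga_ext fun g => ?_⟩
  rw [coeff_cj]
  by_cases hg : g ∈ N
  · have hg' : x⁻¹ * g * x ∈ N := by simpa using hNn.conj_mem g hg x⁻¹
    rw [show (emb (eG M (irrEquiv α '' f)) : MonoidAlgebra (ResField M) G).coeff g =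
        (eG M (irrEquiv α '' f) : MonoidAlgebra (ResField M) N).coeff ⟨g, hg⟩ from
          coeff_emb_coe _ ⟨g, hg⟩,
      show (emb (eG M f) : MonoidAlgebra (ResField M) G).coeff (x⁻¹ * g * x) =
        (eG M f : MonoidAlgebra (ResField M) N).coeff ⟨_, hg'⟩ from coeff_emb_coe _ ⟨_, hg'⟩]
    by_cases hc : (⟨_, hg'⟩ : N) ∈ CQ R
    · have h2 : (⟨g, hg⟩ : N) = ((α ⟨⟨_, hg'⟩, hc⟩ : CQ R) : N) := Subtype.ext (by simp [α, mul_assoc])
      rw [h2, coeff_eG, coeffRes_image_irrEquiv]
      exact (coeff_eG f ⟨⟨_, hg'⟩, hc⟩).symm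
    · rw [suppIn_eG f _ hc, suppIn_eG _ (⟨g, hg⟩ : N) fun h => hc ((hiff _).mpr (by
        simpa [mul_assoc] using h))]
  · rw [suppIn_emb _ g hg, suppIn_emb]
    exact fun h => hg (by simpa [mul_assoc] using hNn.conj_mem _ h x)

theorem emb_eG_ne_zero (hM : IsPModular p M) {R : Subgroup N} {f : Set (IrrCharacter (CQ R))}
    (hf : IsPBlock M f) :
    (emb (eG M f : MonoidAlgebra (ResField M) N) : MonoidAlgebra (ResField M) G) ≠ 0 := fun h =>
  eG_ne_zero hM hf (emb_injective (h.trans (ga_ext fun g => by simp [emb]).symm))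

theorem sum_emb_eG (hM : IsPModular p M) (R : Subgroup N) :
    ∑ f : BlockT M R, (emb (eG M f.1 : MonoidAlgebra (ResField M) N) : MonoidAlgebra (ResField M) G) =
      1 := by
  classical
  refine ga_ext fun g => ?_
  rw [coeff_sum_apply]
  by_cases hg : g ∈ N
  · have h := congrArg (fun y : MonoidAlgebra (ResField M) N => y.coeff ⟨g, hg⟩) (sum_eG_eq_one hM R)
    simp only [coeff_sum_apply] at h
    refine Eq.trans (Finset.sum_congr rfl fun f _ => coeff_emb_coe _ ⟨g, hg⟩) (h.trans ?_)
    simp only [MonoidAlgebra.one_def, MonoidAlgebra.coeff_single, Finsupp.single_apply]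
    by_cases h1 : (1 : G) = g
    · subst h1; simp; rfl
    · have : ¬ (1 : N) = ⟨g, hg⟩ := fun e => h1 (congrArg Subtype.val e)
      simp [h1, this]
  · rw [suppIn_one (K := N) g hg]
    exact Finset.sum_eq_zero fun f _ => suppIn_emb _ g hg

/-- The idempotent of a pair's block acting on a block of the centralizer in the subgroup. -/
theorem eG_mul_emb (hM : IsPModular p M) (hN : ∃ k : ℕ, N.index = p ^ k) {R : Subgroup N}
    {e : Set (IrrCharacter (CQ (R.map N.subtype)))} (he : IsPBlock M e)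
    {f : Set (IrrCharacter (CQ R))} (hf : IsPBlock M f) :
    eG M e * (emb (eG M f : MonoidAlgebra (ResField M) N) : MonoidAlgebra (ResField M) G) =
        emb (eG M f : MonoidAlgebra (ResField M) N) ∨
      eG M e * (emb (eG M f : MonoidAlgebra (ResField M) N) : MonoidAlgebra (ResField M) G) = 0 := by
  classical
  have hS : SuppIn N (eG M e : MonoidAlgebra (ResField M) G) := by
    intro g hg
    by_cases hc : g ∈ CQ (R.map N.subtype)
    · rw [show g = ((⟨g, hc⟩ : CQ (R.map N.subtype)) : G) from rfl, coeff_eG]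
      obtain ⟨k, hk⟩ := hN
      have h1 : orderOf (g : G ⧸ N) ∣ p ^ k := hk ▸ N.index_eq_card ▸ orderOf_dvd_natCard _
      obtain ⟨j, -, hj⟩ := (Nat.dvd_prime_pow hM.1).mp h1
      have hj0 : j ≠ 0 := fun h => hg ((QuotientGroup.eq_one_iff g).mp
        (orderOf_eq_one_iff.mp (by rw [hj, h, pow_zero])))
      have h2 : p ∣ orderOf (⟨g, hc⟩ : CQ (R.map N.subtype)) := by
        rw [← Subgroup.orderOf_coe]
        exact (dvd_pow_self p hj0).trans (hj ▸ orderOf_map_dvd (QuotientGroup.mk' N) g)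
      by_contra hne
      exact regular_of_coeffRes_ne_zero hM (.of_isPBlock he) hne h2
    · exact suppIn_eG e g hc
  set u := resTo N (eG M e : MonoidAlgebra (ResField M) G) with hu
  have heu : (eG M e : MonoidAlgebra (ResField M) G) = emb u := eq_emb_of_suppIn hS
  have hu1 : SuppIn (CQ R) u := fun n hn => by
    rw [← coeff_emb_coe u n, ← heu]
    exact suppIn_eG e _ fun h => hn (mem_cq_map.mpr h)
  have hu2 : CInv (CQ R) u := fun s hs n => by
    rw [← coeff_emb_coe u (s * n * s⁻¹), ← coeff_emb_coe u n, ← heu]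
    exact cinv_eG e s (mem_cq_map.mp hs) n
  have hu3 : u * u = u := emb_injective (by rw [emb_mul, ← heu, eG_mul_self hM he])
  obtain ⟨η, hη⟩ := isPBlock_nonempty hf
  rw [heu, ← emb_mul]
  rcases idem_mul_block hM hu1 hu2 hu3 hf hη with ⟨h, -⟩ | ⟨h, -⟩
  · exact Or.inl (congrArg emb h)
  · exact Or.inr (by rw [h]; exact ga_ext fun g => by simp [emb])

/-- A block idempotent of the centralizer in the subgroup, inside the ambient algebra. -/
noncomputable def embBlock {R : Subgroup N} (f : BlockT M R) : MonoidAlgebra (ResField M) G :=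
  emb (eG M f.1 : MonoidAlgebra (ResField M) N)

theorem embBlock_mul (hM : IsPModular p M) {R : Subgroup N} (f g : BlockT M R) :
    (embBlock f : MonoidAlgebra (ResField M) G) * embBlock g = if f = g then embBlock f else 0 := by
  unfold embBlock
  split_ifs with h
  · rw [← h, ← emb_mul, eG_mul_self hM f.2]
  · rw [← emb_mul, eG_mul_eq_zero hM f.2 g.2 fun h' => h (Subtype.ext h')]
    exact ga_ext fun w => by simp [emb]

theorem embBlock_ne_zero (hM : IsPModular p M) {R : Subgroup N} (f : BlockT M R) :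
    (embBlock f : MonoidAlgebra (ResField M) G) ≠ 0 :=
  emb_eG_ne_zero hM f.2

theorem embBlock_injective (hM : IsPModular p M) {R : Subgroup N} :
    Function.Injective (embBlock (G := G) : BlockT M R → MonoidAlgebra (ResField M) G) := by
  intro f g h
  by_contra hne
  have h1 := embBlock_mul (G := G) hM f g
  rw [if_neg hne, ← h, embBlock_mul hM f f, if_pos rfl] at h1
  exact embBlock_ne_zero hM f h1

theorem suppIn_embBlock {R : Subgroup N} (f : BlockT M R) :
    SuppIn (CQ (R.map N.subtype)) (embBlock f : MonoidAlgebra (ResField M) G) := fun g hg => by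
  unfold embBlock
  by_cases hgN : g ∈ N
  · rw [show g = ((⟨g, hgN⟩ : N) : G) from rfl, coeff_emb_coe]
    exact suppIn_eG f.1 _ fun h => hg (mem_cq_map.mp h)
  · exact suppIn_emb _ g hgN

theorem cj_embBlock_of_mem {R : Subgroup N} {m : G} (hmC : m ∈ CQ (R.map N.subtype)) (hmN : m ∈ N)
    (f : BlockT M R) : cj m (embBlock f : MonoidAlgebra (ResField M) G) = embBlock f := by
  unfold embBlock
  show cj ((⟨m, hmN⟩ : N) : G) _ = _
  rw [cj_emb, cinv_iff_cj.mp (cinv_eG f.1) _ (mem_cq_map.mpr hmC)]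

theorem exists_embBlock_conj {R : Subgroup N} {x : G}
    (hx : x ∈ Subgroup.normalizer (R.map N.subtype : Set G)) (f : BlockT M R) :
    ∃ f' : BlockT M R, (embBlock f' : MonoidAlgebra (ResField M) G) = cj x (embBlock f) := by
  obtain ⟨f', h1, h2⟩ := exists_conj_block hx f.2
  exact ⟨⟨f', h1⟩, h2⟩

/-- The blocks of the centralizer in the subgroup under one block of the ambient centralizer are
conjugate. -/
theorem exists_orbit_conj (hM : IsPModular p M) {R : Subgroup N}
    {e0 : Set (IrrCharacter (CQ (R.map N.subtype)))} (he0 : IsPBlock M e0) {f0 f1 : BlockT M R}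
    (hf0 : eG M e0 * (embBlock f0 : MonoidAlgebra (ResField M) G) = embBlock f0)
    (hf1 : eG M e0 * (embBlock f1 : MonoidAlgebra (ResField M) G) = embBlock f1) :
    ∃ d ∈ CQ (R.map N.subtype), (embBlock f1 : MonoidAlgebra (ResField M) G) = cj d (embBlock f0) := by
  classical
  have hCn : ∀ d ∈ CQ (R.map N.subtype), d ∈ Subgroup.normalizer (R.map N.subtype : Set G) :=
    fun d hd => centralizer_le_normalizer' _ hd
  set O : Finset (BlockT M R) := Finset.univ.filter fun f =>
    ∃ d ∈ CQ (R.map N.subtype), (embBlock f : MonoidAlgebra (ResField M) G) = cj d (embBlock f0) with hO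
  set Eo : MonoidAlgebra (ResField M) G := ∑ f ∈ O, embBlock f with hEo
  have hEoS : SuppIn (CQ (R.map N.subtype)) Eo := fun g hg => by
    rw [hEo, coeff_sum_apply]
    exact Finset.sum_eq_zero fun f _ => suppIn_embBlock f g hg
  have hEoC : CInv (CQ (R.map N.subtype)) Eo := cinv_iff_cj.mpr fun d hd => by
    choose σ hσ using fun f : BlockT M R => exists_embBlock_conj (M := M) (hCn d hd) f
    have hσinj : Function.Injective σ := fun f g h => embBlock_injective hM (by
      have := congrArg (cj d⁻¹) ((hσ f).symm.trans ((congrArg embBlock h).trans (hσ g)))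
      rwa [cj_cj, cj_cj, inv_mul_cancel, cj_one, cj_one] at this)
    have hmem : ∀ f, σ f ∈ O ↔ f ∈ O := fun f => by
      simp only [hO, Finset.mem_filter, Finset.mem_univ, true_and, hσ f]
      constructor
      · rintro ⟨d', hd', h⟩
        refine ⟨d⁻¹ * d', mul_mem (inv_mem hd) hd', ?_⟩
        rw [← cj_cj, ← h, cj_cj, inv_mul_cancel, cj_one]
      · rintro ⟨d', hd', h⟩
        exact ⟨d * d', mul_mem hd hd', by rw [h, cj_cj]⟩
    have himg : O.image σ = O := by
      refine Finset.eq_of_subset_of_card_le ?_ ?_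
      · intro g hg
        obtain ⟨f, hf, rfl⟩ := Finset.mem_image.mp hg
        exact (hmem f).mpr hf
      · rw [Finset.card_image_of_injective _ hσinj]
    rw [hEo]
    conv_rhs => rw [← himg, Finset.sum_image fun a _ b _ h => hσinj h]
    refine ga_ext fun g => ?_
    rw [coeff_cj, coeff_sum_apply, coeff_sum_apply]
    exact Finset.sum_congr rfl fun f _ => by rw [hσ f, coeff_cj]
  have hmulEo : ∀ f, (embBlock f : MonoidAlgebra (ResField M) G) * Eo =
      if f ∈ O then embBlock f else 0 := fun f => by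
    rw [hEo, Finset.mul_sum]
    simp only [embBlock_mul hM, Finset.sum_ite_eq]
  have hEoEo : Eo * Eo = Eo := by
    conv_lhs => arg 1; rw [hEo]
    rw [Finset.sum_mul, hEo]
    exact Finset.sum_congr rfl fun f hf => by rw [← hEo, hmulEo, if_pos hf]
  have hf0O : f0 ∈ O :=
    Finset.mem_filter.mpr ⟨Finset.mem_univ _, 1, one_mem _, (cj_one _).symm⟩
  obtain ⟨ξ, hξ⟩ := isPBlock_nonempty he0
  have hcomm : ∀ f : BlockT M R, (embBlock f : MonoidAlgebra (ResField M) G) * eG M e0 =
      eG M e0 * embBlock f :=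
    fun f => (CInv.commute_of_suppIn (cinv_eG e0) (suppIn_embBlock f)).symm.eq
  rcases idem_mul_block hM hEoS hEoC hEoEo he0 hξ with ⟨h, -⟩ | ⟨h, -⟩
  · by_contra hno
    refine embBlock_ne_zero hM f1 (?_ : (embBlock f1 : MonoidAlgebra (ResField M) G) = 0)
    rw [← hf1, ← hcomm, ← h, ← mul_assoc, hmulEo, if_neg, zero_mul]
    exact fun hm => hno (Finset.mem_filter.mp hm).2
  · exfalso
    refine embBlock_ne_zero hM f0 (?_ : (embBlock f0 : MonoidAlgebra (ResField M) G) = 0)
    have h2 := hmulEo f0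
    rw [if_pos hf0O] at h2
    rw [← hf0, ← hcomm, ← h2, mul_assoc, h, mul_zero]

/-- A `p`-regular element of the subgroup that fixes a block fixes some block below it. -/
theorem exists_fixed_below (hM : IsPModular p M) (hN : ∃ k : ℕ, N.index = p ^ k) {R : Subgroup N}
    {e0 : Set (IrrCharacter (CQ (R.map N.subtype)))} (he0 : IsPBlock M e0) {x : G}
    (hxR : x ∈ Subgroup.normalizer (R.map N.subtype : Set G)) (hxmem : x ∈ N)
    (hxreg : ¬ p ∣ orderOf x) (hxe0 : cj x (eG M e0 : MonoidAlgebra (ResField M) G) = eG M e0) :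
    ∃ f0 : BlockT M R, eG M e0 * (embBlock f0 : MonoidAlgebra (ResField M) G) = embBlock f0 ∧
      cj x (embBlock f0 : MonoidAlgebra (ResField M) G) = embBlock f0 := by
  classical
  obtain ⟨f0, hf0⟩ : ∃ f : BlockT M R,
      eG M e0 * (embBlock f : MonoidAlgebra (ResField M) G) = embBlock f := by
    by_contra hall
    push Not at hall
    refine eG_ne_zero hM he0 ?_
    rw [← mul_one (eG M e0), ← sum_emb_eG hM R, Finset.mul_sum]
    exact Finset.sum_eq_zero fun f _ => (eG_mul_emb hM hN he0 f.2).resolve_left (hall f)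
  refine ⟨f0, hf0, ?_⟩
  obtain ⟨f1, hf1⟩ := exists_embBlock_conj hxR f0
  have hf1X : eG M e0 * (embBlock f1 : MonoidAlgebra (ResField M) G) = embBlock f1 := by
    rw [hf1]
    conv_lhs => rw [← hxe0, ← cj_mul', hf0]
  obtain ⟨d, hd, hxd⟩ := exists_orbit_conj hM he0 hf0 hf1X
  rw [hf1] at hxd
  have hswap : ∀ d ∈ CQ (R.map N.subtype), cj (x * d) (embBlock f0 : MonoidAlgebra (ResField M) G) =
      cj (d * x) (embBlock f0) := by
    intro d hd
    obtain ⟨f2, hf2⟩ := exists_embBlock_conj
      (mul_mem (centralizer_le_normalizer' _ hd) hxR) f0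
    have hm : x * d * x⁻¹ * d⁻¹ ∈ CQ (R.map N.subtype) :=
      mul_mem ((cq_conj_iff hxR d).mp hd) (inv_mem hd)
    have hmN : x * d * x⁻¹ * d⁻¹ ∈ N := by
      have h2 := mul_mem hxmem (hNn.conj_mem _ (inv_mem hxmem) d)
      simpa [mul_assoc] using h2
    have h3 := cj_embBlock_of_mem hm hmN f2
    rw [hf2, cj_cj] at h3
    rw [← h3]
    congr 1
    group
  have hpow : ∀ n : ℕ, cj (x ^ n) (embBlock f0 : MonoidAlgebra (ResField M) G) =
      cj (d ^ n) (embBlock f0) := by
    intro n
    induction n with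
    | zero => rw [pow_zero, pow_zero]
    | succ n ih =>
      rw [pow_succ' x, ← cj_cj, ih, cj_cj, hswap _ (pow_mem hd n), ← cj_cj, hxd, cj_cj, ← pow_succ]
  have hn := hpow (orderOf x)
  rw [pow_orderOf_eq_one, cj_one] at hn
  obtain ⟨k, hk⟩ := hN
  have h1 : cj (d ^ p ^ k) (embBlock f0 : MonoidAlgebra (ResField M) G) = embBlock f0 :=
    cj_embBlock_of_mem (pow_mem hd _) (hk ▸ Subgroup.pow_index_mem N d) f0
  rw [hxd]
  let St : Subgroup G :=
    { carrier := {v | cj v (embBlock f0 : MonoidAlgebra (ResField M) G) = embBlock f0}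
      one_mem' := cj_one _
      mul_mem' := fun {a b} ha hb => by
        simp only [Set.mem_setOf_eq] at ha hb ⊢
        rw [← cj_cj, hb, ha]
      inv_mem' := fun {a} ha => by
        simp only [Set.mem_setOf_eq] at ha ⊢
        conv_lhs => rw [← ha, cj_cj, inv_mul_cancel, cj_one] }
  have hcop : IsCoprime (orderOf x : ℤ) ((p ^ k : ℕ) : ℤ) := Nat.isCoprime_iff_coprime.mpr
    (((hM.1.coprime_iff_not_dvd.mpr hxreg).symm).pow_right k)
  obtain ⟨a, b, hab⟩ := hcop
  show d ∈ St
  have hd1 : d ^ ((orderOf x : ℕ) : ℤ) ∈ St := by rw [zpow_natCast]; exact hn.symm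
  have hd2 : d ^ ((p ^ k : ℕ) : ℤ) ∈ St := by rw [zpow_natCast]; exact h1
  rw [← zpow_one d, ← hab, zpow_add, zpow_mul', zpow_mul']
  exact mul_mem (zpow_mem hd1 a) (zpow_mem hd2 b)

theorem mem_of_not_dvd_orderOf (hM : IsPModular p M) (hN : ∃ k : ℕ, N.index = p ^ k) {x : G}
    (hxreg : ¬ p ∣ orderOf x) : x ∈ N := by
  obtain ⟨k, hk⟩ := hN
  have h1 : orderOf (x : G ⧸ N) ∣ p ^ k := hk ▸ N.index_eq_card ▸ orderOf_dvd_natCard _
  obtain ⟨j, -, hj⟩ := (Nat.dvd_prime_pow hM.1).mp h1
  refine (QuotientGroup.eq_one_iff x).mp (orderOf_eq_one_iff.mp ?_)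
  rcases Nat.eq_zero_or_pos j with hj0 | hj0
  · rw [hj, hj0, pow_zero]
  · exact absurd ((dvd_pow_self p hj0.ne').trans
      (hj ▸ orderOf_map_dvd (QuotientGroup.mk' N) x)) hxreg

/-- A `p`-regular element of the subgroup that normalizes a `p`-group and centralizes its part in
the subgroup centralizes all of it. -/
theorem mem_cq_of_inter (hM : IsPModular p M) {Q : Subgroup G} (hQp : IsPGroup p Q) {x : G}
    (hxN : x ∈ Subgroup.normalizer (Q : Set G)) (hxmem : x ∈ N) (hxreg : ¬ p ∣ orderOf x)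
    (hxC : x ∈ CQ (Q ⊓ N)) : x ∈ CQ Q := by
  refine Subgroup.mem_centralizer_iff.mpr fun u hu => ?_
  set w := x * u * x⁻¹ * u⁻¹ with hw
  have hwQ : w ∈ Q := mul_mem ((Subgroup.mem_normalizer_iff.mp hxN u).mp hu) (inv_mem hu)
  have hwN : w ∈ N := by
    have h1 := hNn.conj_mem _ (inv_mem hxmem) u
    have h2 := mul_mem hxmem h1
    simpa [hw, mul_assoc] using h2
  have hxw : Commute x w :=
    (Subgroup.mem_centralizer_iff.mp hxC w ⟨hwQ, hwN⟩).symm
  have hit : ∀ n : ℕ, x ^ n * u * (x ^ n)⁻¹ = w ^ n * u := by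
    intro n
    induction n with
    | zero => simp
    | succ n ih =>
      rw [pow_succ', mul_inv_rev,
        show x * x ^ n * u * ((x ^ n)⁻¹ * x⁻¹) = x * (x ^ n * u * (x ^ n)⁻¹) * x⁻¹ by group,
        ih, show x * (w ^ n * u) * x⁻¹ = (x * w ^ n) * u * x⁻¹ by group,
        (hxw.pow_right n).eq, pow_succ]
      simp only [hw, mul_assoc, inv_mul_cancel, mul_one]
  have hwn : w ^ orderOf x = 1 := by
    have := hit (orderOf x)
    rw [pow_orderOf_eq_one, inv_one, one_mul, mul_one] at this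
    exact mul_eq_right.mp this.symm
  obtain ⟨j, hj⟩ := hQp ⟨w, hwQ⟩
  have hw1 : w = 1 := orderOf_eq_one_iff.mp (Nat.eq_one_of_dvd_coprimes
    (((hM.1.coprime_iff_not_dvd.mpr hxreg).symm).pow_right j) (orderOf_dvd_of_pow_eq_one hwn)
    (orderOf_dvd_of_pow_eq_one (congrArg Subtype.val hj)))
  rw [hw, mul_inv_eq_one, mul_inv_eq_iff_eq_mul] at hw1
  exact hw1.symm

theorem isNilpotentBlock_of_ppow_below (hM : IsPModular p M) (hN : ∃ k : ℕ, N.index = p ^ k)
    {c : Set (IrrCharacter N)} (hc : IsPBlock M c) {B : Set (IrrCharacter G)} (hB : IsPBlock M B)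
    (hBc : (blockBar M B : MonoidAlgebra (ResField M) G) =
      emb (blockBar M c : MonoidAlgebra (ResField M) N))
    (hnil : IsNilpotentBlock p M c) : IsNilpotentBlock p M B := by
  classical
  have := Fintype.ofFinite (IrrCharacter G)
  have := Fintype.ofFinite (IrrCharacter N)
  have := Fintype.ofFinite (ConjClasses N)
  have hzemb : ∀ R : Subgroup N, trC (R.map N.subtype) (blockBar M B : MonoidAlgebra (ResField M) G) =
      emb (trC R (blockBar M c : MonoidAlgebra (ResField M) N)) := fun R => by rw [emb_trC, hBc]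
  refine ⟨hB, fun Q e hQe x hxN hxe hxreg => ?_⟩
  have hxmem : x ∈ N := mem_of_not_dvd_orderOf hM hN hxreg
  set R : Subgroup N := (Q ⊓ N).subgroupOf N with hR
  have hRmap : R.map N.subtype = Q ⊓ N := Subgroup.map_subgroupOf_eq_of_le inf_le_right
  have hQp : IsPGroup p Q := hQe.1.1
  obtain ⟨e0, he0, hle⟩ := exists_subpairLE hM hQe.1 (R.map N.subtype) (hRmap.trans_le inf_le_left)
  have he0B := (SubpairLE.isBrauerPairOf_iff hM hle).mp hQe
  have hxR : x ∈ Subgroup.normalizer (R.map N.subtype : Set G) := by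
    rw [hRmap]
    refine Subgroup.mem_normalizer_iff.mpr fun v => ?_
    exact and_congr (Subgroup.mem_normalizer_iff.mp hxN v) (nconj x v)
  have hxe0 : cj x (eG M e0) = eG M e0 := by
    have h2 : Relation.ReflTransGen (NormalSubpairRel p M)
        (cjP x (⟨R.map N.subtype, e0⟩ : BrauerPairIdx G)) (cjP x (⟨Q, e⟩ : BrauerPairIdx G)) :=
      SubpairLE.conj hM x hle
    rw [cjP_eq_of_stabilizes hM hxN hQe.1.2 hxe, cjP_eq_of_mem hM hxR he0.2] at h2
    rw [← eG_conjN hxR]
    exact congrArg (eG M) (SubpairLE.unique hM hQe.1 h2 hle)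
  obtain ⟨f0, hf0, hfx⟩ := exists_fixed_below hM hN he0.2 hxR hxmem hxreg hxe0
  -- a pair of `c`
  obtain ⟨ξ, hξ⟩ := isPBlock_nonempty he0.2
  have hpR : IsPGroup p R :=
    (hQp.to_le inf_le_left).of_equiv (Subgroup.subgroupOfEquivOfLe inf_le_right).symm
  have hz0 : trC (R.map N.subtype) (blockBar M B : MonoidAlgebra (ResField M) G) * eG M e0 =
      eG M e0 := by
    rcases idem_mul_block hM (suppIn_trC _) (cinv_trC_blockBar B)
      (trC_blockBar_idem hM (hpR.map N.subtype) hB) he0.2 hξ with ⟨h, -⟩ | ⟨-, h⟩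
    · exact h
    · rw [omG_congr ξ (y' := (blockBar M B : MonoidAlgebra (ResField M) G))
        (fun g hg => coeff_trC _ hg), omG_pair_eq_one hM he0B hξ] at h
      exact absurd h one_ne_zero
  have hzf : trC R (blockBar M c : MonoidAlgebra (ResField M) N) * eG M f0.1 = eG M f0.1 := by
    refine emb_injective (G := G) ?_
    rw [emb_mul, ← hzemb]
    show _ * embBlock f0 = embBlock f0
    rw [← hf0, ← mul_assoc, hz0]
  obtain ⟨η, hη⟩ := isPBlock_nonempty f0.2
  have hone := omG_eq_one_of_mul hM (suppIn_trC _) (cinv_trC_blockBar c) f0.2 hη hzf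
  rw [omG_congr η (y' := (blockBar M c : MonoidAlgebra (ResField M) N))
    (fun g hg => coeff_trC _ hg)] at hone
  have hpairc := isBrauerPairOf_of_omG_one hM ⟨hpR, f0.2⟩ hc hη hone
  set xN : N := ⟨x, hxmem⟩ with hxN'
  have hxNR : xN ∈ Subgroup.normalizer (R : Set N) := Subgroup.mem_normalizer_iff.mpr fun v => by
    have h1 := Subgroup.mem_normalizer_iff.mp hxR (v : G)
    exact (Subgroup.mem_map_iff_mem (f := N.subtype) Subtype.val_injective).symm.trans
      (h1.trans (Subgroup.mem_map_iff_mem (f := N.subtype) (x := xN * v * xN⁻¹) Subtype.val_injective))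
  have hxf : StabilizesBlock (CQ R) f0.1 xN :=
    (stabilizesBlock_iff hM hxNR f0.2).mpr (emb_injective (G := G) (by
      rw [← cj_emb]; exact hfx))
  have hxC : x ∈ CQ (R.map N.subtype) := mem_cq_map.mp
    (hnil.2 R f0.1 hpairc xN hxNR hxf
      (by rw [IsPRegular, ← Subgroup.orderOf_coe]; exact hxreg))
  exact mem_cq_of_inter hM hQp hxN hxmem hxreg (hRmap ▸ hxC)

theorem isNilpotentBlock_of_ppow_above (hM : IsPModular p M) (hN : ∃ k : ℕ, N.index = p ^ k)
    {c : Set (IrrCharacter N)} (hc : IsPBlock M c) {B : Set (IrrCharacter G)} (hB : IsPBlock M B)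
    (hBc : (blockBar M B : MonoidAlgebra (ResField M) G) =
      emb (blockBar M c : MonoidAlgebra (ResField M) N))
    (hnil : IsNilpotentBlock p M B) : IsNilpotentBlock p M c := by
  classical
  have := Fintype.ofFinite (IrrCharacter G)
  have := Fintype.ofFinite (IrrCharacter N)
  have := Fintype.ofFinite (ConjClasses N)
  have hzemb : ∀ R : Subgroup N, trC (R.map N.subtype) (blockBar M B : MonoidAlgebra (ResField M) G) =
      emb (trC R (blockBar M c : MonoidAlgebra (ResField M) N)) := fun R => by rw [emb_trC, hBc]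
  refine ⟨hc, fun R f hRf x hxN hxf hxreg => ?_⟩
  have hpR : IsPGroup p R := hRf.1.1
  set Ef : MonoidAlgebra (ResField M) G := emb (eG M f : MonoidAlgebra (ResField M) N) with hEf
  obtain ⟨e, he⟩ : ∃ e : BlockT M (R.map N.subtype), eG M e.1 * Ef = Ef := by
    by_contra hall
    push Not at hall
    refine emb_eG_ne_zero hM hRf.1.2 (?_ : Ef = 0)
    rw [← one_mul Ef, ← sum_eG_eq_one hM (R.map N.subtype), Finset.sum_mul]
    exact Finset.sum_eq_zero fun e _ => (eG_mul_emb hM hN e.2 hRf.1.2).resolve_left (hall e)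
  obtain ⟨η, hη⟩ := isPBlock_nonempty hRf.1.2
  obtain ⟨ξ, hξ⟩ := isPBlock_nonempty e.2
  have hzf : trC (R.map N.subtype) (blockBar M B : MonoidAlgebra (ResField M) G) * Ef = Ef := by
    rw [hzemb, hEf, ← emb_mul]
    congr 1
    rcases idem_mul_block hM (suppIn_trC _) (cinv_trC_blockBar c) (trC_blockBar_idem hM hpR hc)
      hRf.1.2 hη with ⟨h, -⟩ | ⟨-, h⟩
    · exact h
    · rw [omG_congr η (y' := (blockBar M c : MonoidAlgebra (ResField M) N))
        (fun g hg => coeff_trC _ hg), omG_pair_eq_one hM hRf hη] at h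
      exact absurd h one_ne_zero
  have hone : omG M ξ (trC (R.map N.subtype) (blockBar M B : MonoidAlgebra (ResField M) G)) = 1 := by
    rcases idem_mul_block hM (suppIn_trC _) (cinv_trC_blockBar B)
      (trC_blockBar_idem hM ((hpR.map N.subtype)) hB) e.2 hξ with ⟨-, h⟩ | ⟨h, -⟩
    · exact h
    · exfalso
      refine emb_eG_ne_zero hM hRf.1.2 (?_ : Ef = 0)
      rw [← hzf, ← he, ← mul_assoc, h, zero_mul]
  rw [omG_congr ξ (y' := (blockBar M B : MonoidAlgebra (ResField M) G))
    (fun g hg => coeff_trC _ hg)] at hone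
  have hpair := isBrauerPairOf_of_omG_one hM ⟨(hpR.map N.subtype), e.2⟩ hB hξ hone
  have hxR : (x : G) ∈ Subgroup.normalizer (R.map N.subtype : Set G) := by
    rw [Subgroup.mem_normalizer_iff]
    intro v
    constructor
    · rintro ⟨v', hv', rfl⟩
      exact ⟨x * v' * x⁻¹, (Subgroup.mem_normalizer_iff.mp hxN v').mp hv', rfl⟩
    · rintro ⟨v', hv', hve⟩
      refine ⟨x⁻¹ * v' * x, (Subgroup.mem_normalizer_iff''.mp hxN v').mp hv', ?_⟩
      simp only [Subgroup.coe_subtype, Subgroup.coe_mul, Subgroup.coe_inv] at hve ⊢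
      rw [hve]
      group
  have hxEf : cj (x : G) Ef = Ef := by
    rw [hEf, cj_emb, (stabilizesBlock_iff hM hxN hRf.1.2).mp hxf]
  have hxe : StabilizesBlock (CQ (R.map N.subtype)) e.1 (x : G) := by
    refine (stabilizesBlock_iff hM hxR e.2).mpr ?_
    rw [← eG_conjN hxR]
    congr 1
    by_contra hne
    refine emb_eG_ne_zero hM hRf.1.2 (?_ : Ef = 0)
    have h1 := congrArg (cj (x : G)) he
    rw [cj_mul', hxEf, ← eG_conjN hxR] at h1
    rw [← h1, ← he, ← mul_assoc, eG_mul_eq_zero hM (isPBlock_conjN hxR e.2) e.2 hne, zero_mul]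
  exact mem_cq_map.mpr (hnil.2 _ e.1 hpair (x : G) hxR hxe
    (by rw [IsPRegular, Subgroup.orderOf_coe]; exact hxreg))

/-- A stable block of a normal subgroup of `p`-power index is nilpotent exactly when the block
above it is. -/
theorem isNilpotentBlock_ppow_iff (hM : IsPModular p M) (hN : ∃ k : ℕ, N.index = p ^ k)
    {c : Set (IrrCharacter N)} (hc : IsPBlock M c) (hst : ∀ g : G, cjN g '' c = c)
    {B : Set (IrrCharacter G)} (hB : IsPBlock M B) (hcov : Covers B c) :
    IsNilpotentBlock p M c ↔ IsNilpotentBlock p M B := by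
  classical
  have := Fintype.ofFinite (IrrCharacter G)
  have := Fintype.ofFinite (IrrCharacter N)
  have := Fintype.ofFinite (ConjClasses N)
  have := Fintype.ofFinite (G ⧸ N)
  have hBc : (blockBar M B : MonoidAlgebra (ResField M) G) =
      emb (blockBar M c : MonoidAlgebra (ResField M) N) := by
    rw [blockBar_eq_orbSet_of_ppow hM hN hB hc hcov, orbSet_eq_of_stable hst, eG]
  exact ⟨isNilpotentBlock_of_ppow_below hM hN hc hB hBc, isNilpotentBlock_of_ppow_above hM hN hc hB hBc⟩

end CfsgLib.Block
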