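import Cfsg.Agent.Lib.Block.FusionSat
import Cfsg.Agent.Lib.Block.MaxPairs
import Cfsg.Agent.Lib.Block.NormalSupport
import Cfsg.Agent.Lib.Block.PPowerNilpotent

/-!
# Centric pairs fixed by the whole group

A block whose defect group is central is nilpotent in the sense of pairs; for a centric pair `(Q, f)`
fixed by `G` the idempotent of the block is that of `f`, and the block of `Q C(Q)` at `f` is nilpotent.
-/

open Finset MonoidAlgebra
open scoped ComplexConjugate

set_option linter.unusedSectionVars false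

namespace CfsgLib.Block

open Cfsg
open scoped Pair

universe u

variable {p : ℕ} {M : Ideal AlgInt} [M.IsMaximal] {G : Type u} [Group G] [Fintype G] [DecidableEq G]

/-- The group of a pair centralizes an element at which the idempotent does not vanish. -/
theorem exists_coeff_of_pair (hM : IsPModular p M) [Fintype (IrrCharacter G)]
    {B : Set (IrrCharacter G)} {R : Subgroup G} {e : Set (IrrCharacter (CQ R))}
    (h : IsBrauerPairOf p M B R e) : ∃ x ∈ CQ R, coeffRes M B x ≠ 0 := by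
  classical
  obtain ⟨ξ, hξ⟩ := isPBlock_nonempty h.1.2
  have h1 := omG_pair_eq_one hM h hξ
  obtain ⟨C, -, hC⟩ := Finset.exists_ne_zero_of_sum_ne_zero
    (show omG M ξ (blockBar M B : MonoidAlgebra (ResField M) G) ≠ 0 from h1 ▸ one_ne_zero)
  exact ⟨_, (rep C).2, by simpa [coeff_blockBar] using left_ne_zero_of_mul hC⟩

variable {B : Set (IrrCharacter G)} {P Q : Subgroup G} {e : Set (IrrCharacter (CQ P))}
  {f : Set (IrrCharacter (CQ Q))}

/-- The idempotent of the block of a pair fixed by the group is that of the pair. -/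
theorem blockBar_eq_eG_of_fixed (hM : IsPModular p M) [Fintype (IrrCharacter G)]
    (hmax : IsMaximalBrauerPair p M B P e) (hle : SubpairLE p M Q f P e)
    (hfix : ∀ x : G, x ∈ Subgroup.normalizer (Q : Set G) ∧ StabilizesBlock (CQ Q) f x) :
    (blockBar M B : MonoidAlgebra (ResField M) G) = eG M f := by
  classical
  have hpair := (SubpairLE.isBrauerPairOf_iff hM hle).mp hmax.1
  have hQn : Q.Normal := ⟨fun n hn g => (Subgroup.mem_normalizer_iff.mp (hfix g).1 n).mp hn⟩
  have hB := hpair.2.1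
  have hCn : (CQ Q).Normal :=
    ⟨fun n hn g => (cq_conj_iff (hfix g).1 n).mp hn⟩
  have := Fintype.ofFinite (IrrCharacter (CQ Q))
  have hfx : ∀ g : G, cj g (eG M f) = eG M f := fun g =>
    (stabilizesBlock_iff hM (hfix g).1 hpair.1.2).mp (hfix g).2
  have hcf : CInv ⊤ (eG M f) := cinv_iff_cj.mpr fun u _ => hfx u
  set z := zkOf M _ hcf with hz
  have hzz : z * z = z := Subtype.ext (by
    show eG M f * eG M f = eG M f
    exact eG_mul_self hM hpair.1.2)
  refine congrArg Subtype.val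
    (eq_of_omegaBar_eq_of_idem (b := z) hM (blockBar_mul_self hM (.of_isPBlock hB)) hzz fun χ => ?_)
  obtain ⟨η, hη⟩ := exists_constituent (N := CQ Q) χ
  have h2 : ∀ S : Set (IrrCharacter G), IsPBlock M S →
      omegaBar M χ (blockBar M S) = omG M η (blockBar M S : MonoidAlgebra (ResField M) G) := by
    intro S hS
    refine omegaBar_eq_omG_of_constituent χ η hη _ ?_
    intro g hg
    rw [← trC_blockBar hM hpair.1.1 hS]
    exact suppIn_trC _ g hg
  rw [hz, omegaBar_eq_omG_of_constituent χ η hη z (suppIn_eG _), coe_zkOf, omG_eG hM hpair.1.2,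
    omegaBar_blockBar hM (.of_isPBlock hB)]
  by_cases hmem : η ∈ f
  · rw [if_pos hmem, if_pos]
    have h3 := h2 _ (isPBlock_blockOf χ)
    rw [omegaBar_blockBar hM (.of_isPBlock (isPBlock_blockOf χ)), if_pos (self_mem_blockOf χ)] at h3
    obtain ⟨B', -, huniq⟩ := existsUnique_block_of_pair (G := G) hM hpair.1
    rw [huniq B hpair, ← huniq _ (isBrauerPairOf_of_omG_one hM hpair.1 (isPBlock_blockOf χ) hmem h3.symm)]
    exact self_mem_blockOf χ
  · rw [if_neg hmem, if_neg]
    intro hχ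
    have h3 := h2 _ hB
    rw [omegaBar_blockBar hM (.of_isPBlock hB), if_pos hχ] at h3
    have hg : IsBrauerPairOf p M B Q (blockOf M (η : CQ Q → ℂ)) :=
      isBrauerPairOf_of_omG_one hM ⟨hpair.1.1, isPBlock_blockOf η⟩ hB (self_mem_blockOf η) h3.symm
    obtain ⟨x, hx⟩ := exists_conj_subpairLE hM hmax hg
    have e1 : cjP x (⟨Q, blockOf M (η : CQ Q → ℂ)⟩ : BrauerPairIdx G) = ⟨Q, f⟩ :=
      below_ext hM hmax.1.1 hx hle (cjS_eq_of_mem_normalizer (hfix x).1)
    rw [cjP_eq_of_mem hM (hfix x).1 hg.1.2] at e1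
    have e2 : eG M (conjSet x (CQ Q) (CQ Q) (blockOf M (η : CQ Q → ℂ))) = eG M f :=
      congrArg (eG M) (eq_of_heq (Sigma.mk.inj_iff.mp e1).2)
    rw [eG_conjN (hfix x).1, ← hfx x] at e2
    have e3 : eG M (blockOf M (η : CQ Q → ℂ)) = eG M f := by
      have := congrArg (cj x⁻¹) e2
      rwa [cj_cj, cj_cj, inv_mul_cancel, cj_one, cj_one] at this
    exact hmem (eG_inj hM hg.1.2 hpair.1.2 e3 ▸ self_mem_blockOf η)

/-- The block of `Q C(Q)` at a centric pair is nilpotent. -/
theorem exists_nilpotent_centric_block (hM : IsPModular p M) (hf : IsBrauerPair p M Q f)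
    (hdef : IsDefectGroup p M f ((Q ⊓ CQ Q).subgroupOf (CQ Q))) :
    ∃ F : Set (IrrCharacter ↥(Q ⊔ CQ Q)), IsPBlock M F ∧
      (∀ t : ↥(Q ⊔ CQ Q), blockCoeff F t = subgroupBlockCoeff (CQ Q) f (t : G)) ∧
      IsNilpotentBlock p M F := by
  classical
  have hpf : Fact p.Prime := ⟨hM.1⟩
  have hst : CInv (Q ⊔ CQ Q) (eG M f) := cinv_sup (cinv_self_eG f) (cinv_eG f)
  obtain ⟨F, hL, hco⟩ := exists_localBlock hM hf.1 le_sup_right le_sup_left
    (sup_le Subgroup.le_normalizer (centralizer_le_normalizer' Q)) hf.2 (cinv_iff_cj.mp hst)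
  refine ⟨F, hL.block, hco, ?_⟩
  set N := (CQ Q).subgroupOf (Q ⊔ CQ Q) with hN
  have hNn : N.Normal := (Subgroup.normal_subgroupOf_iff_le_normalizer le_sup_right).mpr
    (sup_le (fun u hu => Subgroup.mem_normalizer_iff.mpr (cq_conj_iff (Subgroup.le_normalizer hu)))
      Subgroup.le_normalizer)
  let ι : CQ Q ≃* N := (Subgroup.subgroupOfEquivOfLe le_sup_right).symm
  set c := irrEquiv ι '' f with hc
  have hcb : IsPBlock M c := isPBlock_image_irrEquiv ι hf.2
  have := Fintype.ofFinite (IrrCharacter N)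
  -- the index is a power of `p`
  have hidx : ∃ k : ℕ, N.index = p ^ k := by
    obtain ⟨k, hk⟩ := IsPGroup.iff_card.mp hf.1
    have hle : (CQ Q).relIndex (Q ⊔ CQ Q) ∣ p ^ k := by
      rw [← hk]
      have := (inferInstance : ((CQ Q).subgroupOf (Q ⊔ CQ Q)).Normal)
      have h1 := Subgroup.relIndex_sup_right (H := Q.subgroupOf (Q ⊔ CQ Q))
        (K := (CQ Q).subgroupOf (Q ⊔ CQ Q))
      rw [← Subgroup.subgroupOf_sup le_sup_left le_sup_right, Subgroup.subgroupOf_self,
        Subgroup.relIndex_top_right, Subgroup.relIndex_subgroupOf le_sup_left] at h1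
      rw [Subgroup.relIndex] at h1 ⊢
      rw [h1]
      exact Subgroup.index_dvd_card _
    obtain ⟨j, -, hj⟩ := (Nat.dvd_prime_pow hM.1).mp hle
    exact ⟨j, hj⟩
  -- the idempotents agree
  have hBc : (blockBar M F : MonoidAlgebra (ResField M) ↥(Q ⊔ CQ Q)) =
      emb (blockBar M c : MonoidAlgebra (ResField M) N) := by
    refine ga_ext fun t => ?_
    have h1 : (eG M F).coeff (t : G) = (eG M f).coeff (t : G) := by rw [hL.eq]
    rw [coeff_eG] at h1
    rw [coeff_blockBar, h1]
    by_cases ht : t ∈ N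
    · rw [show t = ((⟨t, ht⟩ : N) : ↥(Q ⊔ CQ Q)) from rfl, coeff_emb_coe, coeff_blockBar]
      obtain ⟨s, hs⟩ := ι.surjective ⟨t, ht⟩
      rw [← hs, hc, coeffRes_image_irrEquiv, ← coeff_eG]
      rfl
    · rw [suppIn_emb _ t ht, suppIn_eG f _ fun h => ht (Subgroup.mem_subgroupOf.mpr h)]
  refine isNilpotentBlock_of_ppow_below hM hidx hcb hL.block hBc ⟨hcb, fun R r hR x hxN hxs hxr => ?_⟩
  obtain ⟨y, hy, hyc⟩ := exists_coeff_of_pair hM hR
  obtain ⟨s, rfl⟩ := ι.surjective y
  rw [hc, coeffRes_image_irrEquiv] at hyc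
  set R' := R.comap ι.toMonoidHom with hR'
  have hpR' : IsPGroup p R' := hR.1.1.comap_of_injective ι.toMonoidHom ι.injective
  obtain ⟨g, hg⟩ := coeff_ne_zero_le_defect hM hf.2 hdef hpR' hyc fun u hu =>
    ι.injective (by rw [map_mul, map_mul]; exact Subgroup.mem_centralizer_iff.mp hy _ hu)
  refine Subgroup.mem_centralizer_iff.mpr fun w hw => ?_
  obtain ⟨v, rfl⟩ := ι.surjective w
  obtain ⟨u, rfl⟩ := ι.surjective x
  have hgv := hg (Subgroup.mem_map_of_mem _ (show v ∈ R' from hw))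
  have hcen : ∀ c' : CQ Q, Commute ((g * v * g⁻¹ : CQ Q) : G) (c' : G) := fun c' =>
    Subgroup.mem_centralizer_iff.mp c'.2 _ (Subgroup.mem_subgroupOf.mp hgv).1
  have h4 : Commute (g * v * g⁻¹) (g * u * g⁻¹) := Subtype.ext (hcen (g * u * g⁻¹)).eq
  have h5 : v * u = u * v := by
    have := congrArg (fun z => g⁻¹ * z * g) h4.eq
    simpa [mul_assoc] using this
  rw [← map_mul, ← map_mul, h5]

end CfsgLib.Block
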