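import Cfsg.Agent.Lib.Block.CentralDefect
import Cfsg.Agent.Lib.Char.DefectZero
import Cfsg.Agent.Lib.Invol.PrincipalBlock

/-!
# Codegrees of irreducible characters
-/

open scoped ComplexConjugate

set_option linter.unusedSectionVars false

namespace CfsgLib.Block

open Cfsg

universe u

variable {G : Type u} [Group G] [Finite G]

/-- The kernel, the faithful deflation and the divisibility behind the codegree. -/
theorem exists_kernel_codegree (χ : IrrCharacter G) :
    ∃ (N : Subgroup G) (_ : N.Normal), (∀ g, g ∈ N ↔ (χ : G → ℂ) g = (χ : G → ℂ) 1) ∧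
      Nat.card {g : G // (χ : G → ℂ) g = (χ : G → ℂ) 1} = Nat.card N ∧
      charDegree (χ : G → ℂ) ∣ Nat.card (G ⧸ N) ∧
      Nat.card N * charDegree (χ : G → ℂ) ∣ Nat.card G ∧
      ∃ χ' : IrrCharacter (G ⧸ N), ∀ g : G, (χ' : G ⧸ N → ℂ) (g : G ⧸ N) = (χ : G → ℂ) g := by
  classical
  have := Fintype.ofFinite G
  obtain ⟨N, hN, hmem⟩ := Invol.exists_charKernel χ
  obtain ⟨χ', hχ'⟩ := exists_deflate (N := N) χ fun z hz => (hmem z).mp hz
  obtain ⟨hd, -⟩ := charDegree_eq χ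
  have h1 : charDegree (χ : G → ℂ) ∣ Nat.card (G ⧸ N) :=
    Char.degree_dvd_card χ' (by rw [← QuotientGroup.mk_one, hχ', hd])
  refine ⟨N, hN, hmem, Nat.card_congr (Equiv.subtypeEquivRight fun g => (hmem g).symm), h1, ?_, χ', hχ'⟩
  rw [Subgroup.card_eq_card_quotient_mul_card_subgroup N, mul_comm (Nat.card (G ⧸ N))]
  exact Nat.mul_dvd_mul_left _ h1

/-- The codegree divides the group order. -/
theorem codegree_dvd_card (χ : IrrCharacter G) :
    Nat.card G / (Nat.card {g : G // (χ : G → ℂ) g = (χ : G → ℂ) 1} * charDegree (χ : G → ℂ)) ∣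
      Nat.card G := by
  obtain ⟨N, hN, -, hcard, -, hdvd, -⟩ := exists_kernel_codegree χ
  rw [hcard]
  exact Nat.div_dvd_of_dvd hdvd

/-- An element of order `p` is in the kernel or a zero, unless `p` divides the codegree. -/
theorem value_of_not_dvd_codegree {p : ℕ} [Fact p.Prime] (χ : IrrCharacter G)
    (h : ¬ p ∣ Nat.card G / (Nat.card {g : G // (χ : G → ℂ) g = (χ : G → ℂ) 1} *
      charDegree (χ : G → ℂ))) {g : G} (hg : orderOf g = p) :
    (χ : G → ℂ) g = 0 ∨ (χ : G → ℂ) g = (χ : G → ℂ) 1 := by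
  classical
  have := Fintype.ofFinite G
  have hp : p.Prime := Fact.out
  obtain ⟨N, hN, hmem, hcard, hdvd, -, χ', hχ'⟩ := exists_kernel_codegree χ
  obtain ⟨hd, hd0⟩ := charDegree_eq χ
  by_cases hgN : g ∈ N
  · exact Or.inr ((hmem g).mp hgN)
  refine Or.inl ?_
  rw [← hχ' g]
  have hsplit : Nat.card G = Nat.card (G ⧸ N) * Nat.card N :=
    Subgroup.card_eq_card_quotient_mul_card_subgroup N
  rw [hcard, hsplit, mul_comm (Nat.card (G ⧸ N)), Nat.mul_div_mul_left _ _ Nat.card_pos] at h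
  obtain ⟨c, hc⟩ := hdvd
  rw [hc, Nat.mul_div_cancel_left _ (Nat.pos_of_ne_zero hd0)] at h
  have hc0 : c ≠ 0 := fun h0 => h (h0 ▸ dvd_zero p)
  have hv : (Nat.card (G ⧸ N)).factorization p = (charDegree (χ : G → ℂ)).factorization p := by
    rw [hc, Nat.factorization_mul hd0 hc0, Finsupp.add_apply, Nat.factorization_eq_zero_of_not_dvd h,
      add_zero]
  refine Char.char_defect_zero_vanishes χ' (Nat.ordProj_dvd (Nat.card (G ⧸ N)) p)
    (Nat.pow_succ_factorization_not_dvd Nat.card_pos.ne' hp)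
    (by rw [← QuotientGroup.mk_one, hχ', hd] : (χ' : G ⧸ N → ℂ) 1 = (charDegree (χ : G → ℂ) : ℂ))
    (hv ▸ Nat.ordProj_dvd _ p) ?_
  have h1 : orderOf (g : G ⧸ N) ∣ p := hg ▸ orderOf_map_dvd (QuotientGroup.mk' N) g
  rcases (Nat.dvd_prime hp).mp h1 with h2 | h2
  · exact absurd ((QuotientGroup.eq_one_iff g).mp (orderOf_eq_one_iff.mp h2)) hgN
  · rw [h2]

end CfsgLib.Block
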