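import Cfsg.Agent.Lib.Block.CoprimeKernel
import Cfsg.Agent.Lib.Block.CentralDefect
import Cfsg.Agent.Lib.Block.Cyclic.RegularLift
import Cfsg.Agent.Lib.Block.Principal
import Cfsg.Agent.Lib.Char.PowTwist
import Cfsg.Agent.Lib.Char.Galois

/-!
# The principal block and a normal subgroup of order prime to `p`

The principal block is inflated from the quotient and is stable under the twists by powers prime to
the group order.
-/

open Finset
open scoped ComplexConjugate

set_option linter.unusedSectionVars false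

namespace CfsgLib.Block.PrincipalCore

open Cfsg CfsgLib.Block.Cyclic

universe u

variable {p : ℕ} [Fact p.Prime] {M : Ideal AlgInt} [M.IsMaximal] {G : Type u} [Group G] [Fintype G]
  [DecidableEq G] {N : Subgroup G} [N.Normal]

theorem orderOf_mk_iff (hN : ¬ p ∣ Nat.card N) (x : G) :
    p ∣ orderOf (x : G ⧸ N) ↔ p ∣ orderOf x := by
  have hp : p.Prime := Fact.out
  refine ⟨fun h => h.trans (orderOf_map_dvd (QuotientGroup.mk' N) x), fun h => ?_⟩
  by_contra hq
  have h1 : x ^ orderOf (x : G ⧸ N) ∈ N := by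
    rw [← QuotientGroup.eq_one_iff, QuotientGroup.mk_pow, pow_orderOf_eq_one]
  have h2 : orderOf (x ^ orderOf (x : G ⧸ N)) ∣ Nat.card N := by
    rw [← Subgroup.orderOf_mk _ h1]
    exact orderOf_dvd_natCard _
  have h3 : p ∣ orderOf (x ^ orderOf (x : G ⧸ N)) := by
    rw [Nat.Coprime.orderOf_pow]
    · exact h
    · have h4 : orderOf (x : G ⧸ N) ∣ orderOf x := orderOf_map_dvd (QuotientGroup.mk' N) x
      by_contra hc
      refine hN ?_
      have h5 : orderOf x ∣ orderOf (x : G ⧸ N) * Nat.card N := by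
        refine orderOf_dvd_of_pow_eq_one ?_
        rw [pow_mul]
        exact orderOf_dvd_iff_pow_eq_one.mp h2
      exact (hp.dvd_mul.mp (h.trans h5)).resolve_left hq
  exact hN (h3.trans h2)

theorem inflQ_mem_iff [Fintype (G ⧸ N)] [DecidableEq (G ⧸ N)] (hM : IsPModular p M)
    (hN : ¬ p ∣ Nat.card N) (θ : IrrCharacter (G ⧸ N)) :
    inflQ θ ∈ principalBlock M G ↔ θ ∈ principalBlock M (G ⧸ N) := by
  classical
  have := Fintype.ofFinite (IrrCharacter G)
  have := Fintype.ofFinite (IrrCharacter (G ⧸ N))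
  have := Fintype.ofFinite (ConjClasses G)
  have := Fintype.ofFinite (ConjClasses (G ⧸ N))
  obtain ⟨R, hR, hRres⟩ := exists_regN_lift (p := p) (M := M) (inflQ θ) (oneChar G)
  obtain ⟨R', hR', hR'res⟩ := exists_regN_lift (p := p) (M := M) θ (oneChar (G ⧸ N))
  have hRR : R = (Nat.card N : locRing M) * R' := by
    refine Subtype.ext (mul_right_cancel₀ (Char.irr_one_ne_zero θ) ?_)
    rw [Subring.coe_mul, SubringClass.coe_natCast, mul_assoc, hR',
      ← show (inflQ θ : G → ℂ) 1 = (θ : G ⧸ N → ℂ) 1 from rfl, hR, card_mul_regInner, card_mul_regInner]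
    simp only [oneChar, mul_one, inflQ_apply]
    rw [Finset.mul_sum, ← Finset.sum_fiberwise_of_maps_to
      (g := fun x : G => (x : G ⧸ N)) (t := Finset.univ.filter (fun q : G ⧸ N => ¬ p ∣ orderOf q))
      (fun x hx => by
        simp only [Finset.mem_filter, Finset.mem_univ, true_and, orderOf_mk_iff hN] at hx ⊢
        exact hx)]
    refine Finset.sum_congr rfl fun q hq => ?_
    rw [Finset.sum_congr rfl (g := fun _ => (θ : G ⧸ N → ℂ) q) fun x hx => by
      rw [(Finset.mem_filter.mp hx).2], Finset.sum_const, nsmul_eq_mul]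
    congr 2
    have h := QuotientGroup.card_preimage_mk N {q}
    rw [Nat.card_unique (α := ({q} : Set (G ⧸ N))), mul_one] at h
    rw [← h, Nat.card_coe_set_eq, ← Set.ncard_coe_finset]
    congr 1
    ext x
    simp only [Finset.coe_filter, Finset.mem_filter, Finset.mem_univ, true_and, Set.mem_setOf_eq,
      Set.mem_preimage, Set.mem_singleton_iff]
    exact ⟨fun h => h.2, fun h => ⟨by
      rw [← orderOf_mk_iff hN, h]
      exact (Finset.mem_filter.mp hq).2, h⟩⟩
  rw [mem_principalBlock_iff hM, mem_principalBlock_iff hM, omegaBar_regBar_eq_regN,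
    omegaBar_regBar_eq_regN, ← hRres, ← hR'res, hRR, map_mul, res_natCast]
  have hne : (Nat.card N : ResField M) ≠ 0 := fun h => by
    have := charP_resField hM
    exact hN ((CharP.cast_eq_zero_iff _ p _).mp h)
  exact not_congr (mul_eq_zero.trans (or_iff_right hne))

/-- Every member of the principal block is inflated. -/
theorem exists_inflQ_eq [Fintype (G ⧸ N)] [DecidableEq (G ⧸ N)] [Fintype N] (hM : IsPModular p M)
    (hN : ¬ p ∣ Nat.card N) {χ : IrrCharacter G} (hχ : χ ∈ principalBlock M G) :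
    ∃ θ ∈ principalBlock M (G ⧸ N), inflQ θ = χ := by
  classical
  have := Fintype.ofFinite (ConjClasses N)
  obtain ⟨θ, hθ⟩ := exists_deflate (N := N) χ fun z hz =>
    trivial_of_sameBlock (N := N) hM hN (show SameBlock M (oneChar G : G → ℂ) (χ : G → ℂ) from hχ)
      (fun _ _ => rfl) hz
  have e : inflQ θ = χ := Subtype.ext (funext hθ)
  exact ⟨θ, (inflQ_mem_iff hM hN θ).mp (e ▸ hχ), e⟩

/-- The principal block is stable under the twists by powers prime to the group order. -/
theorem powTwist_mem_principalBlock (hM : IsPModular p M) {m : ℕ} (hm : (Nat.card G).Coprime m)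
    {χ : IrrCharacter G} (hχ : χ ∈ principalBlock M G) :
    (⟨_, Char.isIrrCharacter_powMap hm χ⟩ : IrrCharacter G) ∈ principalBlock M G := by
  classical
  have := Fintype.ofFinite (IrrCharacter G)
  have := Fintype.ofFinite (ConjClasses G)
  set χ' : IrrCharacter G := ⟨_, Char.isIrrCharacter_powMap hm χ⟩
  obtain ⟨R, hR, hRres⟩ := exists_regN_lift (p := p) (M := M) χ (oneChar G)
  obtain ⟨R', hR', hR'res⟩ := exists_regN_lift (p := p) (M := M) χ' (oneChar G)
  have h1 : (χ' : G → ℂ) 1 = (χ : G → ℂ) 1 := by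
    show (χ : G → ℂ) (1 ^ m) = _
    rw [one_pow]
  have hRR : R' = R := by
    refine Subtype.ext (mul_right_cancel₀ (Char.irr_one_ne_zero χ) ?_)
    rw [hR, ← h1, hR', card_mul_regInner, card_mul_regInner]
    simp only [oneChar, mul_one]
    refine Finset.sum_equiv (powCoprime hm) (fun x => ?_) fun x _ => rfl
    simp only [Finset.mem_filter, Finset.mem_univ, true_and, powCoprime_apply]
    rw [Nat.Coprime.orderOf_pow (hm.coprime_dvd_left (orderOf_dvd_natCard x))]
  rw [mem_principalBlock_iff hM, omegaBar_regBar_eq_regN] at hχ ⊢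
  rwa [← hR'res, hRR, hRres]

/-- The sum of the squared absolute values over the principal block is a positive integer. -/
theorem exists_normSq_sum_eq (hM : IsPModular p M) (x : G) :
    ∃ n : ℕ, 0 < n ∧ ∑ᶠ χ ∈ principalBlock M G, Complex.normSq ((χ : G → ℂ) x) = n := by
  classical
  have := Fintype.ofFinite (IrrCharacter G)
  set s := Finset.univ.filter (· ∈ principalBlock M G) with hs
  rw [finsum_mem_eq_finite_toFinset_sum _ (Set.toFinite _),
    show (Set.toFinite (principalBlock M G)).toFinset = s by ext; simp [hs]]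
  have hint : IsIntegral ℤ (∑ χ ∈ s, (χ : G → ℂ) x * (χ : G → ℂ) x⁻¹) :=
    IsIntegral.sum _ fun χ _ => (Char.isCharacter_isIntegral (Char.isCharacter_irr χ) x).mul
      (Char.isCharacter_isIntegral (Char.isCharacter_irr χ) x⁻¹)
  obtain ⟨z, hz⟩ := Char.exists_int_of_fixed hint fun φ => by
    obtain ⟨m, hm, hφ⟩ := Char.exists_char_twist (G := G) φ
    let v : IrrCharacter G → G → Char.Alg := fun χ g =>
      ⟨(χ : G → ℂ) g, Char.mem_alg_of_isIntegral (Char.isCharacter_isIntegral (Char.isCharacter_irr χ) g)⟩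
    have e : (⟨_, Char.mem_alg_of_isIntegral hint⟩ : Char.Alg) = ∑ χ ∈ s, v χ x * v χ x⁻¹ :=
      Subtype.ext (by simp [v])
    rw [e, map_sum]
    have hterm : ∀ χ : IrrCharacter G, φ (v χ x * v χ x⁻¹) =
        (χ : G → ℂ) (x ^ m) * (χ : G → ℂ) (x⁻¹ ^ m) := fun χ => by
      rw [map_mul, hφ _ (Char.isCharacter_irr χ) x (v χ x) rfl,
        hφ _ (Char.isCharacter_irr χ) x⁻¹ (v χ x⁻¹) rfl]
    rw [Finset.sum_congr rfl fun χ _ => hterm χ]
    set tw : IrrCharacter G → IrrCharacter G := fun χ => ⟨_, Char.isIrrCharacter_powMap hm.symm χ⟩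
    have htw : Function.Injective tw := fun a b h => Subtype.ext (funext fun g => by
      obtain ⟨y, hy⟩ := (powCoprime (G := G) hm.symm).surjective g
      rw [← hy]
      exact congrFun (congrArg Subtype.val h) y)
    have hmaps : ∀ χ ∈ s, tw χ ∈ s := fun χ hχ => Finset.mem_filter.mpr
      ⟨Finset.mem_univ _, powTwist_mem_principalBlock hM hm.symm (Finset.mem_filter.mp hχ).2⟩
    refine Finset.sum_nbij tw hmaps htw.injOn ?_ fun χ _ => rfl
    exact Finset.surjOn_of_injOn_of_card_le tw hmaps htw.injOn le_rfl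
  have hreal : ((∑ χ ∈ s, Complex.normSq ((χ : G → ℂ) x) : ℝ) : ℂ) = (z : ℂ) := by
    rw [← hz, Complex.ofReal_sum]
    exact Finset.sum_congr rfl fun χ _ => by rw [Char.irr_inv, Complex.mul_conj]
  have hreal' : (∑ χ ∈ s, Complex.normSq ((χ : G → ℂ) x) : ℝ) = (z : ℝ) := by exact_mod_cast hreal
  have hpos : (1 : ℝ) ≤ ∑ χ ∈ s, Complex.normSq ((χ : G → ℂ) x) := by
    refine le_trans (le_of_eq ?_) (Finset.single_le_sum (fun χ _ => Complex.normSq_nonneg _)
      (Finset.mem_filter.mpr ⟨Finset.mem_univ _, one_mem_principalBlock⟩))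
    simp [oneChar]
  rw [hreal'] at hpos ⊢
  have hz1 : (1 : ℤ) ≤ z := by exact_mod_cast hpos
  refine ⟨z.toNat, by omega, ?_⟩
  rw [← Int.cast_natCast, Int.toNat_of_nonneg (by omega)]

end CfsgLib.Block.PrincipalCore
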