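import Cfsg.Agent.Lib.Block.Principal
import Cfsg.Agent.Lib.Block.Defect
import Cfsg.Agent.Lib.Block.NormalSupport
import Cfsg.Agent.Lib.Block.PSolvableOne
import Mathlib.GroupTheory.Perm.Cycle.Type

/-!
# Groups with a single block

A group with a normal self-centralizing `p`-subgroup has one block; so has a group without blocks of
defect zero in which every element of order `p` has such a subgroup in its centralizer.
-/

open Finset MonoidAlgebra

set_option linter.unusedSectionVars false

namespace CfsgLib.Block.OneBlock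

open Cfsg

universe u

variable {p : ℕ} {M : Ideal AlgInt} [M.IsMaximal] {G : Type u} [Group G] [Fintype G] [DecidableEq G]

theorem mem_principal_of_constrained (hM : IsPModular p M) {Q : Subgroup G} [Q.Normal]
    (hQ : IsPGroup p Q) (hc : Subgroup.centralizer (Q : Set G) ≤ Q) (χ : IrrCharacter G) :
    χ ∈ principalBlock M G := by
  have hB : IsPBlock M (principalBlock M G) := isPBlock_principalBlock
  refine mem_block_of_supp_one hM hB (fun g hg => ?_) χ
  have hgQ : g ∈ Q := hc (by
    by_contra hn
    refine hg ?_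
    rw [coeffRes_eq_zero_iff hM (IsBlockUnion.of_isPBlock hB),
      blockCoeff_eq_zero_of_notMem_centralizer hM hQ hB hn]
    exact ⟨0, 1, M.zero_mem, Ideal.IsPrime.one_notMem inferInstance, by simp⟩)
  have hreg := regular_of_coeffRes_ne_zero hM (IsBlockUnion.of_isPBlock hB) hg
  have : Fact p.Prime := ⟨hM.1⟩
  obtain ⟨k, hk⟩ := IsPGroup.iff_orderOf.1 hQ ⟨g, hgQ⟩
  rw [Subgroup.orderOf_mk] at hk
  rw [hk] at hreg
  cases k with
  | zero => rw [pow_zero] at hk; exact orderOf_eq_one_iff.1 hk
  | succ k => exact absurd (dvd_pow_self p (Nat.succ_ne_zero k)) hreg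

theorem exists_self_centralizing (hM : IsPModular p M)
    (hloc : ∀ z : G, orderOf z = p → ∃ Q : Subgroup G, IsPGroup p Q ∧
      Q ≤ Subgroup.centralizer ({z} : Set G) ∧
      Subgroup.centralizer ({z} : Set G) ≤ Subgroup.normalizer (Q : Set G) ∧
      ∀ c, Commute c z → (∀ u ∈ Q, Commute c u) → c ∈ Q)
    {z : G} (hz : orderOf z = p) (ξ : IrrCharacter (Subgroup.centralizer (Subgroup.zpowers z : Set G))) :
    ξ ∈ principalBlock M (Subgroup.centralizer (Subgroup.zpowers z : Set G)) := by
  classical
  obtain ⟨Q, hQp, hQle, hQn, hQc⟩ := hloc z hz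
  have he : Subgroup.centralizer (Subgroup.zpowers z : Set G) = Subgroup.centralizer ({z} : Set G) := by
    ext x
    rw [Subgroup.mem_centralizer_iff, Subgroup.mem_centralizer_singleton_iff]
    constructor
    · intro h; exact (h z (Subgroup.mem_zpowers z)).symm
    · intro h u hu
      obtain ⟨n, rfl⟩ := Subgroup.mem_zpowers_iff.1 hu
      exact ((show Commute x z from h).zpow_right n).eq.symm
  have hQle' : Q ≤ (Subgroup.centralizer (Subgroup.zpowers z : Set G)) := he ▸ hQle
  haveI : (Q.subgroupOf (Subgroup.centralizer (Subgroup.zpowers z : Set G))).Normal :=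
    (Subgroup.normal_subgroupOf_iff_le_normalizer hQle').2 (he ▸ hQn)
  refine mem_principal_of_constrained hM (Q := Q.subgroupOf (Subgroup.centralizer (Subgroup.zpowers z : Set G)))
    (hQp.comap_of_injective (Subgroup.centralizer (Subgroup.zpowers z : Set G)).subtype (Subgroup.centralizer (Subgroup.zpowers z : Set G)).subtype_injective) ?_ ξ
  intro c hc
  rw [Subgroup.mem_centralizer_iff] at hc
  refine hQc c ?_ fun u hu => ?_
  · have := (SetLike.ext_iff.1 he (c : G)).1 c.2
    rw [Subgroup.mem_centralizer_singleton_iff] at this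
    exact this
  · exact (congrArg Subtype.val (hc ⟨u, hQle' hu⟩ hu)).symm

/-- A group without blocks of defect zero in which every element of order `p` has a self-centralizing
normal `p`-subgroup in its centralizer has a single block. -/
theorem sameBlock_of_local (hM : IsPModular p M)
    (hloc : ∀ z : G, orderOf z = p → ∃ Q : Subgroup G, IsPGroup p Q ∧
      Q ≤ Subgroup.centralizer ({z} : Set G) ∧
      Subgroup.centralizer ({z} : Set G) ≤ Subgroup.normalizer (Q : Set G) ∧
      ∀ c, Commute c z → (∀ u ∈ Q, Commute c u) → c ∈ Q)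
    (hdz : ∀ χ : IrrCharacter G,
      ¬ p ^ (Nat.card G).factorization p ∣ charDegree (χ : G → ℂ))
    (χ ψ : IrrCharacter G) : SameBlock M (χ : G → ℂ) (ψ : G → ℂ) := by
  classical
  have : Fact p.Prime := ⟨hM.1⟩
  suffices h : ∀ θ : IrrCharacter G, θ ∈ principalBlock M G from
    sameBlock_trans (sameBlock_symm (h χ)) (h ψ)
  intro θ
  set B := blockOf M (θ : G → ℂ) with hBdef
  have hB : IsPBlock M B := isPBlock_blockOf θ
  have hθ : θ ∈ B := self_mem_blockOf θ
  suffices h1 : oneChar G ∈ B from
    isPBlock_eq_of_mem hB isPBlock_principalBlock h1 one_mem_principalBlock ▸ hθ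
  obtain ⟨D, hD⟩ := exists_defectGroup hM hB
  by_cases hD1 : D = ⊥
  · exfalso
    have h0 := defectGroup_card hM hB hD
    rw [hD1, Subgroup.card_bot] at h0
    have hd0 : blockDefect p B = 0 := by
      rcases Nat.eq_zero_or_pos (blockDefect p B) with e | e
      · exact e
      · have := Nat.one_lt_pow e.ne' hM.1.one_lt
        omega
    rw [blockDefect] at hd0
    have hle : sInf ((fun χ : IrrCharacter G => (charDegree (χ : G → ℂ)).factorization p) '' B) ≤
        (charDegree (θ : G → ℂ)).factorization p := Nat.sInf_le ⟨θ, hθ, rfl⟩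
    refine hdz θ ((pow_dvd_pow p ?_).trans (Nat.ordProj_dvd _ p))
    omega
  · obtain ⟨z, hz⟩ : ∃ z : D, orderOf z = p := by
      refine exists_prime_orderOf_dvd_card' p ?_
      obtain ⟨n, hn⟩ := (isPGroup_defectGroup hM hB hD).exists_card_eq
      rw [hn]
      refine dvd_pow_self p fun h => hD1 (Subgroup.card_eq_one.1 ?_)
      rw [hn, h, pow_zero]
    have hz' : orderOf (z : G) = p := by rw [Subgroup.orderOf_coe]; exact hz
    set Q := Subgroup.zpowers (z : G) with hQdef
    have hQ : IsPGroup p Q := IsPGroup.of_card (n := 1) (by rw [Nat.card_zpowers, hz', pow_one])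
    have hQD : Q ≤ D := by rw [hQdef, Subgroup.zpowers_le]; exact z.2
    obtain ⟨x, hx, hxne⟩ := (brauer_blockIdem_ne_zero_iff hM hB hD hQ).2 (conjLE_of_le hQD)
    have hS := IsBlockUnion.of_isPBlock hB
    set e := brC M hM hQ (blockBar M B) with hedef
    have hee : e * e = e := by rw [hedef, ← map_mul, blockBar_mul_self hM hS]
    obtain ⟨ξ, hξ⟩ : ∃ ξ, omegaBar M ξ e ≠ 0 := by
      by_contra hcon
      push Not at hcon
      have h0 : e = 0 := eq_of_omegaBar_eq_of_idem hM hee (mul_zero 0) fun ξ => by
        rw [hcon ξ, map_zero]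
      have h1 := coeff_brC hM hQ (blockBar M B) ⟨x, hx⟩
      rw [← hedef, h0] at h1
      refine hxne ?_
      rw [coeff_blockBar] at h1
      simpa using h1.symm
    have hξp : ξ ∈ principalBlock M (Subgroup.centralizer (Q : Set G)) :=
      exists_self_centralizing hM hloc hz' ξ
    have hpair := (isBrauerPairOf_principal_iff hM hQ (G := G)
      (isPBlock_principalBlock (M := M) (G := Subgroup.centralizer (Q : Set G)))).2 rfl
    have h2 := (isBrauerPairOf_iff hM hQ isPBlock_principalBlock isPBlock_principalBlock).1 hpair ξ hξp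
      (oneChar G) one_mem_principalBlock (blockBar M B)
    rw [← hedef] at h2
    rw [h2, omegaBar_blockBar hM hS] at hξ
    split_ifs at hξ with hm
    · exact hm
    · exact absurd rfl hξ

end CfsgLib.Block.OneBlock
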