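import Cfsg.Agent.Lib.Block.SubsectionCount
import Cfsg.Agent.Lib.Block.BrauerPairs
import Cfsg.Agent.Lib.Block.Subsection
import Cfsg.Agent.Lib.Char.DefectZero
import Cfsg.Agent.Lib.Fusion.Abelian

/-!
# The principal 2-block of a group with four-group Sylow subgroup and one class of involutions
-/

open Finset MonoidAlgebra
open scoped ComplexConjugate

set_option linter.unusedSectionVars false

namespace CfsgLib.Block

open Cfsg

open scoped Pair

universe u

variable {M : Ideal AlgInt} [M.IsMaximal] {G : Type u} [Group G] [Fintype G] [DecidableEq G]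
  [Fintype (IrrCharacter G)]

/-- A character value at an element of order dividing two is an integer congruent to the degree. -/
theorem exists_int_at_involution {A : Type u} [Group A] [Finite A] (χ : IrrCharacter A) {v : A}
    (hv : v ^ 2 = 1) : ∃ n : ℤ, (χ : A → ℂ) v = (n : ℂ) ∧
      (2 : ℤ) ∣ (charDegree (χ : A → ℂ) : ℤ) - n := by
  classical
  obtain ⟨m, ρ, hρ, hχ⟩ := χ.2
  obtain ⟨b, μ, h1, -, h3⟩ := Char.exists_eigen_data ρ v
  have hμ : ∀ i, μ i = 1 ∨ μ i = -1 := fun i => by
    obtain ⟨j, hj⟩ := orderOf_dvd_of_pow_eq_one hv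
    exact sq_eq_one_iff.mp (by rw [hj, pow_mul, h1, one_pow])
  have hd : (charDegree (χ : A → ℂ) : ℤ) = Fintype.card (Fin (Module.finrank ℂ (Fin m → ℂ))) := by
    have h2 : ρ.character 1 = (charDegree (χ : A → ℂ) : ℂ) :=
      (congrFun hχ 1).trans (charDegree_eq χ).1
    rw [Representation.char_one] at h2
    rw [Fintype.card_fin]
    exact_mod_cast h2.symm
  refine ⟨∑ i, (if μ i = 1 then 1 else -1 : ℤ), ?_, ?_⟩
  · have h4 := h3 1
    simp only [pow_one] at h4
    rw [← hχ, h4, Int.cast_sum]
    refine Finset.sum_congr rfl fun i _ => ?_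
    rcases hμ i with e | e
    · simp [e]
    · rw [e, if_neg (by norm_num)]; norm_num
  · rw [hd, show (Fintype.card (Fin (Module.finrank ℂ (Fin m → ℂ))) : ℤ) =
        ∑ _i : Fin (Module.finrank ℂ (Fin m → ℂ)), (1 : ℤ) by simp, ← Finset.sum_sub_distrib]
    refine Finset.dvd_sum fun i _ => ?_
    split_ifs <;> norm_num

/-- The principal 2-block data. -/
structure KleinData (M : Ideal AlgInt) (G : Type u) [Group G] [Fintype G] [Fintype (IrrCharacter G)]
    (u : G) (s : IrrCharacter G → ℤ) : Prop where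
  sq : ∀ χ ∈ principalBlock M G, s χ * s χ = 1
  sing : ∀ χ ∈ principalBlock M G, ∀ g : G, 2 ∣ orderOf g → (χ : G → ℂ) g = (s χ : ℂ)
  card : Nat.card (principalBlock M G) = 4
  congr : ∀ χ ∈ principalBlock M G, (4 : ℤ) ∣ (charDegree (χ : G → ℂ) : ℤ) - s χ
  orth : ∀ y : G, ¬ 2 ∣ orderOf y →
    ∑ᶠ χ ∈ principalBlock M G, (χ : G → ℂ) y * (s χ : ℂ) = 0

theorem exists_kleinData (hM : IsPModular 2 M) (P : Sylow 2 G) (hP : Nat.card P = 4)
    (hexp : ∀ v ∈ (P : Subgroup G), v * v = 1)
    (hone : ∀ a b : G, orderOf a = 2 → orderOf b = 2 → IsConj a b) :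
    ∃ u : G, orderOf u = 2 ∧ ∃ s, KleinData M G u s := by
  classical
  have hp : Fact (Nat.Prime 2) := ⟨Nat.prime_two⟩
  have hv4 : (Nat.card G).factorization 2 = 2 := by
    have h := P.card_eq_multiplicity
    rw [hP] at h
    exact (Nat.pow_right_injective le_rfl (show 2 ^ 2 = 2 ^ (Nat.card G).factorization 2 from h)).symm
  obtain ⟨u', hu'⟩ := exists_prime_orderOf_dvd_card' (G := (P : Subgroup G)) 2 (by rw [hP]; norm_num)
  set u : G := (u' : G) with hu
  have hu2 : orderOf u = 2 := by rw [hu, Subgroup.orderOf_coe, hu']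
  refine ⟨u, hu2, ?_⟩
  have hord : ∀ v : G, (∃ k : ℕ, orderOf v = 2 ^ k) → v ≠ 1 → orderOf v = 2 := by
    rintro v ⟨k, hk⟩ hv
    obtain ⟨S, hS⟩ := (IsPGroup.of_card (n := k) (by rw [Nat.card_zpowers, hk]) :
      IsPGroup 2 (Subgroup.zpowers v)).exists_le_sylow
    obtain ⟨g, rfl⟩ := MulAction.exists_smul_eq G P S
    have h1 := hS (Subgroup.mem_zpowers v)
    rw [Sylow.coe_subgroup_smul] at h1
    obtain ⟨w, hw, rfl⟩ := h1
    refine orderOf_eq_prime ?_ hv
    show (MulDistribMulAction.toMonoidEnd (MulAut G) G (MulAut.conj g) w) ^ 2 = 1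
    rw [← map_pow, pow_two, hexp w hw, map_one]
  set C : Subgroup G := Subgroup.centralizer ({u} : Set G) with hCdef
  have hC : ∀ t : G, t ∈ C ↔ Commute t u := fun t => Subgroup.mem_centralizer_singleton_iff
  have := Fintype.ofFinite (IrrCharacter C)
  have hPC : (P : Subgroup G) ≤ C := fun v hv => (hC v).mpr (by
    have h1 := hexp _ (mul_mem hv u'.2)
    have h2 : ∀ a ∈ (P : Subgroup G), a⁻¹ = a := fun a ha => inv_eq_of_mul_eq_one_right (hexp a ha)
    show v * u = u * v
    rw [← h2 _ (mul_mem hv u'.2), mul_inv_rev, h2 v hv, h2 u u'.2])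
  have hcompl : HasNormalPComplement 2 C := by
    set P' : Sylow 2 C := P.subtype hPC with hP'
    refine CfsgLib.Fusion.hasNormalPComplement_of_normalizer_le_centralizer P' fun c hc => ?_
    have hmem : ∀ v : C, v ∈ (P' : Subgroup C) ↔ (v : G) ∈ (P : Subgroup G) := fun v => by
      rw [hP', Sylow.coe_subtype, Subgroup.mem_subgroupOf]
    set N := Subgroup.normalizer ((P' : Subgroup C) : Set C) with hN
    have hcard : Nat.card (P' : Subgroup C) = 4 := by
      rw [← hP]
      exact Nat.card_congr (Subgroup.subgroupOfEquivOfLe hPC).toEquiv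
    have hsq : ∀ v ∈ (P' : Subgroup C), c * (c * v * c⁻¹) * c⁻¹ = v := by
      intro v hv
      by_contra hne
      set w := c * v * c⁻¹ with hw
      have hw' : w ∈ (P' : Subgroup C) := (Subgroup.mem_normalizer_iff.mp hc v).mp hv
      have hw'' : c * w * c⁻¹ ∈ (P' : Subgroup C) := (Subgroup.mem_normalizer_iff.mp hc w).mp hw'
      set U : C := ⟨u, (hC u).mpr (Commute.refl u)⟩ with hU
      have hUc : ∀ d : C, d * U * d⁻¹ = U := fun d =>
        mul_inv_eq_iff_eq_mul.mpr (Subtype.ext ((hC d).mp d.2).eq)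
      have hU' : U ∈ (P' : Subgroup C) := (hmem U).mpr u'.2
      have hU1 : U ≠ 1 := fun h => by
        have := congrArg Subtype.val h
        simp only [hU, OneMemClass.coe_one] at this
        rw [this, orderOf_one] at hu2
        norm_num at hu2
      have hv1 : v ≠ 1 := fun h => hne (by simp [hw, h])
      have hvU : v ≠ U := fun h => hne (by rw [hw, h, hUc, hUc])
      have hwv : w ≠ v := fun h => hne (by rw [h, ← hw, h])
      have hw1 : w ≠ 1 := fun h => hv1 (by rw [hw] at h; simpa using h)
      have hwU : w ≠ U := fun h => hvU (by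
        rw [hw] at h
        exact (MulAut.conj c).injective (h.trans (hUc c).symm))
      have hz1 : c * w * c⁻¹ ≠ 1 := fun h => hw1 (by simpa using h)
      have hzU : c * w * c⁻¹ ≠ U := fun h => hwU ((MulAut.conj c).injective (h.trans (hUc c).symm))
      have hzw : c * w * c⁻¹ ≠ w := fun h => hwv ((MulAut.conj c).injective (h.trans hw))
      have h5 : ({1, U, v, w, c * w * c⁻¹} : Finset C) ⊆
          (Finset.univ.filter fun z => z ∈ (P' : Subgroup C)) := by
        intro z hz
        simp only [Finset.mem_insert, Finset.mem_singleton] at hz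
        simp only [Finset.mem_filter, Finset.mem_univ, true_and]
        rcases hz with rfl | rfl | rfl | rfl | rfl
        exacts [one_mem _, hU', hv, hw', hw'']
      have h6 := Finset.card_le_card h5
      rw [← Fintype.card_subtype, ← Nat.card_eq_fintype_card] at h6
      rw [show Nat.card {z : C // z ∈ (P' : Subgroup C)} = 4 from hcard,
        Finset.card_insert_of_notMem (by simp [hv1.symm, hU1.symm, hw1.symm, hz1.symm]),
        Finset.card_insert_of_notMem (by simp [hvU.symm, hwU.symm, hzU.symm]),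
        Finset.card_insert_of_notMem (by
          simp only [Finset.mem_insert, Finset.mem_singleton, not_or]
          exact ⟨hwv.symm, Ne.symm hne⟩),
        Finset.card_insert_of_notMem (by simp [hzw.symm]), Finset.card_singleton] at h6
      omega
    set Z := (Subgroup.centralizer ((P' : Subgroup C) : Set C)).subgroupOf N with hZ
    have hZn : Z.Normal := by
      rw [hZ]
      refine ⟨fun z hz d => ?_⟩
      rw [Subgroup.mem_subgroupOf] at hz ⊢
      simp only [Subgroup.coe_mul, InvMemClass.coe_inv]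
      exact (mem_centralizer_conj_iff d.2).mpr hz
    have h2 : (⟨c, hc⟩ : N) * ⟨c, hc⟩ ∈ Z := Subgroup.mem_subgroupOf.mpr
      (Subgroup.mem_centralizer_iff.mpr fun v hv => by
        have := hsq v hv
        simp only [Subgroup.coe_mul]
        conv_lhs => rw [← this]
        group)
    have hPZ : ((P' : Subgroup C)).subgroupOf N ≤ Z := fun v hv => Subgroup.mem_subgroupOf.mpr
      (Subgroup.mem_centralizer_iff.mpr fun w hw => Subtype.ext (by
        have hv' : ((v : C) : G) ∈ (P : Subgroup G) := (hmem _).mp (Subgroup.mem_subgroupOf.mp hv)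
        have hw' := (hmem w).mp hw
        have h1 := hexp _ (mul_mem hw' hv')
        have h2 : ∀ a ∈ (P : Subgroup G), a⁻¹ = a := fun a ha => inv_eq_of_mul_eq_one_right (hexp a ha)
        show (w : G) * ((v : C) : G) = ((v : C) : G) * (w : G)
        rw [← h2 _ (mul_mem hw' hv'), mul_inv_rev, h2 _ hv', h2 _ hw']))
    have hodd : ¬ 2 ∣ Z.index := fun h =>
      (P'.subtype Subgroup.le_normalizer).not_dvd_index (h.trans (Subgroup.index_dvd_of_le hPZ))
    have h7 : orderOf ((⟨c, hc⟩ : N) : N ⧸ Z) = 1 := by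
      have h8 : orderOf ((⟨c, hc⟩ : N) : N ⧸ Z) ∣ 2 := by
        rw [orderOf_dvd_iff_pow_eq_one, pow_two, ← QuotientGroup.mk_mul, QuotientGroup.eq_one_iff]
        exact h2
      rcases (Nat.dvd_prime Nat.prime_two).mp h8 with h9 | h9
      · exact h9
      · refine absurd ?_ hodd
        rw [← h9]
        exact orderOf_dvd_natCard _
    rw [orderOf_eq_one_iff, QuotientGroup.eq_one_iff] at h7
    exact Subgroup.mem_subgroupOf.mp h7
  -- values on the singular elements
  have hsingconj : ∀ g : G, 2 ∣ orderOf g → ∃ y : C, ¬ 2 ∣ orderOf y ∧ IsConj g (u * (y : G)) := by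
    intro g hg
    obtain ⟨v, hv⟩ := exists_isPPart (p := 2) Nat.prime_two g
    obtain ⟨y, rfl, hvy, hvk, hy⟩ := hv
    have hv1 : v ≠ 1 := fun h => hy (by rwa [h, one_mul] at hg)
    obtain ⟨c, hc⟩ := isConj_iff.mp (hone v u (hord v hvk hv1) hu2)
    have hcy : c * y * c⁻¹ ∈ C := (hC _).mpr (by
      rw [← hc]
      exact (hvy.map (MulAut.conj c).toMonoidHom).symm)
    refine ⟨⟨c * y * c⁻¹, hcy⟩, ?_, isConj_iff.mpr ⟨c, ?_⟩⟩
    · rw [← Subgroup.orderOf_coe]
      rw [show orderOf (c * y * c⁻¹) = orderOf y from orderOf_conj_eq c y]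
      exact hy
    · rw [← hc]; group
  have huk : ∃ k : ℕ, orderOf u = 2 ^ k := ⟨1, by rw [hu2]; rfl⟩
  choose! n hn hn2 using fun χ : IrrCharacter G =>
    exists_int_at_involution χ (v := u) (by rw [← hu2]; exact pow_orderOf_eq_one u)
  have hb0 : IsInducedBlock M C (principalBlock M C) (principalBlock M G) := by
    obtain ⟨B, hB⟩ := exists_induced_centralizer hM huk hC (isPBlock_principalBlock (M := M) (G := C))
    rwa [(isInducedBlock_principal_iff hM hB).mpr rfl] at hB
  have hval : ∀ χ ∈ principalBlock M G, ∀ g : G, 2 ∣ orderOf g → (χ : G → ℂ) g = (n χ : ℂ) := by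
    intro χ hχ g hg
    obtain ⟨y, hy, hconj⟩ := hsingconj g hg
    rw [Char.classFun_isConj (Char.isClassFunction_irr χ) hconj, ← hn χ]
    have hC' : ∀ t : C, Commute (t : G) u := fun t => (hC t).mp t.2
    let U : Finset (Set (IrrCharacter C)) := Finset.univ.filter (fun b => IsPBlock M b)
    have hU : ∀ b, b ∈ U ↔ IsPBlock M b := fun b => by simp [U]
    have key : ∀ z : C, ¬ 2 ∣ orderOf z → (χ : G → ℂ) (u * (z : G)) =
        ∑ η ∈ Finset.univ.filter (· ∈ principalBlock M C),
          classInner (secFun u C χ) (η : C → ℂ) * (η : C → ℂ) 1 := by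
      intro z hz
      rw [show (χ : G → ℂ) (u * (z : G)) = secFun u C χ z from rfl,
        secFun_eq_sum_blockPart hM hC' χ z U hU, Finset.sum_eq_single (principalBlock M C)]
      · rw [blockPart_eq]
        refine Finset.sum_congr rfl fun η hη => ?_
        rw [irr_eq_one_of_regular hM hcompl (Finset.mem_filter.mp hη).2 hz]
      · intro b hb hne
        obtain ⟨B', hB'⟩ := exists_induced_centralizer hM huk hC ((hU b).mp hb)
        refine blockPart_secFun_eq_zero hM huk hC hB' (fun hmem => hne ?_) hz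
        rw [← isPBlock_eq_of_mem isPBlock_principalBlock hB'.2.1 hχ hmem] at hB'
        exact (isInducedBlock_principal_iff hM hB').mp rfl
      · exact fun h => absurd ((hU _).mpr isPBlock_principalBlock) h
    rw [key y hy, ← key 1 (by simp), OneMemClass.coe_one, mul_one]
  have hsum : ∑ χ ∈ Finset.univ.filter (· ∈ principalBlock M G), n χ * n χ = 4 := by
    have h := sum_principal_secFun hM huk hC (y := (1 : C)) (z := 1) (by simp) (by simp)
    have h2 := sum_sq_principal_of_complement hM hcompl
    have hvC : (Nat.card C).factorization 2 = 2 := by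
      refine le_antisymm ?_ ?_
      · exact ((Nat.factorization_le_iff_dvd Nat.card_pos.ne' Nat.card_pos.ne').mpr
          (Subgroup.card_subgroup_dvd_card C) 2).trans_eq hv4
      · have h3 := (Nat.factorization_le_iff_dvd Nat.card_pos.ne' Nat.card_pos.ne').mpr
          (Subgroup.card_dvd_of_le hPC) 2
        rw [hP, show (4 : ℕ) = 2 ^ 2 from rfl, Nat.Prime.factorization_pow Nat.prime_two,
          Finsupp.single_eq_same] at h3
        exact h3
    rw [hvC] at h2
    have h3 : ∑ᶠ η ∈ principalBlock M C, (η : C → ℂ) 1 * conj ((η : C → ℂ) 1) = (4 : ℂ) := by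
      rw [finsum_mem_eq_toFinset_sum, Finset.sum_congr (s₁ := (principalBlock M C).toFinset)
        (s₂ := (principalBlock M C).toFinite.toFinset) (by ext; simp) fun η _ => by rw [Char.conj_irr_one]]
      rw [h2]
      norm_num
    rw [h3, finsum_mem_eq_toFinset_sum] at h
    have h4 : ((∑ χ ∈ Finset.univ.filter (· ∈ principalBlock M G), n χ * n χ : ℤ) : ℂ) = ((4 : ℤ) : ℂ) := by
      rw [Int.cast_ofNat, ← h, Int.cast_sum]
      refine Finset.sum_congr (by ext; simp) fun χ _ => ?_
      rw [OneMemClass.coe_one, mul_one, hn χ, map_intCast, Int.cast_mul]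
    exact_mod_cast h4
  -- restriction to the Sylow subgroup
  have hdvd : ∀ χ ∈ principalBlock M G, (4 : ℤ) ∣ (charDegree (χ : G → ℂ) : ℤ) - n χ := by
    intro χ hχ
    obtain ⟨m, hm⟩ := Char.classInner_isCharacter
      (Char.isCharacter_comp (Char.isCharacter_irr χ) (P : Subgroup G).subtype)
      (Char.isCharacter_of_isIrr Char.isIrrCharacter_one)
    rw [classInner, ← Finset.add_sum_erase _ _ (Finset.mem_univ (1 : (P : Subgroup G))),
      Finset.sum_congr rfl (g := fun _ => (n χ : ℂ)) fun v hv => ?_, Finset.sum_const, hP,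
      inv_mul_eq_iff_eq_mul₀ (by norm_num)] at hm
    swap
    · rw [map_one, mul_one]
      refine hval χ hχ v ?_
      obtain ⟨k, hk⟩ := IsPGroup.iff_orderOf.mp P.2 v
      have hv1 : (v : G) ≠ 1 := fun h => (Finset.mem_erase.mp hv).1 (Subtype.ext h)
      rw [hord v ⟨k, by rw [Subgroup.orderOf_coe, hk]⟩ hv1]
    have hcardP : Fintype.card (P : Subgroup G) = 4 := by rw [← Nat.card_eq_fintype_card]; exact hP
    rw [Finset.card_erase_of_mem (Finset.mem_univ _), Finset.card_univ, hcardP] at hm
    simp only [Subgroup.coe_subtype, OneMemClass.coe_one, (charDegree_eq χ).1, map_one, mul_one] at hm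
    have h5 : ((charDegree (χ : G → ℂ) : ℤ) + 3 * n χ : ℤ) = 4 * (m : ℤ) := by
      have h6 : (((charDegree (χ : G → ℂ) : ℤ) + 3 * n χ : ℤ) : ℂ) = ((4 * (m : ℤ) : ℤ) : ℂ) := by
        push_cast
        convert hm using 1
        · simp [nsmul_eq_mul]
        · norm_num
      exact_mod_cast h6
    exact ⟨(m : ℤ) - n χ, by linarith⟩
  have hnz : ∀ χ ∈ principalBlock M G, n χ ≠ 0 := by
    intro χ hχ h0
    have hd : 2 ^ 2 ∣ charDegree (χ : G → ℂ) := by
      have := hdvd χ hχ
      rw [h0, sub_zero] at this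
      exact_mod_cast this
    have hS : IsBlockUnion M {χ} := by
      refine isBlockUnion_of_blockCoeff_mem fun g => ?_
      obtain ⟨q, hq⟩ := charDegree_dvd χ
      have hq2 : ¬ 2 ∣ q := fun h => by
        have h8 : 2 ^ 3 ∣ Nat.card G := by
          rw [hq, pow_succ]
          exact mul_dvd_mul hd h
        have := (Nat.prime_two.pow_dvd_iff_le_factorization Nat.card_pos.ne').mp h8
        omega
      have hd0 : (charDegree (χ : G → ℂ) : ℂ) ≠ 0 := Nat.cast_ne_zero.mpr (charDegree_eq χ).2
      have hval : blockCoeff {χ} g = (q : ℂ)⁻¹ * conj ((χ : G → ℂ) g) := by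
        rw [blockCoeff, finsum_mem_singleton, (charDegree_eq χ).1, hq]
        push_cast
        field_simp
      rw [hval, ← Char.irr_inv]
      exact Subring.mul_mem _ (inv_natCast_mem hM hq2) (irr_mem_locRing M χ _)
    have h1 : oneChar G ∈ ({χ} : Set (IrrCharacter G)) := hS χ rfl _ (show oneChar G ∈ blockOf M (χ : G → ℂ) by
      rw [← isPBlock_eq_blockOf isPBlock_principalBlock hχ]
      exact one_mem_principalBlock)
    rw [Set.mem_singleton_iff] at h1
    have h2 := hn χ
    rw [h0, Int.cast_zero, ← h1] at h2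
    exact one_ne_zero (show (1 : ℂ) = 0 from h2)
  obtain ⟨hcard, hsq⟩ : (Finset.univ.filter (· ∈ principalBlock M G)).card = 4 ∧
      ∀ χ ∈ principalBlock M G, n χ * n χ = 1 := by
    set S := Finset.univ.filter (· ∈ principalBlock M G) with hSdef
    have h1S : oneChar G ∈ S := by simp [hSdef, one_mem_principalBlock]
    have hn1 : n (oneChar G) = 1 := by
      have := hn (oneChar G)
      simp only [oneChar] at this
      exact_mod_cast this.symm
    have hbig : ∀ χ ∈ S, n χ * n χ = 1 := by
      intro χ hχ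
      by_contra hne
      have hz := hnz χ (by simpa [hSdef] using hχ)
      have h4 : 4 ≤ n χ * n χ := by
        rcases lt_trichotomy (n χ) 0 with h | h | h
        · have : n χ ≤ -2 := by
            by_contra h'
            exact hne (by rw [show n χ = -1 by omega]; norm_num)
          nlinarith
        · exact absurd h hz
        · have : 2 ≤ n χ := by
            by_contra h'
            exact hne (by rw [show n χ = 1 by omega]; norm_num)
          nlinarith
      have hne' : χ ≠ oneChar G := fun h => hne (by rw [h, hn1, mul_one])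
      have h5 := Finset.sum_le_sum_of_subset_of_nonneg (f := fun ψ => n ψ * n ψ)
        (show ({χ, oneChar G} : Finset _) ⊆ S by
          intro ψ hψ
          simp only [Finset.mem_insert, Finset.mem_singleton] at hψ
          rcases hψ with rfl | rfl <;> assumption)
        (fun ψ _ _ => mul_self_nonneg _)
      rw [Finset.sum_pair hne', hn1, hsum] at h5
      omega
    refine ⟨?_, fun χ hχ => hbig χ (by simp [hSdef, hχ])⟩
    rw [Finset.sum_congr rfl hbig, Finset.sum_const, nsmul_eq_mul, mul_one] at hsum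
    exact_mod_cast hsum
  refine ⟨n, hsq, hval, ?_, hdvd, fun y hy => ?_⟩
  · rw [Nat.card_eq_fintype_card, Fintype.card_subtype]
    exact hcard
  · have h2u : 2 ∣ orderOf u := by rw [hu2]
    have h := blockUnion_orthogonal_regular_singular hM
      (IsBlockUnion.of_isPBlock (isPBlock_principalBlock (M := M) (G := G))) hy h2u
    rw [← h]
    refine finsum_mem_congr rfl fun χ hχ => ?_
    rw [hn χ, map_intCast]

/-- The rank is three. -/
theorem KleinData.blockRank_eq (hM : IsPModular 2 M) {u : G} (hu : orderOf u = 2)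
    {s : IrrCharacter G → ℤ} (h : KleinData M G u s) :
    blockRank 2 (principalBlock M G) = 3 := by
  classical
  have := Fintype.ofFinite (ConjClasses G)
  have hS := IsBlockUnion.of_isPBlock (isPBlock_principalBlock (M := M) (G := G))
  set T := Finset.univ.filter (fun x : G => 2 ∣ orderOf x) with hT
  set S := Finset.univ.filter (· ∈ principalBlock M G) with hSdef
  have hmem : ∀ {χ}, χ ∈ S ↔ χ ∈ principalBlock M G := fun {χ} => by simp [hSdef]
  set σ : ℂ := (Nat.card G : ℂ)⁻¹ * (T.card : ℂ) with hσ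
  have hreg : ∀ χ ∈ S, ∀ ψ ∈ S,
      regInner 2 χ ψ = (if χ = ψ then 1 else 0) - σ * ((s χ : ℂ) * (s ψ : ℂ)) := by
    intro χ hχ ψ hψ
    have h1 := Char.classInner_irr χ ψ
    rw [classInner, ← Finset.sum_filter_add_sum_filter_not Finset.univ (fun x : G => 2 ∣ orderOf x),
      ← hT, Finset.sum_congr rfl (g := fun _ => (s χ : ℂ) * (s ψ : ℂ)) fun x hx => ?_,
      Finset.sum_const, nsmul_eq_mul, mul_add, ← mul_assoc, ← hσ] at h1
    swap
    · rw [h.sing χ (hmem.mp hχ) x (Finset.mem_filter.mp hx).2,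
        h.sing ψ (hmem.mp hψ) x (Finset.mem_filter.mp hx).2, map_intCast]
    have h2 : regInner 2 χ ψ = (Nat.card G : ℂ)⁻¹ *
        ∑ x ∈ Finset.univ.filter (fun x : G => ¬ 2 ∣ orderOf x),
          (χ : G → ℂ) x * conj ((ψ : G → ℂ) x) := by
      rw [Finset.sum_congr rfl fun x _ => by rw [← Char.irr_inv], ← card_mul_regInner, ← mul_assoc,
        inv_mul_cancel₀ (Nat.cast_ne_zero.mpr Nat.card_pos.ne'), one_mul]
    rw [h2, ← h1]
    ring
  have hcard : S.card = 4 := by
    rw [hSdef, ← Fintype.card_subtype, ← Nat.card_eq_fintype_card]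
    exact h.card
  have hsq : ∀ χ ∈ S, ((s χ : ℂ) * (s χ : ℂ)) = 1 := fun χ hχ => by
    exact_mod_cast h.sq χ (hmem.mp hχ)
  have hσ0 : σ ≠ 0 := mul_ne_zero (inv_ne_zero (Nat.cast_ne_zero.mpr Nat.card_pos.ne'))
    (Nat.cast_ne_zero.mpr (Finset.card_ne_zero.mpr ⟨u, by simp [hT, hu]⟩))
  have h1S : oneChar G ∈ S := hmem.mpr one_mem_principalBlock
  have hσ4 : 4 * σ = 1 := by
    have h3 := sum_regInner_mul_regInner 2 (oneChar G) (oneChar G)
    rw [← Finset.sum_subset (Finset.subset_univ S) fun θ _ hθ => by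
      rw [regInner_eq_zero_of_not_mem hM hS (hmem.mp h1S) (mt hmem.mpr hθ), zero_mul]] at h3
    rw [← Finset.add_sum_erase _ _ h1S,
      Finset.sum_congr rfl (g := fun _ => σ * σ) fun θ hθ => ?_, Finset.sum_const,
      Finset.card_erase_of_mem h1S, hcard, hreg _ h1S _ h1S, if_pos rfl, hsq _ h1S,
      nsmul_eq_mul] at h3
    swap
    · have hθS := (Finset.mem_erase.mp hθ).2
      have hθ1 := (Finset.mem_erase.mp hθ).1
      rw [hreg _ h1S _ hθS, hreg _ hθS _ h1S, if_neg (Ne.symm hθ1), if_neg hθ1]
      linear_combination (σ * σ * ((s θ : ℂ) * (s θ : ℂ))) * hsq _ h1S + (σ * σ) * hsq θ hθS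
    apply mul_left_cancel₀ hσ0
    norm_num at h3
    linear_combination h3
  have hr : (blockRank 2 (principalBlock M G) : ℂ) = 3 := by
    rw [blockRank_eq_sum_regInner hM hS,
      Finset.sum_congr rfl (g := fun _ => 1 - σ) fun χ hχ => by
        rw [hreg χ hχ χ hχ, if_pos rfl, hsq χ hχ, mul_one],
      Finset.sum_const, hcard, nsmul_eq_mul]
    linear_combination -hσ4
  exact_mod_cast hr

end CfsgLib.Block
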