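import Cfsg.Agent.Lib.Block.CentralDefect

/-!
# Characters of largest `p`-part of degree over a central `p`-subgroup
-/

open Finset
open scoped ComplexConjugate

set_option linter.unusedSectionVars false

namespace CfsgLib.Block

open Cfsg

universe u

variable {p : ℕ} {G : Type u} [Group G] [Fintype G] [DecidableEq G] {D : Subgroup G}

/-- The `p`-part lies in the central subgroup. -/
def PartIn (p : ℕ) (D : Subgroup G) (g : G) : Prop := ∃ z ∈ D, ¬ p ∣ orderOf (z⁻¹ * g)

theorem partIn_isPPart (hp : p.Prime) (hD : IsPGroup p D) (hDZ : D ≤ Subgroup.center G) {g x : G}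
    (hx : IsPPart p g x) : PartIn p D g ↔ x ∈ D := by
  constructor
  · rintro ⟨z, hz, hreg⟩
    have := Fact.mk hp
    obtain ⟨k, hk⟩ := IsPGroup.iff_orderOf.mp hD ⟨z, hz⟩
    have : IsPPart p g z := ⟨z⁻¹ * g, mul_inv_cancel_left z g,
      (Subgroup.mem_center_iff.mp (hDZ hz) (z⁻¹ * g)).symm,
      ⟨k, by rw [← hk, ← Subgroup.orderOf_coe]⟩, hreg⟩
    exact isPPart_unique hp this hx ▸ hz
  · intro h
    obtain ⟨y, rfl, -, -, hy⟩ := hx
    exact ⟨x, h, by rwa [inv_mul_cancel_left]⟩

theorem partIn_conj (hDZ : D ≤ Subgroup.center G) (a b : G) :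
    PartIn p D (b * a * b⁻¹) ↔ PartIn p D a := by
  refine exists_congr fun z => and_congr_right fun hz => ?_
  rw [show z⁻¹ * (b * a * b⁻¹) = b * (z⁻¹ * a) * b⁻¹ by
    rw [← mul_assoc, ← mul_assoc, ← Subgroup.mem_center_iff.mp (inv_mem (hDZ hz)) b, mul_assoc b],
    show orderOf (b * (z⁻¹ * a) * b⁻¹) = orderOf (z⁻¹ * a) from
      MulEquiv.orderOf_eq (MulAut.conj b) (z⁻¹ * a)]

/-- An irreducible character is multiplicative against a central subgroup. -/
theorem exists_central_char {A : Type u} [Group A] [Finite A] (χ : IrrCharacter A) :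
    ∃ c : A → ℂ, c 1 = 1 ∧ (∀ z w, z ∈ Subgroup.center A → w ∈ Subgroup.center A →
      c (z * w) = c z * c w) ∧
      ∀ z y, z ∈ Subgroup.center A → (χ : A → ℂ) (z * y) = c z * (χ : A → ℂ) y := by
  classical
  obtain ⟨χ, n, ρ, hρ, rfl⟩ := χ
  have h1 := Char.irr_one_ne_zero (⟨_, n, ρ, hρ, rfl⟩ : IrrCharacter A)
  have key : ∀ z ∈ Subgroup.center A, ∀ y,
      ρ.character (z * y) = ρ.character z / ρ.character 1 * ρ.character y := by
    intro z hz y
    obtain ⟨c, hc⟩ := Char.schur_scalar ρ (ρ z) fun x => by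
      rw [← map_mul, ← map_mul, Subgroup.mem_center_iff.mp hz x]
    have h2 : ∀ y, ρ.character (z * y) = c * ρ.character y := fun y => by
      rw [Representation.character, Representation.character, map_mul, hc, smul_mul_assoc,
        map_smul, smul_eq_mul]
      rfl
    rw [h2 y]
    have h3 := h2 1
    rw [mul_one] at h3
    rw [h3, mul_div_assoc, div_self h1, mul_one]
  refine ⟨fun z => ρ.character z / ρ.character 1, div_self h1, fun z w hz hw => ?_,
    fun z y hz => key z hz y⟩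
  simp only [key z hz w, mul_div_assoc]

/-- The restriction to the elements with `p`-part in `D` is a generalized character. -/
theorem partIn_generalized [Fact p.Prime] (hD : IsPGroup p D) (hDZ : D ≤ Subgroup.center G)
    (χ : IrrCharacter G) (hdeg : (charDegree (χ : G → ℂ)).factorization p +
      (Nat.card D).factorization p = (Nat.card G).factorization p)
    [DecidablePred (PartIn p D)] :
    IsGeneralizedCharacter G (fun g => if PartIn p D g then (χ : G → ℂ) g else 0) := by
  classical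
  have hp : p.Prime := Fact.out
  obtain ⟨hd, hd0⟩ := charDegree_eq χ
  set d := charDegree (χ : G → ℂ) with hdd
  obtain ⟨M', hM', hM'p⟩ : ∃ M' : ℕ, Nat.card G = d * (Nat.card D * M') ∧ ¬ p ∣ M' := by
    obtain ⟨m, hm⟩ := Char.degree_dvd_card χ hd
    have hm0 : m ≠ 0 := fun h => Nat.card_pos.ne' (hm.trans (by rw [h, mul_zero]))
    obtain ⟨a, ha⟩ := IsPGroup.iff_card.mp hD
    have hvm : m.factorization p = a := by
      rw [hm, Nat.factorization_mul hd0 hm0, Finsupp.add_apply, ha, hp.factorization_pow,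
        Finsupp.single_eq_same] at hdeg
      omega
    refine ⟨ordCompl[p] m, ?_, Nat.not_dvd_ordCompl hp hm0⟩
    rw [hm, ha, ← hvm, Nat.ordProj_mul_ordCompl_eq_self]
  refine Char.isGeneralizedCharacter_of_elementary (fun a b => ?_) fun E q hq hE => ?_
  · simp only [partIn_conj hDZ, Char.isClassFunction_irr χ a b]
  obtain ⟨R, P, hR, hcard, ⟨j, hj⟩, hRp, hcomm⟩ := Char.exists_pparts_elementary (p := p) hq hE
  have := Fintype.ofFinite E
  have := Fintype.ofFinite R
  set D0 : Subgroup E := D.subgroupOf E with hD0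
  have := Fintype.ofFinite D0
  have hD0Z : ∀ z : D0, (z : E) ∈ Subgroup.center E := fun z => Subgroup.mem_center_iff.mpr fun e =>
    Subtype.ext (Subgroup.mem_center_iff.mp (hDZ z.2) e)
  refine Char.isGeneralizedCharacter_of_int_inner (fun a b => ?_) fun ψ => ?_
  · simp only [Subgroup.coe_mul, InvMemClass.coe_inv, partIn_conj hDZ,
      Char.isClassFunction_irr χ (a : G) (b : G)]
  obtain ⟨k, hk⟩ := Char.classInner_isCharacter
    (Char.isCharacter_comp (Char.isCharacter_irr χ) (E.subtype.comp R.subtype))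
    (Char.isCharacter_comp (Char.isCharacter_irr ψ) R.subtype)
  set S : ℂ := ∑ r : R, (χ : G → ℂ) ((r : E) : G) * (ψ : E → ℂ) (r : E)⁻¹ with hS
  have hk' : S = (Nat.card R : ℂ) * k := by
    rw [classInner, inv_mul_eq_iff_eq_mul₀ (by exact_mod_cast Nat.card_pos.ne')] at hk
    rw [← hk, hS]
    exact Finset.sum_congr rfl fun r _ => by rw [Char.irr_inv]; rfl
  obtain ⟨c₁, hc₁1, hc₁m, hc₁⟩ := exists_central_char χ
  obtain ⟨c₂, hc₂1, hc₂m, hc₂⟩ := exists_central_char ψ
  set T : ℂ := ∑ z : D0, c₁ ((z : E) : G) * c₂ (z : E)⁻¹ with hT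
  obtain ⟨t, ht⟩ : ∃ t : ℕ, T = (t : ℂ) * (Nat.card D0 : ℂ) := by
    by_cases hall : ∀ z : D0, c₁ ((z : E) : G) * c₂ (z : E)⁻¹ = 1
    · exact ⟨1, by rw [hT, Finset.sum_congr rfl fun z _ => hall z]; simp [Nat.card_eq_fintype_card]⟩
    · push Not at hall
      obtain ⟨w, hw⟩ := hall
      have h1 : T = c₁ ((w : E) : G) * c₂ (w : E)⁻¹ * T := by
        rw [hT, Finset.mul_sum]
        refine (Fintype.sum_equiv (Equiv.mulLeft w) _ _ fun z => ?_).symm
        simp only [Equiv.coe_mulLeft, Subgroup.coe_mul, mul_inv_rev]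
        rw [hc₁m _ _ (hDZ (show ((w : E) : G) ∈ D from w.2)) (hDZ (show ((z : E) : G) ∈ D from z.2)), hc₂m _ _ (inv_mem (hD0Z z)) (inv_mem (hD0Z w))]
        ring
      refine ⟨0, ?_⟩
      rw [Nat.cast_zero, zero_mul]
      by_contra hT0
      exact hw (mul_right_cancel₀ hT0 ((one_mul T).trans h1)).symm
  have hsupp : ∑ e : E, (if PartIn p D (e : G) then (χ : G → ℂ) e else 0) * conj ((ψ : E → ℂ) e) =
      T * S := by
    rw [hT, hS, Finset.sum_mul_sum, ← Finset.sum_product']
    simp only [ite_mul, zero_mul]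
    rw [← Finset.sum_filter]
    symm
    refine Finset.sum_bij (fun q _ => (q.1 : E) * (q.2 : E)) (fun q _ => ?_) (fun q _ q' _ he => ?_)
      (fun e he => ?_) (fun q _ => ?_)
    · refine Finset.mem_filter.mpr ⟨Finset.mem_univ _, ((q.1 : E) : G), q.1.2, ?_⟩
      rw [Subgroup.coe_mul, inv_mul_cancel_left, Subgroup.orderOf_coe]
      exact (hR _).mp q.2.2
    · have key : ∀ (z : D0) (r : R), IsPPart p (((z : E) * (r : E) : E) : G) ((z : E) : G) :=
        fun z r => by
          obtain ⟨i, hi⟩ := IsPGroup.iff_orderOf.mp hD ⟨_, z.2⟩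
          exact ⟨((r : E) : G), rfl, (Subgroup.mem_center_iff.mp (hDZ z.2) _).symm,
            ⟨i, by rw [← hi]; exact Subgroup.orderOf_coe ⟨((z : E) : G), z.2⟩⟩, by
              rw [Subgroup.orderOf_coe]; exact (hR _).mp r.2⟩
      have h1 : ((q.1 : E) : G) = ((q'.1 : E) : G) :=
        isPPart_unique hp (key q.1 q.2) (by rw [he]; exact key q'.1 q'.2)
      have h1' : q.1 = q'.1 := Subtype.ext (Subtype.ext h1)
      exact Prod.ext h1' (Subtype.ext (mul_left_cancel (h1' ▸ he : (q'.1 : E) * q.2 = _)))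
    · obtain ⟨x, hx⟩ := exists_isPPart hp e
      obtain ⟨y, hxy, hcxy, hxk, hy⟩ := hx
      have hxG : IsPPart p (e : G) (x : G) := ⟨y, congrArg Subtype.val hxy, hcxy.map E.subtype,
        by rwa [Subgroup.orderOf_coe], by rwa [Subgroup.orderOf_coe]⟩
      have hxD : (x : G) ∈ D := (partIn_isPPart hp hD hDZ hxG).mp (Finset.mem_filter.mp he).2
      exact ⟨(⟨x, hxD⟩, ⟨y, (hR y).mpr hy⟩), Finset.mem_univ _, hxy⟩
    · rw [← Char.irr_inv, Subgroup.coe_mul, hc₁ _ _ (hDZ (show ((q.1 : E) : G) ∈ D from q.1.2)), mul_inv_rev,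
        Subgroup.mem_center_iff.mp (inv_mem (hD0Z q.1)) _, hc₂ _ _ (inv_mem (hD0Z q.1))]
      ring
  have hmain : classInner (fun e : E => if PartIn p D (e : G) then (χ : G → ℂ) e else 0)
      (ψ : E → ℂ) = (Nat.card E : ℂ)⁻¹ * (T * S) := by rw [classInner, hsupp]
  obtain ⟨i, hi⟩ : ∃ i : ℕ, Nat.card D0 = p ^ i :=
    IsPGroup.iff_card.mp (hD.comap_of_injective E.subtype E.subtype_injective)
  have hij : i ≤ j := by
    have h1 : p ^ i ∣ Nat.card R * p ^ j := by
      rw [← hi, ← hj, hcard]; exact Subgroup.card_subgroup_dvd_card D0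
    exact (Nat.pow_dvd_pow_iff_le_right hp.one_lt).mp
      ((((hp.coprime_iff_not_dvd.mpr hRp).pow_left i)).dvd_of_dvd_mul_left h1)
  have hterm : ∀ r : R, ∃ c : ℂ, IsIntegral ℤ c ∧
      (M' : ℂ) * ((χ : G → ℂ) ((r : E) : G) * (ψ : E → ℂ) (r : E)⁻¹) =
        ((p ^ (j - i) : ℕ) : ℂ) * c := by
    intro r
    set r' : G := ((r : E) : G) with hr'
    set C := Subgroup.centralizer ({r'} : Set G) with hC
    have hDn : D.Normal := ⟨fun z hz g => by
      rwa [Subgroup.mem_center_iff.mp (hDZ hz) g, mul_inv_cancel_right]⟩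
    have hle : P.map E.subtype ⊔ D ≤ C := sup_le (by
      rintro _ ⟨u, hu, rfl⟩
      exact Subgroup.mem_centralizer_singleton_iff.mpr (congrArg Subtype.val (hcomm r r.2 u hu)))
      fun z hz => Subgroup.mem_centralizer_singleton_iff.mpr (Subgroup.mem_center_iff.mp (hDZ hz) r').symm
    have hdvd : Nat.card P * Nat.card D ∣ Nat.card C * Nat.card D0 := by
      have h1 : D.relIndex (P.map E.subtype) * Nat.card (D ⊓ P.map E.subtype : Subgroup G) =
          Nat.card P := by
        rw [← Subgroup.inf_relIndex_right, ← Subgroup.relIndex_bot_left (D ⊓ P.map E.subtype),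
          mul_comm, Subgroup.relIndex_mul_relIndex _ _ _ bot_le inf_le_right,
          Subgroup.relIndex_bot_left, Subgroup.card_map_of_injective E.subtype_injective]
      have h2 : D.relIndex (P.map E.subtype) * Nat.card D = Nat.card (P.map E.subtype ⊔ D : Subgroup G) := by
        rw [← Subgroup.relIndex_sup_right (K := D) (H := P.map E.subtype),
          ← Subgroup.relIndex_bot_left D, mul_comm,
          Subgroup.relIndex_mul_relIndex _ _ _ bot_le le_sup_right, Subgroup.relIndex_bot_left]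
      have h3 : Nat.card (D ⊓ P.map E.subtype : Subgroup G) ∣ Nat.card D0 := by
        rw [← Subgroup.card_map_of_injective (K := D0) E.subtype_injective]
        refine Subgroup.card_dvd_of_le fun v hv => ?_
        obtain ⟨w, -, rfl⟩ := hv.2
        exact ⟨w, hv.1, rfl⟩
      rw [← h1, mul_right_comm, h2]
      exact Nat.mul_dvd_mul (Subgroup.card_dvd_of_le hle) h3
    obtain ⟨c₀, hc₀⟩ := hdvd
    have h4 : C.index * Nat.card C = d * (Nat.card D * M') := C.index_mul_card.trans hM'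
    have h5 : p ^ (j - i) * c₀ * C.index = d * M' := by
      have hpos : 0 < p ^ i * Nat.card D := Nat.mul_pos (pow_pos hp.pos _) Nat.card_pos
      refine Nat.eq_of_mul_eq_mul_left hpos ?_
      calc p ^ i * Nat.card D * (p ^ (j - i) * c₀ * C.index)
          = (p ^ i * p ^ (j - i)) * Nat.card D * c₀ * C.index := by ring
        _ = Nat.card P * Nat.card D * c₀ * C.index := by
            rw [← pow_add, Nat.add_sub_cancel' hij, hj]
        _ = C.index * Nat.card C * Nat.card D0 := by rw [← hc₀]; ring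
        _ = p ^ i * Nat.card D * (d * M') := by rw [h4, hi]; ring
    refine ⟨(c₀ : ℂ) * Char.omega (χ : G → ℂ) r' * (ψ : E → ℂ) (r : E)⁻¹,
      ((isIntegral_algebraMap (R := ℤ) (x := (c₀ : ℤ))).mul (Char.isIntegral_omega χ r')).mul
        (Char.isCharacter_isIntegral (Char.isCharacter_irr ψ) _), ?_⟩
    have hd' : (d : ℂ) ≠ 0 := by exact_mod_cast hd0
    have h6 : ((p ^ (j - i) : ℕ) : ℂ) * c₀ * (C.index : ℂ) = (d : ℂ) * M' := by exact_mod_cast h5
    rw [Char.omega, Char.card_isConj, hd]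
    generalize ((p ^ (j - i) : ℕ) : ℂ) = m at h6 ⊢
    field_simp
    linear_combination (-((χ : G → ℂ) r') * (ψ : E → ℂ) (r : E)⁻¹) * h6
  choose c hc hce using hterm
  have hint : IsIntegral ℤ (∑ r, c r) := IsIntegral.sum _ fun r _ => hc r
  have hsum : (M' : ℂ) * S = ((p ^ (j - i) : ℕ) : ℂ) * ∑ r, c r := by
    rw [hS, Finset.mul_sum, Finset.mul_sum]
    exact Finset.sum_congr rfl fun r _ => hce r
  rw [hk'] at hsum
  have hm0 : ((p ^ (j - i) : ℕ) : ℂ) ≠ 0 := Nat.cast_ne_zero.mpr (pow_ne_zero _ hp.ne_zero)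
  have hq' : ∑ r, c r =
      algebraMap ℚ ℂ ((M' * Nat.card R * k : ℕ) / (p ^ (j - i) : ℕ) : ℚ) := by
    rw [map_div₀, map_natCast, map_natCast, eq_div_iff hm0, mul_comm _ ((p ^ (j - i) : ℕ) : ℂ),
      ← hsum]
    push_cast
    ring
  rw [hq', isIntegral_algebraMap_iff (algebraMap ℚ ℂ).injective,
    IsIntegrallyClosed.isIntegral_iff] at hint
  obtain ⟨z, hz⟩ := hint
  rw [eq_intCast, eq_div_iff (by exact_mod_cast pow_ne_zero _ hp.ne_zero)] at hz
  have hdvd : p ^ (j - i) ∣ M' * Nat.card R * k :=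
    Int.natCast_dvd_natCast.mp ⟨z, by rw [mul_comm _ z]; exact_mod_cast hz.symm⟩
  obtain ⟨s, hs⟩ := (((hp.coprime_iff_not_dvd.mpr hM'p).pow_left (j - i)).mul_right
    ((hp.coprime_iff_not_dvd.mpr hRp).pow_left (j - i))).dvd_of_dvd_mul_left hdvd
  refine ⟨((t * s : ℕ) : ℤ), ?_⟩
  rw [hmain, ht, hk', ← hcard, hs, hi, hj,
    show p ^ j = p ^ i * p ^ (j - i) by rw [← pow_add, Nat.add_sub_cancel' hij]]
  have hR0 : (Nat.card R : ℂ) ≠ 0 := by exact_mod_cast Nat.card_pos.ne'
  have hi0 : ((p ^ i : ℕ) : ℂ) ≠ 0 := Nat.cast_ne_zero.mpr (pow_ne_zero _ hp.ne_zero)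
  generalize p ^ i = a at hi0 ⊢
  generalize p ^ (j - i) = b at hm0 ⊢
  push_cast
  field_simp

theorem vanish_of_not_partIn [Fact p.Prime] (hD : IsPGroup p D) (hDZ : D ≤ Subgroup.center G)
    (χ : IrrCharacter G) (hdeg : (charDegree (χ : G → ℂ)).factorization p +
      (Nat.card D).factorization p = (Nat.card G).factorization p)
    {g : G} (hg : ¬ PartIn p D g) : (χ : G → ℂ) g = 0 := by
  classical
  obtain ⟨m, hm⟩ := Char.classInner_generalized_int (partIn_generalized hD hDZ χ hdeg)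
    (Char.isGeneralizedCharacter_of_isCharacter (Char.isCharacter_irr χ))
  have h1 := Char.classInner_irr_self χ
  rw [Char.classInner_self, Complex.ofReal_eq_one] at h1
  set f : G → ℝ := fun x => ‖(χ : G → ℂ) x‖ ^ 2 with hf
  have hre : ((Nat.card G : ℝ)⁻¹ * ∑ x : G, if PartIn p D x then f x else 0) = (m : ℝ) := by
    have e : classInner (fun x => if PartIn p D x then (χ : G → ℂ) x else 0) (χ : G → ℂ) =
        (((Nat.card G : ℝ)⁻¹ * ∑ x : G, if PartIn p D x then f x else 0 : ℝ) : ℂ) := by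
      rw [classInner, Complex.ofReal_mul, Complex.ofReal_inv, Complex.ofReal_natCast,
        Complex.ofReal_sum]
      congr 1
      refine Finset.sum_congr rfl fun x _ => ?_
      split_ifs
      · rw [Complex.mul_conj', ← Complex.ofReal_pow]
      · simp
    rw [e] at hm
    exact_mod_cast hm
  have hN : (0 : ℝ) < (Nat.card G : ℝ)⁻¹ := inv_pos.mpr (by exact_mod_cast Nat.card_pos)
  have hf0 : ∀ x, 0 ≤ f x := fun x => sq_nonneg _
  have hle : ∀ x ∈ (Finset.univ : Finset G), (if PartIn p D x then f x else 0) ≤ f x := fun x _ => by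
    split_ifs
    · exact le_rfl
    · exact hf0 x
  have hpos : 0 < ∑ x : G, if PartIn p D x then f x else 0 := by
    refine Finset.sum_pos' (fun x _ => by split_ifs; exacts [hf0 x, le_rfl]) ⟨1, Finset.mem_univ _, ?_⟩
    rw [if_pos ⟨1, one_mem _, by simp [(Fact.out : p.Prime).ne_one]⟩]
    exact pow_pos (norm_pos_iff.mpr (Char.irr_one_ne_zero χ)) 2
  have hm1 : (m : ℝ) ≤ 1 := hre ▸ h1 ▸ mul_le_mul_of_nonneg_left (Finset.sum_le_sum hle) hN.le
  have hm0 : (0 : ℝ) < m := hre ▸ mul_pos hN hpos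
  have hm' : m = 1 := by
    have a1 : m ≤ 1 := by exact_mod_cast hm1
    have a2 : 0 < m := by exact_mod_cast hm0
    omega
  rw [hm', Int.cast_one, ← h1] at hre
  have h2 := (Finset.sum_eq_sum_iff_of_le hle).mp (mul_left_cancel₀ hN.ne' hre) g (Finset.mem_univ g)
  rw [if_neg hg, eq_comm] at h2
  exact norm_eq_zero.mp (sq_eq_zero_iff.mp h2)

variable {M : Ideal AlgInt} [M.IsMaximal]

theorem card_mul_regInner_partIn (hM : IsPModular p M) [Fintype (IrrCharacter G)] (hD : IsPGroup p D)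
    (hDZ : D ≤ Subgroup.center G) (χ : IrrCharacter G)
    (hdeg : degVal p χ + (Nat.card D).factorization p = (Nat.card G).factorization p) :
    (Nat.card D : ℂ) * regInner p χ χ = 1 := by
  classical
  have hpf : Fact p.Prime := ⟨hM.1⟩
  have hG0 : (Nat.card G : ℂ) ≠ 0 := Nat.cast_ne_zero.mpr Nat.card_pos.ne'
  obtain ⟨c, hc1, hcm, hc⟩ := exists_central_char χ
  have hall : ∑ g : G, (χ : G → ℂ) g * (χ : G → ℂ) g⁻¹ = (Nat.card G : ℂ) := by
    rw [← mul_one (Nat.card G : ℂ), ← Char.classInner_irr_self χ, classInner, ← mul_assoc,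
      mul_inv_cancel₀ hG0, one_mul]
    exact Finset.sum_congr rfl fun g _ => by rw [Char.irr_inv]
  apply mul_left_cancel₀ hG0
  rw [mul_left_comm, card_mul_regInner, mul_one]
  conv_rhs => rw [← hall]
  rw [← Finset.sum_filter_add_sum_filter_not Finset.univ (fun g : G => PartIn p D g),
    Finset.sum_eq_zero (s := Finset.univ.filter fun g : G => ¬ PartIn p D g)
      (fun g hg => by
        rw [vanish_of_not_partIn hD hDZ χ hdeg (Finset.mem_filter.mp hg).2, zero_mul]), add_zero]
  have hbij : ∑ q ∈ (Finset.univ : Finset D) ×ˢ Finset.univ.filter (fun x : G => ¬ p ∣ orderOf x),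
      (χ : G → ℂ) q.2 * (χ : G → ℂ) q.2⁻¹ =
      ∑ g ∈ Finset.univ.filter (fun g : G => PartIn p D g), (χ : G → ℂ) g * (χ : G → ℂ) g⁻¹ := by
    refine Finset.sum_bij (fun q _ => (q.1 : G) * q.2) (fun q hq => ?_) (fun q hq q' hq' he => ?_)
      (fun g hg => ?_) (fun q hq => ?_)
    · simp only [Finset.mem_product, Finset.mem_filter, Finset.mem_univ, true_and] at hq ⊢
      exact ⟨q.1, q.1.2, by rwa [inv_mul_cancel_left]⟩
    · simp only [Finset.mem_product, Finset.mem_filter, Finset.mem_univ, true_and] at hq hq'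
      have key : ∀ (z : D) (y : G), ¬ p ∣ orderOf y → IsPPart p ((z : G) * y) z := fun z y hy => by
        obtain ⟨k, hk⟩ := IsPGroup.iff_orderOf.mp hD z
        exact ⟨y, rfl, (Subgroup.mem_center_iff.mp (hDZ z.2) y).symm,
          ⟨k, by rwa [Subgroup.orderOf_coe]⟩, hy⟩
      have h1 : (q.1 : G) = (q'.1 : G) :=
        isPPart_unique hM.1 (key q.1 q.2 hq) (by have := key q'.1 q'.2 hq'; rwa [← he] at this)
      exact Prod.ext (Subtype.ext h1) (mul_left_cancel (h1 ▸ he : (q'.1 : G) * q.2 = _))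
    · obtain ⟨z, hz, hreg⟩ := (Finset.mem_filter.mp hg).2
      exact ⟨(⟨z, hz⟩, z⁻¹ * g), by simp [hreg], mul_inv_cancel_left z g⟩
    · have hz := hDZ q.1.2
      rw [mul_inv_rev, Subgroup.mem_center_iff.mp (inv_mem hz) q.2⁻¹, hc _ _ hz, hc _ _ (inv_mem hz),
        mul_mul_mul_comm, ← hcm _ _ hz (inv_mem hz), mul_inv_cancel, hc1, one_mul]
  rw [← hbij, Finset.sum_product]
  simp only [Finset.sum_const, Finset.card_univ, ← Nat.card_eq_fintype_card, nsmul_eq_mul]

/-- Such a character has height zero and the central subgroup as defect group. -/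
theorem isDefectGroup_of_deg (hM : IsPModular p M) (hD : IsPGroup p D)
    (hDZ : D ≤ Subgroup.center G) (χ : IrrCharacter G)
    (hdeg : degVal p χ + (Nat.card D).factorization p = (Nat.card G).factorization p) :
    IsDefectGroup p M (blockOf M (χ : G → ℂ)) D := by
  classical
  have hpf : Fact p.Prime := ⟨hM.1⟩
  have := Fintype.ofFinite (ConjClasses G)
  have := Fintype.ofFinite (IrrCharacter G)
  have hsum := card_mul_regInner_partIn hM hD hDZ χ hdeg
  obtain ⟨I, hI, -, hI2⟩ := regInner_valuation hM χ χ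
  obtain ⟨a, ha⟩ := IsPGroup.iff_card.mp hD
  have hvD : (Nat.card D).factorization p = a := by
    rw [ha, Nat.Prime.factorization_pow hM.1, Finsupp.single_eq_same]
  have hreg0 : regN p M χ χ ≠ 0 := by
    intro h0
    have h1 := hI2.mpr h0
    have hIv : I = (p : ℤ) ^ degVal p χ := by
      have h2 := hsum
      rw [← hdeg, hvD, pow_add, mul_assoc] at hI
      rw [ha, Nat.cast_pow] at h2
      rw [h2, mul_one] at hI
      exact_mod_cast hI.symm
    rw [hIv] at h1
    have h3 : (p : ℕ) ^ (degVal p χ + 1) ∣ p ^ degVal p χ := by exact_mod_cast h1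
    exact absurd ((Nat.pow_dvd_pow_iff_le_right hM.1.one_lt).mp h3) (by omega)
  have hB := isPBlock_blockOf (M := M) χ
  have hmin := (regN_ne_zero_iff hM hB (self_mem_blockOf χ) (self_mem_blockOf χ)).mp hreg0
  have h4 : minDeg p (blockOf M (χ : G → ℂ)) = degVal p χ :=
    ((blockHeight_eq_zero_iff (self_mem_blockOf χ)).mp
      ((forall_degVal_le_iff (self_mem_blockOf χ)).mp hmin)).symm
  obtain ⟨E, hE⟩ := exists_defectGroup hM hB
  have : D.Normal := ⟨fun z hz g => by
    rwa [Subgroup.mem_center_iff.mp (hDZ hz) g, mul_inv_cancel_right]⟩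
  have hle := normal_le_defectGroup hM hB hE hD
  have hcard := defectGroup_card hM hB hE
  rw [blockDefect] at hcard
  change Nat.card E = p ^ ((Nat.card G).factorization p - minDeg p (blockOf M (χ : G → ℂ))) at hcard
  rw [h4, ← hdeg, Nat.add_sub_cancel_left, hvD] at hcard
  rwa [← Subgroup.eq_of_le_of_card_ge hle (by rw [hcard, ha]) ] at hE

end CfsgLib.Block
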