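import Cfsg.Agent.Lib.Block.Induced

/-!
# The second main theorem
-/

open Finset MonoidAlgebra
open scoped ComplexConjugate

set_option linter.unusedSectionVars false

namespace CfsgLib.Block

open Cfsg

universe u

section emb

variable {R : Type*} [CommRing R] {G : Type u} [Group G] [Fintype G] [DecidableEq G]
  {H : Subgroup G} [Fintype H]

/-- The group algebra of a subgroup inside the one of the group. -/
noncomputable def emb (a : MonoidAlgebra R H) : MonoidAlgebra R G :=
  gaOfFun fun g => @dite _ (g ∈ H) (Classical.propDecidable _) (fun h => a.coeff ⟨g, h⟩) fun _ => 0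

theorem coeff_emb_coe (a : MonoidAlgebra R H) (h : H) : (emb a).coeff (h : G) = a.coeff h := by
  simp only [emb, coeff_gaOfFun, dif_pos h.2]

theorem suppIn_emb (a : MonoidAlgebra R H) : SuppIn H (emb a) := fun g hg => by
  simp only [emb, coeff_gaOfFun, dif_neg hg]

theorem sum_emb (a : MonoidAlgebra R H) (f : G → R) :
    ∑ g : G, (emb a).coeff g * f g = ∑ h : H, a.coeff h * f h := by
  classical
  rw [← Finset.sum_subset (Finset.subset_univ (Finset.univ.filter (fun g : G => g ∈ H)))
    fun g _ hg => by rw [suppIn_emb a g (by simpa using hg), zero_mul]]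
  rw [Finset.sum_subtype (p := fun g => g ∈ H) _ (fun g => by simp)]
  exact Finset.sum_congr rfl fun h _ => by rw [coeff_emb_coe]

theorem emb_mul (a b : MonoidAlgebra R H) : emb (a * b) = emb a * emb b := by
  refine ga_ext fun g => ?_
  rw [coeff_mul_sum, sum_emb a fun x => (emb b).coeff (x⁻¹ * g)]
  by_cases hg : g ∈ H
  · rw [show g = ((⟨g, hg⟩ : H) : G) from rfl, coeff_emb_coe, coeff_mul_sum]
    refine Finset.sum_congr rfl fun h _ => ?_
    rw [← Subgroup.coe_inv, ← Subgroup.coe_mul, coeff_emb_coe]
  · rw [suppIn_emb _ g hg]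
    refine (Finset.sum_eq_zero fun h _ => ?_).symm
    rw [suppIn_emb b _ fun h' => hg (by simpa using H.mul_mem h.2 h'), mul_zero]

theorem commute_single_emb {a : MonoidAlgebra R H} (ha : IsClassElt a) (u : H) :
    Commute (single (u : G) 1) (emb a) := by
  rw [commute_single_iff]
  intro g
  by_cases hg : g ∈ H
  · rw [show g = ((⟨g, hg⟩ : H) : G) from rfl, ← Subgroup.coe_mul, ← Subgroup.coe_inv,
      ← Subgroup.coe_mul, coeff_emb_coe, coeff_emb_coe, ha]
  · rw [suppIn_emb a g hg, suppIn_emb a _ fun h => hg ?_]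
    have := H.mul_mem (H.mul_mem (H.inv_mem u.2) h) u.2
    simpa [mul_assoc] using this

end emb

variable {p : ℕ} {M : Ideal AlgInt} [M.IsMaximal] {G : Type u} [Group G] [Fintype G] [DecidableEq G]
  {H : Subgroup G} [Fintype H]

/-- The truncation at a `p`-element `z` of the product of the idempotent of `B'` and of a block
of `H` not inducing `B'` vanishes, provided `C(z) ≤ H`. -/
theorem coeff_blockBar_mul_eq_zero (hM : IsPModular p M) {b : Set (IrrCharacter H)}
    {B B' : Set (IrrCharacter G)} (hind : IsInducedBlock M H b B) (hB' : IsPBlock M B')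
    (hne : B' ≠ B) {z : G} {k : ℕ} (hz : z ^ p ^ k = 1) (hzH : z ∈ H)
    (hC : ∀ t, Commute t z → t ∈ H) {t : H} (ht : Commute (t : G) z) :
    ((resHK M H (blockBar M B') * blockBar M b : ZK M H) :
      MonoidAlgebra (ResField M) H).coeff t = 0 := by
  classical
  have hpf : Fact p.Prime := ⟨hM.1⟩
  have := charP_resField hM
  obtain ⟨hb, hB, hω⟩ := isInducedBlock_iff.mp hind
  obtain ⟨χ, hχ⟩ := isPBlock_nonempty hB
  set X := resHK M H (blockBar M B') with hX
  set E := blockBar M b with hE
  obtain ⟨N, hN⟩ := isNilpotent_of_omegaBar hM (z := X * E) fun ξ => by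
    rw [map_mul, hE, omegaBar_blockBar hM (.of_isPBlock hb)]
    split_ifs with hξ
    · rw [hX, hω ξ hξ χ hχ, omegaBar_blockBar hM (.of_isPBlock hB'),
        if_neg fun h => hne (isPBlock_eq_of_mem hB' hB h hχ), zero_mul]
    · rw [mul_zero]
  -- the Brauer homomorphism at `⟨z⟩` inside `H`
  let zH : H := ⟨z, hzH⟩
  have hzk : zH ^ p ^ k = 1 := Subtype.ext hz
  let P : Subgroup H := Subgroup.zpowers zH
  have hP : IsPGroup p P := by
    intro u
    obtain ⟨i, hi⟩ := Subgroup.mem_zpowers_iff.mp u.2
    exact ⟨k, Subtype.ext (by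
      rw [SubmonoidClass.coe_pow, ← hi, ← zpow_natCast, ← zpow_mul, mul_comm, zpow_mul,
        zpow_natCast, hzk, one_zpow]; rfl)⟩
  have hmemC : ∀ {s : H}, s ∈ Subgroup.centralizer (P : Set H) ↔ Commute (s : G) z := by
    intro s
    rw [Subgroup.mem_centralizer_iff]
    constructor
    · intro h
      exact (congrArg Subtype.val (h zH (Subgroup.mem_zpowers zH))).symm
    · intro h u hu
      obtain ⟨i, rfl⟩ := Subgroup.mem_zpowers_iff.mp hu
      have h' : Commute s zH := Subtype.ext h
      exact (h'.zpow_right i).eq.symm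
  have hN' : Subgroup.centralizer (P : Set H) ≤ Subgroup.normalizer (P : Set H) := by
    intro c hc
    rw [Subgroup.mem_normalizer_iff]
    intro u
    rw [Subgroup.mem_centralizer_iff] at hc
    constructor
    · intro hu
      rwa [← hc u hu, mul_assoc, mul_inv_cancel, mul_one]
    · intro hu
      have h1 : u = c * u * c⁻¹ :=
        calc u = c⁻¹ * ((c * u * c⁻¹) * c) := by group
          _ = c⁻¹ * (c * (c * u * c⁻¹)) := by rw [hc _ hu]
          _ = c * u * c⁻¹ := by group
      rwa [h1]
  let br := brMap M hM hP le_rfl hN'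
  -- the truncation of `X` is idempotent
  have hbrX : br X * br X = br X := by
    rw [← map_mul]
    refine Subtype.ext (ga_ext fun s => ?_)
    rw [coeff_brMap, coeff_brMap, if_pos s.2, if_pos s.2, MulMemClass.coe_mul]
    have hs : Commute ((s : H) : G) z := hmemC.mp s.2
    have hinvH : ∀ w : ZK M H, ∀ u ∈ P, ∀ x,
        (w : MonoidAlgebra (ResField M) H).coeff (u * x * u⁻¹) =
          (w : MonoidAlgebra (ResField M) H).coeff x :=
      fun w u _ x => mem_center_iff_isClassElt.mp w.2 x u
    rw [coeff_mul_brauer (p := p) hP (hinvH X) (hinvH X) s.2]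
    have hsq := congrArg (fun w : ZK M G => (w : MonoidAlgebra (ResField M) G).coeff ((s : H) : G))
      (blockBar_mul_self hM (IsBlockUnion.of_isPBlock hB'))
    simp only [MulMemClass.coe_mul] at hsq
    have hP' : IsPGroup p (Subgroup.zpowers z) := by
      intro u
      obtain ⟨i, hi⟩ := Subgroup.mem_zpowers_iff.mp u.2
      exact ⟨k, Subtype.ext (by
        rw [SubmonoidClass.coe_pow, ← hi, ← zpow_natCast, ← zpow_mul, mul_comm, zpow_mul,
          zpow_natCast, hz, one_zpow]; rfl)⟩
    have hinvG : ∀ u ∈ Subgroup.zpowers z, ∀ x,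
        (blockBar M B' : MonoidAlgebra (ResField M) G).coeff (u * x * u⁻¹) =
          (blockBar M B' : MonoidAlgebra (ResField M) G).coeff x :=
      fun u _ x => mem_center_iff_isClassElt.mp (blockBar M B').2 x u
    have hmemG : ∀ {w : G}, w ∈ Subgroup.centralizer (Subgroup.zpowers z : Set G) ↔ Commute w z := by
      intro w
      rw [Subgroup.mem_centralizer_iff]
      constructor
      · intro h; exact (h z (Subgroup.mem_zpowers z)).symm
      · intro h u hu
        obtain ⟨i, rfl⟩ := Subgroup.mem_zpowers_iff.mp hu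
        exact (h.zpow_right i).eq.symm
    rw [coeff_mul_brauer (p := p) hP' hinvG hinvG (hmemG.mpr hs)] at hsq
    rw [coeff_resHK, ← hsq]
    refine Finset.sum_bij (fun h _ => ((h : H) : G)) (fun h hh => ?_) (fun _ _ _ _ h => Subtype.ext h)
      (fun w hw => ?_) (fun h hh => ?_)
    · rw [Finset.mem_filter] at hh ⊢
      exact ⟨Finset.mem_univ _, hmemG.mpr (hmemC.mp hh.2)⟩
    · rw [Finset.mem_filter] at hw
      exact ⟨⟨w, hC w (hmemG.mp hw.2)⟩, by simp [hmemC, hmemG.mp hw.2], rfl⟩
    · simp [hX, coeff_resHK]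
  have hbrE : br E * br E = br E := by rw [← map_mul, hE, blockBar_mul_self hM (.of_isPBlock hb)]
  have hnil : IsNilpotent (br (X * E)) := ⟨N, by rw [← map_pow, hN, map_zero]⟩
  have hidem : IsIdempotentElem (br (X * E)) := by
    show _ = _
    rw [map_mul, mul_mul_mul_comm, hbrX, hbrE]
  have h0 : br (X * E) = 0 := by
    obtain ⟨n, hn⟩ := hnil
    rw [← hidem.pow_succ_eq n, pow_succ, hn, zero_mul]
  have := congrArg (fun w : ZK M (Subgroup.centralizer (P : Set H)) =>
    (w : MonoidAlgebra (ResField M) (Subgroup.centralizer (P : Set H))).coeff ⟨t, hmemC.mpr ht⟩) h0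
  -- conclude
  rw [coeff_brMap, if_pos (hmemC.mpr ht)] at this
  simpa using this

theorem coe_biTrace_blockIdem_right (hM : IsPModular p M) {S : Set (IrrCharacter G)}
    (hS : IsBlockUnion M S) (g : G) (c : MonoidAlgebra (locRing M) G) :
    ((biTrace ((blockIdem M S : MonoidAlgebra (locRing M) G) * single g 1) c : locRing M) : ℂ) =
      ∑ x : G, (c.coeff x : ℂ) * ∑ᶠ χ ∈ S, (χ : G → ℂ) g * (χ : G → ℂ) x := by
  have hc : c = ∑ x : G, c.coeff x • single x (1 : locRing M) := ga_ext fun x => by
    rw [coeff_sum_apply, Finset.sum_eq_single x] <;> simp +contextual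
  conv_lhs => rw [hc, biTrace_sum_right]
  rw [AddSubmonoidClass.coe_finsetSum]
  refine Finset.sum_congr rfl fun x _ => ?_
  rw [Subring.coe_mul]
  congr 1
  have := coe_biTrace_blockIdem hM hS g x⁻¹
  rwa [inv_inv] at this

/-- Second main theorem, idempotent form. -/
theorem second_main_theorem (hM : IsPModular p M) {b : Set (IrrCharacter H)}
    {B : Set (IrrCharacter G)} (hind : IsInducedBlock M H b B) {h : H} {z : G}
    (hz : IsPPart p (h : G) z) (hC : ∀ t, Commute t z → t ∈ H) {χ : IrrCharacter G} (hχ : χ ∉ B) :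
    ∑ t : H, blockCoeff b t * (χ : G → ℂ) ((t : G) * (h : G)) = 0 := by
  classical
  have hpf : Fact p.Prime := ⟨hM.1⟩
  have := charP_resField hM
  have := charZero_locRing M
  have := Fintype.ofFinite (IrrCharacter G)
  have hb := hind.1
  have hbS := IsBlockUnion.of_isPBlock hb
  set B' := blockOf M (χ : G → ℂ) with hB'def
  have hB' : IsPBlock M B' := isPBlock_blockOf χ
  have hne : B' ≠ B := fun e => hχ (e ▸ self_mem_blockOf χ)
  obtain ⟨y, hzy, hzy', ⟨k, hk⟩, hy⟩ := hz
  have hzk : z ^ p ^ k = 1 := by rw [← hk, pow_orderOf_eq_one]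
  have hzH : z ∈ H := hC z (Commute.refl z)
  set eb := emb (blockIdem M b : MonoidAlgebra (locRing M) H) with heb
  have hebS : ∀ u : H, Commute (single (u : G) (1 : locRing M)) eb :=
    commute_single_emb (mem_center_iff_isClassElt.mp (blockIdem M b).2)
  have heb2 : eb * eb = eb := by
    rw [heb, ← emb_mul]
    exact congrArg emb (congrArg Subtype.val (blockIdem_mul_self hM hbS))
  set T : IrrCharacter G → ℂ := fun ψ => ∑ t : H, blockCoeff b t * (ψ : G → ℂ) ((t : G) * (h : G))
    with hT
  have hΦ : ∀ s : G, ∑ ψ ∈ Finset.univ.filter (· ∈ B'), (ψ : G → ℂ) s * T ψ = 0 := by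
    intro s
    have hval : ((biTrace ((blockIdem M B' : MonoidAlgebra (locRing M) G) * single s 1)
        (eb * single (h : G) 1) : locRing M) : ℂ) =
        ∑ ψ ∈ Finset.univ.filter (· ∈ B'), (ψ : G → ℂ) s * T ψ := by
      rw [coe_biTrace_blockIdem_right hM (.of_isPBlock hB')]
      simp only [hT, finsum_mem_eq_toFinset_sum, Finset.mul_sum]
      rw [Finset.sum_comm, Finset.sum_congr (show B'.toFinset = Finset.univ.filter (· ∈ B') by
        ext; simp) fun _ _ => rfl]
      refine Finset.sum_congr rfl fun ψ _ => ?_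
      refine (Fintype.sum_equiv (Equiv.mulRight (h : G)⁻¹) _
        (fun x => ((eb.coeff x : ℂ)) * ((ψ : G → ℂ) s * (ψ : G → ℂ) (x * (h : G)))) fun x => ?_).trans ?_
      · simp only [coeff_mul_single', mul_one, Equiv.coe_mulRight, inv_mul_cancel_right]
      · rw [← Finset.sum_subset (Finset.subset_univ (Finset.univ.filter (fun x : G => x ∈ H)))
          fun x _ hx => by
            rw [suppIn_emb _ x (by simpa using hx)]
            simp,
          Finset.sum_subtype (p := fun x => x ∈ H) _ (fun x => by simp)]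
        refine Finset.sum_congr rfl fun t _ => ?_
        rw [heb, coeff_emb_coe, coe_coeff_blockIdem hM hbS]
        ring
    rw [← hval]
    obtain ⟨x, ys, hsx, hxs, ⟨k', hk'⟩, hys⟩ := exists_isPPart hM.1 s
    let m := orderOf ys * orderOf y
    have hm : ¬ p ∣ m := fun h => (hM.1.dvd_mul.mp h).elim hys hy
    have hm0 : m ≠ 0 := (Nat.mul_pos (orderOf_pos ys) (orderOf_pos y)).ne'
    obtain ⟨ζ, hζ⟩ := exists_primitiveRoot_locRing M m hm0
    obtain ⟨η, hη⟩ := exists_primitiveRoot_locRing M (p ^ (k + k')) (pow_ne_zero _ hM.1.ne_zero)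
    set e' : MonoidAlgebra (locRing M) G := (blockIdem M B' : MonoidAlgebra (locRing M) G) with he'
    set r := invNat hM hm with hr
    have hr1 : r * (m : locRing M) = 1 := invNat_mul hM hm
    let w : G → ℕ → MonoidAlgebra (locRing M) G := fun g i => ζ ^ i • single g 1
    have hwpow : ∀ {g : G}, g ^ m = 1 → ∀ i, w g i ^ m = 1 := fun hg i => by
      simp only [w, smul_pow, ← pow_mul, MonoidAlgebra.single_pow, one_pow, hg]
      rw [mul_comm, pow_mul, hζ.pow_eq_one, one_pow, one_smul, MonoidAlgebra.one_def]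
    have hsingle : ∀ {g : G}, g ^ m = 1 → single g (1 : locRing M) =
        ∑ i ∈ Finset.range m, ζ ^ ((m - 1) * i) • avgPow r m (w g i) := fun {g} hg =>
      (sum_smul_avgPow hr1 hζ (w := single g (1 : locRing M)) (by
        simp [MonoidAlgebra.single_pow, hg, MonoidAlgebra.one_def])).symm
    have hysm : ys ^ m = 1 := orderOf_dvd_iff_pow_eq_one.mp (dvd_mul_right _ _)
    have hym : y ^ m = 1 := orderOf_dvd_iff_pow_eq_one.mp (dvd_mul_left _ _)
    have hec : ∀ a, Commute e' a := fun a =>
      (mem_center_iff_isClassElt.mp (blockIdem M B').2).commute a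
    have he2 : e' * e' = e' :=
      congrArg Subtype.val (blockIdem_mul_self hM (IsBlockUnion.of_isPBlock hB'))
    have hcomm : ∀ {g t : G}, Commute g t → ∀ i, Commute (single g (1 : locRing M)) (w t i) :=
      fun hgt i => Commute.smul_right (by
        rw [commute_iff_eq, MonoidAlgebra.single_mul_single, MonoidAlgebra.single_mul_single,
          hgt.eq]) _
    have hyH : y ∈ H := hC y hzy'.symm
    have hebQ : ∀ j, Commute (avgPow r m (w y j)) eb := fun j =>
      (Commute.avgPow (Commute.smul_right (hebS ⟨y, hyH⟩).symm _)).symm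
    have hzero : ∀ i j, biTrace (e' * avgPow r m (w ys i) * single x 1)
        (single z 1 * (eb * avgPow r m (w y j))) = 0 := by
      intro i j
      have := biTrace_eq_zero p (res M) (R := locRing M) hη
        (a := e' * avgPow r m (w ys i)) (c := eb * avgPow r m (w y j)) (u := x) (w := z⁻¹) ?_ ?_ ?_ ?_
        ((hec _).symm.mul_right (Commute.avgPow (hcomm hxs i))) ?_ ?_
      · rwa [inv_inv] at this
      · rw [mul_assoc, ← mul_assoc (avgPow r m (w ys i)) e', ← (hec _).eq, ← mul_assoc, ← mul_assoc,
          he2, mul_assoc, avgPow_mul_self hr1 (hwpow hysm i)]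
      · rw [mul_assoc, ← mul_assoc (avgPow r m (w y j)) eb, (hebQ j).eq, ← mul_assoc, ← mul_assoc,
          heb2, mul_assoc, avgPow_mul_self hr1 (hwpow hym j)]
      · rw [pow_add, mul_comm, pow_mul, ← hk', pow_orderOf_eq_one, one_pow]
      · rw [inv_pow, pow_add, pow_mul, hzk, one_pow, inv_one]
      · have h1 := hebS ⟨z, hzH⟩
        have h2 := hebS ⟨z⁻¹, H.inv_mem hzH⟩
        exact h2.mul_right (Commute.avgPow (hcomm hzy'.inv_left j))
      intro y0 v hy0 hv
      -- move the idempotent of `B'` next to the one of `b`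
      have hmove : e' * avgPow r m (w ys i) * single v 1 * (eb * avgPow r m (w y j)) =
          (avgPow r m (w ys i) * single v 1) * ((e' * eb) * avgPow r m (w y j)) := by
        rw [mul_assoc e', (hec _).eq, mul_assoc _ e', mul_assoc e' eb]
      rw [hmove, coeff_mul_sum, map_sum]
      refine Finset.sum_eq_zero fun a _ => ?_
      by_cases ha : x * a = a * z⁻¹
      · -- `a⁻¹ * y0` centralizes `z`
        have hm' : Commute (a⁻¹ * y0) z := by
          have h1 : x = y0 * z⁻¹ * y0⁻¹ := by rw [← hy0]; group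
          have h2 : x = a * z⁻¹ * a⁻¹ := by rw [← ha]; group
          have h3 : (a⁻¹ * y0) * z⁻¹ = z⁻¹ * (a⁻¹ * y0) :=
            calc a⁻¹ * y0 * z⁻¹ = a⁻¹ * (y0 * z⁻¹ * y0⁻¹) * y0 := by group
              _ = a⁻¹ * (a * z⁻¹ * a⁻¹) * y0 := by rw [← h1, ← h2]
              _ = z⁻¹ * (a⁻¹ * y0) := by group
          have := (show Commute (a⁻¹ * y0) z⁻¹ from h3).inv_right
          rwa [inv_inv] at this
        rw [map_mul]
        refine mul_eq_zero_of_right _ ?_
        rw [coeff_mul_sum, map_sum]
        refine Finset.sum_eq_zero fun t _ => ?_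
        by_cases ht : Commute t z
        · refine (map_mul (res M) _ _).trans (mul_eq_zero_of_left ?_ _)
          have h0 := coeff_blockBar_mul_eq_zero hM hind hB' hne hzk hzH hC (t := ⟨t, hC t ht⟩) ht
          rw [← h0, MulMemClass.coe_mul, coeff_mul_sum, coeff_mul_sum, map_sum]
          rw [← Finset.sum_subset (Finset.subset_univ (Finset.univ.filter (fun s : G => s ∈ H)))
            fun s _ hs => by
              rw [suppIn_emb _ (s⁻¹ * t) fun h' => (by simpa using hs : s ∉ H) (by
                simpa using H.mul_mem (hC t ht) (H.inv_mem h')), mul_zero, map_zero],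
            Finset.sum_subtype (p := fun s => s ∈ H) _ (fun s => by simp)]
          refine Finset.sum_congr rfl fun s _ => ?_
          rw [map_mul, show (s : G)⁻¹ * t = ((s⁻¹ * ⟨t, hC t ht⟩ : H) : G) from rfl, heb,
            coeff_emb_coe]
          simp [coeff_resHK, coeffRes, blockBar, he']
        · rw [(SuppIn.avgPow (SuppIn.smul (suppIn_single (H := Subgroup.centralizer ({z} : Set G))
            (Subgroup.mem_centralizer_singleton_iff.mpr hzy'.symm.eq) _) _) r m) _ ?_, mul_zero,
            map_zero]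
          intro h'
          rw [Subgroup.mem_centralizer_singleton_iff] at h'
          exact ht (by simpa [mul_assoc] using hm'.mul_left (Commute.inv_left (h' : Commute _ z)))
      · have hA : (avgPow r m (w ys i) * single v 1).coeff a = 0 := by
          rw [coeff_mul_single', mul_one]
          refine (SuppIn.avgPow (SuppIn.smul (suppIn_single (H := Subgroup.centralizer ({x} : Set G))
            (Subgroup.mem_centralizer_singleton_iff.mpr hxs.symm.eq) _) _) r m) _ fun h' => ha ?_
          rw [Subgroup.mem_centralizer_singleton_iff] at h'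
          have hxv : v⁻¹ * x * v = z⁻¹ := by rw [mul_assoc, hv]; group
          calc x * a = x * (a * v⁻¹) * v := by group
            _ = (a * v⁻¹) * x * v := by rw [h']
            _ = a * z⁻¹ := by rw [← hxv]; group
        rw [hA, zero_mul, map_zero]
    have hg : e' * single s (1 : locRing M) =
        ∑ i ∈ Finset.range m, ζ ^ ((m - 1) * i) • (e' * avgPow r m (w ys i) * single x 1) := by
      rw [← hsx, hxs.eq, show single (ys * x) (1 : locRing M) = single ys 1 * single x 1 by
        simp [MonoidAlgebra.single_mul_single], hsingle hysm, Finset.sum_mul, Finset.mul_sum]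
      refine Finset.sum_congr rfl fun i _ => ?_
      rw [Algebra.smul_mul_assoc, Algebra.mul_smul_comm, mul_assoc]
    have hh : eb * single (h : G) (1 : locRing M) =
        ∑ j ∈ Finset.range m, ζ ^ ((m - 1) * j) • (single z 1 * (eb * avgPow r m (w y j))) := by
      rw [← hzy, show single (z * y) (1 : locRing M) = single z 1 * single y 1 by
        simp [MonoidAlgebra.single_mul_single], ← mul_assoc, ← (hebS ⟨z, hzH⟩).eq, mul_assoc,
        hsingle hym, Finset.mul_sum, Finset.mul_sum]
      exact Finset.sum_congr rfl fun j _ => by rw [Algebra.mul_smul_comm, Algebra.mul_smul_comm]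
    rw [hg, hh, biTrace_sum_left]
    simp only [biTrace_sum_right, hzero, mul_zero, Finset.sum_const_zero]
    rfl
  have hlin := (Fintype.linearIndependent_iff.mp Char.linearIndependent_irr)
    (fun ψ => if ψ ∈ B' then T ψ else 0) (funext fun s => by
      rw [Finset.sum_apply, Pi.zero_apply]
      refine Eq.trans ?_ (hΦ s)
      rw [Finset.sum_filter]
      refine Finset.sum_congr rfl fun ψ _ => ?_
      simp only [Pi.smul_apply, smul_eq_mul]
      by_cases hψ : ψ ∈ B' <;> simp [hψ, mul_comm]) χ
  rw [if_pos (self_mem_blockOf χ)] at hlin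
  exact hlin

/-- The block part of a class function through the idempotent coefficients. -/
theorem blockPart_eq_sum {A : Type u} [Group A] [Fintype A] [DecidableEq A]
    (b : Set (IrrCharacter A)) {f : A → ℂ} (hf : IsClassFunction A f) (y : A) :
    blockPart b f y = ∑ t : A, blockCoeff b t * f (t * y) := by
  classical
  have := Fintype.ofFinite (IrrCharacter A)
  have hG : (Nat.card A : ℂ) ≠ 0 := Nat.cast_ne_zero.mpr Nat.card_pos.ne'
  show ∑ᶠ η ∈ b, @classInner A _ (Fintype.ofFinite A) f (η : A → ℂ) * (η : A → ℂ) y = _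
  rw [Subsingleton.elim (Fintype.ofFinite A) ‹Fintype A›]
  simp only [blockCoeff, finsum_mem_eq_toFinset_sum, Finset.mul_sum, Finset.sum_mul]
  rw [Finset.sum_comm]
  refine Finset.sum_congr rfl fun η _ => ?_
  have h1 : ∀ v : A, ∑ t : A, f (t * y) * conj ((η : A → ℂ) t) =
      ∑ c : A, f c * conj ((η : A → ℂ) (c * (v * y⁻¹ * v⁻¹))) := by
    intro v
    refine Fintype.sum_equiv ((Equiv.mulRight y).trans (MulAut.conj v).toEquiv) _ _ fun t => ?_
    simp only [Equiv.trans_apply, Equiv.coe_mulRight, MulEquiv.toEquiv_eq_coe, EquivLike.coe_coe,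
      MulAut.conj_apply]
    rw [hf (t * y) v, show v * (t * y) * v⁻¹ * (v * y⁻¹ * v⁻¹) = v * t * v⁻¹ by group,
      Char.isClassFunction_irr η t v]
  have h2 : (Nat.card A : ℂ) * ∑ t : A, f (t * y) * conj ((η : A → ℂ) t) =
      ∑ c : A, f c * conj ((Nat.card A : ℂ) * (η : A → ℂ) c * (η : A → ℂ) y⁻¹ / (η : A → ℂ) 1) := by
    rw [Nat.card_eq_fintype_card, ← nsmul_eq_mul, ← Finset.card_univ, ← Finset.sum_const,
      Finset.sum_congr rfl fun v _ => h1 v, Finset.sum_comm]
    refine Finset.sum_congr rfl fun c _ => ?_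
    rw [← Finset.mul_sum, ← map_sum, sum_conj_char, Finset.card_univ, ← Nat.card_eq_fintype_card]
  have h3 : ∑ t : A, f (t * y) * conj ((η : A → ℂ) t) =
      (∑ c : A, f c * conj ((η : A → ℂ) c)) * (η : A → ℂ) y / (η : A → ℂ) 1 := by
    apply mul_left_cancel₀ hG
    rw [h2, Finset.sum_mul, Finset.sum_div, Finset.mul_sum]
    refine Finset.sum_congr rfl fun c _ => ?_
    rw [map_div₀, map_mul, map_mul, map_natCast, Char.conj_irr_one, Char.irr_inv,
      Complex.conj_conj]
    ring
  have := Char.irr_one_ne_zero η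
  have h4 : ∀ t : A, (Nat.card A : ℂ)⁻¹ * ((η : A → ℂ) 1 * conj ((η : A → ℂ) t)) * f (t * y) =
      ((Nat.card A : ℂ)⁻¹ * (η : A → ℂ) 1) * (f (t * y) * conj ((η : A → ℂ) t)) := fun t => by ring
  rw [Finset.sum_congr rfl fun t _ => h4 t, ← Finset.mul_sum, h3, classInner]
  field_simp

end CfsgLib.Block
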