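import Cfsg.Agent.Lib.Block.FirstMain
import Cfsg.Agent.Lib.Block.Principal
import Cfsg.Agent.Lib.Block.SecondMain
import Cfsg.Agent.Lib.Block.BrauerPairs

/-!
# Green's theorem on defect groups as Sylow intersections

`eq_zero_of_cosetSums_of_idem`: a central idempotent whose sums over the cosets of a `p`-subgroup
vanish is zero (no normality needed); `exists_sylow_inf_conj_eq_defectGroup`.
-/

open Finset MonoidAlgebra
open scoped ComplexConjugate

set_option linter.unusedSectionVars false

namespace CfsgLib.Block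

open Cfsg

universe u

section algebra

variable {k : Type*} [Field k] {G : Type u} [Group G] [Fintype G] [DecidableEq G]

theorem emb_single' {Q : Subgroup G} [Fintype Q] (q : Q) :
    (emb (single q (1 : k)) : MonoidAlgebra k G) = single (q : G) 1 := by
  classical
  refine ga_ext fun g => ?_
  by_cases hg : g ∈ Q
  · rw [show g = ((⟨g, hg⟩ : Q) : G) from rfl, coeff_emb_coe]
    simp [MonoidAlgebra.coeff_single, Finsupp.single_apply, Subtype.ext_iff]
  · rw [suppIn_emb _ g hg]
    simp [MonoidAlgebra.coeff_single, Finsupp.single_apply, show (q : G) ≠ g from fun e => hg (e ▸ q.2)]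

theorem mul_emb_mem_fixSeries {Q : Subgroup G} [Fintype Q] (i : ℕ) :
    ∀ {u : MonoidAlgebra k Q}, u ∈ fixSeries (⊤ : Subgroup Q) i →
      ∀ a : MonoidAlgebra k G, a * emb u ∈ fixSeries Q i := by
  induction i with
  | zero =>
    intro u hu a
    simp only [fixSeries, Submodule.mem_bot] at hu ⊢
    rw [hu, show (emb (0 : MonoidAlgebra k Q) : MonoidAlgebra k G) = 0 from ga_ext fun g => by
      by_cases hg : g ∈ Q
      · rw [show g = ((⟨g, hg⟩ : Q) : G) from rfl, coeff_emb_coe]; simp
      · rw [suppIn_emb _ g hg]; simp, mul_zero]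
  | succ i ih =>
    intro u hu a
    rw [mem_fixSeries_succ] at hu ⊢
    intro q hq
    have h := ih (hu ⟨q, hq⟩ (Subgroup.mem_top _)) a
    rwa [show (emb (u * single (⟨q, hq⟩ : Q) 1 - u) : MonoidAlgebra k G) =
      emb (u * single (⟨q, hq⟩ : Q) 1) - emb u from ga_ext fun g => by
        by_cases hg : g ∈ Q
        · rw [show g = ((⟨g, hg⟩ : Q) : G) from rfl, MonoidAlgebra.coeff_sub, Finsupp.sub_apply,
            coeff_emb_coe, coeff_emb_coe, coeff_emb_coe, MonoidAlgebra.coeff_sub, Finsupp.sub_apply]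
        · rw [MonoidAlgebra.coeff_sub, Finsupp.sub_apply, suppIn_emb _ g hg, suppIn_emb _ g hg,
            suppIn_emb _ g hg, sub_zero],
      emb_mul, emb_single', mul_sub, ← mul_assoc] at h

/-- A central idempotent whose sums over the cosets of a `p`-subgroup vanish is zero. -/
theorem eq_zero_of_cosetSums_of_idem {p : ℕ} [Fact p.Prime] [CharP k p] {Q : Subgroup G}
    [Fintype Q] (hQ : IsPGroup p Q) {e : MonoidAlgebra k G} (hc : IsClassElt e) (he : e * e = e)
    (hx : ∀ g, ∑ q : Q, e.coeff (g * q) = 0) : e = 0 := by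
  classical
  have hQ' : IsPGroup p (⊤ : Subgroup Q) := hQ.to_subgroup ⊤
  obtain ⟨n, hn⟩ := fixSeries_exists_top (k := k) hQ'
  have htop : ∀ a : MonoidAlgebra k G, a ∈ fixSeries Q n := fun a => by
    have h := mul_emb_mem_fixSeries (Q := Q) n (u := single 1 1) (hn ▸ Submodule.mem_top) a
    rwa [emb_single', OneMemClass.coe_one, ← MonoidAlgebra.one_def, mul_one] at h
  have hcom : ∀ g : G, Commute (single g (1 : k)) e := (isClassElt_iff e).mp hc
  have hesum : e = ∑ g, e.coeff g • single g (1 : k) := ga_ext fun g => by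
    rw [coeff_sum_apply, Finset.sum_eq_single g] <;> simp +contextual
  let r : G → G := fun g => (QuotientGroup.mk g : G ⧸ Q).out
  have hr : ∀ g, ∃ q ∈ Q, g = r g * q := fun g =>
    ⟨(r g)⁻¹ * g, QuotientGroup.eq.mp (QuotientGroup.out_eq' _), by group⟩
  -- descend along the series
  have key : ∀ i ≤ n, ∀ v, v * e ∈ fixSeries Q (n - i) := by
    intro i
    induction i with
    | zero => exact fun _ v => htop _
    | succ i ih =>
      intro hi v
      have h0 : ∑ g, e.coeff g • (v * e * single (r g) (1 : k)) = 0 := by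
        rw [← Finset.sum_fiberwise Finset.univ (fun g => (QuotientGroup.mk g : G ⧸ Q))]
        refine Finset.sum_eq_zero fun C _ => ?_
        rw [Finset.sum_congr rfl (g := fun g => e.coeff g • (v * e * single C.out (1 : k)))
          (fun g hg => by
            rw [Finset.mem_filter] at hg
            simp only [r, hg.2]), ← Finset.sum_smul]
        have : ∑ g ∈ Finset.univ.filter (fun g => (QuotientGroup.mk g : G ⧸ Q) = C), e.coeff g =
            ∑ q : Q, e.coeff (C.out * q) := by
          symm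
          refine Finset.sum_bij (fun q _ => C.out * (q : G)) (fun q _ => ?_) (fun a _ b _ h =>
            Subtype.ext (mul_left_cancel h)) (fun g hg => ?_) (fun _ _ => rfl)
          · simp [QuotientGroup.mk_mul_of_mem C.out q.2]
          · rw [Finset.mem_filter] at hg
            exact ⟨⟨C.out⁻¹ * g, QuotientGroup.eq.mp (by rw [QuotientGroup.out_eq', hg.2])⟩,
              Finset.mem_univ _, by simp⟩
        rw [this, hx, zero_smul]
      have heq : v * e = ∑ g, e.coeff g • (v * e * single g (1 : k)) := by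
        conv_lhs => rw [← he, ← mul_assoc]; arg 2; rw [hesum]
        rw [Finset.mul_sum]
        exact Finset.sum_congr rfl fun g _ => Algebra.mul_smul_comm _ _ _
      rw [heq, ← sub_zero (∑ g, e.coeff g • (v * e * single g (1 : k))), ← h0,
        ← Finset.sum_sub_distrib]
      refine Submodule.sum_mem _ fun g _ => ?_
      rw [← smul_sub]
      refine Submodule.smul_mem _ _ ?_
      obtain ⟨q, hq, hgq⟩ := hr g
      have hmem : v * e * single (r g) 1 ∈ fixSeries Q (n - (i + 1) + 1) := by
        rw [mul_assoc, ← (hcom (r g)).eq, ← mul_assoc, show n - (i + 1) + 1 = n - i by omega]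
        exact ih (by omega) _
      have h := mem_fixSeries_succ.mp hmem q hq
      rwa [mul_assoc (v * e), MonoidAlgebra.single_mul_single, mul_one, ← hgq] at h
  simpa [fixSeries] using key n le_rfl 1

end algebra

variable {p : ℕ} {M : Ideal AlgInt} [M.IsMaximal] {G : Type u} [Group G] [Fintype G] [DecidableEq G]
  [Fintype (IrrCharacter G)]

/-- Green: a defect group is the intersection of two Sylow subgroups, with the conjugating element
`p`-regular and having the defect group as a Sylow subgroup of its centralizer. -/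
theorem exists_sylow_inf_conj_eq_defectGroup (hM : IsPModular p M) {B : Set (IrrCharacter G)}
    (hB : IsPBlock M B) {D : Subgroup G} (hD : IsDefectGroup p M B D) {P : Subgroup G}
    (hP : IsPGroup p P) (hDP : D ≤ P) :
    ∃ x : G, ¬ p ∣ orderOf x ∧ IsSylowCent p x D ∧
      P ⊓ P.map (MulAut.conj x).toMonoidHom = D := by
  classical
  have hpf : Fact p.Prime := ⟨hM.1⟩
  have := charP_resField hM
  have hS := IsBlockUnion.of_isPBlock hB
  have hDp : IsPGroup p D := hP.to_le hDP
  obtain ⟨g₀, hg₀, hga, -⟩ := exists_isSylowCent_of_isDefectGroup hM hB hD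
  set C := Subgroup.centralizer (D : Set G) with hC
  have hCm : ∀ {c : G}, c ∈ C ↔ ∀ d ∈ D, d * c = c * d := fun {c} => Subgroup.mem_centralizer_iff
  have hg₀C : g₀ ∈ C := hCm.mpr fun d hd => (hg₀.commute d hd).eq
  -- maximality of `D`
  have hmax : ∀ c ∈ C, coeffRes M B c ≠ 0 → ∀ R : Subgroup G, IsPGroup p R →
      (∀ u ∈ R, Commute u c) → D ≤ R → R = D := fun c _ hne R hR hRc hle =>
    (Subgroup.eq_of_le_of_card_ge hle (coeff_ne_zero_le_defect hM hB hD hR hne hRc).card_le).symm
  -- some coset sum over `W = P ⊓ C` does not vanish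
  let W : Subgroup C := P.comap C.subtype
  have hWp : IsPGroup p W := hP.comap_of_injective C.subtype Subtype.val_injective
  obtain ⟨g, hg⟩ : ∃ g : C, ∑ w : W, coeffRes M B ((g * w : C) : G) ≠ 0 := by
    by_contra hall
    push Not at hall
    set z := brC M hM hDp (blockBar M B) with hz
    have hzz : (z : MonoidAlgebra (ResField M) C) * (z : MonoidAlgebra (ResField M) C) = z := by
      rw [← MulMemClass.coe_mul, hz, ← map_mul, blockBar_mul_self hM hS]
    have hco : ∀ c : C, (z : MonoidAlgebra (ResField M) C).coeff c = coeffRes M B (c : G) :=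
      fun c => by rw [hz, coeff_brC, coeff_blockBar]
    have h0 := eq_zero_of_cosetSums_of_idem hWp (mem_center_iff_isClassElt.mp z.2) hzz
      (fun c => by simp only [hco]; exact hall c)
    exact hga (by rw [← hco ⟨g₀, hg₀C⟩, h0]; simp)
  obtain ⟨w, -, hw⟩ := Finset.exists_ne_zero_of_sum_ne_zero hg
  have hxC : ((g * w : C) : G) ∈ C := (g * w : C).2
  set x : G := ((g * w : C) : G) with hx
  obtain ⟨S, hS'⟩ := exists_isSylowCent p x
  have hSle := (coeff_ne_zero_le_defect hM hB hD hS'.isPGroup hw hS'.commute).card_le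
  have hDx : ∀ u ∈ D, Commute u x := fun u hu => hCm.mp hxC u hu
  refine ⟨x, regular_of_coeffRes_ne_zero hM hS hw, ⟨hDx, le_antisymm ?_ (hS'.card_eq ▸ hSle)⟩, ?_⟩
  · rw [← hS'.card_eq]
    exact (hS'.conjLE hDp hDx).card_le
  -- the intersection
  set I := P ⊓ P.map (MulAut.conj x).toMonoidHom with hI
  have hDI : D ≤ I := le_inf hDP fun d hd => ⟨d, hDP hd, by
    show x * d * x⁻¹ = d
    rw [← (hDx d hd).eq, mul_inv_cancel_right]⟩
  by_contra hne
  have hIlt : D < I := lt_of_le_of_ne hDI (Ne.symm hne)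
  obtain ⟨u, hu, huD⟩ := SetLike.exists_of_lt (lt_normalizer_inf (hP.to_le inf_le_left) hIlt)
  obtain ⟨huN, huP, s, hsP, hsu⟩ : u ∈ Subgroup.normalizer (D : Set G) ∧ u ∈ P ∧
      u ∈ P.map (MulAut.conj x).toMonoidHom := ⟨hu.1, hu.2.1, hu.2.2⟩
  have hsu' : x * s * x⁻¹ = u := hsu
  apply hg
  -- `zpowers u` acts on `W`
  let U := Subgroup.zpowers u
  have hUP : U ≤ P := Subgroup.zpowers_le.mpr huP
  have hUN : U ≤ Subgroup.normalizer (D : Set G) := Subgroup.zpowers_le.mpr huN
  have hgU : ∀ j ∈ U, (g : G)⁻¹ * j * g ∈ P := by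
    intro j hj
    obtain ⟨i, rfl⟩ := Subgroup.mem_zpowers_iff.mp hj
    have hwP : ((w : C) : G) ∈ P := w.2
    have : (g : G)⁻¹ * u ^ i * g = ((w : C) : G) * s ^ i * ((w : C) : G)⁻¹ := by
      rw [← hsu', conj_zpow, hx, Subgroup.coe_mul]
      group
    rw [this]
    exact P.mul_mem (P.mul_mem hwP (P.zpow_mem hsP i)) (P.inv_mem hwP)
  have hmem : ∀ (j : U) (v : W), (g : G)⁻¹ * ((j : G) * ((g : G) * ((v : C) : G)) * (j : G)⁻¹) ∈ C ∧
      (g : G)⁻¹ * ((j : G) * ((g : G) * ((v : C) : G)) * (j : G)⁻¹) ∈ P := by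
    refine fun j v => ⟨C.mul_mem (C.inv_mem g.2) (hCm.mpr fun d hd => ?_), ?_⟩
    · have h1 : (j : G)⁻¹ * d * (j : G) ∈ D := by
        have := (Subgroup.mem_normalizer_iff.mp (inv_mem (hUN j.2)) d).mp hd
        simpa using this
      have h2 := hCm.mp (C.mul_mem g.2 (v : C).2) _ h1
      calc d * ((j : G) * ((g : G) * ((v : C) : G)) * (j : G)⁻¹)
          = (j : G) * (((j : G)⁻¹ * d * (j : G)) * ((g : G) * ((v : C) : G))) * (j : G)⁻¹ := by group
        _ = (j : G) * (((g : G) * ((v : C) : G)) * ((j : G)⁻¹ * d * (j : G))) * (j : G)⁻¹ := by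
            rw [h2]
        _ = _ := by group
    · have hv : ((v : C) : G) ∈ P := v.2
      have := P.mul_mem (P.mul_mem (hgU j j.2) hv) (P.inv_mem (hUP j.2))
      simpa [mul_assoc] using this
  letI act : MulAction U W :=
    { smul := fun j v => ⟨⟨_, (hmem j v).1⟩, (hmem j v).2⟩
      one_smul := fun v => Subtype.ext (Subtype.ext (by
        show (g : G)⁻¹ * ((1 : G) * ((g : G) * ((v : C) : G)) * (1 : G)⁻¹) = _
        simp))
      mul_smul := fun i j v => Subtype.ext (Subtype.ext (by
        show (g : G)⁻¹ * (((i : G) * (j : G)) * ((g : G) * ((v : C) : G)) * ((i : G) * (j : G))⁻¹) =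
          (g : G)⁻¹ * ((i : G) * ((g : G) *
            ((g : G)⁻¹ * ((j : G) * ((g : G) * ((v : C) : G)) * (j : G)⁻¹))) * (i : G)⁻¹)
        group)) }
  have hsmul : ∀ (j : U) (v : W), ((g * (j • v : W) : C) : G) =
      (j : G) * ((g * v : C) : G) * (j : G)⁻¹ := fun j v => by
    show (g : G) * ((g : G)⁻¹ * ((j : G) * ((g : G) * ((v : C) : G)) * (j : G)⁻¹)) = _
    rw [Subgroup.coe_mul]
    group
  rw [sum_eq_sum_fixedPoints (hP.to_le hUP) (fun v : W => coeffRes M B ((g * v : C) : G))
    fun j v => by simp only [hsmul, coeffRes_conj]]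
  refine Finset.sum_eq_zero fun v hv => ?_
  by_contra hne'
  have hfix : ∀ j : U, j • v = v := (Finset.mem_filter.mp hv).2
  set c : G := ((g * v : C) : G) with hc
  have hcom : ∀ j ∈ U, Commute j c := fun j hj => by
    have h1 := hsmul ⟨j, hj⟩ v
    rw [hfix] at h1
    exact (mul_inv_eq_iff_eq_mul.mp h1.symm)
  let R := P ⊓ Subgroup.centralizer ({c} : Set G)
  have hR := hmax c (g * v : C).2 hne' R (hP.to_le inf_le_left)
    (fun t ht => Subgroup.mem_centralizer_singleton_iff.mp ht.2)
    (le_inf hDP fun d hd =>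
      Subgroup.mem_centralizer_singleton_iff.mpr (hCm.mp (g * v : C).2 d hd))
  exact huD (hR ▸ ⟨huP, Subgroup.mem_centralizer_singleton_iff.mpr
    (hcom u (Subgroup.mem_zpowers u)).eq⟩)

end CfsgLib.Block
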