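import Cfsg.Agent.Lib.Block.IsoBlocks
import Cfsg.Agent.Lib.Block.LocalDefect
import Cfsg.Agent.Lib.Block.Green
import Cfsg.Agent.Lib.Block.MaxPairs
import Cfsg.Agent.Lib.Char.Clifford

/-!
# Blocks covering a block of a normal subgroup

`Covers B b`: some member of `B` has a constituent in `b`. The idempotent of the conjugates of `b`
fixes the idempotents of the covering blocks, and a defect group of `b` is the intersection with
the normal subgroup of one of each covering block.
-/

open Finset MonoidAlgebra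
open scoped ComplexConjugate

set_option linter.unusedSectionVars false

namespace CfsgLib.Block

open Cfsg CfsgLib.Block.Iso
open scoped Pair

universe u

section blocks_sum

variable {p : ℕ} {M : Ideal AlgInt} [M.IsMaximal] {A : Type u} [Group A] [Fintype A] [DecidableEq A]

/-- The idempotent of a union of blocks is the sum of those of the blocks. -/
theorem blockBar_eq_sum (hM : IsPModular p M) [Fintype {f : Set (IrrCharacter A) // IsPBlock M f}]
    {S : Set (IrrCharacter A)} (hS : IsBlockUnion M S)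
    [DecidablePred fun f : {f : Set (IrrCharacter A) // IsPBlock M f} => f.1 ⊆ S] :
    blockBar M S =
      ∑ f ∈ Finset.univ.filter (fun f : {f : Set (IrrCharacter A) // IsPBlock M f} => f.1 ⊆ S),
        blockBar M f.1 := by
  classical
  have hid : ∀ f : {f : Set (IrrCharacter A) // IsPBlock M f}, ∀ g, f ≠ g →
      blockBar M f.1 * blockBar M g.1 = (0 : ZK M A) := by
    intro f g hne
    refine eq_of_omegaBar_eq_of_idem hM ?_ (mul_zero 0) fun ξ => ?_
    · rw [mul_mul_mul_comm, blockBar_mul_self hM (.of_isPBlock f.2),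
        blockBar_mul_self hM (.of_isPBlock g.2)]
    · rw [map_mul, map_zero, omegaBar_blockBar hM (.of_isPBlock f.2),
        omegaBar_blockBar hM (.of_isPBlock g.2)]
      split_ifs with h1 h2 <;> try simp
      exact hne (Subtype.ext (isPBlock_eq_of_mem f.2 g.2 h1 h2))
  refine eq_of_omegaBar_eq_of_idem hM (blockBar_mul_self hM hS) ?_ fun ξ => ?_
  · rw [Finset.sum_mul_sum]
    refine Finset.sum_congr rfl fun f hf => ?_
    rw [Finset.sum_eq_single f (fun g _ hg => hid f g (Ne.symm hg)) (fun h => absurd hf h)]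
    exact blockBar_mul_self hM (.of_isPBlock f.2)
  · rw [map_sum, omegaBar_blockBar hM hS]
    split_ifs with h
    · rw [Finset.sum_eq_single ⟨blockOf M (ξ : A → ℂ), isPBlock_blockOf ξ⟩]
      · rw [omegaBar_blockBar hM (.of_isPBlock (isPBlock_blockOf ξ)), if_pos (self_mem_blockOf ξ)]
      · intro g _ hg
        rw [omegaBar_blockBar hM (.of_isPBlock g.2), if_neg]
        exact fun h' => hg (Subtype.ext (isPBlock_eq_blockOf g.2 h'))
      · intro hn
        exact absurd (Finset.mem_filter.mpr ⟨Finset.mem_univ _, fun η hη => hS ξ h η hη⟩) hn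
    · refine (Finset.sum_eq_zero fun g hg => ?_).symm
      rw [omegaBar_blockBar hM (.of_isPBlock g.2), if_neg]
      exact fun h' => h ((Finset.mem_filter.mp hg).2 h')

end blocks_sum

variable {p : ℕ} {M : Ideal AlgInt} [M.IsMaximal] {G : Type u} [Group G] [Fintype G] [DecidableEq G]
  {N : Subgroup G} [hNn : N.Normal] [Fintype N]

/-- Some member of `B` has a constituent in `b`. -/
def Covers (B : Set (IrrCharacter G)) (b : Set (IrrCharacter N)) : Prop :=
  ∃ χ ∈ B, ∃ θ ∈ b, classInner (fun n : N => (χ : G → ℂ) n) (θ : N → ℂ) ≠ 0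

theorem nconj (g : G) : ∀ x, x ∈ N ↔ g * x * g⁻¹ ∈ N := fun x =>
  ⟨fun h => hNn.conj_mem x h g, fun h => by simpa [mul_assoc] using hNn.conj_mem _ h g⁻¹⟩

/-- The conjugate of a character of the normal subgroup. -/
noncomputable def cjN (g : G) (θ : IrrCharacter N) : IrrCharacter N :=
  irrEquiv (cjHom (K := N) (K' := N) (nconj g)) θ

theorem cjN_apply (g : G) (θ : IrrCharacter N) (n : N) :
    (cjN g θ : N → ℂ) n = (θ : N → ℂ) ⟨g⁻¹ * n * g, by simpa using hNn.conj_mem n n.2 g⁻¹⟩ := rfl

theorem cjN_cjN (g h : G) (θ : IrrCharacter N) : cjN g (cjN h θ) = cjN (g * h) θ :=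
  Subtype.ext (funext fun n => by simp only [cjN_apply]; congr 2; group)

theorem cjN_one (θ : IrrCharacter N) : cjN 1 θ = θ :=
  Subtype.ext (funext fun n => by simp only [cjN_apply]; exact congrArg _ (Subtype.ext (by simp [mul_assoc])))

theorem conjFun_eq_cjN (g : G) (θ : IrrCharacter N) :
    Char.conjFun N (θ : N → ℂ) g = (cjN g⁻¹ θ : N → ℂ) :=
  funext fun n => by simp only [cjN_apply, Char.conjFun]; exact congrArg _ (Subtype.ext (by simp [mul_assoc]))

theorem conjSet_eq_cjN (g : G) (S : Set (IrrCharacter N)) : conjSet g N N S = cjN g '' S :=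
  conjSet_eq_image (nconj g) S

theorem isPBlock_cjN (g : G) {b : Set (IrrCharacter N)} (hb : IsPBlock M b) :
    IsPBlock M (cjN g '' b) :=
  isPBlock_image_irrEquiv _ hb

theorem blockOf_cjN (g : G) (θ : IrrCharacter N) :
    blockOf M (cjN g θ : N → ℂ) = cjN g '' blockOf M (θ : N → ℂ) :=
  blockOf_irrEquiv _ θ

/-- The union of the conjugates of a set of characters. -/
def orbSet (b : Set (IrrCharacter N)) : Set (IrrCharacter N) := {θ | ∃ g : G, cjN g θ ∈ b}

theorem subset_orbSet (b : Set (IrrCharacter N)) : b ⊆ orbSet b := fun θ h => ⟨1, by rwa [cjN_one]⟩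

theorem cjN_mem_orbSet_iff (g : G) {b : Set (IrrCharacter N)} {θ : IrrCharacter N} :
    cjN g θ ∈ orbSet b ↔ θ ∈ orbSet b := by
  constructor
  · rintro ⟨h, hh⟩
    exact ⟨h * g, by rwa [← cjN_cjN]⟩
  · rintro ⟨h, hh⟩
    exact ⟨h * g⁻¹, by rwa [cjN_cjN, inv_mul_cancel_right]⟩

theorem isBlockUnion_orbSet {b : Set (IrrCharacter N)} (hb : IsPBlock M b) :
    IsBlockUnion M (orbSet b) := by
  rintro θ ⟨g, hg⟩ η hη
  refine ⟨g, ?_⟩
  rw [isPBlock_eq_blockOf hb hg, blockOf_cjN]
  exact ⟨η, hη, rfl⟩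

theorem subset_orbSet_iff {b f : Set (IrrCharacter N)} (hb : IsPBlock M b) (hf : IsPBlock M f) :
    f ⊆ orbSet b ↔ ∃ g : G, cjN g '' f = b := by
  constructor
  · intro h
    obtain ⟨θ, hθ⟩ := isPBlock_nonempty hf
    obtain ⟨g, hg⟩ := h hθ
    exact ⟨g, isPBlock_eq_of_mem (isPBlock_cjN g hf) hb ⟨θ, hθ, rfl⟩ hg⟩
  · rintro ⟨g, rfl⟩ θ hθ
    exact ⟨g, θ, hθ, rfl⟩

theorem cj_eG_cjN (g : G) (S : Set (IrrCharacter N)) :
    eG M (cjN g '' S) = cj g (eG M S) := by
  rw [← conjSet_eq_cjN, eG_conjSet (nconj g)]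

theorem cinv_eG_orbSet (b : Set (IrrCharacter N)) : CInv ⊤ (eG M (orbSet b)) := by
  refine cinv_iff_cj.mpr fun u _ => ?_
  rw [← cj_eG_cjN]
  congr 1
  ext θ
  constructor
  · rintro ⟨η, hη, rfl⟩
    exact (cjN_mem_orbSet_iff u).mpr hη
  · intro hθ
    exact ⟨cjN u⁻¹ θ, (cjN_mem_orbSet_iff u⁻¹).mpr hθ, by rw [cjN_cjN, mul_inv_cancel, cjN_one]⟩

variable (M) in
/-- An element invariant under the whole group, in the centre. -/
noncomputable def zkOf (y : MonoidAlgebra (ResField M) G) (hy : CInv ⊤ y) : ZK M G :=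
  ⟨y, mem_center_iff_isClassElt.mpr fun g h => hy h (Subgroup.mem_top h) g⟩

@[simp] theorem coe_zkOf (y : MonoidAlgebra (ResField M) G) (hy : CInv ⊤ y) :
    (zkOf M y hy : MonoidAlgebra (ResField M) G) = y := rfl

variable [Fintype (ConjClasses N)]

/-- A central element supported in `N` acts on a character by the scalar of any constituent. -/
theorem omegaBar_eq_omG_of_constituent (χ : IrrCharacter G) (θ : IrrCharacter N)
    (hc : classInner (fun n : N => (χ : G → ℂ) n) (θ : N → ℂ) ≠ 0) (z : ZK M G)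
    (hz : SuppIn N (z : MonoidAlgebra (ResField M) G)) :
    omegaBar M χ z = omG M θ (z : MonoidAlgebra (ResField M) G) := by
  classical
  rw [omG_eq θ _ (resHK M N z) fun k => coeff_resHK z k]
  obtain ⟨w, hw⟩ := toKC_surjective z
  let w' : ZL M G := ⟨gaOfFun fun g => if g ∈ N then (w : MonoidAlgebra (locRing M) G).coeff g else 0,
    mem_center_iff_isClassElt.mpr fun g x => by
      simp only [coeff_gaOfFun, ← nconj (N := N) x g, mem_center_iff_isClassElt.mp w.2 g x]⟩
  have hw' : toKC M w' = z := Subtype.ext (ga_ext fun g => by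
    by_cases hg : g ∈ N
    · simp [w', hg, ← hw]
    · simp [w', hg, hz g hg])
  rw [← hw', resHK_toKC, omegaBar_toKC, omegaBar_toKC, omegaRes, omegaRes, RingHom.comp_apply,
    RingHom.comp_apply]
  congr 1
  apply Subtype.ext
  rw [coe_omegaLoc, coe_omegaLoc, omega, omega,
    ← Finset.sum_subset (Finset.subset_univ (Finset.univ.filter fun g : G => g ∈ N))
      fun g _ hg => by simp [w', (by simpa using hg : g ∉ N)],
    Finset.sum_subtype (p := fun g => g ∈ N) _ (fun g => by simp)]
  set W : N → ℂ := fun x => ((w : MonoidAlgebra (locRing M) G).coeff (x : G) : ℂ) with hW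
  have hWc : ∀ (g : G) (x : N), W ⟨g * x * g⁻¹, hNn.conj_mem x x.2 g⟩ = W x := fun g x =>
    congrArg Subtype.val (mem_center_iff_isClassElt.mp w.2 (x : G) g)
  have hcl := Char.clifford_smul N χ.2 θ.2 hc
  set T : ℂ := (Nat.card (Char.inertia N (θ : N → ℂ)) : ℂ) with hT
  have hT0 : T ≠ 0 := Nat.cast_ne_zero.mpr Nat.card_pos.ne'
  set c := classInner (fun n : N => (χ : G → ℂ) n) (θ : N → ℂ) * (Nat.card N : ℂ) with hcdef
  have hind : ∀ x : N, indFun N (θ : N → ℂ) x =
      (Nat.card N : ℂ)⁻¹ * ∑ g : G, Char.conjFun N (θ : N → ℂ) g x := fun x => by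
    have := congrFun (Char.restrict_indFun N (θ : N → ℂ)) x
    simpa [Finset.sum_apply] using this
  set K : ℂ := c * (Nat.card N : ℂ)⁻¹ * (Nat.card G : ℂ) with hK
  have hsum : T * ∑ x : N, W x * (χ : G → ℂ) x = K * ∑ x : N, W x * (θ : N → ℂ) x := by
    rw [Finset.mul_sum]
    have h1 : ∀ x : N, T * (W x * (χ : G → ℂ) x) =
        c * (Nat.card N : ℂ)⁻¹ * ∑ g : G, W x * Char.conjFun N (θ : N → ℂ) g x := fun x => by
      have := congrFun hcl x
      simp only [Pi.smul_apply, smul_eq_mul, hind] at this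
      rw [← Finset.mul_sum]
      linear_combination W x * this
    rw [Finset.sum_congr rfl fun x _ => h1 x, ← Finset.mul_sum, Finset.sum_comm,
      Finset.sum_congr rfl fun g _ => show ∑ x : N, W x * Char.conjFun N (θ : N → ℂ) g x =
        ∑ x : N, W x * (θ : N → ℂ) x from ?_, Finset.sum_const, Finset.card_univ,
      ← Nat.card_eq_fintype_card, nsmul_eq_mul, hK]
    · ring
    · refine Fintype.sum_bijective (Char.normalConjHom N g)
        ⟨fun a b h => Subtype.ext (by simpa [Char.normalConjHom] using congrArg Subtype.val h),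
          Char.normalConjHom_surjective N g⟩ _ _ fun x => ?_
      show W x * (θ : N → ℂ) ⟨g * x * g⁻¹, _⟩ = W ⟨g * x * g⁻¹, _⟩ * _
      rw [hWc]
      rfl
  have hone : T * (χ : G → ℂ) 1 = K * (θ : N → ℂ) 1 := by
    have := congrFun hcl 1
    simp only [Pi.smul_apply, smul_eq_mul, hind, OneMemClass.coe_one] at this
    rw [this, Finset.sum_congr rfl fun g _ => show Char.conjFun N (θ : N → ℂ) g 1 = (θ : N → ℂ) 1 by
      simp only [Char.conjFun]; exact congrArg _ (Subtype.ext (by simp [mul_assoc])), Finset.sum_const, Finset.card_univ, ← Nat.card_eq_fintype_card,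
      nsmul_eq_mul, hK]
    ring
  have hχ0 := Char.irr_one_ne_zero χ
  have hθ0 := Char.irr_one_ne_zero θ
  have hL : ∀ x : N, ((toC M (w' : MonoidAlgebra (locRing M) G)).coeff (x : G) : ℂ) = W x ∧
      ((toC M (resHL M N w' : MonoidAlgebra (locRing M) N)).coeff x : ℂ) = W x := fun x => by
    simp [w', resHL, W, resTo]
  simp only [fun x => (hL x).1, fun x => (hL x).2]
  rw [div_eq_div_iff hχ0 hθ0]
  refine mul_left_cancel₀ hT0 ?_
  rw [← mul_assoc, ← mul_assoc, show T * (∑ x : N, W x * (θ : N → ℂ) x) * (χ : G → ℂ) 1 =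
    (∑ x : N, W x * (θ : N → ℂ) x) * (T * (χ : G → ℂ) 1) by ring, hone, hsum]
  ring

theorem omG_eG_orbSet (hM : IsPModular p M) {b : Set (IrrCharacter N)} (hb : IsPBlock M b)
    (θ : IrrCharacter N) :
    omG M θ (eG M (orbSet b)) =
      @ite _ (θ ∈ orbSet b) (Classical.propDecidable _) 1 0 := by
  rw [eG, omG_emb, omegaBar_blockBar hM (isBlockUnion_orbSet hb)]

theorem exists_constituent (χ : IrrCharacter G) :
    ∃ θ : IrrCharacter N, classInner (fun n : N => (χ : G → ℂ) n) (θ : N → ℂ) ≠ 0 := by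
  classical
  have := Fintype.ofFinite (IrrCharacter N)
  by_contra h
  push Not at h
  have hcf : IsClassFunction N (fun n : N => (χ : G → ℂ) n) :=
    fun a b => Char.isClassFunction_irr χ (a : G) (b : G)
  have h1 := congrFun (Char.classFun_expand hcf) 1
  simp only [h, zero_smul, Finset.sum_const_zero, Pi.zero_apply, OneMemClass.coe_one] at h1
  exact Char.irr_one_ne_zero χ h1

/-- The constituents of the members of a covering block lie in conjugates of the block. -/
theorem Covers.constituent_mem (hM : IsPModular p M) {B : Set (IrrCharacter G)} (hB : IsPBlock M B)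
    {b : Set (IrrCharacter N)} (hb : IsPBlock M b) (h : Covers B b) {χ : IrrCharacter G}
    (hχ : χ ∈ B) {θ : IrrCharacter N}
    (hc : classInner (fun n : N => (χ : G → ℂ) n) (θ : N → ℂ) ≠ 0) : θ ∈ orbSet b := by
  classical
  obtain ⟨χ₁, hχ₁, θ₁, hθ₁, hc₁⟩ := h
  have h1 := omegaBar_eq_omG_of_constituent (M := M) χ₁ θ₁ hc₁
    (zkOf M _ (cinv_eG_orbSet b)) (suppIn_eG _)
  have h2 := omegaBar_eq_omG_of_constituent (M := M) χ θ hc
    (zkOf M _ (cinv_eG_orbSet b)) (suppIn_eG _)
  rw [coe_zkOf, omG_eG_orbSet hM hb, if_pos (subset_orbSet b hθ₁)] at h1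
  rw [coe_zkOf, omG_eG_orbSet hM hb, omegaBar_eq_of_mem hB hχ hχ₁, h1] at h2
  by_contra hn
  rw [if_neg hn] at h2
  exact one_ne_zero h2

theorem classInner_cjN (χ : IrrCharacter G) (g : G) (θ : IrrCharacter N) :
    classInner (fun n : N => (χ : G → ℂ) n) (cjN g θ : N → ℂ) =
      classInner (fun n : N => (χ : G → ℂ) n) (θ : N → ℂ) := by
  rw [show (cjN g θ : N → ℂ) = Char.conjFun N (θ : N → ℂ) g⁻¹ by rw [conjFun_eq_cjN, inv_inv],
    Char.classInner_restrict_conj N (Char.isClassFunction_irr χ)]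

/-- Every member of a covering block has a constituent in the covered block. -/
theorem Covers.exists_constituent_mem (hM : IsPModular p M) {B : Set (IrrCharacter G)}
    (hB : IsPBlock M B) {b : Set (IrrCharacter N)} (hb : IsPBlock M b) (h : Covers B b)
    {χ : IrrCharacter G} (hχ : χ ∈ B) :
    ∃ θ ∈ b, classInner (fun n : N => (χ : G → ℂ) n) (θ : N → ℂ) ≠ 0 := by
  obtain ⟨θ, hθ⟩ := exists_constituent (N := N) χ
  obtain ⟨g, hg⟩ := h.constituent_mem hM hB hb hχ hθ
  exact ⟨_, hg, by rwa [classInner_cjN]⟩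

/-- Some block covers a given one. -/
theorem exists_covers {b : Set (IrrCharacter N)} (hb : IsPBlock M b) :
    ∃ B : Set (IrrCharacter G), IsPBlock M B ∧ Covers B b := by
  classical
  have := Fintype.ofFinite (IrrCharacter G)
  obtain ⟨θ, hθ⟩ := isPBlock_nonempty hb
  by_contra hall
  push Not at hall
  have h1 : ∀ χ : IrrCharacter G, classInner (fun n : N => (χ : G → ℂ) n) (θ : N → ℂ) = 0 :=
    fun χ => by_contra fun hne =>
      hall _ (isPBlock_blockOf χ) ⟨χ, self_mem_blockOf χ, θ, hθ, hne⟩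
  have h2 : indFun N (θ : N → ℂ) = 0 := by
    rw [Char.classFun_expand (Char.isClassFunction_indFun N (θ : N → ℂ))]
    refine Finset.sum_eq_zero fun χ _ => ?_
    rw [Char.classInner_indFun N (θ : N → ℂ) _ (Char.isClassFunction_irr χ), ← Char.classInner_conj,
      h1, map_zero, zero_smul]
  have h3 := congrFun (Char.restrict_indFun N (θ : N → ℂ)) 1
  rw [h2] at h3
  simp only [Pi.zero_apply, Pi.smul_apply, Finset.sum_apply, OneMemClass.coe_one] at h3
  rw [Finset.sum_congr rfl fun g _ => show Char.conjFun N (θ : N → ℂ) g 1 = (θ : N → ℂ) 1 by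
      simp only [Char.conjFun]; exact congrArg _ (Subtype.ext (by simp [mul_assoc])), Finset.sum_const,
    Finset.card_univ, nsmul_eq_mul, smul_eq_mul, eq_comm, mul_eq_zero, mul_eq_zero] at h3
  rcases h3 with h4 | h4 | h4
  · exact inv_ne_zero (Nat.cast_ne_zero.mpr Nat.card_pos.ne') h4
  · exact Nat.cast_ne_zero.mpr Fintype.card_ne_zero h4
  · exact Char.irr_one_ne_zero θ h4

/-- The idempotent of a covering block is fixed by that of the conjugates. -/
theorem Covers.blockBar_mul (hM : IsPModular p M) {B : Set (IrrCharacter G)} (hB : IsPBlock M B)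
    {b : Set (IrrCharacter N)} (hb : IsPBlock M b) (h : Covers B b) :
    (blockBar M B : MonoidAlgebra (ResField M) G) * eG M (orbSet b) =
      (blockBar M B : MonoidAlgebra (ResField M) G) := by
  classical
  set z := zkOf M _ (cinv_eG_orbSet (M := M) b) with hz
  have hzz : z * z = z := Subtype.ext (by
    show eG M (orbSet b) * eG M (orbSet b) = eG M (orbSet b)
    rw [eG, ← emb_mul, ← MulMemClass.coe_mul, blockBar_mul_self hM (isBlockUnion_orbSet hb)])
  have : blockBar M B * z = blockBar M B := by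
    refine eq_of_omegaBar_eq_of_idem hM ?_ (blockBar_mul_self hM (.of_isPBlock hB)) fun χ => ?_
    · rw [mul_mul_mul_comm, blockBar_mul_self hM (.of_isPBlock hB), hzz]
    · rw [map_mul, omegaBar_blockBar hM (.of_isPBlock hB)]
      split_ifs with hχ
      · obtain ⟨θ, hθ, hc⟩ := h.exists_constituent_mem hM hB hb hχ
        rw [omegaBar_eq_omG_of_constituent χ θ hc z (suppIn_eG _), hz, coe_zkOf,
          omG_eG_orbSet hM hb, if_pos (subset_orbSet b hθ), one_mul]
      · rw [zero_mul]
  exact congrArg Subtype.val this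

theorem cj_mul' {S : Type*} [CommRing S] (g : G) (a c : MonoidAlgebra S G) :
    cj g (a * c) = cj g a * cj g c := by
  refine ga_ext fun x => ?_
  simp only [coeff_cj, coeff_mul_sum]
  refine Fintype.sum_equiv (MulAut.conj g).toEquiv _ _ fun h => ?_
  simp only [MulEquiv.toEquiv_eq_coe, EquivLike.coe_coe, MulAut.conj_apply]
  congr 2 <;> group

/-- Some conjugate of the block is not killed, so none is. -/
theorem Covers.mul_eG_ne_zero (hM : IsPModular p M) {B : Set (IrrCharacter G)} (hB : IsPBlock M B)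
    {b : Set (IrrCharacter N)} (hb : IsPBlock M b) (h : Covers B b) :
    (blockBar M B : MonoidAlgebra (ResField M) G) * eG M b ≠ 0 := by
  classical
  have := Fintype.ofFinite {f : Set (IrrCharacter N) // IsPBlock M f}
  intro h0
  obtain ⟨χ, hχ⟩ := isPBlock_nonempty hB
  have hne : (blockBar M B : MonoidAlgebra (ResField M) G) ≠ 0 := fun e => by
    have h1 := omegaBar_blockBar hM (.of_isPBlock hB) χ
    rw [if_pos hχ, show blockBar M B = 0 from Subtype.ext e, map_zero] at h1
    exact zero_ne_one h1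
  refine hne ?_
  rw [← h.blockBar_mul hM hB hb, eG, blockBar_eq_sum hM (isBlockUnion_orbSet hb),
    AddSubmonoidClass.coe_finsetSum,
    show (emb (∑ f ∈ Finset.univ.filter (fun f : {f : Set (IrrCharacter N) // IsPBlock M f} =>
      f.1 ⊆ orbSet b), (blockBar M f.1 : MonoidAlgebra (ResField M) N)) : MonoidAlgebra (ResField M) G) =
      ∑ f ∈ Finset.univ.filter (fun f : {f : Set (IrrCharacter N) // IsPBlock M f} => f.1 ⊆ orbSet b),
        eG M f.1 from ga_ext fun x => by
      by_cases hx : x ∈ N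
      · rw [show x = ((⟨x, hx⟩ : N) : G) from rfl, coeff_emb_coe, coeff_sum_apply, coeff_sum_apply]
        exact Finset.sum_congr rfl fun f _ => (coeff_emb_coe _ _).symm
      · rw [suppIn_emb _ x hx, coeff_sum_apply]
        exact (Finset.sum_eq_zero fun f _ => suppIn_eG f.1 x hx).symm, Finset.mul_sum]
  refine Finset.sum_eq_zero fun f hf => ?_
  obtain ⟨g, hg⟩ := (subset_orbSet_iff hb f.2).mp (Finset.mem_filter.mp hf).2
  have h1 := congrArg (cj g⁻¹) h0
  rw [cj_mul', cinv_iff_cj.mp (cinv_of_central (blockBar M B) ⊤) _ (Subgroup.mem_top _), ← hg,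
    cj_eG_cjN, cj_cj, inv_mul_cancel, cj_one] at h1
  rw [h1]
  exact ga_ext fun x => by simp

/-! ### Vanishing of a graded ideal -/

variable [Fintype (G ⧸ N)]

variable (M) in
/-- A homogeneous element whose products of degree one are killed by `θ`. -/
def Bad (θ : IrrCharacter N) (e : MonoidAlgebra (ResField M) G) (q : G ⧸ N)
    (x : MonoidAlgebra (ResField M) G) : Prop :=
  CInv N x ∧ SuppCoset N q x ∧ x * e = x ∧
    ∀ w, CInv N w → SuppCoset N q⁻¹ w → omG M θ (x * w) = 0

theorem cinv_commute_eG (b : Set (IrrCharacter N)) {y : MonoidAlgebra (ResField M) G}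
    (hy : CInv N y) : eG M b * y = y * eG M b :=
  ((CInv.commute_of_suppIn hy (suppIn_eG b))).eq.symm

theorem Bad.mul {θ : IrrCharacter N} {b : Set (IrrCharacter N)} {q q' : G ⧸ N}
    {x z : MonoidAlgebra (ResField M) G} (hx : Bad M θ (eG M b) q x) (hz : CInv N z)
    (hzq : SuppCoset N q' z) : Bad M θ (eG M b) (q * q') (x * z) := by
  refine ⟨hx.1.mul hz, hx.2.1.mul hzq, ?_, fun w hw hwq => ?_⟩
  · rw [mul_assoc, ← cinv_commute_eG b hz, ← mul_assoc, hx.2.2.1]
  · rw [mul_assoc]
    refine hx.2.2.2 _ (hz.mul hw) ?_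
    have := hzq.mul hwq
    rwa [mul_inv_rev, mul_inv_cancel_left] at this

/-- A degree-one bad element is nilpotent in the centre of `kN`. -/
theorem Bad.mem_nilradical (hM : IsPModular p M) {b : Set (IrrCharacter N)} (hb : IsPBlock M b)
    {θ : IrrCharacter N} (hθ : θ ∈ b) {x : MonoidAlgebra (ResField M) G}
    (hx : Bad M θ (eG M b) 1 x) :
    ∃ j ∈ nilradical (ZK M N), emb (j : MonoidAlgebra (ResField M) N) = x := by
  classical
  have hS := suppCoset_one_iff.mp hx.2.1
  refine ⟨cenOf M x hx.1, ?_, (eq_emb_of_suppIn hS).symm.trans rfl⟩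
  refine _root_.mem_nilradical.mpr (isNilpotent_of_omegaBar hM fun η => ?_)
  rw [omG_cenOf, ← hx.2.2.1, omG_mul η hS (suppIn_eG b) hx.1 (cinv_eG b), omG_eG hM hb]
  split_ifs with hη
  · have h1 := hx.2.2.2 1 cinv_one (by rw [inv_one]; exact suppCoset_one_iff.mpr suppIn_one)
    rw [mul_one, omG_congr_block hb hθ hη] at h1
    rw [h1, zero_mul]
  · rw [mul_zero]

variable (M) in
/-- The shape of a product of bad elements, with the number of visits of each degree. -/
def WordState (θ : IrrCharacter N) (e : MonoidAlgebra (ResField M) G) (L : ℕ) :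
    Set (MonoidAlgebra (ResField M) G) :=
  {y | ∃ (d : G ⧸ N) (c : G ⧸ N → ℕ), CInv N y ∧ SuppCoset N d y ∧ ∑ q, c q = L ∧
    ∀ q, 0 < c q → ∃ a t : MonoidAlgebra (ResField M) G, ∃ j ∈ nilradical (ZK M N) ^ (c q - 1),
      y = a * emb (j : MonoidAlgebra (ResField M) N) * t ∧
      ((t = 1 ∧ q = d) ∨ Bad M θ e (q⁻¹ * d) t)}

theorem wordState_step (hM : IsPModular p M) {b : Set (IrrCharacter N)} (hb : IsPBlock M b)
    {θ : IrrCharacter N} (hθ : θ ∈ b) {L : ℕ} {y x : MonoidAlgebra (ResField M) G} {r : G ⧸ N}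
    (hy : y ∈ WordState M θ (eG M b) L) (hx : Bad M θ (eG M b) r x) :
    y * x ∈ WordState M θ (eG M b) (L + 1) := by
  classical
  obtain ⟨d, c, hyN, hyd, hsum, hst⟩ := hy
  refine ⟨d * r, fun q => if q = d * r then c q + 1 else c q, hyN.mul hx.1, hyd.mul hx.2.1, ?_,
    fun q hq => ?_⟩
  · rw [← hsum, ← Finset.sum_erase_add _ _ (Finset.mem_univ (d * r)),
      ← Finset.sum_erase_add (f := c) (s := Finset.univ) (h := Finset.mem_univ (d * r)), if_pos rfl,
      ← add_assoc]
    congr 2
    exact Finset.sum_congr rfl fun q hq => if_neg (Finset.ne_of_mem_erase hq)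
  have hbad : ∀ {q : G ⧸ N} {t : MonoidAlgebra (ResField M) G},
      ((t = 1 ∧ q = d) ∨ Bad M θ (eG M b) (q⁻¹ * d) t) →
        Bad M θ (eG M b) (q⁻¹ * (d * r)) (t * x) := by
    intro q t ht
    rcases ht with ⟨rfl, rfl⟩ | ht
    · rwa [one_mul, inv_mul_cancel_left]
    · rw [← mul_assoc]
      exact ht.mul hx.1 hx.2.1
  by_cases hqe : q = d * r
  · simp only [if_pos hqe, add_tsub_cancel_right]
    by_cases hc : 0 < c q
    · obtain ⟨a, t, j, hj, hye, ht⟩ := hst q hc
      have h1 := hbad ht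
      rw [hqe, inv_mul_cancel] at h1
      obtain ⟨j', hj', hje⟩ := Bad.mem_nilradical hM hb hθ h1
      refine ⟨a, 1, j * j', ?_, ?_, Or.inl ⟨rfl, hqe⟩⟩
      · have h2 := Ideal.mul_mem_mul hj hj'
        rwa [← pow_succ, Nat.sub_add_cancel hc] at h2
      · rw [mul_one, MulMemClass.coe_mul, emb_mul, hje, hye]
        simp only [mul_assoc]
    · refine ⟨y * x, 1, 1, ?_, ?_, Or.inl ⟨rfl, hqe⟩⟩
      · rw [Nat.eq_zero_of_not_pos hc, pow_zero, Ideal.one_eq_top]; trivial
      · have he : (emb ((1 : ZK M N) : MonoidAlgebra (ResField M) N) : MonoidAlgebra (ResField M) G) =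
            1 := by
          rw [OneMemClass.coe_one, MonoidAlgebra.one_def, MonoidAlgebra.one_def, emb_single',
            OneMemClass.coe_one]
        rw [he, mul_one, mul_one]
  · simp only [if_neg hqe] at hq ⊢
    obtain ⟨a, t, j, hj, hye, ht⟩ := hst q hq
    exact ⟨a, t * x, j, hj, by rw [hye]; simp only [mul_assoc], Or.inr (hbad ht)⟩

/-- An idempotent whose components are all bad is zero. -/
theorem eq_zero_of_bad (hM : IsPModular p M) {b : Set (IrrCharacter N)} (hb : IsPBlock M b)
    {θ : IrrCharacter N} (hθ : θ ∈ b) {u : MonoidAlgebra (ResField M) G} (huu : u * u = u)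
    (hbad : ∀ q : G ⧸ N, Bad M θ (eG M b) q (comp q u)) : u = 0 := by
  classical
  have key : ∀ L : ℕ, u ^ (L + 1) ∈ AddSubmonoid.closure (WordState M θ (eG M b) (L + 1)) := by
    intro L
    induction L with
    | zero =>
      rw [pow_one, ← sum_comp (N := N) u]
      refine sum_mem fun r _ => AddSubmonoid.subset_closure ?_
      have h0 : (1 : MonoidAlgebra (ResField M) G) ∈ WordState M θ (eG M b) 0 :=
        ⟨1, fun _ => 0, cinv_one, suppCoset_one_iff.mpr suppIn_one, by simp,
          fun q hq => absurd hq (lt_irrefl 0)⟩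
      simpa using wordState_step hM hb hθ h0 (hbad r)
    | succ L ih =>
      rw [pow_succ _ (L + 1)]
      refine AddSubmonoid.closure_induction (motive := fun y _ => y * u ∈
        AddSubmonoid.closure (WordState M θ (eG M b) (L + 1 + 1))) (fun y hy => ?_) ?_ ?_ ih
      · rw [← sum_comp (N := N) u, Finset.mul_sum]
        exact sum_mem fun r _ => AddSubmonoid.subset_closure (wordState_step hM hb hθ hy (hbad r))
      · rw [zero_mul]; exact zero_mem _
      · intro y z _ _ hy hz
        rw [add_mul]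
        exact add_mem hy hz
  have : IsNoetherianRing (ZK M N) := isNoetherian_of_tower (ResField M) inferInstance
  obtain ⟨m, hm⟩ := IsNoetherianRing.isNilpotent_nilradical (ZK M N)
  set L := Fintype.card (G ⧸ N) * m + 1 with hL
  have hzero : ∀ y ∈ WordState M θ (eG M b) L, y = 0 := by
    rintro y ⟨d, c, -, -, hsum, hst⟩
    obtain ⟨q, hq⟩ : ∃ q, m + 1 ≤ c q := by
      by_contra h
      push Not at h
      have : ∑ q, c q ≤ ∑ _q : G ⧸ N, m := Finset.sum_le_sum fun q _ => Nat.lt_succ_iff.mp (h q)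
      rw [hsum, Finset.sum_const, smul_eq_mul, Finset.card_univ] at this
      omega
    obtain ⟨a, t, j, hj, rfl, -⟩ := hst q (by omega)
    have hj0 : j = 0 := by
      have := Ideal.pow_le_pow_right (by omega : m ≤ c q - 1) hj
      rwa [hm] at this
    rw [hj0, ZeroMemClass.coe_zero, show (emb (0 : MonoidAlgebra (ResField M) N) :
      MonoidAlgebra (ResField M) G) = 0 from ga_ext fun g => by simp [emb], mul_zero, zero_mul]
  have h1 := key (Fintype.card (G ⧸ N) * m)
  rw [IsIdempotentElem.pow_succ_eq _ huu] at h1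
  exact (AddSubmonoid.closure_le (S := ⊥).mpr (fun y hy => hzero y hy)) h1

/-- The Brauer image of a covering block at a defect group of the covered block is not zero. -/
theorem Covers.exists_coeff_ne_zero (hM : IsPModular p M) {B : Set (IrrCharacter G)}
    (hB : IsPBlock M B) {b : Set (IrrCharacter N)} (hb : IsPBlock M b) (h : Covers B b)
    {Q : Subgroup G} (hQN : Q ≤ N) (hQ : IsDefectGroup p M b (Q.subgroupOf N)) :
    ∃ x ∈ CQ Q, coeffRes M B x ≠ 0 := by
  classical
  by_contra hall
  push Not at hall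
  have hpQ : IsPGroup p Q :=
    (isPGroup_defectGroup hM hb hQ).of_equiv (Subgroup.subgroupOfEquivOfLe hQN)
  obtain ⟨θ, hθ⟩ := isPBlock_nonempty hb
  set e := eG M b with he
  set u := (blockBar M B : MonoidAlgebra (ResField M) G) * e with hu
  have hBc : ∀ K : Subgroup G, CInv K (blockBar M B : MonoidAlgebra (ResField M) G) :=
    fun K => cinv_of_central _ K
  have huN : CInv N u := (hBc N).mul (cinv_eG b)
  have hee : e * e = e := eG_mul_self hM hb
  have hce : Commute e (blockBar M B : MonoidAlgebra (ResField M) G) :=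
    ((mem_center_iff_isClassElt.mp (blockBar M B).2).commute e).symm
  have huu : u * u = u := by
    rw [hu, hce.mul_mul_mul_comm, ← MulMemClass.coe_mul, blockBar_mul_self hM (.of_isPBlock hB), hee]
  have hue : u * e = u := by rw [hu, mul_assoc, hee]
  refine h.mul_eG_ne_zero hM hB hb (eq_zero_of_bad hM hb hθ huu fun q => ?_)
  refine ⟨cinv_comp huN q, suppCoset_comp q u, ?_, fun w hw hwq => ?_⟩
  · refine ga_ext fun g => ?_
    by_cases hg : (g : G ⧸ N) = q
    · rw [coeff_mul_sum, show (comp q u).coeff g = u.coeff g by simp [comp, hg]]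
      conv_rhs => rw [← hue, coeff_mul_sum]
      refine Finset.sum_congr rfl fun k _ => ?_
      by_cases hk : (k : G ⧸ N) = q
      · simp [comp, hk, u, e]
      · rw [suppIn_eG b (k⁻¹ * g) fun hmem => hk ?_, mul_zero, mul_zero]
        rw [← hg]
        exact QuotientGroup.eq.mpr hmem
    · have h1 := (suppCoset_comp q u).mul (suppCoset_one_iff.mpr (suppIn_eG b))
      rw [mul_one] at h1
      rw [h1 g hg, suppCoset_comp q u g hg]
  set z := comp q u * w with hz
  have hzS : SuppIn N z := suppCoset_one_iff.mp (by simpa [hz] using (suppCoset_comp q u).mul hwq)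
  have hzN : CInv N z := (cinv_comp huN q).mul hw
  by_contra hne
  -- read through a pair on the defect group
  have := Fintype.ofFinite (IrrCharacter N)
  obtain ⟨Dm, f, hf⟩ := exists_maximalPair hM hb
  obtain ⟨c, hc⟩ := defectGroup_conj hM hb (isDefectGroup_of_maximal hM hf) hQ
  obtain ⟨ξ, hξ⟩ := isPBlock_nonempty hf.1.1.2
  rw [omG_eq θ z (cenOf M z hzN) (fun k => rfl),
    ← ((isBrauerPairOf_iff_omG hM).mp hf.1).2.2 ξ hξ θ hθ (cenOf M z hzN)] at hne
  obtain ⟨x, hxC, hxne⟩ : ∃ x ∈ CQ Dm, (cenOf M z hzN : MonoidAlgebra (ResField M) N).coeff x ≠ 0 := by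
    by_contra hno
    push Not at hno
    refine hne ((omG_congr ξ (y' := 0) fun g hg => ?_).trans (omG_zero ξ))
    simp [hno g hg]
  set x' : G := (c : G) * x * (c : G)⁻¹ with hx'
  have hxQ : x' ∈ CQ Q := Subgroup.mem_centralizer_iff.mpr fun v hv => by
    have hv' : (⟨v, hQN hv⟩ : N) ∈ Dm.map (MulAut.conj c).toMonoidHom := by
      rw [hc]; exact hv
    obtain ⟨v', hv'D, hve⟩ := hv'
    have h2 := congrArg Subtype.val (Subgroup.mem_centralizer_iff.mp hxC v' hv'D)
    have h3 : v = (c : G) * v' * (c : G)⁻¹ := (congrArg Subtype.val hve).symm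
    simp only [Subgroup.coe_mul] at h2
    rw [h3, hx']
    calc (c : G) * v' * (c : G)⁻¹ * ((c : G) * x * (c : G)⁻¹) = (c : G) * (v' * x) * (c : G)⁻¹ := by group
      _ = (c : G) * (x * v') * (c : G)⁻¹ := by rw [h2]
      _ = (c : G) * x * (c : G)⁻¹ * ((c : G) * v' * (c : G)⁻¹) := by group
  have hzx : z.coeff x' ≠ 0 := by
    rw [hx', hzN c c.2]
    exact hxne
  have hQc : ∀ {y : MonoidAlgebra (ResField M) G}, CInv N y → CInv Q y := fun h => h.mono hQN
  have hcomp : trC Q (comp q u) = 0 := by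
    have h0 : trC Q u = 0 := by
      rw [hu, trC_mul hM hpQ (hBc Q) (hQc (cinv_eG b)),
        show trC Q (blockBar M B : MonoidAlgebra (ResField M) G) = 0 from ga_ext fun g => by
          by_cases hg : g ∈ CQ Q
          · rw [coeff_trC _ hg, coeff_blockBar, hall g hg]; simp
          · rw [suppIn_trC _ g hg]; simp,
        zero_mul]
    refine ga_ext fun g => ?_
    by_cases hg : g ∈ CQ Q
    · have h1 := congrArg (fun y : MonoidAlgebra (ResField M) G => y.coeff g) h0
      rw [coeff_trC _ hg] at h1 ⊢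
      by_cases hgq : (g : G ⧸ N) = q
      · simpa [comp, hgq] using h1
      · rw [suppCoset_comp q u g hgq]; simp
    · rw [suppIn_trC _ g hg]; simp
  have h2 := congrArg (fun y : MonoidAlgebra (ResField M) G => y.coeff x')
    (trC_mul hM hpQ (hQc (cinv_comp huN q)) (hQc hw))
  simp only [hcomp, zero_mul, coeff_trC _ hxQ] at h2
  exact hzx (h2.trans (by simp))

end CfsgLib.Block
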