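import Cfsg.Agent.Lib.Block.RegularIndicator

/-!
# Local combinations of irreducible characters; indicators of unions of sections
-/

open Finset
open scoped ComplexConjugate

set_option linter.unusedSectionVars false

namespace CfsgLib.Block

open Cfsg

universe u

variable {M : Ideal AlgInt} [M.IsMaximal] {G : Type u} [Group G] [Fintype G] [DecidableEq G]

variable (M) in
/-- A class function which is a combination of irreducible characters with coefficients in the
local ring. -/
structure IsLocComb (f : G → ℂ) : Prop where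
  classFun : IsClassFunction G f
  inner_mem : ∀ ψ : IrrCharacter G, classInner f (ψ : G → ℂ) ∈ locRing M

theorem isLocComb_irr (χ : IrrCharacter G) : IsLocComb M (χ : G → ℂ) := by
  classical
  refine ⟨Char.isClassFunction_irr χ, fun ψ => ?_⟩
  rw [Char.classInner_irr]
  split_ifs
  · exact Subring.one_mem _
  · exact Subring.zero_mem _

theorem isLocComb_zero : IsLocComb M (0 : G → ℂ) :=
  ⟨fun _ _ => rfl, fun ψ => by rw [Char.classInner_zero_left]; exact Subring.zero_mem _⟩

theorem IsLocComb.add {f g : G → ℂ} (hf : IsLocComb M f) (hg : IsLocComb M g) :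
    IsLocComb M (f + g) :=
  ⟨fun a b => by simp only [Pi.add_apply, hf.classFun a b, hg.classFun a b], fun ψ => by
    rw [Char.classInner_add_left]
    exact Subring.add_mem _ (hf.inner_mem ψ) (hg.inner_mem ψ)⟩

theorem IsLocComb.smul {f : G → ℂ} (hf : IsLocComb M f) {c : ℂ} (hc : c ∈ locRing M) :
    IsLocComb M (c • f) :=
  ⟨fun a b => by simp only [Pi.smul_apply, hf.classFun a b], fun ψ => by
    rw [Char.classInner_smul_left]
    exact Subring.mul_mem _ hc (hf.inner_mem ψ)⟩

theorem IsLocComb.sub {f g : G → ℂ} (hf : IsLocComb M f) (hg : IsLocComb M g) :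
    IsLocComb M (f - g) := by
  have h := hf.add (hg.smul (Subring.neg_mem _ (Subring.one_mem (locRing M))))
  rwa [neg_one_smul, ← sub_eq_add_neg] at h

theorem isLocComb_sum {ι : Type*} (s : Finset ι) (f : ι → G → ℂ)
    (h : ∀ i ∈ s, IsLocComb M (f i)) : IsLocComb M (∑ i ∈ s, f i) :=
  Finset.sum_induction _ (IsLocComb M) (fun _ _ => IsLocComb.add) isLocComb_zero h

theorem isLocComb_of_isCharacter {χ : G → ℂ} (h : IsCharacter G χ) : IsLocComb M χ :=
  ⟨Char.isClassFunction_of_isCharacter h, fun ψ => by
    obtain ⟨m, hm⟩ := Char.classInner_isCharacter h (Char.isCharacter_irr ψ)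
    rw [hm]
    exact natCast_mem _ m⟩

theorem IsLocComb.mul {f g : G → ℂ} (hf : IsLocComb M f) (hg : IsLocComb M g) :
    IsLocComb M (f * g) := by
  have := Fintype.ofFinite (IrrCharacter G)
  rw [Char.classFun_expand hf.classFun, Char.classFun_expand hg.classFun, Finset.sum_mul_sum]
  refine isLocComb_sum _ _ fun χ _ => isLocComb_sum _ _ fun η _ => ?_
  rw [smul_mul_smul_comm]
  exact (isLocComb_of_isCharacter (Char.isCharacter_mul (Char.isCharacter_irr χ)
    (Char.isCharacter_irr η))).smul (Subring.mul_mem _ (hf.inner_mem χ) (hg.inner_mem η))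

theorem isLocComb_one : IsLocComb M (1 : G → ℂ) :=
  isLocComb_irr ⟨_, Char.isIrrCharacter_one⟩

theorem IsLocComb.pow {f : G → ℂ} (hf : IsLocComb M f) (n : ℕ) : IsLocComb M (f ^ n) := by
  induction n with
  | zero => rw [pow_zero]; exact isLocComb_one
  | succ n ih => rw [pow_succ]; exact ih.mul hf

/-- A class function with values in `|G|` times the local ring is a local combination. -/
theorem isLocComb_of_dvd_card {f : G → ℂ} (hf : IsClassFunction G f) (y : G → locRing M)
    (hy : ∀ g, f g = (Nat.card G : ℂ) * (y g : ℂ)) : IsLocComb M f := by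
  refine ⟨hf, fun ψ => ?_⟩
  have hG : (Nat.card G : ℂ) ≠ 0 := Nat.cast_ne_zero.mpr Nat.card_pos.ne'
  rw [classInner, Finset.mul_sum]
  refine Subring.sum_mem _ fun g _ => ?_
  rw [hy g, ← Char.irr_inv, ← mul_assoc, ← mul_assoc, inv_mul_cancel₀ hG, one_mul]
  exact Subring.mul_mem _ (SetLike.coe_mem _) (irr_mem_locRing M ψ _)

/-- The indicator of a set of classes determined by `q'`-parts is a local combination at a prime
above `q`. -/
theorem isLocComb_sectionIndicator {q : ℕ} (hM : IsPModular q M) {T : Set G}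
    [DecidablePred (· ∈ T)] (hconj : ∀ x c : G, c * x * c⁻¹ ∈ T ↔ x ∈ T)
    (hpart : ∀ x y : G, Commute x y → (∃ k, orderOf x = q ^ k) → ¬ q ∣ orderOf y →
      (x * y ∈ T ↔ y ∈ T)) :
    IsLocComb M (fun g => if g ∈ T then (1 : ℂ) else 0) := by
  classical
  have := Fintype.ofFinite (IrrCharacter G)
  set ind : G → ℂ := fun g => if g ∈ T then (1 : ℂ) else 0 with hind
  have hindcf : IsClassFunction G ind := fun x c => by simp only [hind, hconj x c]
  obtain ⟨b, hb⟩ := exists_regular_expand hM (f := ind)
    (fun y _ => by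
      simp only [hind]
      split_ifs
      · exact Subring.one_mem _
      · exact Subring.zero_mem _)
    (fun y z _ hyz => Char.classFun_isConj hindcf hyz)
  let F : G → locRing M := fun g => ∑ χ : IrrCharacter G, b χ * irrLoc M χ g
  let indL : G → locRing M := fun g => if g ∈ T then 1 else 0
  have hindL : ∀ g, (indL g : ℂ) = ind g := fun g => by
    simp only [indL, hind]; split_ifs <;> rfl
  have hres : ∀ g, res M (F g) = res M (indL g) := by
    intro g
    obtain ⟨x, y, hxy, hc, ⟨k, hk⟩, hy⟩ := exists_isPPart hM.1 g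
    subst hxy
    have h1 : res M (F (x * y)) = res M (F y) := by
      simp only [F, map_sum, map_mul]
      exact Finset.sum_congr rfl fun χ _ => by
        rw [res_irr_regularPart hM χ hc (by rw [← hk, pow_orderOf_eq_one] : x ^ q ^ k = 1)]
    have h2 : F y = indL y := Subtype.ext (by
      rw [hindL, hb y hy, AddSubmonoidClass.coe_finsetSum]
      rfl)
    rw [h1, h2]
    simp only [indL, hpart x y hc ⟨k, hk⟩ hy]
  have hFcomb : IsLocComb M (fun g => (F g : ℂ)) := by
    have : (fun g => (F g : ℂ)) = ∑ χ : IrrCharacter G, (b χ : ℂ) • (χ : G → ℂ) := by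
      funext g
      simp [F]
    rw [this]
    exact isLocComb_sum _ _ fun χ _ => (isLocComb_irr χ).smul (SetLike.coe_mem _)
  let e : G → locRing M := fun g => if g ∈ T then 1 - F g else F g
  have he : ∀ g, res M (e g) = 0 := fun g => by
    have h := hres g
    simp only [e, indL] at h ⊢
    split_ifs with hg
    · rw [if_pos hg, map_one] at h
      rw [map_sub, map_one, h, sub_self]
    · rw [if_neg hg, map_zero] at h
      exact h
  choose N hN using fun g => exists_pow_eq_natCast_mul (M := M) hM (he g) (Nat.card_pos (α := G)).ne'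
  let n := ∑ g : G, N g + 1
  have key : ∀ g, ∃ y : locRing M,
      1 - (1 - F g ^ n) ^ n = indL g + (Nat.card G : locRing M) * y := by
    intro g
    obtain ⟨y, hy, -⟩ := hN g n
      (le_trans (Finset.single_le_sum (fun _ _ => Nat.zero_le _) (Finset.mem_univ g)) (Nat.le_succ _))
    simp only [e] at hy
    simp only [indL]
    split_ifs with hg
    · rw [if_pos hg] at hy
      refine ⟨-((∑ i ∈ Finset.range n, F g ^ i) ^ n * y), ?_⟩
      rw [← geom_sum_mul_neg (F g) n, mul_pow, hy]
      ring
    · rw [if_neg hg] at hy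
      refine ⟨(∑ i ∈ Finset.range n, (1 - F g ^ n) ^ i) * y, ?_⟩
      rw [← geom_sum_mul_neg (1 - F g ^ n) n, sub_sub_cancel, hy]
      ring
  choose y hy using key
  have hv : IsLocComb M (1 - (1 - (fun g => (F g : ℂ)) ^ n) ^ n) :=
    isLocComb_one.sub ((isLocComb_one.sub (hFcomb.pow n)).pow n)
  have hdiff : IsLocComb M ((1 - (1 - (fun g => (F g : ℂ)) ^ n) ^ n) - ind) := by
    refine isLocComb_of_dvd_card (fun a c => ?_) y fun g => ?_
    · simp only [Pi.sub_apply, hindcf a c, hv.classFun a c]
    · have h := congrArg (fun z : locRing M => (z : ℂ)) (hy g)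
      simp only [Subring.coe_add, Subring.coe_mul, Subring.coe_pow, AddSubgroupClass.coe_sub,
        OneMemClass.coe_one, SubringClass.coe_natCast, hindL] at h
      simp only [Pi.sub_apply, Pi.pow_apply, Pi.one_apply, h]
      ring
  have := hv.sub hdiff
  rwa [sub_sub_cancel] at this

/-- A complex number lying in every local ring is an algebraic integer. -/
theorem isIntegral_of_forall_locRing {z : ℂ}
    (h : ∀ (N : Ideal AlgInt) [N.IsMaximal], z ∈ locRing N) : IsIntegral ℤ z := by
  let I : Ideal AlgInt :=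
    { carrier := {b : AlgInt | IsIntegral ℤ ((b : ℂ) * z)}
      zero_mem' := by simp [isIntegral_zero]
      add_mem' := fun {a b} ha hb => by
        simp only [Set.mem_setOf_eq, Subalgebra.coe_add, add_mul]
        exact ha.add hb
      smul_mem' := fun c b hb => by
        simp only [smul_eq_mul, Set.mem_setOf_eq, Subalgebra.coe_mul, mul_assoc]
        exact IsIntegral.mul c.2 hb }
  by_contra hz
  have hI : I ≠ ⊤ := fun htop => hz (by
    have h1 : (1 : AlgInt) ∈ I := htop ▸ Submodule.mem_top
    have h2 : IsIntegral ℤ (((1 : AlgInt) : ℂ) * z) := h1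
    simpa using h2)
  obtain ⟨N, hN, hle⟩ := Ideal.exists_le_maximal I hI
  obtain ⟨a, b, hb, hab⟩ := h N
  refine hb (hle ?_)
  show IsIntegral ℤ ((b : ℂ) * z)
  rw [← hab, mul_div_cancel₀ _ (algInt_coe_ne_zero hb)]
  exact a.2

/-- Every maximal ideal of the algebraic integers lies over a prime. -/
theorem exists_isPModular_of_isMaximal (N : Ideal AlgInt) [hN : N.IsMaximal] :
    ∃ q : ℕ, IsPModular q N := by
  have hmax : (N.comap (algebraMap ℤ AlgInt)).IsMaximal :=
    Ideal.isMaximal_comap_of_isIntegral_of_isMaximal N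
  obtain ⟨z, hz⟩ := (IsPrincipalIdealRing.principal (N.comap (algebraMap ℤ AlgInt))).principal
  rw [Ideal.submodule_span_eq] at hz
  have hz0 : z ≠ 0 := by
    rintro rfl
    rw [Ideal.span_singleton_zero] at hz
    exact Int.not_isField ((Ring.isField_iff_maximal_bot).mpr (hz ▸ hmax))
  have hprime : Prime z := (Ideal.span_singleton_prime hz0).mp (hz ▸ hmax.isPrime)
  refine ⟨z.natAbs, Int.prime_iff_natAbs_prime.mp hprime, hN, ?_⟩
  have hmem : (z.natAbs : ℤ) ∈ N.comap (algebraMap ℤ AlgInt) := by
    rw [hz, Ideal.mem_span_singleton]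
    exact Int.dvd_natAbs.mpr dvd_rfl
  rw [Ideal.mem_comap, map_natCast] at hmem
  exact hmem

end CfsgLib.Block
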