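import Cfsg.Agent.Lib.Block.Contributions
import Cfsg.Agent.Lib.Block.DefectFusion
import Cfsg.Agent.Lib.Block.Covering
import Cfsg.Agent.Lib.Block.LocalComb

/-!
# Height zero characters fixed by `p`-groups, and covering blocks

A `p`-group acting on a block by automorphisms fixes a character of height zero.  Hence a covering
block has a member above each character of the covered block.
-/

open Finset
open scoped ComplexConjugate

set_option linter.unusedSectionVars false

namespace CfsgLib.Block.HeightZeroOrbit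

open Cfsg

universe u

section general

variable {p : ℕ} {M : Ideal AlgInt} [M.IsMaximal] {A : Type u} [Group A] [Fintype A] [DecidableEq A]

theorem factorization_le_degVal_add {B : Set (IrrCharacter A)} {χ : IrrCharacter A} (hχ : χ ∈ B) :
    (Nat.card A).factorization p ≤ degVal p χ + blockDefect p B := by
  have h2 := minDeg_le (p := p) hχ
  show _ ≤ _ + ((Nat.card A).factorization p - minDeg p B)
  omega

theorem degW_congr (hM : IsPModular p M) {d : ℕ} {χ ψ : IrrCharacter A}
    (h : charDegree (χ : A → ℂ) = charDegree (ψ : A → ℂ)) :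
    degW p M hM A d χ = degW p M hM A d ψ := by
  simp only [degW, degVal, h]

theorem res_degW_ne_zero (hM : IsPModular p M) {B : Set (IrrCharacter A)} {χ : IrrCharacter A}
    (hχ : χ ∈ B) (h0 : blockHeight p B (χ : A → ℂ) = 0) :
    res M (degW p M hM A (blockDefect p B) χ) ≠ 0 := by
  have := charP_resField hM
  rw [degW, map_mul, map_natCast]
  refine mul_ne_zero ?_ (res_invNat_ne_zero hM _)
  rw [Ne, CharP.cast_eq_zero_iff (ResField M) p]
  have := Fintype.ofFinite (IrrCharacter A)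
  have := Fintype.ofFinite (ConjClasses A)
  have h1 := (blockHeight_eq_zero_iff hχ).mp h0
  have hm : minDeg p B ≤ (Nat.card A).factorization p :=
    (minDeg_le (p := p) hχ).trans (degVal_le_card χ)
  have h2 : degVal p χ + blockDefect p B - (Nat.card A).factorization p = 0 := by
    show degVal p χ + ((Nat.card A).factorization p - minDeg p B) - (Nat.card A).factorization p = 0
    omega
  rw [h2, pow_zero, one_mul]
  exact Nat.not_dvd_ordCompl hM.1 (charDegree_eq χ).2

variable [Fintype (IrrCharacter A)] [Fintype (ConjClasses A)]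

/-- `regN` depends on its second argument only through the degree. -/
theorem regN_congr_degree (hM : IsPModular p M) {B : Set (IrrCharacter A)} (hB : IsPBlock M B)
    {χ ψ ψ' : IrrCharacter A} (hχ : χ ∈ B) (hψ : ψ ∈ B) (hψ' : ψ' ∈ B)
    (hdeg : charDegree (ψ : A → ℂ) = charDegree (ψ' : A → ℂ)) :
    regN p M χ ψ = regN p M χ ψ' := by
  obtain ⟨ψ₀, hψ₀, h0⟩ := exists_height_zero hM hB
  have key : ∀ η ∈ B, res M (degW p M hM A (blockDefect p B) ψ₀) * regN p M χ η =
      res M (degW p M hM A (blockDefect p B) η) * regN p M χ ψ₀ := by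
    intro η hη
    obtain ⟨z, hz, hzr⟩ := exists_scaled_regInner hM (factorization_le_degVal_add (p := p) hψ₀) η
    obtain ⟨w, hw, hwr⟩ := exists_scaled_regInner hM (factorization_le_degVal_add (p := p) hη) ψ₀
    have hzw : z = w := by
      have : (z : ℂ) = (w : ℂ) := by rw [← hz, ← hw, regInner_comm hM]
      exact_mod_cast this
    rw [regN_congr hB hχ hψ₀ η, regN_congr hB hχ hη ψ₀, ← hzr, ← hwr, hzw]
  have h1 := key ψ hψ
  have h2 := key ψ' hψ'
  rw [degW_congr hM hdeg, ← h2] at h1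
  exact mul_left_cancel₀ (res_degW_ne_zero hM hψ₀ h0) h1

/-- Height zero characters of equal degree, in number prime to `p`, pair non-trivially with every
member of the block. -/
theorem sum_regInner_ne_zero (hM : IsPModular p M) {B : Set (IrrCharacter A)} (hB : IsPBlock M B)
    {θ ψ₀ : IrrCharacter A} (hθ : θ ∈ B) (hψ₀ : ψ₀ ∈ B)
    (h0 : blockHeight p B (ψ₀ : A → ℂ) = 0) {s : Finset (IrrCharacter A)}
    (hs : ∀ ψ ∈ s, ψ ∈ B ∧ charDegree (ψ : A → ℂ) = charDegree (ψ₀ : A → ℂ))
    (hcard : ¬ p ∣ s.card) : ∑ ψ ∈ s, regInner p θ ψ ≠ 0 := by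
  obtain ⟨u, hu, hz⟩ := exists_regInner_int hM θ
  choose z hz hzr using hz
  intro hsum
  have h1 : ((∑ ψ ∈ s, z ψ : ℤ) : ℂ) = 0 := by
    rw [Int.cast_sum, Finset.sum_congr rfl fun ψ _ => (hz ψ).symm, ← Finset.mul_sum, hsum, mul_zero]
  have h2 : ((∑ ψ ∈ s, z ψ : ℤ) : ResField M) = 0 := by
    rw [Int.cast_eq_zero.mp h1, Int.cast_zero]
  rw [Int.cast_sum, Finset.sum_congr rfl fun ψ hψ => by
    rw [hzr ψ, regN_congr_degree hM hB hθ (hs ψ hψ).1 hψ₀ (hs ψ hψ).2], Finset.sum_const,
    nsmul_eq_mul] at h2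
  have := charP_resField hM
  refine mul_ne_zero (fun h => hcard ((CharP.cast_eq_zero_iff _ p _).mp h)) (mul_ne_zero hu ?_) h2
  exact (regN_ne_zero_iff hM hB hθ hψ₀).mpr fun η hη => by
    rw [(blockHeight_eq_zero_iff hψ₀).mp h0]
    exact minDeg_le hη

/-- A `p`-group acting on a block through automorphisms fixes a member of height zero. -/
theorem exists_fixed_height_zero [Fact p.Prime] (hM : IsPModular p M) {B : Set (IrrCharacter A)}
    (hB : IsPBlock M B) {P : Type*} [Group P] (hP : IsPGroup p P) [MulAction P B]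
    (σ : P → MulAut A)
    (hσ : ∀ (u : P) (ψ : B) (a : A),
      (((u • ψ : B) : IrrCharacter A) : A → ℂ) a = ((ψ : IrrCharacter A) : A → ℂ) (σ u a)) :
    ∃ ψ : B, (∀ u : P, u • ψ = ψ) ∧
      blockHeight p B ((ψ : IrrCharacter A) : A → ℂ) = 0 := by
  classical
  have := charP_resField hM
  obtain ⟨ψ₀, hψ₀, h0⟩ := exists_height_zero hM hB
  set T : Set A := {x | ∃ k, orderOf x = p ^ k} with hT
  set ε : A → ℂ := fun g => if g ∈ T then (1 : ℂ) else 0 with hε
  have hcomb : IsLocComb M ε := by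
    refine isLocComb_sectionIndicator hM (fun x c => by simp only [hT, Set.mem_setOf_eq, orderOf_conj_eq])
      fun x y hc ⟨k, hk⟩ hy => ?_
    have hcop : Nat.Coprime (orderOf x) (orderOf y) := by
      rw [hk]
      exact (hM.1.coprime_iff_not_dvd.mpr hy).pow_left _
    simp only [hT, Set.mem_setOf_eq, hc.orderOf_mul_eq_mul_orderOf_of_coprime hcop, hk]
    constructor
    · rintro ⟨j, hj⟩
      obtain ⟨i, -, hi⟩ := (Nat.dvd_prime_pow hM.1).mp (hj ▸ Dvd.intro_left _ rfl : orderOf y ∣ p ^ j)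
      exact ⟨i, hi⟩
    · rintro ⟨j, hj⟩
      exact ⟨k + j, by rw [hj, pow_add]⟩
  let y : IrrCharacter A → locRing M := fun ψ => ⟨_, hcomb.inner_mem ψ⟩
  have hreg : regFun p ε = fun g => if g = 1 then (1 : ℂ) else 0 := by
    funext g
    by_cases hg : g = 1
    · subst hg
      simp only [regFun, hε, hT, Set.mem_setOf_eq, orderOf_one]
      rw [if_neg hM.1.not_dvd_one, if_pos ⟨0, (pow_zero p).symm⟩, if_pos trivial]
    · rw [if_neg hg, regFun]
      split_ifs with hd
      · rfl
      · refine if_neg fun ⟨k, hk⟩ => hd ?_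
        rcases Nat.eq_zero_or_pos k with rfl | hk0
        · rw [pow_zero, orderOf_eq_one_iff] at hk
          exact absurd hk hg
        · exact hk ▸ dvd_pow_self p hk0.ne'
  have hlin : regFun p ε = ∑ ψ : IrrCharacter A, (y ψ : ℂ) • regFun p (ψ : A → ℂ) := by
    conv_lhs => rw [Char.classFun_expand hcomb.classFun]
    funext g
    rw [Finset.sum_apply]
    by_cases hg : p ∣ orderOf g
    · simp [regFun, hg]
    · simp only [regFun, if_neg hg, Finset.sum_apply, Pi.smul_apply]
      rfl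
  have h1 : (Nat.card A : ℂ)⁻¹ * (ψ₀ : A → ℂ) 1 =
      ∑ ψ : IrrCharacter A, (y ψ : ℂ) * regInner p ψ ψ₀ := by
    have := congrArg (fun f => classInner f (ψ₀ : A → ℂ)) hlin
    simp only [Char.classInner_sum_left, Char.classInner_smul_left] at this
    refine Eq.trans ?_ this
    rw [hreg, classInner, Finset.sum_eq_single (1 : A)]
    · rw [if_pos rfl, one_mul, (charDegree_eq ψ₀).1, map_natCast]
    · intro g _ hg
      rw [if_neg hg, zero_mul]
    · exact fun h => absurd (Finset.mem_univ _) h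
  set d := blockDefect p B with hd
  have hle := factorization_le_degVal_add (p := p) hψ₀
  choose z hz hzr using fun ψ => exists_scaled_regInner hM hle ψ
  have h2 : degW p M hM A d ψ₀ =
      ∑ ψ ∈ Finset.univ.filter (· ∈ B), y ψ * (z ψ : locRing M) := by
    apply Subtype.ext
    rw [AddSubmonoidClass.coe_finsetSum]
    apply mul_right_cancel₀ (Nat.cast_ne_zero.mpr (Nat.card_pos.ne' : Nat.card A ≠ 0) : (Nat.card A : ℂ) ≠ 0)
    rw [coe_degW hM hle, Finset.sum_subset (Finset.subset_univ _) fun ψ _ hψ => ?_]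
    · have hA : (Nat.card A : ℂ) ≠ 0 := Nat.cast_ne_zero.mpr Nat.card_pos.ne'
      have h3 := congrArg (fun w => w * ((p : ℂ) ^ d * (Nat.card A : ℂ))) h1
      rw [show (Nat.card A : ℂ)⁻¹ * (ψ₀ : A → ℂ) 1 * ((p : ℂ) ^ d * (Nat.card A : ℂ)) =
        (ψ₀ : A → ℂ) 1 * (p : ℂ) ^ d by field_simp] at h3
      rw [h3, Finset.sum_mul, Finset.sum_mul]
      refine Finset.sum_congr rfl fun ψ _ => ?_
      rw [Subring.coe_mul, SubringClass.coe_intCast, ← hz ψ, regInner_comm hM ψ₀ ψ]
      ring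
    · have h4 : (z ψ : ℂ) = 0 := by
        rw [← hz ψ, regInner_eq_zero_of_not_mem hM (.of_isPBlock hB) hψ₀
          (fun h => hψ (Finset.mem_filter.mpr ⟨Finset.mem_univ _, h⟩)), mul_zero]
      rw [Int.cast_eq_zero.mp h4, Int.cast_zero, mul_zero]
      rfl
  have h3 : ∑ ψ : B, res M (y ψ) * regN p M ψ₀ (ψ : IrrCharacter A) = 1 := by
    apply mul_left_cancel₀ (res_degW_ne_zero hM hψ₀ h0)
    rw [mul_one]
    conv_rhs => rw [h2, map_sum]
    rw [Finset.sum_subtype (p := fun ψ => ψ ∈ B) _ (fun ψ => by simp), Finset.mul_sum]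
    refine Finset.sum_congr rfl fun ψ _ => ?_
    rw [map_mul, map_intCast, hzr]
    ring
  have hinv : ∀ (u : P) (ψ : B),
      res M (y ((u • ψ : B) : IrrCharacter A)) * regN p M ψ₀ ((u • ψ : B) : IrrCharacter A) =
        res M (y ψ) * regN p M ψ₀ (ψ : IrrCharacter A) := by
    intro u ψ
    congr 1
    · congr 1
      apply Subtype.ext
      show classInner ε _ = classInner ε _
      simp only [classInner, hσ]
      congr 1
      refine Fintype.sum_equiv (σ u).toEquiv _ _ fun a => ?_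
      have : ε (σ u a) = ε a := by
        simp only [hε, hT, Set.mem_setOf_eq, MulEquiv.orderOf_eq]
      show _ = ε (σ u a) * _
      rw [this]
      rfl
    · refine regN_congr_degree hM hB hψ₀ (u • ψ : B).2 ψ.2 ?_
      simp only [charDegree, hσ, map_one]
  rw [sum_eq_sum_fixedPoints hP _ hinv] at h3
  obtain ⟨ψ, hψ, hne⟩ := Finset.exists_ne_zero_of_sum_ne_zero (h3.trans_ne one_ne_zero)
  refine ⟨ψ, (Finset.mem_filter.mp hψ).2, (blockHeight_eq_zero_iff ψ.2).mpr ?_⟩
  have h4 := (regN_ne_zero_iff hM hB hψ₀ ψ.2).mp (right_ne_zero_of_mul hne)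
  refine le_antisymm ?_ (minDeg_le ψ.2)
  obtain ⟨η, hη, hmin⟩ := exists_minDeg (p := p) (isPBlock_nonempty hB)
  exact hmin ▸ h4 η hη

end general

variable {p : ℕ} [Fact p.Prime] {M : Ideal AlgInt} [M.IsMaximal] {G : Type u} [Group G] [Fintype G]
  [DecidableEq G] {N : Subgroup G} [hNn : N.Normal] [Fintype N]

theorem image_cjN_cjN (g h : G) (S : Set (IrrCharacter N)) :
    cjN g '' (cjN h '' S) = cjN (g * h) '' S := by
  rw [Set.image_image]
  simp only [cjN_cjN]

theorem image_cjN_one (S : Set (IrrCharacter N)) : cjN (1 : G) '' S = S := by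
  simp only [cjN_one, Set.image_id']

variable (G) in
/-- The stabilizer of a set of characters of the normal subgroup. -/
noncomputable def setStab (b : Set (IrrCharacter N)) : Subgroup G where
  carrier := {g | cjN g '' b = b}
  one_mem' := image_cjN_one b
  mul_mem' := fun {g h} hg hh => by
    show cjN (g * h) '' b = b
    rw [← image_cjN_cjN, show cjN h '' b = b from hh, show cjN g '' b = b from hg]
  inv_mem' := fun {g} hg => by
    show cjN g⁻¹ '' b = b
    conv_lhs => rw [← show cjN g '' b = b from hg]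
    rw [image_cjN_cjN, inv_mul_cancel, image_cjN_one]

theorem mem_setStab_of_mem {b : Set (IrrCharacter N)} (hb : IsPBlock M b) {g : G}
    {θ : IrrCharacter N} (hθ : θ ∈ b) (hg : cjN g θ ∈ b) : g ∈ setStab G b :=
  isPBlock_eq_of_mem (isPBlock_cjN g hb) hb ⟨θ, hθ, rfl⟩ hg

/-- Conjugation as an action on the characters of the normal subgroup. -/
@[reducible] noncomputable def cjAction : MulAction G (IrrCharacter N) where
  smul g θ := cjN g θ
  one_smul θ := cjN_one θ
  mul_smul g h θ := (cjN_cjN g h θ).symm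

theorem charDegree_cjN (g : G) (θ : IrrCharacter N) :
    charDegree (cjN g θ : N → ℂ) = charDegree (θ : N → ℂ) := by
  have h : (cjN g θ : N → ℂ) 1 = (θ : N → ℂ) 1 := by
    rw [cjN_apply]
    exact congrArg _ (Subtype.ext (by simp [mul_assoc]))
  simp only [charDegree, h]

open scoped Classical in
/-- A height zero member of `b` whose orbit in `b` has size prime to `p`. -/
theorem exists_height_zero_stab (hM : IsPModular p M) [Fintype (IrrCharacter N)]
    [Fintype (ConjClasses N)] {b : Set (IrrCharacter N)} (hb : IsPBlock M b) :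
    ∃ θ ∈ b, blockHeight p b (θ : N → ℂ) = 0 ∧
      (∃ S : Subgroup G, (∀ g, g ∈ S ↔ g ∈ setStab G b ∧ cjN g θ = θ) ∧
        ¬ p ∣ S.relIndex (setStab G b)) ∧
      ¬ p ∣ (Finset.univ.filter
        (fun ψ : IrrCharacter N => ψ ∈ b ∧ ∃ g : G, cjN g θ = ψ)).card := by
  letI := cjAction (G := G) (N := N)
  obtain ⟨P⟩ : Nonempty (Sylow p (setStab G b)) := inferInstance
  set T := setStab G b with hTdef
  letI : MulAction (P : Subgroup T) b :=
    { smul := fun u ψ => ⟨cjN ((u : T) : G) ψ.1, by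
        have h : cjN ((u : T) : G) '' b = b := (u : T).2
        exact (Set.ext_iff.mp h _).mp ⟨ψ.1, ψ.2, rfl⟩⟩
      one_smul := fun ψ => Subtype.ext (cjN_one _)
      mul_smul := fun u v ψ => Subtype.ext (cjN_cjN _ _ _).symm }
  obtain ⟨θ, hfix, h0⟩ := exists_fixed_height_zero hM hb P.isPGroup'
    (fun u : (P : Subgroup T) => (MulAut.conjNormal (((u : T) : G))⁻¹ : MulAut N))
    (fun u ψ a => by
      show (cjN ((u : T) : G) ψ.1 : N → ℂ) a = _
      rw [cjN_apply]
      refine congrArg _ (Subtype.ext ?_)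
      show _ = ((((MulAut.conjNormal (((u : T) : G))⁻¹ : MulAut N) a : N)) : G)
      simp only [MulAut.conjNormal_apply, inv_inv])
  refine ⟨θ.1, θ.2, h0, ?_⟩
  set S : Subgroup G := MulAction.stabilizer G θ.1 ⊓ T with hS
  have hndvd : ¬ p ∣ S.relIndex T := by
    refine fun hd => P.not_dvd_index (hd.trans ?_)
    rw [Subgroup.relIndex]
    refine Subgroup.index_dvd_of_le fun u hu => ?_
    rw [Subgroup.mem_subgroupOf]
    exact ⟨congrArg Subtype.val (hfix ⟨u, hu⟩), u.2⟩
  refine ⟨⟨S, fun g => ⟨fun h => ⟨h.2, h.1⟩, fun h => ⟨h.2, h.1⟩⟩, hndvd⟩, ?_⟩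
  have hcard : (Finset.univ.filter
      (fun ψ : IrrCharacter N => ψ ∈ b ∧ ∃ g : G, cjN g θ.1 = ψ)).card = S.relIndex T := by
    have hst : (MulAction.stabilizer T θ.1) = S.subgroupOf T := by
      ext u
      rw [Subgroup.mem_subgroupOf]
      exact ⟨fun h => ⟨h, u.2⟩, fun h => h.1⟩
    rw [Subgroup.relIndex, ← hst, MulAction.index_stabilizer, ← Set.ncard_coe_finset]
    congr 1
    ext ψ
    simp only [Finset.coe_filter, Finset.mem_univ, true_and, Set.mem_setOf_eq]
    constructor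
    · rintro ⟨hψ, g, rfl⟩
      exact ⟨⟨g, mem_setStab_of_mem hb θ.2 hψ⟩, rfl⟩
    · rintro ⟨g, rfl⟩
      have h : cjN (g : G) '' b = b := g.2
      exact ⟨(Set.ext_iff.mp h _).mp ⟨θ.1, θ.2, rfl⟩, g, rfl⟩
  rw [hcard]
  exact hndvd

open scoped Classical in
/-- A constituent and its conjugates in `b` are orthogonal on the regular elements to a character
below no member of `B`. -/
theorem sum_orbit_regInner_eq_zero (hM : IsPModular p M) [Fintype (IrrCharacter G)]
    [Fintype (IrrCharacter N)] [Fintype (ConjClasses G)] [Fintype (ConjClasses N)]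
    {B : Set (IrrCharacter G)} (hB : IsPBlock M B) {b : Set (IrrCharacter N)} (hb : IsPBlock M b)
    {χ : IrrCharacter G} (hχ : χ ∈ B) {θ θ' : IrrCharacter N} (hθ' : θ' ∈ b)
    (hθc : classInner (fun n : N => (χ : G → ℂ) n) (θ : N → ℂ) ≠ 0)
    (hno : ∀ η ∈ B, classInner (fun n : N => (η : G → ℂ) n) (θ' : N → ℂ) = 0) :
    ∑ ψ ∈ Finset.univ.filter (fun ψ : IrrCharacter N => ψ ∈ b ∧ ∃ g : G, cjN g θ = ψ),
      regInner p θ' ψ = 0 := by
  have h1 : classInner (regFun p (θ' : N → ℂ)) (fun n : N => (χ : G → ℂ) n) = 0 := by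
    have e : classInner (regFun p (θ' : N → ℂ)) (fun n : N => (χ : G → ℂ) n) =
        classInner (θ' : N → ℂ) (fun n : N => regFun p (χ : G → ℂ) n) := by
      simp only [classInner, regFun, Subgroup.orderOf_coe]
      congr 1
      refine Finset.sum_congr rfl fun n _ => ?_
      by_cases h : p ∣ orderOf n <;> simp [h]
    rw [e, ← Char.classInner_indFun N (θ' : N → ℂ) _
      (isClassFunction_regFun p (Char.isClassFunction_irr χ)),
      Char.classFun_expand (Char.isClassFunction_indFun N (θ' : N → ℂ)), Char.classInner_sum_left]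
    refine Finset.sum_eq_zero fun η _ => ?_
    rw [Char.classInner_smul_left]
    by_cases hη : η ∈ B
    · rw [Char.classInner_indFun N (θ' : N → ℂ) _ (Char.isClassFunction_irr η),
        ← Char.classInner_conj, hno η hη, map_zero, zero_mul]
    · have h0 : classInner (η : G → ℂ) (regFun p (χ : G → ℂ)) = 0 := by
        rw [← Char.classInner_conj,
          show classInner (regFun p (χ : G → ℂ)) (η : G → ℂ) = regInner p χ η from rfl,
          regInner_eq_zero_of_not_mem hM (.of_isPBlock hB) hχ hη, map_zero]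
      rw [h0, mul_zero]
  have hcf : IsClassFunction N (fun n : N => (χ : G → ℂ) n) :=
    fun a c => Char.isClassFunction_irr χ (a : G) (c : G)
  rw [Char.classFun_expand hcf, Char.classInner_sum_right] at h1
  simp only [Char.classInner_smul_right] at h1
  set e := classInner (fun n : N => (χ : G → ℂ) n) (θ : N → ℂ) with he
  have he' : conj e ≠ 0 := fun h => hθc ((map_eq_zero (starRingEnd ℂ)).mp h)
  apply mul_left_cancel₀ he'
  rw [mul_zero, Finset.mul_sum]
  refine Eq.trans ?_ h1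
  rw [← Finset.sum_subset (Finset.subset_univ
    (Finset.univ.filter (fun ψ : IrrCharacter N => ψ ∈ b ∧ ∃ g : G, cjN g θ = ψ))) fun ψ _ hψ => ?_]
  · refine Finset.sum_congr rfl fun ψ hψ => ?_
    obtain ⟨-, g, rfl⟩ := (Finset.mem_filter.mp hψ).2
    rw [classInner_cjN, ← he]
    rfl
  · by_cases hψb : ψ ∈ b
    · have hne : ∀ g : G, Char.conjFun N (θ : N → ℂ) g ≠ (ψ : N → ℂ) := by
        intro g hg
        rw [conjFun_eq_cjN] at hg
        exact hψ (Finset.mem_filter.mpr ⟨Finset.mem_univ _, hψb, g⁻¹, Subtype.ext hg⟩)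
      rw [Char.classInner_restrict_zero N χ.2 θ.2 ψ.2 hθc hne, map_zero, zero_mul]
    · rw [show classInner (regFun p (θ' : N → ℂ)) (ψ : N → ℂ) = regInner p θ' ψ from rfl,
        regInner_eq_zero_of_not_mem hM (.of_isPBlock hb) hθ' hψb, mul_zero]

theorem regInner_cjN (g : G) (θ ψ : IrrCharacter N) :
    regInner p (cjN g θ) (cjN g ψ) = regInner p θ ψ := by
  classical
  simp only [regInner, classInner, regFun, cjN_apply]
  congr 1
  refine Fintype.sum_equiv (MulAut.conjNormal g⁻¹ : MulAut N).toEquiv _ _ fun n => ?_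
  have e : (MulAut.conjNormal g⁻¹ : MulAut N) n =
      ⟨g⁻¹ * n * g, by simpa using hNn.conj_mem n n.2 g⁻¹⟩ := Subtype.ext (by simp)
  simp only [MulEquiv.toEquiv_eq_coe, EquivLike.coe_coe, e]
  rw [← e, MulEquiv.orderOf_eq, e]

open scoped Classical in
/-- Every character of a covered block lies below a member of the covering block. -/
theorem exists_above (hM : IsPModular p M) {B : Set (IrrCharacter G)} (hB : IsPBlock M B)
    {b : Set (IrrCharacter N)} (hb : IsPBlock M b) (h : Covers B b) {θ : IrrCharacter N}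
    (hθ : θ ∈ b) : ∃ χ ∈ B, classInner (fun n : N => (χ : G → ℂ) n) (θ : N → ℂ) ≠ 0 := by
  have := Fintype.ofFinite (IrrCharacter G)
  have := Fintype.ofFinite (IrrCharacter N)
  have := Fintype.ofFinite (ConjClasses G)
  have := Fintype.ofFinite (ConjClasses N)
  obtain ⟨θ₀, hθ₀, h0, -, hcard⟩ := exists_height_zero_stab (G := G) hM hb
  set O₀ := Finset.univ.filter (fun ψ : IrrCharacter N => ψ ∈ b ∧ ∃ g : G, cjN g θ₀ = ψ) with hO₀
  have hdeg : ∀ ψ ∈ O₀, ψ ∈ b ∧ charDegree (ψ : N → ℂ) = charDegree (θ₀ : N → ℂ) := by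
    intro ψ hψ
    obtain ⟨hψb, g, rfl⟩ := (Finset.mem_filter.mp hψ).2
    exact ⟨hψb, charDegree_cjN g θ₀⟩
  have key : ∀ η ∈ b, ∑ ψ ∈ O₀, regInner p η ψ ≠ 0 := fun η hη =>
    sum_regInner_ne_zero hM hb hη hθ₀ h0 hdeg hcard
  by_cases hX : ∃ χ ∈ B, classInner (fun n : N => (χ : G → ℂ) n) (θ₀ : N → ℂ) ≠ 0
  · obtain ⟨χ, hχ, hc⟩ := hX
    by_contra hno
    push Not at hno
    exact key θ hθ (sum_orbit_regInner_eq_zero hM hB hb hχ hθ hc hno)
  exfalso
  push Not at hX
  obtain ⟨χ, hχ, θ₁, hθ₁, hc⟩ := h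
  set O₁ := Finset.univ.filter (fun ψ : IrrCharacter N => ψ ∈ b ∧ ∃ g : G, cjN g θ₁ = ψ) with hO₁
  have hS : ∀ η ∈ O₁, ∑ ψ ∈ O₀, regInner p η ψ = ∑ ψ ∈ O₀, regInner p θ₁ ψ := by
    intro η hη
    obtain ⟨hηb, g, rfl⟩ := (Finset.mem_filter.mp hη).2
    have hg : g ∈ setStab G b := mem_setStab_of_mem hb hθ₁ hηb
    have hg' : g⁻¹ ∈ setStab G b := (setStab G b).inv_mem hg
    refine Finset.sum_bij' (fun ψ _ => cjN g⁻¹ ψ) (fun ψ _ => cjN g ψ) (fun ψ hψ => ?_)
      (fun ψ hψ => ?_) (fun ψ _ => by rw [cjN_cjN, mul_inv_cancel, cjN_one])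
      (fun ψ _ => by rw [cjN_cjN, inv_mul_cancel, cjN_one]) fun ψ _ => ?_
    · obtain ⟨hψb, g', rfl⟩ := (Finset.mem_filter.mp hψ).2
      exact Finset.mem_filter.mpr ⟨Finset.mem_univ _, (Set.ext_iff.mp hg' _).mp ⟨_, hψb, rfl⟩,
        g⁻¹ * g', (cjN_cjN _ _ _).symm⟩
    · obtain ⟨hψb, g', rfl⟩ := (Finset.mem_filter.mp hψ).2
      exact Finset.mem_filter.mpr ⟨Finset.mem_univ _, (Set.ext_iff.mp hg _).mp ⟨_, hψb, rfl⟩,
        g * g', (cjN_cjN _ _ _).symm⟩
    · conv_lhs => rw [← cjN_one (G := G) ψ, ← mul_inv_cancel g, ← cjN_cjN, regInner_cjN]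
  have hzero : ∑ η ∈ O₁, ∑ ψ ∈ O₀, regInner p η ψ = 0 := by
    rw [Finset.sum_comm]
    refine Finset.sum_eq_zero fun ψ hψ => ?_
    obtain ⟨hψb, g, rfl⟩ := (Finset.mem_filter.mp hψ).2
    rw [Finset.sum_congr rfl fun η _ => regInner_comm hM η (cjN g θ₀)]
    exact sum_orbit_regInner_eq_zero hM hB hb hχ hψb hc fun η hη => by
      rw [classInner_cjN]
      exact hX η hη
  rw [Finset.sum_congr rfl hS, Finset.sum_const, nsmul_eq_mul, mul_eq_zero] at hzero
  rcases hzero with h' | h'
  · rw [Nat.cast_eq_zero, Finset.card_eq_zero] at h'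
    exact Finset.eq_empty_iff_forall_notMem.mp h' θ₁
      (Finset.mem_filter.mpr ⟨Finset.mem_univ _, hθ₁, 1, cjN_one θ₁⟩)
  · exact key θ₁ hθ₁ h'

end CfsgLib.Block.HeightZeroOrbit
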