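import Cfsg.Agent.Lib.Block.Glauberman
import Cfsg.Agent.Lib.Block.Local
import Cfsg.Agent.Lib.Char.InducedSet
import Cfsg.Agent.Lib.Char.Clifford
import Cfsg.Agent.Lib.Char.ExtendChar

/-!
# Kernels of the characters of degree prime to `p`

A subgroup lying in all these kernels meets a subgroup of index prime to `p` inside the kernels of
its linear characters; invariant characters of a fixed-point-free coprime section are trivial.
-/

set_option autoImplicit false
set_option linter.unusedSectionVars false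
set_option linter.style.haveILetI false

namespace CfsgLib.Block.PPrimeKernel

open scoped ComplexConjugate
open Cfsg CfsgLib.Char CfsgLib.Block

universe u

/-- The irreducible constituents of a sum of irreducible characters. -/
theorem exists_nat_classInner_list {G : Type u} [Group G] [Fintype G] (ψ : IrrCharacter G) :
    ∀ l : List (IrrCharacter G), ∃ m : ℕ,
      classInner ((l.map fun χ : IrrCharacter G => (χ : G → ℂ)).sum) (ψ : G → ℂ) = m ∧ (ψ ∈ l → 0 < m) := by
  classical
  intro l
  induction l with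
  | nil => exact ⟨0, by simp [classInner_zero_left], fun h => absurd h (by simp)⟩
  | cons a l ih =>
    obtain ⟨m, hm, hpos⟩ := ih
    refine ⟨(if a = ψ then 1 else 0) + m, ?_, fun h => ?_⟩
    · rw [List.map_cons, List.sum_cons, classInner_add_left, hm, classInner_irr, Nat.cast_add]
      split_ifs <;> simp
    · rcases List.mem_cons.mp h with e | e
      · rw [if_pos e.symm]; omega
      · have := hpos e; omega

/-- A character of degree prime to `p` has a constituent of degree prime to `p`. -/
theorem exists_pprime_constituent {G : Type u} [Group G] [Fintype G] {p : ℕ} {f : G → ℂ}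
    (hf : IsCharacter G f) {n : ℕ} (hn : f 1 = (n : ℂ)) (hp : ¬ p ∣ n) :
    ∃ ψ : IrrCharacter G, ¬ p ∣ charDegree (ψ : G → ℂ) ∧ classInner f (ψ : G → ℂ) ≠ 0 := by
  obtain ⟨l, hl⟩ := exists_list_irr hf
  replace hl : f = (l.map fun χ : IrrCharacter G => (χ : G → ℂ)).sum := hl.trans (congrArg List.sum (by clear hl hn hf; induction l with | nil => rfl | cons a l ih => exact congrArg (List.cons _) ih))
  subst hl
  have hdeg : ∀ l : List (IrrCharacter G), (l.map fun χ : IrrCharacter G => (χ : G → ℂ)).sum 1 =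
      (((l.map fun χ : IrrCharacter G => charDegree (χ : G → ℂ)).sum : ℕ) : ℂ) := by
    intro l
    induction l with
    | nil => simp
    | cons a l ih => rw [List.map_cons, List.sum_cons, List.map_cons, List.sum_cons, Pi.add_apply, ih, (charDegree_eq a).1, Nat.cast_add]
  rw [hdeg, Nat.cast_inj] at hn
  have hex : ∃ ψ ∈ l, ¬ p ∣ charDegree (ψ : G → ℂ) := by
    by_contra hno
    push Not at hno
    refine hp (hn ▸ List.dvd_sum fun x hx => ?_)
    obtain ⟨ψ, hψ, rfl⟩ := List.mem_map.mp hx
    exact hno ψ hψ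
  obtain ⟨ψ, hψ, hpψ⟩ := hex
  obtain ⟨m, hm, hpos⟩ := exists_nat_classInner_list ψ l
  exact ⟨ψ, hpψ, by rw [hm]; exact_mod_cast (hpos hψ).ne'⟩

/-- An element of all kernels of degree prime to `p` is in the kernel of every linear character of a
subgroup of index prime to `p` containing it. -/
theorem lin_eq_one_of_forall {G : Type u} [Group G] [Finite G] {p : ℕ} (H : Subgroup G)
    (hH : ¬ p ∣ H.index) (lam : ↥H →* ℂˣ) {x : ↥H}
    (hx : ∀ χ : IrrCharacter G, ¬ p ∣ charDegree (χ : G → ℂ) → (χ : G → ℂ) x = (χ : G → ℂ) 1) :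
    lam x = 1 := by
  have := Fintype.ofFinite G
  have := Fintype.ofFinite H
  set θ : IrrCharacter H := ⟨_, isIrrCharacter_lin lam⟩ with hθ
  have hind := isCharacter_indFun H (isCharacter_irr θ)
  have h1 : indFun H (θ : H → ℂ) 1 = (H.index : ℂ) := by
    rw [indFun_one]; simp [hθ]
  obtain ⟨χ, hpχ, hne⟩ := exists_pprime_constituent hind h1 hH
  rw [classInner_indFun H _ _ (isClassFunction_irr χ)] at hne
  have hne' : classInner (fun h : H => (χ : G → ℂ) h) (θ : H → ℂ) ≠ 0 := fun h0 => hne (by
    rw [← classInner_conj, h0, map_zero])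
  have hres : IsCharacter H (fun h : H => (χ : G → ℂ) h) := isCharacter_comp (isCharacter_irr χ) H.subtype
  have := constituent_kernel hres θ hne' (g := x) (by simpa using hx χ hpχ)
  exact Units.ext (by simpa [hθ] using this)

/-- The trivial constituent puts a normal subgroup in the kernel. -/
theorem eq_degree_of_trivial_constituent {G : Type u} [Group G] [Fintype G] (N : Subgroup G) [N.Normal]
    [Fintype N] (χ : IrrCharacter G)
    (h : classInner (fun n : N => (χ : G → ℂ) n) (fun _ => 1) ≠ 0) (n : N) :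
    (χ : G → ℂ) n = (χ : G → ℂ) 1 := by
  have hset : {ψ : N → ℂ | ∃ g : G, ψ = conjFun N (fun _ => (1 : ℂ)) g} = {fun _ => 1} := by
    ext ψ
    exact ⟨fun ⟨g, hg⟩ => hg, fun e => ⟨1, e⟩⟩
  have e := clifford N χ.2 isIrrCharacter_one h
  rw [hset, finsum_mem_singleton] at e
  have e1 := congrFun e n
  have e2 := congrFun e 1
  simp only [Pi.smul_apply, smul_eq_mul, mul_one, OneMemClass.coe_one] at e1 e2
  rw [e1, e2]

/-- The kernel of a character absorbs products. -/
theorem mul_left_of_eq_degree {G : Type u} [Group G] [Finite G] {χ : G → ℂ} (hχ : IsCharacter G χ) {g : G}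
    (hg : χ g = χ 1) (h : G) : χ (g * h) = χ h := by
  obtain ⟨d, ρ, rfl⟩ := hχ
  rw [Representation.char_one] at hg
  have e := (char_eq_degree_iff ρ g).mp hg
  show LinearMap.trace ℂ _ (ρ (g * h)) = LinearMap.trace ℂ _ (ρ h)
  rw [map_mul, e]
  rfl

section invariant

variable {p : ℕ} [Fact p.Prime] {G : Type u} [Group G] [Fintype G]

/-- An invariant character of a fixed-point-free coprime section is trivial. -/
theorem eq_one_of_invariant (N S : Subgroup G) [Fintype N] (hS : IsPGroup p S) (hN : ¬ p ∣ Nat.card N)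
    (hnorm : ∀ s ∈ S, ∀ g ∈ N, s * g * s⁻¹ ∈ N) (hC : N ⊓ Subgroup.centralizer (S : Set G) = ⊥)
    (θ : IrrCharacter N) (hθ : Glauberman.GInv N S (θ : N → ℂ)) : (θ : N → ℂ) = fun _ => 1 := by
  classical
  obtain ⟨M, hM⟩ := exists_pModular (Fact.out : p.Prime)
  haveI := hM.2.1
  have := Fintype.ofFinite (↥(⊥ : Subgroup G))
  have := Fintype.ofFinite (ConjClasses N)
  have := Fintype.ofFinite (ConjClasses (⊥ : Subgroup G))
  have hsub : Subsingleton (IrrCharacter (⊥ : Subgroup G)) := ⟨fun a b => by
    have h1 : ∀ c : IrrCharacter (⊥ : Subgroup G), (c : (⊥ : Subgroup G) → ℂ) 1 = 1 :=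
      degree_one_of_comm fun x y => Subsingleton.elim _ _
    exact Subtype.ext (funext fun x => by rw [Subsingleton.elim x 1, h1, h1])⟩
  set one : IrrCharacter N := ⟨fun _ => 1, isIrrCharacter_one⟩ with hone
  have hinv1 : Glauberman.GInv N S (one : N → ℂ) := fun _ _ _ _ _ => rfl
  obtain ⟨β, hβ, -⟩ := Glauberman.existsUnique_down hC.symm hM hS hnorm hN hθ
  obtain ⟨β', hβ', -⟩ := Glauberman.existsUnique_down hC.symm hM hS hnorm hN hinv1
  rw [Subsingleton.elim β' β] at hβ'
  have h := Glauberman.omG_eq_of_eq_one hC.symm hM hS hnorm hN hθ hβ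
    (Glauberman.good_eG hC.symm hnorm hinv1)
  rw [hβ', omG_eG hM (Glauberman.singleton_isPBlock hM hN one)] at h
  have hmem : θ ∈ ({one} : Set (IrrCharacter N)) := by
    by_contra hne
    rw [if_neg hne] at h
    exact one_ne_zero h
  rw [Set.mem_singleton_iff.mp hmem]

/-- A fixed-point-free normal subgroup of order prime to `p` lies in every kernel of degree prime to `p`. -/
theorem eq_degree_of_fixedPointFree (N S : Subgroup G) [N.Normal] (hS : IsPGroup p S) (hN : ¬ p ∣ Nat.card N)
    (hC : N ⊓ Subgroup.centralizer (S : Set G) = ⊥) (χ : IrrCharacter G)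
    (hχ : ¬ p ∣ charDegree (χ : G → ℂ)) (n : N) : (χ : G → ℂ) n = (χ : G → ℂ) 1 := by
  classical
  have := Fintype.ofFinite N
  have := Fintype.ofFinite (IrrCharacter N)
  have hnG : ∀ u : S, ∀ g, g ∈ N ↔ (u : G) * g * (u : G)⁻¹ ∈ N := fun u g => by
    refine ⟨fun h => Subgroup.Normal.conj_mem ‹_› g h _, fun h => ?_⟩
    simpa [mul_assoc] using Subgroup.Normal.conj_mem ‹_› _ h (u : G)⁻¹
  let act : MulAction S (IrrCharacter N) :=
    { smul := fun s θ => irrEquiv (cjHom (hnG s)) θ
      one_smul := fun θ => Subtype.ext (funext fun g => by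
        show (θ : N → ℂ) _ = _
        exact congrArg _ (Subtype.ext (by simp [cjHom])))
      mul_smul := fun s t θ => Subtype.ext (funext fun g => by
        show (θ : N → ℂ) _ = (θ : N → ℂ) _
        exact congrArg _ (Subtype.ext (by simp [cjHom, mul_assoc]))) }
  have hres : IsCharacter N (fun n : N => (χ : G → ℂ) n) := isCharacter_comp (isCharacter_irr χ) N.subtype
  choose m hm using fun θ : IrrCharacter N => classInner_isCharacter hres (isCharacter_irr θ)
  set f : IrrCharacter N → ZMod p := fun θ => ((m θ * charDegree (θ : N → ℂ) : ℕ) : ZMod p) with hf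
  have hinvf : ∀ (u : S) (θ : IrrCharacter N), f (u • θ) = f θ := fun u θ => by
    have hval : ((u • θ : IrrCharacter N) : N → ℂ) = conjFun N (θ : N → ℂ) (u : G)⁻¹ := funext fun g => by
      show (θ : N → ℂ) _ = (θ : N → ℂ) _
      exact congrArg _ (Subtype.ext (by simp [cjHom]))
    have hd : charDegree ((u • θ : IrrCharacter N) : N → ℂ) = charDegree (θ : N → ℂ) := by
      have h1 : ((u • θ : IrrCharacter N) : N → ℂ) 1 = (θ : N → ℂ) 1 := by
        show (θ : N → ℂ) _ = (θ : N → ℂ) 1
        rw [map_one]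
      rw [(charDegree_eq _).1, (charDegree_eq θ).1] at h1
      exact_mod_cast h1
    have hmu : m (u • θ) = m θ := by
      have h1 := hm (u • θ)
      rw [hval, classInner_restrict_conj N (isClassFunction_irr χ), hm θ] at h1
      exact_mod_cast h1.symm
    simp only [hf, hd, hmu]
  have htot : (charDegree (χ : G → ℂ) : ℕ) = ∑ θ : IrrCharacter N, m θ * charDegree (θ : N → ℂ) := by
    have e := congrFun (classFun_expand (isClassFunction_of_isCharacter hres)) 1
    simp only [Finset.sum_apply, Pi.smul_apply, smul_eq_mul, OneMemClass.coe_one] at e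
    rw [(charDegree_eq χ).1, Finset.sum_congr rfl fun θ _ => by
      rw [hm θ, (charDegree_eq θ).1, ← Nat.cast_mul], ← Nat.cast_sum, Nat.cast_inj] at e
    exact e
  have hne : ∑ θ, f θ ≠ 0 := by
    rw [hf, ← Nat.cast_sum, ← htot, Ne, ZMod.natCast_eq_zero_iff]
    exact hχ
  rw [sum_eq_sum_fixedPoints hS f hinvf] at hne
  obtain ⟨θ, hθ, hθne⟩ := Finset.exists_ne_zero_of_sum_ne_zero hne
  have hGI : Glauberman.GInv N S (θ : N → ℂ) := fun s hs g g' he => by
    have h := (Finset.mem_filter.mp hθ).2 ⟨s, hs⟩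
    conv_lhs => rw [← h]
    show (θ : N → ℂ) _ = _
    exact congrArg _ (Subtype.ext (by simp [cjHom, he, mul_assoc]))
  have h1 := eq_one_of_invariant N S hS hN (fun s _ g hg => Subgroup.Normal.conj_mem ‹_› g hg s) hC θ hGI
  refine eq_degree_of_trivial_constituent N χ ?_ n
  have hm0 : m θ ≠ 0 := fun h0 => hθne (by simp [hf, h0])
  rw [← h1, hm θ]
  exact_mod_cast hm0

end invariant

end CfsgLib.Block.PPrimeKernel
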