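import Cfsg.Agent.Lib.Block.RealBlocks
import Cfsg.Agent.Lib.Char.ExtendChar
import Cfsg.Agent.Lib.Char.InvariantAbove

/-!
# Real characters of odd degree and extensions in the principal 2-block

`linMul_mem_blockOf`: twisting by a linear character of p-power order keeps the block.
`exists_extension_principal`: a real extendible character of odd degree extends into the
principal 2-block.
-/

open Finset
open scoped ComplexConjugate

set_option linter.unusedSectionVars false

namespace CfsgLib.Block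

open Cfsg

universe u

variable {p : ℕ} {M : Ideal AlgInt} [M.IsMaximal] {G : Type u} [Group G] [Finite G]

/-- Twisting by a linear character of `p`-power order keeps the block. -/
theorem linMul_mem_blockOf [Fact p.Prime] (hM : IsPModular p M) (f : G →* ℂˣ) {a : ℕ}
    (hf : f ^ (p ^ a) = 1) (χ : IrrCharacter G) :
    Char.linMul f χ ∈ blockOf M (χ : G → ℂ) := by
  classical
  have := Fintype.ofFinite G
  have hchar := charP_resField hM
  refine sameBlock_iff_centralRes.mpr fun g => ?_
  have hpow : (f g : ℂ) ^ (p ^ a) = 1 := by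
    rw [← Units.val_pow_eq_pow_val, ← MonoidHom.pow_apply, hf]
    rfl
  have hmem : (f g : ℂ) ∈ locRing M := integral_mem M
    (IsIntegral.of_pow (pow_pos (Fact.out : p.Prime).pos a) (hpow.symm ▸ isIntegral_one))
  have hres : res M ⟨_, hmem⟩ = 1 := by
    refine sub_eq_zero.mp (eq_zero_of_pow_eq_zero (n := p ^ a) ?_)
    rw [sub_pow_char_pow, one_pow, ← map_pow,
      show (⟨_, hmem⟩ : locRing M) ^ (p ^ a) = 1 from Subtype.ext hpow, map_one, sub_self]
  have hval : centralChar (Char.linMul f χ : G → ℂ) g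
      = (f g : ℂ) * centralChar (χ : G → ℂ) g := by
    simp only [centralChar, Char.linMul, map_one, Units.val_one, one_mul]
    ring
  have he : centralRes M (Char.linMul f χ) g = res M ⟨_, hmem⟩ * centralRes M χ g := by
    unfold centralRes
    rw [← map_mul]
    exact congrArg (res M) (Subtype.ext hval)
  rw [he, hres, one_mul]

/-- A real character of odd degree which extends has an extension in the principal 2-block. -/
theorem exists_extension_principal (hM : IsPModular 2 M) (N : Subgroup G) [N.Normal]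
    (θ : IrrCharacter N) (hreal : ∀ n : N, ((θ : N → ℂ) n).im = 0)
    (hodd : Odd (charDegree (θ : N → ℂ))) (η : IrrCharacter G)
    (hη : ∀ n : N, (η : G → ℂ) n = (θ : N → ℂ) n) :
    ∃ η' : IrrCharacter G, (∀ n : N, (η' : G → ℂ) n = (θ : N → ℂ) n) ∧
      η' ∈ principalBlock M G := by
  classical
  haveI := Fintype.ofFinite G
  haveI : Fact (Nat.Prime 2) := ⟨Nat.prime_two⟩
  obtain ⟨d, ρ, hρ, hθ⟩ := θ.2
  haveI := hρ
  obtain ⟨σ, hσ, hσc⟩ := Char.exists_rep_extension_top N ρ (Char.isCharacter_irr η)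
    (fun n => (hη n).trans (congrFun hθ n).symm)
  obtain ⟨σ', hσ', hσ'c⟩ := Char.exists_rep_extension_top N ρ
    (Char.isCharacter_conj (Char.isCharacter_irr η)) (fun n => by
      show conj ((η : G → ℂ) n) = _
      rw [hη, Complex.conj_eq_iff_im.mpr (hreal n)]
      exact (congrFun hθ n).symm)
  obtain ⟨ν, hνN, hν⟩ := Char.exists_twist_eq N ρ hσ hσ'
  have hdeg : charDegree (θ : N → ℂ) = d := by
    have h1 : ((charDegree (θ : N → ℂ) : ℕ) : ℂ) = ρ.character 1 := by
      rw [hθ]; exact (charDegree_eq θ).1.symm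
    rw [Representation.char_one, Module.finrank_fin_fun] at h1
    exact_mod_cast h1
  obtain ⟨m, hm⟩ : Odd d := hdeg ▸ hodd
  -- the determinant of the complex conjugate representation
  have hdet : Char.detHom σ' = (Char.detHom σ)⁻¹ := by
    have hc : σ.dual.character = σ'.character := by
      funext g
      rw [Representation.char_dual, hσ'c, hσc, Char.irr_inv]
    obtain ⟨φ⟩ := Char.nonempty_equiv_of_character_eq σ.dual σ' hc
    refine MonoidHom.ext fun g => Units.ext ?_
    rw [Char.detHom_coe, MonoidHom.inv_apply, ← map_inv, Char.detHom_coe,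
      Char.det_eq_of_equiv φ g]
    show LinearMap.det (σ g⁻¹).dualMap = _
    rw [LinearMap.det_dualMap]
  rw [hν, Char.detHom_twistRep, Module.finrank_fin_fun] at hdet
  replace hdet : Char.detHom σ * ν ^ (2 * m + 1) = (Char.detHom σ)⁻¹ := by rw [← hm]; exact hdet
  set δ := Char.detHom σ with hδ
  set μ : G →* ℂˣ := δ⁻¹ * (ν ^ m)⁻¹ with hμ
  have hsq : ν = μ ^ 2 := by
    rw [hμ]
    refine MonoidHom.ext fun g => ?_
    have e : δ g * ν g ^ (2 * m + 1) = (δ g)⁻¹ := DFunLike.congr_fun hdet g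
    show ν g = ((δ g)⁻¹ * (ν g ^ m)⁻¹) ^ 2
    rw [pow_succ, ← mul_assoc, ← eq_inv_mul_iff_mul_eq] at e
    conv_lhs => rw [e]
    rw [mul_inv, mul_pow, inv_pow (ν g ^ m), ← pow_mul, mul_comm m 2, sq]
    exact mul_right_comm _ _ _
  -- the real character
  have hnorm : ∀ g, conj (μ g : ℂ) = ((μ g)⁻¹ : ℂˣ) := fun g => by
    rw [← map_inv μ]
    exact (Char.irr_inv (⟨_, Char.isIrrCharacter_lin μ⟩ : IrrCharacter G) g).symm
  have hηc : ∀ g, conj ((η : G → ℂ) g) = (ν g : ℂ) * (η : G → ℂ) g := fun g => by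
    have h1 : σ'.character g = conj ((η : G → ℂ) g) := congrFun hσ'c g
    rw [← h1, hν, ← hσc]
    show LinearMap.trace ℂ _ ((ν g : ℂ) • σ g) = _
    rw [map_smul, smul_eq_mul]
    rfl
  set η₁ : IrrCharacter G := Char.linMul μ η with hη₁
  have hη₁B : η₁ ∈ principalBlock M G := by
    have := Fintype.ofFinite (IrrCharacter G)
    refine mem_principalBlock_of_real_odd hM (fun g => Complex.conj_eq_iff_im.mp ?_) ?_
    · show conj ((μ g : ℂ) * (η : G → ℂ) g) = (μ g : ℂ) * (η : G → ℂ) g
      rw [map_mul, hnorm, hηc, hsq, MonoidHom.pow_apply, Units.val_pow_eq_pow_val, ← mul_assoc]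
      congr 1
      rw [sq, ← mul_assoc, Units.inv_mul, one_mul]
    · have h1 : (η₁ : G → ℂ) 1 = (θ : N → ℂ) 1 := by
        rw [hη₁]
        show (μ 1 : ℂ) * (η : G → ℂ) 1 = _
        rw [map_one, Units.val_one, one_mul, ← OneMemClass.coe_one N, hη]
      have h2 : charDegree (η₁ : G → ℂ) = charDegree (θ : N → ℂ) := by
        rw [← Nat.cast_inj (R := ℂ), ← (charDegree_eq η₁).1, ← (charDegree_eq θ).1, h1]
      rwa [h2]
  -- remove the 2-part
  set o := ordCompl[2] (Nat.card G) with ho
  have hoodd : Odd o := by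
    rw [← Nat.not_even_iff_odd, even_iff_two_dvd]
    exact Nat.not_dvd_ordCompl Nat.prime_two Nat.card_pos.ne'
  have hfull : (μ ^ o)⁻¹ ^ (2 ^ (Nat.card G).factorization 2) = 1 := by
    refine MonoidHom.ext fun g => ?_
    show ((μ g ^ o)⁻¹) ^ _ = (1 : ℂˣ)
    rw [inv_pow, ← pow_mul, inv_eq_one, mul_comm, Nat.ordProj_mul_ordCompl_eq_self,
      ← map_pow, pow_card_eq_one', map_one]
  refine ⟨Char.linMul (μ ^ o)⁻¹ η₁, fun n => ?_, ?_⟩
  · have hμn : μ (n : G) ^ 2 = 1 := by rw [← MonoidHom.pow_apply, ← hsq, hνN]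
    have hμo : (μ ^ o) (n : G) = μ (n : G) := by
      obtain ⟨k, hk⟩ := hoodd
      rw [MonoidHom.pow_apply, hk, pow_succ, pow_mul, hμn, one_pow, one_mul]
    show ((μ ^ o)⁻¹ (n : G) : ℂ) * ((μ (n : G) : ℂ) * (η : G → ℂ) n) = _
    rw [MonoidHom.inv_apply, hμo, ← mul_assoc, Units.inv_mul, one_mul, hη]
  · have h1 := linMul_mem_blockOf (p := 2) hM _ hfull η₁
    rw [← isPBlock_eq_blockOf isPBlock_principalBlock hη₁B] at h1
    exact h1

end CfsgLib.Block
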