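import Cfsg.Agent.Lib.Block.Principal
import Cfsg.Agent.Lib.Block.HeightZeroOrbit
import Cfsg.Agent.Lib.Block.PPrimeKernel
import Cfsg.Agent.Lib.Block.RealExtension
import Cfsg.Agent.Lib.Block.TraceFun
import Cfsg.Agent.Lib.Char.DegreeRatio
import Cfsg.Agent.Lib.Char.ExtendCriteria
import Cfsg.Agent.Lib.Fusion.Residual

/-!
# Degrees in the principal block and normal `p`-complements

When the quotient by a normal subgroup `N` contains every `p`-regular element, membership in the
principal block is read on any constituent on `N`.  If every member of degree prime to `p` is linear,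
the squares of the degrees in the principal block of `O^p(G)` sum, modulo `p`, to the number of fixed
linear members, which form a group of order prime to `p`; so `O^p(G)` has order prime to `p`
(after Thompson, Isaacs and Smith).
-/

open Finset MonoidAlgebra
open scoped ComplexConjugate

set_option linter.unusedSectionVars false

namespace CfsgLib.Block

open Cfsg

universe u

variable {p : ℕ} {M : Ideal AlgInt} [M.IsMaximal] {G : Type u} [Group G] [Fintype G] [DecidableEq G]

/-- The principal block over a normal subgroup containing the `p`-regular elements. -/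
theorem mem_principalBlock_iff_constituent (hM : IsPModular p M) (N : Subgroup G) [N.Normal]
    [Fintype N] (hreg : ∀ g : G, ¬ p ∣ orderOf g → g ∈ N) {χ : IrrCharacter G} {θ : IrrCharacter N}
    (hc : classInner (fun n : N => (χ : G → ℂ) n) (θ : N → ℂ) ≠ 0) :
    χ ∈ principalBlock M G ↔ θ ∈ principalBlock M N := by
  classical
  have := Fintype.ofFinite (ConjClasses N)
  rw [mem_principalBlock_iff hM, mem_principalBlock_iff hM,
    omegaBar_eq_omG_of_constituent χ θ hc (regBar M p G) fun g hg => by
      rw [coeff_regBar, if_pos (by_contra fun h => hg (hreg g h))],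
    omG_eq θ _ (regBar M p N) fun k => by rw [coeff_regBar, coeff_regBar, Subgroup.orderOf_coe]]

theorem blockHeight_principal_eq_zero_iff (hp : p.Prime) {χ : IrrCharacter G}
    (hχ : χ ∈ principalBlock M G) :
    blockHeight p (principalBlock M G) (χ : G → ℂ) = 0 ↔ ¬ p ∣ charDegree (χ : G → ℂ) := by
  have h1 : degVal p (oneChar G) = 0 := by simp [degVal, charDegree, oneChar]
  have h0 : minDeg p (principalBlock M G) = 0 :=
    Nat.le_zero.mp (h1 ▸ minDeg_le one_mem_principalBlock)
  rw [blockHeight_eq_zero_iff hχ, h0, degVal]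
  obtain ⟨d, hd, hd1⟩ := Char.isIrrCharacter_degree χ.2
  have hne : charDegree (χ : G → ℂ) ≠ 0 := by
    simp only [charDegree, hd1, Complex.natCast_re, Nat.floor_natCast]
    omega
  rw [Nat.factorization_eq_zero_iff]
  constructor
  · rintro (h | h | h)
    · exact absurd hp h
    · exact h
    · exact absurd h hne
  · exact fun h => Or.inr (Or.inl h)

variable [Fintype (IrrCharacter G)]

/-- The squares of the degrees in a union of blocks vanish modulo `p`. -/
theorem sum_degree_sq_eq_zero (hM : IsPModular p M) (hp : p ∣ Nat.card G) {S : Set (IrrCharacter G)}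
    [DecidablePred (· ∈ S)] (hS : IsBlockUnion M S) :
    ∑ χ ∈ Finset.univ.filter (· ∈ S),
      ((charDegree (χ : G → ℂ) : ℕ) : ResField M) * (charDegree (χ : G → ℂ) : ResField M) = 0 := by
  classical
  have hpf : Fact p.Prime := ⟨hM.1⟩
  obtain ⟨x, hx⟩ := exists_prime_orderOf_dvd_card' (G := G) p hp
  have h0 := blockUnion_orthogonal_regular_singular hM hS (g := (1 : G)) (h := x⁻¹)
    (by rw [orderOf_one]; exact hM.1.not_dvd_one) (by rw [orderOf_inv, hx])
  rw [finsum_mem_eq_toFinset_sum, show S.toFinset = Finset.univ.filter (· ∈ S) by ext; simp] at h0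
  have h1 : ∑ χ ∈ Finset.univ.filter (· ∈ S), irrLoc M χ 1 * irrLoc M χ x = 0 := Subtype.ext (by
    rw [AddSubmonoidClass.coe_finsetSum, ZeroMemClass.coe_zero, ← h0]
    refine Finset.sum_congr rfl fun χ _ => ?_
    rw [Subring.coe_mul, coe_irrLoc, coe_irrLoc, Char.irr_inv, Complex.conj_conj])
  have h2 := congrArg (res M) h1
  rw [map_sum, map_zero] at h2
  refine Eq.trans (Finset.sum_congr rfl fun χ _ => ?_) h2
  have hd : irrLoc M χ 1 = (charDegree (χ : G → ℂ) : locRing M) := Subtype.ext (by
    obtain ⟨d, -, hd⟩ := Char.isIrrCharacter_degree χ.2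
    simp [charDegree, hd])
  have hval := res_irr_mul_pElement hM χ (Commute.one_right x)
    (show x ^ p ^ 1 = 1 by rw [pow_one, ← hx, pow_orderOf_eq_one])
  rw [mul_one] at hval
  rw [map_mul, hval, hd, map_natCast]

/-- If the members of degree prime to `p` are linear, the residual has order prime to `p`. -/
theorem not_dvd_card_pResidual (hM : IsPModular p M)
    (hlin : ∀ χ ∈ principalBlock M G, ¬ p ∣ charDegree (χ : G → ℂ) → charDegree (χ : G → ℂ) = 1) :
    ¬ p ∣ Nat.card (pResidual p G) := by
  classical
  have hpf : Fact p.Prime := ⟨hM.1⟩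
  have := charP_resField hM
  have hn := CfsgLib.Fusion.pResidual_normal (G := G) (p := p)
  intro hdvd
  set N := pResidual p G with hN
  have := Fintype.ofFinite N
  have := Fintype.ofFinite (IrrCharacter N)
  obtain ⟨P⟩ : Nonempty (Sylow p G) := inferInstance
  obtain ⟨a, ha⟩ := CfsgLib.Fusion.exists_index_pResidual (G := G) (p := p)
  -- linear characters of `N` have order prime to `p`
  have hord : ∀ f : N →* ℂˣ, ¬ p ∣ orderOf f := by
    intro f hf
    set m := ordCompl[p] (Nat.card N)
    have hker : f ^ m = 1 := by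
      refine MonoidHom.ext fun n => ?_
      have htop : (⊤ : Subgroup N) ≤ (f ^ m).ker := by
        rw [← CfsgLib.Fusion.pResidual_pResidual (G := G) (p := p), pResidual, Subgroup.closure_le]
        intro g hg
        rw [SetLike.mem_coe, MonoidHom.mem_ker, MonoidHom.pow_apply, ← map_pow,
          orderOf_dvd_iff_pow_eq_one.mp ?_, map_one]
        have hg' : Nat.Coprime (orderOf g) (p ^ (Nat.card N).factorization p) := hg.pow_right _
        refine hg'.dvd_of_dvd_mul_left ?_
        rw [Nat.ordProj_mul_ordCompl_eq_self]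
        exact orderOf_dvd_natCard g
      exact htop (Subgroup.mem_top n)
    exact Nat.not_dvd_ordCompl hM.1 Nat.card_pos.ne' (hf.trans (orderOf_dvd_of_pow_eq_one hker))
  have hcjN : ∀ (θ : IrrCharacter N) (n : N), cjN (n : G) θ = θ := by
    intro θ n
    refine Subtype.ext (funext fun x => ?_)
    rw [cjN_apply]
    conv_rhs => rw [← Char.isClassFunction_irr θ x n⁻¹]
    exact congrArg _ (Subtype.ext (by simp))
  -- fixed members of degree prime to `p` are linear
  have hfix : ∀ θ ∈ principalBlock M N, (∀ g : G, cjN g θ = θ) →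
      ¬ p ∣ charDegree (θ : N → ℂ) → charDegree (θ : N → ℂ) = 1 := by
    intro θ hθ hinv hd
    obtain ⟨d, ρ, hρ, hρθ⟩ := θ.2
    have := hρ
    have hdeg : charDegree (θ : N → ℂ) = d := by
      simp [charDegree, ← hρθ, Representation.char_one]
    rw [hdeg] at hd ⊢
    have hI : Char.IsInvariant N ρ := (Char.isInvariant_iff N ρ hρθ).mpr fun g n => by
      conv_rhs => rw [← hinv g⁻¹]
      rw [cjN_apply]
      exact congrArg _ (Subtype.ext (by simp))
    obtain ⟨σ, hσ⟩ := Char.extends_of_sylow N ρ hI fun q hq hqi hqd => by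
      exfalso
      rw [ha] at hqi
      obtain rfl : q = p := (Nat.prime_dvd_prime_iff_eq hq hM.1).mp (hq.dvd_of_dvd_pow hqi)
      rcases (Nat.Prime.dvd_mul hq).mp hqd with h | h
      · exact hd h
      · exact hord _ h
    let χ : IrrCharacter G := ⟨σ.character, Char.isIrrCharacter_of_extends N ρ hσ⟩
    have hres : (fun n : N => (χ : G → ℂ) n) = (θ : N → ℂ) := by
      funext n
      rw [← hρθ]
      show LinearMap.trace ℂ _ (σ n) = LinearMap.trace ℂ _ (ρ n)
      rw [hσ n]
    have hχ : χ ∈ principalBlock M G := (mem_principalBlock_iff_constituent hM N (fun g hg =>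
      CfsgLib.Fusion.mem_pResidual (Nat.coprime_comm.mp (hM.1.coprime_iff_not_dvd.mpr hg)))
      (θ := θ) (by rw [hres, Char.classInner_irr_self]; exact one_ne_zero)).mpr hθ
    have hχd : charDegree (χ : G → ℂ) = d := by
      simp [χ, charDegree, Representation.char_one]
    rw [← hχd]
    exact hlin χ hχ (hχd.symm ▸ hd)
  -- reduce to the fixed members
  letI : MulAction (P : Subgroup G) (IrrCharacter N) :=
    { smul := fun u θ => cjN (u : G) θ
      one_smul := fun θ => cjN_one θ
      mul_smul := fun u v θ => (cjN_cjN _ _ θ).symm }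
  have hB : ∀ (g : G) (θ : IrrCharacter N), θ ∈ principalBlock M N → cjN g θ ∈ principalBlock M N := by
    intro g θ hθ
    obtain ⟨χ, hχ⟩ : ∃ χ : IrrCharacter G,
        classInner (fun n : N => (χ : G → ℂ) n) (θ : N → ℂ) ≠ 0 := by
      obtain ⟨B, -, χ, -, θ', hθ', hc⟩ := exists_covers (G := G) (isPBlock_blockOf (M := M) θ)
      by_contra hall
      push Not at hall
      have hz : indFun N (θ : N → ℂ) = 0 := by
        rw [Char.classFun_expand (Char.isClassFunction_indFun N (θ : N → ℂ))]
        refine Finset.sum_eq_zero fun ξ _ => ?_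
        rw [Char.classInner_indFun N (θ : N → ℂ) _ (Char.isClassFunction_irr ξ),
          ← Char.classInner_conj, hall, map_zero, zero_smul]
      have h1 := congrFun hz 1
      rw [Char.indFun_one, Pi.zero_apply, mul_eq_zero] at h1
      rcases h1 with h1 | h1
      · exact Subgroup.index_ne_zero_of_finite (Nat.cast_eq_zero.mp h1)
      · exact Char.irr_one_ne_zero θ h1
    have hreg : ∀ x : G, ¬ p ∣ orderOf x → x ∈ N := fun x hx =>
      CfsgLib.Fusion.mem_pResidual (Nat.coprime_comm.mp (hM.1.coprime_iff_not_dvd.mpr hx))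
    refine (mem_principalBlock_iff_constituent hM N hreg (χ := χ) (θ := cjN g θ) ?_).mp
      ((mem_principalBlock_iff_constituent hM N hreg hχ).mpr hθ)
    rwa [classInner_cjN]
  have hsum := sum_degree_sq_eq_zero (G := N) hM hdvd
    (IsBlockUnion.of_isPBlock (isPBlock_principalBlock (M := M) (G := N)))
  rw [Finset.sum_filter] at hsum
  rw [sum_eq_sum_fixedPoints (R := ResField M) P.isPGroup' _ fun u θ => ?_] at hsum
  swap
  · rw [show u • θ = cjN (u : G) θ from rfl]
    simp only [HeightZeroOrbit.charDegree_cjN]
    refine if_congr ⟨fun h => ?_, hB _ θ⟩ rfl rfl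
    have := hB (u : G)⁻¹ _ h
    rwa [cjN_cjN, inv_mul_cancel, cjN_one] at this
  -- fixed points of the Sylow subgroup are fixed by the group
  have hall : ∀ θ : IrrCharacter N, (∀ u : (P : Subgroup G), cjN (u : G) θ = θ) →
      ∀ g : G, cjN g θ = θ := by
    intro θ h g
    have hg : g ∈ N ⊔ (P : Subgroup G) := by
      rw [hN, CfsgLib.Fusion.pResidual_sup_sylow]; exact Subgroup.mem_top g
    obtain ⟨n, hn, u, hu, rfl⟩ := Subgroup.mem_sup_of_normal_left.mp hg
    rw [← cjN_cjN, h ⟨u, hu⟩]
    exact hcjN θ ⟨n, hn⟩
  let S : Submonoid (N →* ℂˣ) :=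
    { carrier := {f | (⟨_, Char.isIrrCharacter_lin f⟩ : IrrCharacter N) ∈ principalBlock M N ∧
        ∀ g : G, cjN g (⟨_, Char.isIrrCharacter_lin f⟩ : IrrCharacter N) = ⟨_, Char.isIrrCharacter_lin f⟩}
      one_mem' := by
        have e : (⟨_, Char.isIrrCharacter_lin (1 : N →* ℂˣ)⟩ : IrrCharacter N) = oneChar N :=
          Subtype.ext (funext fun n => by simp [oneChar])
        refine ⟨e ▸ one_mem_principalBlock, fun g => Subtype.ext (funext fun n => ?_)⟩
        rw [cjN_apply]
        simp
      mul_mem' := by
        rintro f₁ f₂ ⟨h1, g1⟩ ⟨h2, g2⟩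
        refine ⟨?_, fun g => Subtype.ext (funext fun n => ?_)⟩
        · have e1 := sameBlock_iff_centralRes.mp (show SameBlock M (oneChar N : N → ℂ) _ from h1)
          have e2 := sameBlock_iff_centralRes.mp (show SameBlock M (oneChar N : N → ℂ) _ from h2)
          refine (show SameBlock M (oneChar N : N → ℂ) _ ↔ _ from sameBlock_iff_centralRes).mpr fun x => ?_
          have hmem : ((f₁ x : ℂˣ) : ℂ) ∈ locRing M := integral_mem M
            (Char.isIntegral_of_pow_eq_one (n := Nat.card N) Nat.card_pos.ne' (by
              rw [← Units.val_pow_eq_pow_val, ← map_pow, pow_card_eq_one', map_one, Units.val_one]))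
          have he : ∀ ψ : IrrCharacter N, centralRes M (Char.linMul f₁ ψ) x =
              res M ⟨_, hmem⟩ * centralRes M ψ x := by
            intro ψ
            unfold centralRes
            rw [← map_mul]
            refine congrArg (res M) (Subtype.ext ?_)
            simp only [centralChar, Char.linMul, map_one, Units.val_one, one_mul, Subring.coe_mul]
            ring
          have p1 : (⟨_, Char.isIrrCharacter_lin (f₁ * f₂)⟩ : IrrCharacter N) =
              Char.linMul f₁ ⟨_, Char.isIrrCharacter_lin f₂⟩ :=
            Subtype.ext (funext fun n => by simp [Char.linMul])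
          have p2 : (⟨_, Char.isIrrCharacter_lin f₁⟩ : IrrCharacter N) =
              Char.linMul f₁ (oneChar N) :=
            Subtype.ext (funext fun n => by simp [Char.linMul, oneChar])
          rw [p1, he, ← e2 x, ← he, ← p2]
          exact e1 x
        · have a1 := congrFun (congrArg Subtype.val (g1 g)) n
          have a2 := congrFun (congrArg Subtype.val (g2 g)) n
          rw [cjN_apply] at a1 a2 ⊢
          simp only [MonoidHom.mul_apply, Units.val_mul] at a1 a2 ⊢
          rw [a1, a2] }
  have hfo : ∀ f : N →* ℂˣ, f ^ Nat.card N = 1 := fun f => MonoidHom.ext fun n => by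
    rw [MonoidHom.pow_apply, ← map_pow, pow_card_eq_one', map_one]; rfl
  let L : Subgroup (N →* ℂˣ) :=
    { S with
      inv_mem' := fun {f} hf => by
        have e : f⁻¹ = f ^ (Nat.card N - 1) := by
          refine MonoidHom.ext fun n => ?_
          rw [MonoidHom.inv_apply, MonoidHom.pow_apply]
          refine inv_eq_of_mul_eq_one_right ?_
          rw [← pow_succ', Nat.sub_add_cancel Nat.card_pos, ← MonoidHom.pow_apply, hfo,
            MonoidHom.one_apply]
        show f⁻¹ ∈ S
        rw [e]
        exact S.pow_mem hf _ }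
  let lin : (N →* ℂˣ) → IrrCharacter N := fun f => ⟨_, Char.isIrrCharacter_lin f⟩
  have hlinj : Function.Injective lin := fun f f' h => MonoidHom.ext fun n =>
    Units.ext (congrFun (congrArg Subtype.val h) n)
  have : Finite (N →* ℂˣ) := Finite.of_injective lin hlinj
  have := Fintype.ofFinite L
  have hd1 : ∀ f, charDegree (lin f : N → ℂ) = 1 := fun f => by simp [lin, charDegree]
  have hcount : (Fintype.card L : ResField M) = 0 := by
    rw [← hsum]
    have hset : (Finset.univ.filter fun θ : IrrCharacter N => ∀ u : (P : Subgroup G), u • θ = θ).filter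
        (fun θ => θ ∈ principalBlock M N ∧ ¬ p ∣ charDegree (θ : N → ℂ)) =
        Finset.univ.image fun f : L => lin f := by
      ext θ
      simp only [Finset.mem_filter, Finset.mem_univ, true_and, Finset.mem_image]
      constructor
      · rintro ⟨hP, hθ, hd⟩
        have hG := hall θ hP
        have h1 := hfix θ hθ hG hd
        obtain ⟨d, -, hd'⟩ := Char.isIrrCharacter_degree θ.2
        have hθ1 : (θ : N → ℂ) 1 = 1 := by
          simp only [charDegree, hd', Complex.natCast_re, Nat.floor_natCast] at h1
          rw [hd', h1, Nat.cast_one]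
        obtain ⟨f, hf⟩ := Char.exists_hom_of_linear (Char.isCharacter_irr θ) hθ1
        have e : lin f = θ := Subtype.ext hf.symm
        exact ⟨⟨f, show lin f ∈ principalBlock M N ∧ ∀ g : G, cjN g (lin f) = lin f from
          e.symm ▸ ⟨hθ, hG⟩⟩, e⟩
      · rintro ⟨f, rfl⟩
        exact ⟨fun u => f.2.2 (u : G), f.2.1, by rw [hd1]; exact hM.1.not_dvd_one⟩
    rw [← Finset.sum_subset (Finset.filter_subset
        (fun θ => θ ∈ principalBlock M N ∧ ¬ p ∣ charDegree (θ : N → ℂ)) _) (fun θ hθ hn => ?_), hset,
      Finset.sum_image (fun f _ f' _ h => Subtype.ext (hlinj h))]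
    · rw [Finset.sum_congr rfl (g := fun _ : L => (1 : ResField M)) fun f _ => by
        rw [if_pos f.2.1, hd1, Nat.cast_one, one_mul], Finset.sum_const, Finset.card_univ, nsmul_one]
    · split_ifs with h
      · simp only [Finset.mem_filter] at hθ hn
        have hd : p ∣ charDegree (θ : N → ℂ) := by_contra fun hd => hn ⟨hθ, h, hd⟩
        rw [(CharP.cast_eq_zero_iff (ResField M) p _).mpr hd, zero_mul]
      · rfl
  obtain ⟨f, hf⟩ := exists_prime_orderOf_dvd_card p ((CharP.cast_eq_zero_iff (ResField M) p _).mp hcount)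
  exact hord (f : N →* ℂˣ) (by rw [Subgroup.orderOf_coe, hf])

end CfsgLib.Block

namespace CfsgLib.Block

open Cfsg

universe v

variable {p : ℕ} {M : Ideal AlgInt} [M.IsMaximal] {G : Type v} [Group G] [Fintype G] [DecidableEq G]

/-- With a normal `p`-complement the members of the principal block of degree prime to `p` are linear. -/
theorem charDegree_eq_one_of_normalPComplement (hM : IsPModular p M)
    (h : HasNormalPComplement p G) {χ : IrrCharacter G} (hχ : χ ∈ principalBlock M G)
    (hd : ¬ p ∣ charDegree (χ : G → ℂ)) : charDegree (χ : G → ℂ) = 1 := by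
  classical
  have hpf : Fact p.Prime := ⟨hM.1⟩
  have hn := CfsgLib.Fusion.pResidual_normal (G := G) (p := p)
  have hN := CfsgLib.Fusion.hasNormalPComplement_iff_not_dvd.mp h
  set N := pResidual p G with hNdef
  have := Fintype.ofFinite N
  have := Fintype.ofFinite (IrrCharacter G)
  have := Fintype.ofFinite (IrrCharacter N)
  have := Fintype.ofFinite (ConjClasses N)
  obtain ⟨θ, hθ⟩ := exists_constituent (N := N) χ
  have hθB := (mem_principalBlock_iff_constituent hM N (fun g hg => CfsgLib.Fusion.mem_pResidual
    (Nat.coprime_comm.mp (hM.1.coprime_iff_not_dvd.mpr hg))) hθ).mp hχ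
  have hθ1 : θ = oneChar N := by
    by_contra hne
    refine omegaBar_regBar_ne_zero hM hθB ?_
    obtain ⟨R, hR, hRres⟩ := exists_regN_lift (p := p) (M := M) θ (oneChar N)
    have h0 : regInner p θ (oneChar N) = 0 := by
      rw [regInner, show regFun p (θ : N → ℂ) = (θ : N → ℂ) from funext fun n => by
        simp only [regFun]
        exact if_neg fun hdvd => hN (hdvd.trans (orderOf_dvd_natCard n)), Char.classInner_irr_ne hne]
    rw [h0, mul_zero, mul_eq_zero_iff_right (Char.irr_one_ne_zero θ)] at hR
    rw [omegaBar_regBar_eq_regN, ← hRres, show R = 0 from Subtype.ext hR, map_zero]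
  obtain ⟨c, hc0, hc⟩ := Char.isIrrCharacter_degree χ.2
  have hcd : charDegree (χ : G → ℂ) = c := by simp [charDegree, hc]
  obtain ⟨-, hdvd⟩ := Char.ratio_dvd_index N χ.2 θ.2 hθ hc (d := 1) (by rw [hθ1]; simp [oneChar])
  obtain ⟨a, ha⟩ := CfsgLib.Fusion.exists_index_pResidual (G := G) (p := p)
  rw [Nat.div_one] at hdvd
  obtain ⟨i, -, hi⟩ := (Nat.dvd_prime_pow hM.1).mp (ha ▸ hdvd)
  rw [hcd, hi] at hd ⊢
  rcases i with - | i
  · rw [pow_zero]
  · exact absurd (dvd_pow_self p (Nat.succ_ne_zero i)) hd

end CfsgLib.Block
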