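import Cfsg.Agent.Lib.Block.CycloNorm
import Cfsg.Agent.Lib.Block.Local
import Cfsg.Agent.Lib.Char.AutExtend

/-!
# The trace of hermitian forms on vectors of cyclotomic integers of prime power level

`ptr p k z` is `p - 1` times the average of the conjugates of `z` in level `p ^ (k + 1)`.  For an
integral positive semidefinite Gram matrix and a vector `c` of cyclotomic integers the trace of
`c * Z * conj c` is half a sum of values of the form at differences of integral vectors: it is an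
integer, at least `(p - 1) * m` if the non-zero values are at least `m`, and at least `2 (p - 1)`
for a non-zero number divisible by the maximal ideal.
-/

open Finset
open scoped ComplexConjugate

set_option linter.unusedSectionVars false

namespace CfsgLib.Block

open Cfsg

/-- The chosen root of unity of order `p ^ (k + 1)`. -/
noncomputable def pRoot (p k : ℕ) : ℂ :=
  Complex.exp (2 * Real.pi * Complex.I / ((p ^ (k + 1) : ℕ) : ℕ))

theorem isPrimitiveRoot_pRoot (p k : ℕ) [hp : Fact p.Prime] :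
    IsPrimitiveRoot (pRoot p k) (p ^ (k + 1)) :=
  Complex.isPrimitiveRoot_exp _ (pow_ne_zero _ hp.out.ne_zero)

open scoped Classical in
/-- An automorphism raising the roots of unity of level `p ^ (k + 1)` to the power `a`. -/
noncomputable def pAut (p k a : ℕ) : ℂ ≃+* ℂ :=
  if h : p ^ (k + 1) ≠ 0 ∧ a.Coprime (p ^ (k + 1)) then
    (Char.exists_aut_fix_pow one_ne_zero h.1 (Nat.coprime_one_left _) h.2).choose
  else RingEquiv.refl ℂ

variable {p : ℕ} [hp : Fact p.Prime] {k : ℕ}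

theorem pAut_root {a : ℕ} (ha : a.Coprime p) {x : ℂ} (hx : x ^ p ^ (k + 1) = 1) :
    pAut p k a x = x ^ a := by
  classical
  have h : p ^ (k + 1) ≠ 0 ∧ a.Coprime (p ^ (k + 1)) := ⟨pow_ne_zero _ hp.out.ne_zero, ha.pow_right _⟩
  obtain ⟨j, -, rfl⟩ := (isPrimitiveRoot_pRoot p k).eq_pow_of_pow_eq_one hx
  rw [map_pow, ← pow_mul (pRoot p k) j a, mul_comm j a, pow_mul]
  refine congrArg (· ^ j) ?_
  rw [pAut, dif_pos h]
  exact (Char.exists_aut_fix_pow one_ne_zero h.1 (Nat.coprime_one_left _) h.2).choose_spec.2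

/-- `p - 1` times the average of the conjugates. -/
noncomputable def ptr (p k : ℕ) (z : ℂ) : ℂ :=
  ((p ^ k : ℕ) : ℂ)⁻¹ * ∑ a ∈ (Finset.range (p ^ (k + 1))).filter (fun a => a.Coprime p), pAut p k a z

theorem ptr_add (z w : ℂ) : ptr p k (z + w) = ptr p k z + ptr p k w := by
  simp only [ptr, map_add, Finset.sum_add_distrib, mul_add]

theorem ptr_intCast_mul (a : ℤ) (z : ℂ) : ptr p k ((a : ℂ) * z) = (a : ℂ) * ptr p k z := by
  simp only [ptr, map_mul, map_intCast, ← Finset.mul_sum]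
  ring

theorem ptr_natCast_mul (a : ℕ) (z : ℂ) : ptr p k ((a : ℂ) * z) = (a : ℂ) * ptr p k z := by
  simpa using ptr_intCast_mul (p := p) (k := k) (a : ℤ) z

theorem ptr_zero : ptr p k 0 = 0 := by simp [ptr]

theorem ptr_sum {ι : Type*} (s : Finset ι) (f : ι → ℂ) :
    ptr p k (∑ i ∈ s, f i) = ∑ i ∈ s, ptr p k (f i) := by
  classical
  induction s using Finset.induction_on with
  | empty => simp [ptr_zero]
  | insert a s ha ih => rw [Finset.sum_insert ha, Finset.sum_insert ha, ptr_add, ih]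

theorem sum_coprime_pow {x : ℂ} :
    ∑ a ∈ (Finset.range (p ^ (k + 1))).filter (fun a => a.Coprime p), x ^ a =
      ∑ a ∈ Finset.range (p ^ (k + 1)), x ^ a - ∑ b ∈ Finset.range (p ^ k), (x ^ p) ^ b := by
  rw [eq_sub_iff_add_eq, ← Finset.sum_filter_add_sum_filter_not (Finset.range (p ^ (k + 1)))
    (fun a => a.Coprime p) (fun a => x ^ a)]
  congr 1
  refine Finset.sum_bij (fun b _ => p * b) (fun b hb => ?_)
    (fun b _ c _ h => mul_left_cancel₀ hp.out.ne_zero h) (fun a ha => ?_) (fun b _ => by rw [pow_mul])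
  · refine Finset.mem_filter.mpr ⟨Finset.mem_range.mpr ?_, ?_⟩
    · rw [pow_succ, mul_comm (p ^ k)]
      exact (Nat.mul_lt_mul_left hp.out.pos).mpr (Finset.mem_range.mp hb)
    · intro h
      rw [Nat.coprime_comm, hp.out.coprime_iff_not_dvd] at h
      exact h (dvd_mul_right p b)
  · obtain ⟨ha1, ha2⟩ := Finset.mem_filter.mp ha
    rw [Nat.coprime_comm, hp.out.coprime_iff_not_dvd, not_not] at ha2
    obtain ⟨b, rfl⟩ := ha2
    refine ⟨b, Finset.mem_range.mpr ?_, rfl⟩
    have := Finset.mem_range.mp ha1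
    rw [pow_succ, mul_comm (p ^ k)] at this
    exact Nat.lt_of_mul_lt_mul_left this

theorem ptr_root {x : ℂ} (hx : x ^ p ^ (k + 1) = 1) :
    ptr p k x = (p : ℂ) * (if x = 1 then 1 else 0) - if x ^ p = 1 then 1 else 0 := by
  have hgeom : ∀ {y : ℂ} {n : ℕ}, y ^ n = 1 →
      ∑ a ∈ Finset.range n, y ^ a = if y = 1 then (n : ℂ) else 0 := by
    intro y n hy
    split_ifs with h
    · simp [h]
    · rw [geom_sum_eq h, hy, sub_self, zero_div]
  have hpk : ((p ^ k : ℕ) : ℂ) ≠ 0 := Nat.cast_ne_zero.mpr (pow_ne_zero _ hp.out.ne_zero)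
  rw [ptr, Finset.sum_congr rfl fun a ha => pAut_root (Finset.mem_filter.mp ha).2 hx, sum_coprime_pow,
    hgeom hx, hgeom (y := x ^ p) (n := p ^ k) (by rw [← pow_mul, ← pow_succ']; exact hx)]
  push_cast at hpk ⊢
  split_ifs with h h' <;> field_simp <;> ring

theorem ptr_intCast (a : ℤ) : ptr p k (a : ℂ) = (a : ℂ) * ((p : ℂ) - 1) := by
  have h := ptr_intCast_mul (p := p) (k := k) a 1
  rwa [mul_one, ptr_root (one_pow _), if_pos rfl, if_pos (one_pow p), mul_one] at h

/-- Cyclotomic integers are integral combinations of the powers of the root. -/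
theorem exists_int_coeff {z : ℂ} (hz : z ∈ cycInt (p ^ (k + 1))) :
    ∃ a : Fin (p ^ k) × Fin p → ℤ, z = ∑ j, (a j : ℂ) * pRoot p k ^ ((j.1 : ℕ) + p ^ k * j.2) := by
  classical
  let S : ℂ → Prop := fun z =>
    ∃ a : Fin (p ^ k) × Fin p → ℤ, z = ∑ j, (a j : ℂ) * pRoot p k ^ ((j.1 : ℕ) + p ^ k * j.2)
  have hroot : ∀ {x : ℂ}, x ^ p ^ (k + 1) = 1 → S x := by
    intro x hx
    obtain ⟨i, hi, rfl⟩ := (isPrimitiveRoot_pRoot p k).eq_pow_of_pow_eq_one hx
    rw [pow_succ] at hi
    refine ⟨fun j => if j = (⟨i % p ^ k, Nat.mod_lt _ (pow_pos hp.out.pos k)⟩,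
      ⟨i / p ^ k, Nat.div_lt_of_lt_mul hi⟩) then 1 else 0, ?_⟩
    rw [Finset.sum_eq_single (⟨i % p ^ k, Nat.mod_lt _ (pow_pos hp.out.pos k)⟩,
      ⟨i / p ^ k, Nat.div_lt_of_lt_mul hi⟩) (fun j _ hj => by simp [hj]) (by simp)]
    simp [Nat.mod_add_div]
  have hadd : ∀ {x y : ℂ}, S x → S y → S (x + y) := by
    rintro x y ⟨a, rfl⟩ ⟨b, rfl⟩
    exact ⟨a + b, by simp only [Pi.add_apply, Int.cast_add, add_mul, Finset.sum_add_distrib]⟩
  have hsmul : ∀ (c : ℤ) {x : ℂ}, S x → S ((c : ℂ) * x) := by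
    rintro c x ⟨a, rfl⟩
    exact ⟨fun j => c * a j, by simp only [Int.cast_mul, Finset.mul_sum, mul_assoc]⟩
  show S z
  induction hz using Subring.closure_induction with
  | mem x hx => exact hroot hx
  | zero => exact ⟨0, by simp⟩
  | one => exact hroot (one_pow _)
  | add x y _ _ hx hy => exact hadd hx hy
  | neg x _ hx => simpa using hsmul (-1) hx
  | mul x y _ _ hx hy =>
    obtain ⟨a, rfl⟩ := hx
    obtain ⟨b, rfl⟩ := hy
    rw [Finset.sum_mul_sum]
    refine Finset.sum_induction _ S (fun _ _ => hadd) ⟨0, by simp⟩ fun i _ => ?_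
    refine Finset.sum_induction _ S (fun _ _ => hadd) ⟨0, by simp⟩ fun j _ => ?_
    rw [show (a i : ℂ) * pRoot p k ^ ((i.1 : ℕ) + p ^ k * i.2) *
        ((b j : ℂ) * pRoot p k ^ ((j.1 : ℕ) + p ^ k * j.2)) =
        ((a i * b j : ℤ) : ℂ) *
          pRoot p k ^ ((i.1 : ℕ) + p ^ k * i.2 + ((j.1 : ℕ) + p ^ k * j.2)) by push_cast; ring]
    exact hsmul _ (hroot (by
      rw [← pow_mul, mul_comm, pow_mul, (isPrimitiveRoot_pRoot p k).pow_eq_one, one_pow]))

/-! ### Sums over pairs -/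

theorem pairs_lower {ι : Type*} [Fintype ι] [DecidableEq ι] (D : ι → ι → ℤ) (h0 : ∀ i j, 0 ≤ D i j)
    (hsymm : ∀ i j, D i j = D j i) {a b : ι} (hab : a ≠ b) {c : ℤ}
    (hc : ∀ i, i ≠ a → i ≠ b → c ≤ D a i + D i b) :
    2 * D a b + 2 * ((Fintype.card ι : ℤ) - 2) * c ≤ ∑ i, ∑ j, D i j := by
  set T := (Finset.univ.erase a).erase b with hT
  have ha : a ∈ (Finset.univ : Finset ι) := Finset.mem_univ a
  have hb : b ∈ (Finset.univ : Finset ι).erase a :=
    Finset.mem_erase.mpr ⟨hab.symm, Finset.mem_univ b⟩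
  have hsplit : ∀ f : ι → ℤ, ∑ i, f i = f a + (f b + ∑ i ∈ T, f i) := fun f => by
    rw [hT, Finset.add_sum_erase _ _ hb, Finset.add_sum_erase _ _ ha]
  have hrow : ∀ i ∈ T, D i a + D i b ≤ ∑ j, D i j := fun i _ => by
    rw [hsplit]
    linarith [Finset.sum_nonneg fun j (_ : j ∈ T) => h0 i j]
  have hA : D a b + ∑ i ∈ T, D a i ≤ ∑ j, D a j := by rw [hsplit (D a)]; linarith [h0 a a]
  have hB : D b a + ∑ i ∈ T, D b i ≤ ∑ j, D b j := by rw [hsplit (D b)]; linarith [h0 b b]
  have hcard : (T.card : ℤ) = (Fintype.card ι : ℤ) - 2 := by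
    rw [hT, Finset.card_erase_of_mem hb, Finset.card_erase_of_mem ha, Finset.card_univ]
    have : 1 < Fintype.card ι := Fintype.one_lt_card_iff.mpr ⟨a, b, hab⟩
    omega
  have hsum : (T.card : ℤ) * c ≤ ∑ i ∈ T, (D a i + D i b) := by
    rw [← nsmul_eq_mul, ← Finset.sum_const]
    refine Finset.sum_le_sum fun i hi => ?_
    obtain ⟨h1, h2⟩ := Finset.mem_erase.mp hi
    exact hc i (Finset.mem_erase.mp h2).1 h1
  have hT' := Finset.sum_le_sum hrow
  have e2 : ∑ i ∈ T, D i a = ∑ i ∈ T, D a i := Finset.sum_congr rfl fun i _ => hsymm i a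
  have e3 : ∑ i ∈ T, D b i = ∑ i ∈ T, D i b := Finset.sum_congr rfl fun i _ => hsymm b i
  rw [Finset.sum_add_distrib] at hT' hsum
  rw [← hcard, hsplit fun i => ∑ j, D i j]
  linarith [hsymm a b]

/-- A non-constant family of integers with sum divisible by its number. -/
theorem pairs_sq_lower {ι : Type*} [Fintype ι] (v : ι → ℤ) {a₀ b₀ : ι} (hne : v a₀ ≠ v b₀)
    (hdvd : (Fintype.card ι : ℤ) ∣ ∑ i, v i) :
    4 * ((Fintype.card ι : ℤ) - 1) ≤ ∑ i, ∑ j, (v i - v j) ^ 2 := by
  classical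
  have hne' : (Finset.univ : Finset ι).Nonempty := ⟨a₀, Finset.mem_univ _⟩
  obtain ⟨a, -, ha⟩ := Finset.exists_max_image Finset.univ v hne'
  obtain ⟨b, -, hb⟩ := Finset.exists_min_image Finset.univ v hne'
  have hgap : v b + 2 ≤ v a := by
    by_contra hlt
    obtain ⟨t, ht⟩ := hdvd
    have h1 : ∀ i, v b ≤ v i ∧ v i ≤ v b + 1 := fun i =>
      ⟨hb i (Finset.mem_univ _), by have := ha i (Finset.mem_univ _); omega⟩
    have hlo : (Fintype.card ι : ℤ) * v b < ∑ i, v i := by
      rw [← Finset.card_univ, ← nsmul_eq_mul, ← Finset.sum_const]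
      refine Finset.sum_lt_sum (fun i _ => (h1 i).1) ?_
      rcases (h1 a₀).1.lt_or_eq with h | h
      · exact ⟨a₀, Finset.mem_univ _, h⟩
      · exact ⟨b₀, Finset.mem_univ _, lt_of_le_of_ne (h1 b₀).1 fun h' => hne (h.symm.trans h')⟩
    have hhi : ∑ i, v i < (Fintype.card ι : ℤ) * (v b + 1) := by
      rw [← Finset.card_univ, ← nsmul_eq_mul, ← Finset.sum_const]
      refine Finset.sum_lt_sum (fun i _ => (h1 i).2) ?_
      rcases (h1 a₀).2.lt_or_eq with h | h
      · exact ⟨a₀, Finset.mem_univ _, h⟩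
      · exact ⟨b₀, Finset.mem_univ _, lt_of_le_of_ne (h1 b₀).2 fun h' => hne (h.trans h'.symm)⟩
    rw [ht] at hlo hhi
    have := lt_of_mul_lt_mul_left hlo (Int.natCast_nonneg _)
    have := lt_of_mul_lt_mul_left hhi (Int.natCast_nonneg _)
    omega
  have h := pairs_lower (fun i j => (v i - v j) ^ 2) (fun i j => sq_nonneg _) (fun i j => by ring)
    (a := a) (b := b) (fun e => by rw [e] at hgap; omega) (c := 2) (fun i _ _ => by
      nlinarith [sq_nonneg (v a + v b - 2 * v i), mul_le_mul hgap hgap])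
  nlinarith [h, mul_self_le_mul_self (by norm_num : (0 : ℤ) ≤ 2) (by omega : 2 ≤ v a - v b)]

/-! ### Gram matrices -/

section Gram

variable {ι Y : Type*} [Fintype ι] [Fintype Y] (Z : ι → ι → ℤ)

/-- The integral form. -/
def hform (v : ι → ℤ) : ℤ := ∑ η, ∑ ζ, v η * Z η ζ * v ζ

/-- The integral bilinear form. -/
def bform (v w : ι → ℤ) : ℤ := ∑ η, ∑ ζ, v η * Z η ζ * w ζ

/-- The hermitian form. -/
def gH (c c' : ι → ℂ) : ℂ := ∑ η, ∑ ζ, c η * conj (c' ζ) * (Z η ζ : ℂ)

theorem bform_comm (hZ : ∀ η ζ, Z η ζ = Z ζ η) (v w : ι → ℤ) : bform Z v w = bform Z w v := by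
  rw [bform, bform, Finset.sum_comm]
  exact Finset.sum_congr rfl fun η _ => Finset.sum_congr rfl fun ζ _ => by rw [hZ ζ η]; ring

theorem hform_sub (hZ : ∀ η ζ, Z η ζ = Z ζ η) (v w : ι → ℤ) :
    hform Z (v - w) = hform Z v + hform Z w - 2 * bform Z v w := by
  have h : hform Z (v - w) = bform Z v v - bform Z v w - bform Z w v + bform Z w w := by
    simp only [hform, bform, Pi.sub_apply, ← Finset.sum_sub_distrib, ← Finset.sum_add_distrib]
    exact Finset.sum_congr rfl fun η _ => Finset.sum_congr rfl fun ζ _ => by ring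
  rw [h, bform_comm Z hZ w v]
  simp only [hform, bform]
  ring

variable {Z} (F : ι → Y → ℂ) (hF : ∀ η ζ, (Z η ζ : ℂ) = ∑ y, F η y * conj (F ζ y))

include hF in
theorem gH_eq (c c' : ι → ℂ) :
    gH Z c c' = ∑ y, (∑ η, c η * F η y) * conj (∑ η, c' η * F η y) := by
  symm
  rw [Finset.sum_congr rfl fun y _ => by rw [map_sum, Finset.sum_mul_sum], Finset.sum_comm, gH]
  refine Finset.sum_congr rfl fun η _ => ?_
  rw [Finset.sum_comm]
  refine Finset.sum_congr rfl fun ζ _ => ?_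
  rw [hF, Finset.mul_sum]
  exact Finset.sum_congr rfl fun y _ => by rw [map_mul (starRingEnd ℂ)]; ring

include hF in
theorem gram_symm (η ζ : ι) : Z η ζ = Z ζ η := by
  have h : ((Z η ζ : ℤ) : ℂ) = ((Z ζ η : ℤ) : ℂ) := by
    have h1 := congrArg conj (hF ζ η)
    rw [map_intCast] at h1
    rw [hF, h1, map_sum]
    exact Finset.sum_congr rfl fun y _ => by rw [map_mul, Complex.conj_conj, mul_comm]
  exact_mod_cast h

theorem sum_mul_conj_eq_ofReal (f : Y → ℂ) :
    ∑ y, f y * conj (f y) = ((∑ y, Complex.normSq (f y) : ℝ) : ℂ) := by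
  rw [Complex.ofReal_sum]
  exact Finset.sum_congr rfl fun y _ => Complex.mul_conj _

include hF in
theorem hform_nonneg (v : ι → ℤ) : 0 ≤ hform Z v := by
  have h : ((hform Z v : ℤ) : ℂ) = gH Z (fun η => (v η : ℂ)) (fun η => (v η : ℂ)) := by
    simp only [hform, gH, Int.cast_sum, Int.cast_mul, map_intCast]
    exact Finset.sum_congr rfl fun η _ => Finset.sum_congr rfl fun ζ _ => by ring
  rw [gH_eq F hF, sum_mul_conj_eq_ofReal] at h
  have h' := congrArg Complex.re h
  rw [Complex.intCast_re, Complex.ofReal_re] at h'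
  have : (0 : ℝ) ≤ (hform Z v : ℝ) := h' ▸ Finset.sum_nonneg fun y _ => Complex.normSq_nonneg _
  exact_mod_cast this

include hF in
theorem eq_zero_of_hform {v : ι → ℤ} (h0 : hform Z v = 0) (y : Y) : ∑ η, (v η : ℂ) * F η y = 0 := by
  have h : ((hform Z v : ℤ) : ℂ) = gH Z (fun η => (v η : ℂ)) (fun η => (v η : ℂ)) := by
    simp only [hform, gH, Int.cast_sum, Int.cast_mul, map_intCast]
    exact Finset.sum_congr rfl fun η _ => Finset.sum_congr rfl fun ζ _ => by ring
  rw [gH_eq F hF, sum_mul_conj_eq_ofReal, h0, Int.cast_zero, eq_comm, Complex.ofReal_eq_zero,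
    Finset.sum_eq_zero_iff_of_nonneg fun y _ => Complex.normSq_nonneg _] at h
  exact Complex.normSq_eq_zero.mp (h y (Finset.mem_univ y))

include hF in
theorem gH_eq_zero_of_self {c : ι → ℂ} (h : gH Z c c = 0) (c' : ι → ℂ) : gH Z c c' = 0 := by
  rw [gH_eq F hF, sum_mul_conj_eq_ofReal, Complex.ofReal_eq_zero,
    Finset.sum_eq_zero_iff_of_nonneg fun y _ => Complex.normSq_nonneg _] at h
  rw [gH_eq F hF]
  exact Finset.sum_eq_zero fun y hy => by rw [Complex.normSq_eq_zero.mp (h y hy), zero_mul]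

include hF in
/-- The trace of the form at a vector of cyclotomic integers. -/
theorem exists_trace_eq {c : ι → ℂ} {v : Fin (p ^ k) × Fin p → ι → ℤ}
    (hv : ∀ η, c η = ∑ j, (v j η : ℂ) * pRoot p k ^ ((j.1 : ℕ) + p ^ k * j.2)) :
    ∃ T : ℤ, ptr p k (gH Z c c) = T ∧
      2 * T = ∑ r, ∑ i, ∑ j, hform Z (v (r, i) - v (r, j)) := by
  classical
  let e : Fin (p ^ k) × Fin p → ℕ := fun j => (j.1 : ℕ) + p ^ k * j.2
  have hord : p ^ (k + 1) = p ^ k * p := pow_succ p k
  have hζ := (isPrimitiveRoot_pRoot p k).pow_eq_one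
  have helt : ∀ j, e j < p ^ k * p := fun j => by
    have h1 := j.1.2
    have h2 : p ^ k * ((j.2 : ℕ) + 1) ≤ p ^ k * p := Nat.mul_le_mul_left (p ^ k) j.2.2
    simp only [e]
    rw [mul_add, mul_one] at h2
    omega
  have hne : pRoot p k ≠ 0 := (isPrimitiveRoot_pRoot p k).ne_zero (pow_ne_zero _ hp.out.ne_zero)
  have hconj : ∀ n : ℕ, conj (pRoot p k ^ n) = (pRoot p k ^ n)⁻¹ := fun n =>
    Char.conj_eq_inv_of_pow_eq_one (pow_ne_zero (k + 1) hp.out.ne_zero)
      (by rw [← pow_mul, mul_comm, pow_mul, hζ, one_pow])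
  have hX : gH Z c c = ∑ i, ∑ j, (bform Z (v i) (v j) : ℂ) * (pRoot p k ^ e i / pRoot p k ^ e j) := by
    rw [gH]
    simp only [hv, map_sum, map_mul, map_intCast, hconj, Finset.sum_mul_sum]
    simp only [Finset.sum_mul]
    rw [Finset.sum_congr rfl fun η _ => Finset.sum_comm, Finset.sum_comm]
    refine Finset.sum_congr rfl fun i _ => ?_
    rw [Finset.sum_congr rfl fun η _ => Finset.sum_comm, Finset.sum_comm]
    refine Finset.sum_congr rfl fun j _ => ?_
    simp only [bform, Int.cast_sum, Int.cast_mul, Finset.sum_mul]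
    exact Finset.sum_congr rfl fun η _ => Finset.sum_congr rfl fun ζ _ => by rw [div_eq_mul_inv]; ring
  have htr : ∀ i j, ptr p k (pRoot p k ^ e i / pRoot p k ^ e j) =
      (((p : ℤ) * (if i = j then 1 else 0) - if i.1 = j.1 then 1 else 0 : ℤ) : ℂ) := by
    intro i j
    rw [ptr_root (by rw [div_pow, ← pow_mul, ← pow_mul, mul_comm (e i), mul_comm (e j), pow_mul, pow_mul,
      hζ, one_pow, one_pow, div_one])]
    have h1 : pRoot p k ^ e i / pRoot p k ^ e j = 1 ↔ i = j := by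
      rw [div_eq_one_iff_eq (pow_ne_zero _ hne)]
      refine ⟨fun h => ?_, fun h => h ▸ rfl⟩
      have h' := (isPrimitiveRoot_pRoot p k).pow_inj (hord ▸ helt i) (hord ▸ helt j) h
      simp only [e] at h'
      have h3 : (i.1 : ℕ) = j.1 := by
        have := congrArg (· % p ^ k) h'
        simpa [Nat.add_mul_mod_self_left, Nat.mod_eq_of_lt i.1.2, Nat.mod_eq_of_lt j.1.2] using this
      have h4 : (i.2 : ℕ) = j.2 := mul_left_cancel₀ (pow_ne_zero k hp.out.ne_zero) (by omega)
      exact Prod.ext (Fin.ext h3) (Fin.ext h4)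
    have h2 : (pRoot p k ^ e i / pRoot p k ^ e j) ^ p = 1 ↔ i.1 = j.1 := by
      rw [div_pow, div_eq_one_iff_eq (pow_ne_zero _ (pow_ne_zero _ hne)), ← pow_mul, ← pow_mul]
      have hred : ∀ l : Fin (p ^ k) × Fin p, pRoot p k ^ (e l * p) = pRoot p k ^ ((l.1 : ℕ) * p) := fun l => by
        simp only [e]
        rw [add_mul, pow_add, show p ^ k * (l.2 : ℕ) * p = p ^ (k + 1) * l.2 by rw [hord]; ring, pow_mul _ (p ^ (k + 1)),
          hζ, one_pow, mul_one]
      rw [hred, hred]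
      refine ⟨fun h => Fin.ext ?_, fun h => h ▸ rfl⟩
      have hlt : ∀ l : Fin (p ^ k), (l : ℕ) * p < p ^ (k + 1) := fun l => by
        rw [hord]; exact (Nat.mul_lt_mul_right hp.out.pos).mpr l.2
      exact Nat.eq_of_mul_eq_mul_right hp.out.pos ((isPrimitiveRoot_pRoot p k).pow_inj (hlt _) (hlt _) h)
    simp only [h1, h2]
    push_cast
    rfl
  refine ⟨∑ r, ((p : ℤ) * ∑ i, hform Z (v (r, i)) - ∑ i, ∑ j, bform Z (v (r, i)) (v (r, j))), ?_, ?_⟩
  · rw [hX, ptr_sum, Finset.sum_congr rfl fun i _ => ptr_sum _ _,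
      Finset.sum_congr rfl fun i _ => Finset.sum_congr rfl fun j _ => by
        rw [ptr_intCast_mul, htr, ← Int.cast_mul]]
    rw [← Finset.sum_congr rfl fun i _ => Int.cast_sum _ _, ← Int.cast_sum]
    congr 1
    rw [Fintype.sum_prod_type]
    refine Finset.sum_congr rfl fun r _ => ?_
    rw [Finset.mul_sum, ← Finset.sum_sub_distrib]
    refine Finset.sum_congr rfl fun i _ => ?_
    simp only [mul_sub, Finset.sum_sub_distrib]
    congr 1
    · rw [Finset.sum_eq_single (r, i) (fun j _ hj => by simp [Ne.symm hj]) (by simp), if_pos rfl]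
      simp only [hform, bform]
      ring
    · rw [Fintype.sum_prod_type, Finset.sum_eq_single r (fun l _ hl => Finset.sum_eq_zero fun j _ => by
        rw [if_neg (Ne.symm hl), mul_zero]) (by simp)]
      simp
  · rw [Finset.mul_sum]
    refine Finset.sum_congr rfl fun r _ => ?_
    simp only [hform_sub Z (gram_symm F hF), Finset.sum_sub_distrib, Finset.sum_add_distrib, Finset.sum_const,
      Finset.card_univ, Fintype.card_fin, nsmul_eq_mul, ← Finset.mul_sum]
    ring

include hF in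
/-- The form vanishes if it vanishes on all differences inside the blocks. -/
theorem gH_eq_zero_of_diff {c : ι → ℂ} {v : Fin (p ^ k) × Fin p → ι → ℤ}
    (hv : ∀ η, c η = ∑ j, (v j η : ℂ) * pRoot p k ^ ((j.1 : ℕ) + p ^ k * j.2))
    (h : ∀ r i j, hform Z (v (r, i) - v (r, j)) = 0) : gH Z c c = 0 := by
  classical
  have hgeom : ∑ i : Fin p, (pRoot p k ^ p ^ k) ^ (i : ℕ) = 0 := by
    rw [Fin.sum_univ_eq_sum_range fun i => (pRoot p k ^ p ^ k) ^ i]
    exact ((isPrimitiveRoot_pRoot p k).pow (pow_pos hp.out.pos _) (pow_succ p k)).geom_sum_eq_zero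
      hp.out.one_lt
  rw [gH_eq F hF]
  refine Finset.sum_eq_zero fun y _ => ?_
  suffices h0 : ∑ η, c η * F η y = 0 by rw [h0, zero_mul]
  simp only [hv, Finset.sum_mul]
  rw [Finset.sum_comm, Fintype.sum_prod_type]
  refine Finset.sum_eq_zero fun r _ => ?_
  have hconst : ∀ i, ∑ η, (v (r, i) η : ℂ) * F η y = ∑ η, (v (r, ⟨0, hp.out.pos⟩) η : ℂ) * F η y := fun i => by
    rw [← sub_eq_zero, ← Finset.sum_sub_distrib, ← eq_zero_of_hform F hF (h r i ⟨0, hp.out.pos⟩) y]
    exact Finset.sum_congr rfl fun η _ => by rw [Pi.sub_apply, Int.cast_sub]; ring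
  calc ∑ i : Fin p, ∑ η, (v (r, i) η : ℂ) * pRoot p k ^ ((r : ℕ) + p ^ k * i) * F η y
      = ∑ i : Fin p, pRoot p k ^ (r : ℕ) * (pRoot p k ^ p ^ k) ^ (i : ℕ) *
          ∑ η, (v (r, i) η : ℂ) * F η y := by
        refine Finset.sum_congr rfl fun i _ => ?_
        rw [Finset.mul_sum]
        exact Finset.sum_congr rfl fun η _ => by rw [pow_add, pow_mul]; ring
    _ = 0 := by simp only [hconst, ← Finset.sum_mul, ← Finset.mul_sum, hgeom, mul_zero, zero_mul]

include hF in
/-- A lower bound for the trace at a non-zero value. -/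
theorem trace_ge {c : ι → ℂ} {v : Fin (p ^ k) × Fin p → ι → ℤ}
    (hv : ∀ η, c η = ∑ j, (v j η : ℂ) * pRoot p k ^ ((j.1 : ℕ) + p ^ k * j.2)) {T : ℤ}
    (hT : ptr p k (gH Z c c) = T) (hne : gH Z c c ≠ 0) {m : ℤ}
    (hmin : ∀ r i j, hform Z (v (r, i) - v (r, j)) ≠ 0 → m ≤ hform Z (v (r, i) - v (r, j))) :
    ((p : ℤ) - 1) * m ≤ T := by
  classical
  obtain ⟨T', hT', h2⟩ := exists_trace_eq F hF hv
  obtain rfl : T = T' := Int.cast_inj.mp (hT.symm.trans hT')
  obtain ⟨r, a, b, hab⟩ : ∃ r a b, hform Z (v (r, a) - v (r, b)) ≠ 0 := by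
    by_contra h
    push Not at h
    exact hne (gH_eq_zero_of_diff F hF hv h)
  have hne' : a ≠ b := fun e => hab (by subst e; simp [hform])
  have hsymm : ∀ i j, hform Z (v (r, i) - v (r, j)) = hform Z (v (r, j) - v (r, i)) := fun i j => by
    simp only [hform, Pi.sub_apply]
    exact Finset.sum_congr rfl fun η _ => Finset.sum_congr rfl fun ζ _ => by ring
  have hh := pairs_lower (fun i j => hform Z (v (r, i) - v (r, j))) (fun i j => hform_nonneg F hF _) hsymm
    hne' (c := m) fun i _ _ => by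
      by_cases h1 : hform Z (v (r, a) - v (r, i)) = 0
      · rw [h1, zero_add]
        refine hmin r i b fun h3 => hab ?_
        have hz : ∀ y, ∑ η, ((v (r, a) - v (r, b)) η : ℂ) * F η y = 0 := fun y => by
          have e1 := eq_zero_of_hform F hF h1 y
          have e2 := eq_zero_of_hform F hF h3 y
          simp only [Pi.sub_apply, Int.cast_sub, sub_mul, Finset.sum_sub_distrib] at e1 e2 ⊢
          linear_combination e1 + e2
        have : ((hform Z (v (r, a) - v (r, b)) : ℤ) : ℂ) = 0 := by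
          have e : ((hform Z (v (r, a) - v (r, b)) : ℤ) : ℂ) =
              gH Z (fun η => ((v (r, a) - v (r, b)) η : ℂ)) (fun η => ((v (r, a) - v (r, b)) η : ℂ)) := by
            simp only [hform, gH, Int.cast_sum, Int.cast_mul, map_intCast]
            exact Finset.sum_congr rfl fun η _ => Finset.sum_congr rfl fun ζ _ => by ring
          rw [e, gH_eq F hF]
          exact Finset.sum_eq_zero fun y _ => by rw [hz y, zero_mul]
        exact_mod_cast this
      · exact (hmin r a i h1).trans (le_add_of_nonneg_right (hform_nonneg F hF _))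
  rw [Fintype.card_fin] at hh
  have hle := Finset.single_le_sum (f := fun r => ∑ i, ∑ j, hform Z (v (r, i) - v (r, j)))
    (fun r _ => Finset.sum_nonneg fun i _ => Finset.sum_nonneg fun j _ => hform_nonneg F hF _) (Finset.mem_univ r)
  rw [← h2] at hle
  have := hmin r a b hab
  nlinarith [hh, hle, this]

end Gram

variable {M : Ideal AlgInt} [M.IsMaximal]

/-- The squared absolute value of a non-zero cyclotomic integer: trace at least `p - 1`, and twice
that if it is divisible by the maximal ideal. -/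
theorem exists_ptr_normSq (hM : IsPModular p M) {z : ℂ} (hz : z ∈ cycInt (p ^ (k + 1))) :
    ∃ T : ℤ, ptr p k (z * conj z) = T ∧ 0 ≤ T ∧ (z ≠ 0 → (p : ℤ) - 1 ≤ T) ∧
      (z ≠ 0 → ∀ L : locRing M, (L : ℂ) = z → res M L = 0 → 2 * ((p : ℤ) - 1) ≤ T) := by
  classical
  obtain ⟨a, ha⟩ := exists_int_coeff hz
  let Z : Unit → Unit → ℤ := fun _ _ => 1
  let F : Unit → Unit → ℂ := fun _ _ => 1
  have hF : ∀ η ζ, (Z η ζ : ℂ) = ∑ y, F η y * conj (F ζ y) := fun η ζ => by simp [Z, F]
  have hg : gH Z (fun _ => z) (fun _ => z) = z * conj z := by simp [gH, Z]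
  have hh : ∀ v : Unit → ℤ, hform Z v = v () ^ 2 := fun v => by simp [hform, Z, sq]
  have hv : ∀ _η : Unit, z = ∑ j, ((fun j (_ : Unit) => a j) j () : ℂ) *
      pRoot p k ^ ((j.1 : ℕ) + p ^ k * j.2) := fun _ => ha
  obtain ⟨T, hT, h2⟩ := exists_trace_eq F hF hv
  have hh2 : ∀ r i j, hform Z ((fun j (_ : Unit) => a j) (r, i) - (fun j (_ : Unit) => a j) (r, j)) =
      (a (r, i) - a (r, j)) ^ 2 := fun r i j => hh _
  simp only [hh2] at h2
  have hnn : ∀ r, 0 ≤ ∑ i : Fin p, ∑ j : Fin p, (a (r, i) - a (r, j)) ^ 2 := fun r =>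
    Finset.sum_nonneg fun i _ => Finset.sum_nonneg fun j _ => sq_nonneg _
  have hone : z ≠ 0 → (p : ℤ) - 1 ≤ T := fun hz0 => by
    have := trace_ge F hF hv hT (m := 1) (by rw [hg]; simpa [Complex.mul_conj] using hz0)
      (fun r i j h => lt_of_le_of_ne (hform_nonneg F hF _) (Ne.symm h))
    linarith
  rw [hg] at hT
  have h0 : 0 ≤ 2 * T := h2 ▸ Finset.sum_nonneg fun r _ => hnn r
  refine ⟨T, hT, by omega, hone, fun hz0 L hL hres => ?_⟩
  have := charP_resField hM
  obtain ⟨r, i, j, hij⟩ : ∃ r i j, a (r, i) ≠ a (r, j) := by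
    by_contra h
    push Not at h
    refine hz0 ?_
    have := gH_eq_zero_of_diff F hF hv fun r i j => by
      rw [hh2, h r i j, sub_self, zero_pow two_ne_zero]
    rw [hg] at this
    exact (mul_eq_zero.mp this).elim id fun h => (map_eq_zero (starRingEnd ℂ)).mp h
  have hblock : ∀ r, (∃ i j, a (r, i) ≠ a (r, j)) →
      2 * ((p : ℤ) - 1) ≤ ∑ i : Fin p, ∑ j : Fin p, (a (r, i) - a (r, j)) ^ 2 := by
    rintro r ⟨i, j, hij⟩
    have h := pairs_lower (fun i j => (a (r, i) - a (r, j)) ^ 2) (fun i j => sq_nonneg _)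
      (fun i j => by ring) (a := i) (b := j) (fun e => hij (e ▸ rfl)) (c := 1) (fun l _ _ => by
        by_cases h1 : a (r, i) - a (r, l) = 0
        · have : a (r, l) - a (r, j) ≠ 0 := fun h2 => hij (by omega)
          nlinarith [sq_pos_of_ne_zero this, sq_nonneg (a (r, i) - a (r, l))]
        · nlinarith [sq_pos_of_ne_zero h1, sq_nonneg (a (r, l) - a (r, j))])
    rw [Fintype.card_fin] at h
    nlinarith [h, sq_pos_of_ne_zero (sub_ne_zero.mpr hij)]
  by_cases hr' : ∃ r', r' ≠ r ∧ ∃ i j, a (r', i) ≠ a (r', j)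
  · obtain ⟨r', hne, hr'⟩ := hr'
    have h5 := Finset.sum_le_sum_of_subset_of_nonneg (f := fun r => ∑ i : Fin p, ∑ j : Fin p,
      (a (r, i) - a (r, j)) ^ 2) (Finset.subset_univ {r', r}) (fun r _ _ => hnn r)
    rw [Finset.sum_pair hne] at h5
    linarith [hblock r' hr', hblock r ⟨i, j, hij⟩]
  push Not at hr'
  -- all blocks but one are constant, so the sum of the coefficients in that block is divisible by `p`
  have hdvd : (p : ℤ) ∣ ∑ l : Fin p, a (r, l) := by
    have hroot : ∀ n : ℕ, ∃ R : locRing M, (R : ℂ) = pRoot p k ^ n ∧ res M R = 1 := fun n => by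
      have hl : (pRoot p k ^ n) ^ p ^ (k + 1) = 1 := by
        rw [← pow_mul, mul_comm, pow_mul, (isPrimitiveRoot_pRoot p k).pow_eq_one, one_pow]
      have hmem' : pRoot p k ^ n ∈ locRing M :=
        integral_mem M (Char.isIntegral_of_pow_eq_one (pow_ne_zero _ hp.out.ne_zero) hl)
      refine ⟨⟨_, hmem'⟩, rfl, sub_eq_zero.mp (eq_zero_of_pow_eq_zero (n := p ^ (k + 1)) ?_)⟩
      rw [sub_pow_char_pow, one_pow, ← map_pow,
        show (⟨_, hmem'⟩ : locRing M) ^ (p ^ (k + 1)) = 1 from Subtype.ext (by simpa using hl), map_one,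
        sub_self]
    choose R hR hR1 using hroot
    have hL' : L = ∑ l : Fin (p ^ k) × Fin p, (a l : locRing M) * R ((l.1 : ℕ) + p ^ k * l.2) :=
      Subtype.ext (by rw [hL, ha]; simp [AddSubmonoidClass.coe_finsetSum, hR])
    rw [hL', map_sum] at hres
    simp only [map_mul, map_intCast, hR1, mul_one, ← Int.cast_sum] at hres
    rw [Fintype.sum_prod_type, CharP.intCast_eq_zero_iff (ResField M) p,
      ← Finset.add_sum_erase _ _ (Finset.mem_univ r)] at hres
    refine (dvd_add_left (Finset.dvd_sum fun r' hr'' => ?_)).mp hres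
    rw [Finset.sum_congr rfl fun l _ => hr' r' (Finset.mem_erase.mp hr'').1 l ⟨0, hp.out.pos⟩,
      Finset.sum_const, Finset.card_univ, Fintype.card_fin, nsmul_eq_mul]
    exact dvd_mul_right _ _
  have h4 := pairs_sq_lower (fun l : Fin p => a (r, l)) hij (by rwa [Fintype.card_fin])
  rw [Fintype.card_fin] at h4
  have h5 := Finset.single_le_sum (fun r _ => hnn r) (Finset.mem_univ r)
  linarith [h4, h5, h2]

end CfsgLib.Block
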