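import Cfsg.Agent.Lib.Block.Contrib
import Cfsg.Agent.Lib.Block.CycloTrace

/-!
# The lattice of a major subsection and the number of characters of a block

For a major subsection `(x, b)` either `k(B) ≤ p ^ d` or `2 k(B) ≤ l(b) p ^ d`
(`major_card_le_or`): if the scaled Cartan form of `b` has no vector of norm one the trace of every
diagonal contribution is twice the least possible one; otherwise such a vector splits off, and its
orthogonal complement has none, the form being of rank one modulo the maximal ideal.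
-/

open Finset MonoidAlgebra
open scoped ComplexConjugate

set_option linter.unusedSectionVars false

namespace CfsgLib.Block

open Cfsg

open scoped Pair

universe u

variable {p : ℕ} [hp : Fact p.Prime] {M : Ideal AlgInt} [M.IsMaximal] {G : Type u} [Group G] [Fintype G]
  [DecidableEq G] [Fintype (IrrCharacter G)] {C : Subgroup G} [Fintype (IrrCharacter C)]

open scoped Classical in
/-- The data of the lattice of a subsection. -/
theorem exists_lattice_data (hM : IsPModular p M) {x : G} {k : ℕ} (hk : orderOf x = p ^ k)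
    (hC : ∀ t : G, t ∈ C ↔ Commute t x) {b : Set (IrrCharacter C)} {B : Set (IrrCharacter G)}
    (hb : IsInducedBlock M C b B) :
    ∃ (Z : {η // η ∈ b} → {η // η ∈ b} → ℤ) (F : {η // η ∈ b} → C → ℂ)
      (c : IrrCharacter G → {η // η ∈ b} → ℂ) (α : ResField M) (w : {η // η ∈ b} → ResField M),
      (∀ η ζ, (Z η ζ : ℂ) = ∑ y, F η y * conj (F ζ y)) ∧
      (∀ η ζ, (Z η ζ : ResField M) = α * w η * w ζ) ∧
      (∀ χ η, c χ η ∈ cycInt (p ^ (k + 1))) ∧
      (∀ χ ψ, secContrib p x C b χ ψ = gH Z (c χ) (c ψ)) ∧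
      (∀ χ, ∃ L : {η // η ∈ b} → locRing M, (∀ η, (L η : ℂ) = c χ η) ∧
        ∑ η, res M (L η) * w η = secRes p M hM b χ) ∧
      (∀ η ζ, (Z η ζ : ℂ) = (p : ℂ) ^ blockDefect p b * regInner p η.1 ζ.1) ∧
      ∀ η ζ, ∑ χ, gH Z (c χ) (Pi.single η (1 : ℂ)) * conj (gH Z (c χ) (Pi.single ζ (1 : ℂ))) =
        (p : ℂ) ^ blockDefect p b * (Z ζ η : ℂ) := by
  have := charP_resField hM
  have hC' : ∀ t : C, Commute (t : G) x := fun t => (hC t).mp t.2
  have hxp : ∃ j : ℕ, orderOf x = p ^ j := ⟨k, hk⟩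
  have hbb := hb.1
  obtain ⟨lam, hlam, hsec⟩ := exists_secCoeff hk hC
  set d := blockDefect p b with hd
  obtain ⟨η₀, hη₀, h00⟩ := exists_height_zero hM hbb
  choose Z hZ hZr using fun η ζ : {η // η ∈ b} =>
    exists_scaled_regInner hM (le_degVal_add_blockDefect (p := p) η.2) ζ.1
  set w : {η // η ∈ b} → ResField M := fun η => res M (degW p M hM C d η.1) with hw
  set r : ℝ := Real.sqrt ((p : ℝ) ^ d * (Nat.card C : ℝ)⁻¹) with hr
  refine ⟨Z, fun η y => if p ∣ orderOf y then 0 else (r : ℂ) * (η.1 : C → ℂ) y,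
    fun χ η => (resMult χ η.1 : ℂ) * lam η.1, regN p M η₀ η₀ / res M (degW p M hM C d η₀), w,
    fun η ζ => ?_, fun η ζ => ?_, fun χ η => ?_, fun χ ψ => ?_, fun χ => ?_, fun η ζ => (hZ η ζ).symm,
    fun η ζ => ?_⟩
  · rw [← hZ η ζ]
    have hrr : (r : ℂ) * (r : ℂ) = (p : ℂ) ^ d * (Nat.card C : ℂ)⁻¹ := by
      rw [← Complex.ofReal_mul, hr, Real.mul_self_sqrt (by positivity)]
      push_cast
      rfl
    have h1 := card_mul_regInner p η.1 ζ.1
    have hC0 : (Nat.card C : ℂ) ≠ 0 := Nat.cast_ne_zero.mpr Nat.card_pos.ne'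
    rw [← eq_inv_mul_iff_mul_eq₀ hC0] at h1
    rw [h1, ← mul_assoc, ← hrr, Finset.mul_sum, Finset.sum_filter]
    refine Finset.sum_congr rfl fun y _ => ?_
    by_cases hy : p ∣ orderOf y
    · simp [hy]
    · simp only [hy, not_false_eq_true, if_true, if_false, map_mul, Complex.conj_ofReal, Char.irr_inv]
      ring
  · have hw0 : res M (degW p M hM C d η₀) ≠ 0 := res_degW_ne_zero hM hη₀ h00
    have hsymm : (Z ⟨η₀, hη₀⟩ ζ : ℂ) = (Z ζ ⟨η₀, hη₀⟩ : ℂ) := by rw [← hZ, ← hZ, regInner_comm hM]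
    have h1 : res M (degW p M hM C d η₀) * regN p M η₀ ζ.1 = w ζ * regN p M η₀ η₀ := by
      have e1 := hZr ⟨η₀, hη₀⟩ ζ
      have e2 := hZr ζ ⟨η₀, hη₀⟩
      rw [regN_congr hbb ζ.2 hη₀ η₀] at e2
      rw [← e1, ← e2]
      exact congrArg _ (Int.cast_inj.mp hsymm)
    rw [hZr, regN_congr hbb η.2 hη₀ ζ.1]
    field_simp
    linear_combination (w η) * h1
  · exact Subring.mul_mem _ (natCast_mem _ _)
      (cycInt_le_of_pow k (mem_cycInt_of_pow (hlam η.1)))
  · rw [secContrib_eq_sum hM hbb hC' (hsec χ) (hsec ψ), gH]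
    rw [Finset.sum_subtype (p := fun η => η ∈ b) _ (fun η => by simp)]
    refine Finset.sum_congr rfl fun η _ => ?_
    rw [Finset.sum_subtype (p := fun η => η ∈ b) _ (fun η => by simp)]
    exact Finset.sum_congr rfl fun ζ _ => by rw [← hd, hZ η ζ]
  · have key : ∀ l : ℂ, l ^ p ^ k = 1 → ∃ L : locRing M, (L : ℂ) = l ∧ res M L = 1 := fun l hl => by
      have hmem' : l ∈ locRing M :=
        integral_mem M (Char.isIntegral_of_pow_eq_one (pow_ne_zero _ hM.1.ne_zero) hl)
      refine ⟨⟨l, hmem'⟩, rfl, sub_eq_zero.mp (eq_zero_of_pow_eq_zero (n := p ^ k) ?_)⟩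
      rw [sub_pow_char_pow, one_pow, ← map_pow,
        show (⟨l, hmem'⟩ : locRing M) ^ (p ^ k) = 1 from Subtype.ext (by simpa using hl), map_one, sub_self]
    choose L hL hL1 using fun η => key _ (hlam η)
    refine ⟨fun η => (resMult χ η.1 : locRing M) * L η.1, fun η => by simp [hL], ?_⟩
    rw [secRes, Finset.sum_subtype (p := fun η => η ∈ b) _ (fun η => by simp)]
    exact Finset.sum_congr rfl fun η _ => by simp [hL1, hw, hd]
  · have hg : ∀ χ (θ : {η // η ∈ b}), gH Z (fun η => (resMult χ η.1 : ℂ) * lam η.1) (Pi.single θ (1 : ℂ)) =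
        (p : ℂ) ^ d * classInner (regFun p (secFun x C χ)) (θ.1 : C → ℂ) := by
      intro χ θ
      have e : regFun p (secFun x C χ) =
          ∑ η : IrrCharacter C, ((resMult χ η : ℂ) * lam η) • regFun p (η : C → ℂ) := by
        funext t
        simp only [Finset.sum_apply, Pi.smul_apply, smul_eq_mul, regFun]
        by_cases ht : p ∣ orderOf t
        · simp [ht]
        · simp [ht, hsec χ t]
      rw [e, Char.classInner_sum_left]
      simp only [Char.classInner_smul_left]
      rw [← Finset.sum_subset (Finset.subset_univ (Finset.univ.filter (· ∈ b))) fun η _ hη => by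
          show _ * regInner p η θ.1 = 0
          rw [regInner_comm hM, regInner_eq_zero_of_not_mem hM (.of_isPBlock hbb) θ.2 (by simpa using hη),
            mul_zero],
        Finset.sum_subtype (p := fun η => η ∈ b) _ (fun η => by simp), Finset.mul_sum, gH]
      refine Finset.sum_congr rfl fun η _ => ?_
      rw [Finset.sum_eq_single θ (fun ζ _ hζ => by simp [hζ]) (by simp), Pi.single_eq_same, map_one, mul_one,
        ← hZ η θ, regInner]
      ring
    simp only [hg, map_mul, map_pow, map_natCast]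
    rw [Finset.sum_congr rfl fun χ _ => mul_mul_mul_comm _ _ _ _, ← Finset.mul_sum,
      sum_secCoeff hM hxp hC η.1 ζ.1, ← hZ ζ η, mul_assoc]
where
  cycInt_le_of_pow {p : ℕ} (k : ℕ) {z : ℂ} (h : z ∈ cycInt (p ^ k)) : z ∈ cycInt (p ^ (k + 1)) := by
    refine Subring.closure_le.mpr (fun w (hw : w ^ p ^ k = 1) => mem_cycInt_of_pow ?_) h
    rw [pow_succ, pow_mul, hw, one_pow]

open scoped Classical in
/-- A major subsection bounds the number of characters of the block. -/
theorem major_card_le_or (hM : IsPModular p M) {x : G} {k : ℕ} (hk : orderOf x = p ^ k)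
    (hC : ∀ t : G, t ∈ C ↔ Commute t x) {b : Set (IrrCharacter C)} {B : Set (IrrCharacter G)}
    (hb : IsInducedBlock M C b B) (hd : blockDefect p b = blockDefect p B) :
    (Finset.univ.filter (· ∈ B)).card ≤ p ^ blockDefect p B ∨
      2 * (Finset.univ.filter (· ∈ B)).card ≤ blockRank p b * p ^ blockDefect p B := by
  have := charP_resField hM
  have hB := hb.2.1
  have hxp : ∃ j : ℕ, orderOf x = p ^ j := ⟨k, hk⟩
  have hC' : ∀ t : C, Commute (t : G) x := fun t => (hC t).mp t.2
  obtain ⟨Z, F, c, α, w, hF, hα, hc, hX, hres, -, hsum⟩ := exists_lattice_data hM hk hC hb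
  rw [hd] at hsum
  obtain ⟨κ, hκ, hκres⟩ := exists_secContrib_res hM hk hC hb
  obtain ⟨χ₀, hχ₀, h00⟩ := exists_height_zero hM hB
  set s := Finset.univ.filter (fun χ : IrrCharacter G => χ ∈ B) with hs
  set P : ℤ := (p : ℤ) - 1 with hP
  have hP0 : 0 < P := by have := hM.1.two_le; omega
  -- contributions with a height zero member
  have hne0 : ∀ χ ∈ B, secContrib p x C b χ χ₀ ≠ 0 := fun χ hχ h => by
    obtain ⟨L, hL, hL0, -⟩ := exists_major_lift hM hk hC hb hd hχ hχ₀
    rw [h] at hL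
    refine hL0 h00 ?_
    rw [show L = 0 from Subtype.ext ((mul_eq_zero.mp hL.symm).resolve_left
      (pow_ne_zero _ (Nat.cast_ne_zero.mpr hM.1.ne_zero))), map_zero]
  have hdiag : ∀ χ ∈ B, gH Z (c χ) (c χ) ≠ 0 := fun χ hχ h => hne0 χ hχ (by
    rw [hX, gH_eq_zero_of_self F hF h])
  -- integral expansions
  choose a ha using fun χ η => exists_int_coeff (hc χ η)
  have hv : ∀ χ η, c χ η = ∑ j, ((fun j η => a χ η j) j η : ℂ) *
      pRoot p k ^ ((j.1 : ℕ) + p ^ k * j.2) := fun χ η => ha χ η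
  choose T hT hT2 using fun χ => exists_trace_eq F hF (hv χ)
  have hTsum : ∑ χ ∈ s, T χ = (blockRank p b : ℤ) * (p : ℤ) ^ blockDefect p B * P := by
    have h1 := congrArg (ptr p k) (sum_secContrib_mul_conj hM hk hC hb χ₀).2
    rw [ptr_sum, Finset.sum_congr rfl fun χ _ => by rw [hX, hT χ], ← Int.cast_sum, hd,
      ← Nat.cast_pow, ← Nat.cast_mul, ← Int.cast_natCast, ptr_intCast] at h1
    apply Int.cast_injective (α := ℂ)
    rw [h1, hP]
    push_cast
    ring
  have hTnn : ∀ χ, 0 ≤ T χ := fun χ => by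
    have : (0 : ℤ) ≤ 2 * T χ := hT2 χ ▸ Finset.sum_nonneg fun r _ => Finset.sum_nonneg fun i _ =>
      Finset.sum_nonneg fun j _ => hform_nonneg F hF _
    omega
  by_cases hone : ∃ u : {η // η ∈ b} → ℤ, hform Z u = 1
  swap
  · push Not at hone
    right
    have h2le : ∀ v, hform Z v ≠ 0 → 2 ≤ hform Z v := fun v h => by
      have := hform_nonneg F hF v
      have := hone v
      omega
    have h2 : ∀ χ ∈ s, P * 2 ≤ T χ := fun χ hχ =>
      trace_ge F hF (hv χ) (hT χ) (hdiag χ (Finset.mem_filter.mp hχ).2) fun r i j h => h2le _ h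
    have h3 := (Finset.sum_le_sum h2).trans hTsum.le
    rw [Finset.sum_const, nsmul_eq_mul] at h3
    have : ((2 * s.card : ℕ) : ℤ) ≤ ((blockRank p b * p ^ blockDefect p B : ℕ) : ℤ) := by
      push_cast
      exact le_of_mul_le_mul_right (by linarith) hP0
    exact_mod_cast this
  obtain ⟨u, hu⟩ := hone
  set uc : {η // η ∈ b} → ℂ := fun η => (u η : ℂ) with huc
  -- residues on integral vectors
  have hbres : ∀ v v' : {η // η ∈ b} → ℤ, (bform Z v v' : ResField M) =
      α * (∑ η, (v η : ResField M) * w η) * (∑ η, (v' η : ResField M) * w η) := fun v v' => by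
    rw [bform, Int.cast_sum, mul_assoc α, Finset.sum_mul_sum, Finset.mul_sum]
    refine Finset.sum_congr rfl fun η _ => ?_
    rw [Int.cast_sum, Finset.mul_sum]
    exact Finset.sum_congr rfl fun ζ _ => by rw [Int.cast_mul, Int.cast_mul, hα]; ring
  have hhb : ∀ v, hform Z v = bform Z v v := fun v => rfl
  set uw : ResField M := ∑ η, (u η : ResField M) * w η with huw
  have hu1 : α * uw * uw = 1 := by rw [← hbres, ← hhb, hu, Int.cast_one]
  have horth : ∀ v, bform Z v u = 0 → hform Z v ≠ 1 := fun v hvu hv1 => by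
    have e1 := hbres v v
    have e2 := hbres v u
    rw [← hhb, hv1, Int.cast_one] at e1
    rw [hvu, Int.cast_zero] at e2
    have hα0 : α ≠ 0 := fun h => by rw [h, zero_mul, zero_mul] at hu1; exact zero_ne_one hu1
    have hw0 : uw ≠ 0 := fun h => by rw [h, mul_zero] at hu1; exact zero_ne_one hu1
    have hv0 : ∑ η, (v η : ResField M) * w η ≠ 0 := fun h => by rw [h, mul_zero] at e1; exact one_ne_zero e1
    exact mul_ne_zero (mul_ne_zero hα0 hv0) hw0 e2.symm
  -- the coordinate
  let xc : IrrCharacter G → ℂ := fun χ => gH Z (c χ) uc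
  have hxmem : ∀ χ, xc χ ∈ cycInt (p ^ (k + 1)) := fun χ => Subring.sum_mem _ fun η _ =>
    Subring.sum_mem _ fun ζ _ => Subring.mul_mem _ (Subring.mul_mem _ (hc χ η)
      (by simp only [huc, map_intCast]; exact intCast_mem _ _)) (intCast_mem _ _)
  choose Tx hTx hTx0 hTx1 hTx2 using fun χ => exists_ptr_normSq hM (hxmem χ)
  have hxzero : ∀ χ, χ ∉ B → xc χ = 0 := fun χ hχ => by
    refine gH_eq_zero_of_self F hF ?_ _
    rw [← hX, secContrib, Finset.sum_eq_zero (fun y hy => by
      rw [blockPart_secFun_eq_zero hM hxp hC hb hχ (Finset.mem_filter.mp hy).2, map_zero, mul_zero]),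
      mul_zero, mul_zero]
  have hxsum : ∑ χ ∈ s, Tx χ = (p : ℤ) ^ blockDefect p B * P := by
    have h1 : ∑ χ ∈ s, xc χ * conj (xc χ) = (((p : ℤ) ^ blockDefect p B : ℤ) : ℂ) := by
      rw [Finset.sum_subset (Finset.subset_univ s) fun χ _ hχ => by
        rw [hxzero χ (by simpa [hs] using hχ), zero_mul]]
      have e : ∀ χ, xc χ = ∑ θ, (u θ : ℂ) * gH Z (c χ) (Pi.single θ (1 : ℂ)) := fun χ => by
        simp only [xc, gH, huc]
        rw [Finset.sum_comm]
        refine Finset.sum_congr rfl fun θ _ => ?_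
        rw [Finset.mul_sum]
        refine Finset.sum_congr rfl fun η _ => ?_
        rw [Finset.sum_eq_single θ (fun ζ _ hζ => by simp [hζ]) (by simp), Pi.single_eq_same, map_one,
          map_intCast]
        ring
      simp only [e, map_sum, map_mul, map_intCast, Finset.sum_mul_sum]
      rw [Finset.sum_comm, Finset.sum_congr rfl fun θ _ => Finset.sum_comm]
      calc ∑ θ, ∑ ζ, ∑ χ, (u θ : ℂ) * gH Z (c χ) (Pi.single θ (1 : ℂ)) *
              ((u ζ : ℂ) * conj (gH Z (c χ) (Pi.single ζ (1 : ℂ))))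
          = ∑ θ, ∑ ζ, (u θ : ℂ) * (u ζ : ℂ) * ((p : ℂ) ^ blockDefect p B * (Z ζ θ : ℂ)) :=
            Finset.sum_congr rfl fun θ _ => Finset.sum_congr rfl fun ζ _ => by
              rw [← hsum θ ζ, Finset.mul_sum]
              exact Finset.sum_congr rfl fun χ _ => by ring
        _ = (p : ℂ) ^ blockDefect p B * ((hform Z u : ℤ) : ℂ) := by
            simp only [hform, Int.cast_sum, Int.cast_mul, Finset.mul_sum]
            exact Finset.sum_congr rfl fun θ _ => Finset.sum_congr rfl fun ζ _ => by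
              rw [gram_symm F hF ζ θ]; ring
        _ = _ := by rw [hu]; push_cast; ring
    have h2 := congrArg (ptr p k) h1
    rw [ptr_sum, Finset.sum_congr rfl fun χ _ => hTx χ, ← Int.cast_sum, ptr_intCast] at h2
    apply Int.cast_injective (α := ℂ)
    rw [h2, hP]
    push_cast
    ring
  have hxres : ∀ χ ∈ B, ∃ L : locRing M, (L : ℂ) = xc χ ∧ res M L = α * uw * secRes p M hM b χ := by
    intro χ _
    obtain ⟨L, hL, hLr⟩ := hres χ
    refine ⟨∑ η, ∑ ζ, L η * (u ζ : locRing M) * (Z η ζ : locRing M), ?_, ?_⟩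
    · simp only [xc, gH, huc, AddSubmonoidClass.coe_finsetSum, Subring.coe_mul, SubringClass.coe_intCast, hL,
        map_intCast]
    · rw [← hLr, huw]
      simp only [map_sum, map_mul, map_intCast, hα, Finset.mul_sum, Finset.sum_mul]
      exact Finset.sum_congr rfl fun η _ => Finset.sum_congr rfl fun ζ _ => by ring
  have hS0 : ∀ χ ∈ B, 0 < blockHeight p B (χ : G → ℂ) → secRes p M hM b χ = 0 := by
    intro χ hχ hpos
    obtain ⟨L, hL, -, -⟩ := exists_major_lift hM hk hC hb hd hχ hχ₀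
    have h1 := hκres χ χ₀ ((p : locRing M) ^ blockHeight p B (χ : G → ℂ) * L) (by rw [hL]; simp)
    rw [map_mul, map_pow, map_natCast, CharP.cast_eq_zero, zero_pow hpos.ne', zero_mul] at h1
    exact (mul_eq_zero.mp ((mul_eq_zero.mp h1.symm).resolve_right
      (secRes_ne_zero hM hxp hC hb hχ₀ h00))).resolve_left hκ
  have hx1 : ∀ χ ∈ B, blockHeight p B (χ : G → ℂ) = 0 → xc χ ≠ 0 := fun χ hχ h0 hz => by
    obtain ⟨L, hL, hLr⟩ := hxres χ hχ
    rw [show L = 0 from Subtype.ext (hL.trans hz), map_zero] at hLr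
    refine mul_ne_zero (fun h => ?_) (secRes_ne_zero hM hxp hC hb hχ h0) hLr.symm
    rw [h, zero_mul] at hu1
    exact zero_ne_one hu1
  have hx2 : ∀ χ ∈ B, 0 < blockHeight p B (χ : G → ℂ) → xc χ ≠ 0 → 2 * P ≤ Tx χ := fun χ hχ hpos hne => by
    obtain ⟨L, hL, hLr⟩ := hxres χ hχ
    exact hTx2 χ hne L hL (by rw [hLr, hS0 χ hχ hpos, mul_zero])
  -- the orthogonal complement
  let c' : IrrCharacter G → {η // η ∈ b} → ℂ := fun χ η => c χ η - xc χ * uc η
  have hlin : ∀ χ ψ, gH Z (c' χ) (c' ψ) = gH Z (c χ) (c ψ) - xc χ * conj (xc ψ) := by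
    intro χ ψ
    have h1 : gH Z uc (c ψ) = conj (xc ψ) := by
      simp only [xc, gH_eq F hF, map_sum, map_mul, Complex.conj_conj]
      exact Finset.sum_congr rfl fun y _ => by ring
    have h2 : gH Z uc uc = 1 := by
      have : ((hform Z u : ℤ) : ℂ) = gH Z uc uc := by
        simp only [hform, gH, huc, Int.cast_sum, Int.cast_mul, map_intCast]
        exact Finset.sum_congr rfl fun η _ => Finset.sum_congr rfl fun ζ _ => by ring
      rw [← this, hu, Int.cast_one]
    have h3 : gH Z (c' χ) (c' ψ) = gH Z (c χ) (c ψ) - conj (xc ψ) * gH Z (c χ) uc - xc χ * gH Z uc (c ψ) +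
        xc χ * conj (xc ψ) * gH Z uc uc := by
      simp only [gH, c', map_sub, map_mul, Finset.mul_sum, ← Finset.sum_sub_distrib, ← Finset.sum_add_distrib]
      exact Finset.sum_congr rfl fun η _ => Finset.sum_congr rfl fun ζ _ => by ring
    rw [h3, h1, h2]
    simp only [xc]
    ring
  let v' : IrrCharacter G → Fin (p ^ k) × Fin p → {η // η ∈ b} → ℤ := fun χ j η =>
    a χ η j - bform Z (fun η => a χ η j) u * u η
  have hv' : ∀ χ η, c' χ η = ∑ j, (v' χ j η : ℂ) * pRoot p k ^ ((j.1 : ℕ) + p ^ k * j.2) := by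
    intro χ η
    have e : xc χ = ∑ j, (bform Z (fun η => a χ η j) u : ℂ) * pRoot p k ^ ((j.1 : ℕ) + p ^ k * j.2) := by
      simp only [xc, gH, huc, map_intCast, bform, Int.cast_sum, Int.cast_mul, ha, Finset.sum_mul]
      symm
      rw [Finset.sum_comm, Finset.sum_congr rfl fun η _ => Finset.sum_comm]
      exact Finset.sum_congr rfl fun η _ => Finset.sum_congr rfl fun ζ _ =>
        Finset.sum_congr rfl fun j _ => by ring
    show c χ η - xc χ * uc η = _
    rw [e, ha χ η, Finset.sum_mul, ← Finset.sum_sub_distrib]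
    exact Finset.sum_congr rfl fun j _ => by simp only [v', huc]; push_cast; ring
  choose TR hTR hTR2 using fun χ => exists_trace_eq F hF (hv' χ)
  have hTR1 : ∀ χ, gH Z (c' χ) (c' χ) ≠ 0 → P * 2 ≤ TR χ := fun χ hne =>
    trace_ge F hF (hv' χ) (hTR χ) hne fun r i j h => by
      have h0 : ∀ l, bform Z (v' χ l) u = 0 := fun l => by
        have e : bform Z (v' χ l) u =
            bform Z (fun η => a χ η l) u - bform Z (fun η => a χ η l) u * bform Z u u := by
          simp only [bform, v', sub_mul, Finset.sum_sub_distrib]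
          congr 1
          rw [Finset.mul_sum]
          exact Finset.sum_congr rfl fun η _ => by
            rw [Finset.mul_sum]
            exact Finset.sum_congr rfl fun ζ _ => by ring
        rw [e, ← hhb, hu, mul_one, sub_self]
      have := horth (v' χ (r, i) - v' χ (r, j)) (by
        have e : bform Z (v' χ (r, i) - v' χ (r, j)) u = bform Z (v' χ (r, i)) u - bform Z (v' χ (r, j)) u := by
          simp only [bform, Pi.sub_apply, sub_mul, Finset.sum_sub_distrib]
        rw [e, h0, h0, sub_zero])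
      have := hform_nonneg F hF (v' χ (r, i) - v' χ (r, j))
      omega
  have hsplit : ∀ χ, T χ = Tx χ + TR χ := fun χ => by
    apply Int.cast_injective (α := ℂ)
    push_cast
    rw [← hT, ← hTx, ← hTR, ← ptr_add, hlin]
    congr 1
    ring
  have hTR0 : ∀ χ, 0 ≤ TR χ := fun χ => by
    have : (0 : ℤ) ≤ 2 * TR χ := hTR2 χ ▸ Finset.sum_nonneg fun r _ => Finset.sum_nonneg fun i _ =>
      Finset.sum_nonneg fun j _ => hform_nonneg F hF _
    omega
  by_cases hz : ∀ χ ∈ s, xc χ ≠ 0
  · left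
    have h3 : ∑ _χ ∈ s, P ≤ ∑ χ ∈ s, Tx χ := Finset.sum_le_sum fun χ hχ => hTx1 χ (hz χ hχ)
    rw [hxsum, Finset.sum_const, nsmul_eq_mul] at h3
    exact_mod_cast le_of_mul_le_mul_right h3 hP0
  right
  push Not at hz
  obtain ⟨ψ, hψs, hψx⟩ := hz
  have hψB := (Finset.mem_filter.mp hψs).2
  have hR0 : ∀ χ ∈ B, blockHeight p B (χ : G → ℂ) = 0 → gH Z (c' χ) (c' χ) ≠ 0 := fun χ hχ h0 h => by
    have h1 := gH_eq_zero_of_self F hF h (c' ψ)
    rw [hlin, hψx, map_zero, mul_zero, sub_zero, ← hX] at h1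
    obtain ⟨L, hL, hL0, -⟩ := exists_major_lift hM hk hC hb hd hψB hχ
    rw [← conj_secContrib hM hb.1 hC', map_eq_zero, hL] at h1
    refine hL0 h0 ?_
    rw [show L = 0 from Subtype.ext ((mul_eq_zero.mp h1).resolve_left
      (pow_ne_zero _ (Nat.cast_ne_zero.mpr hM.1.ne_zero))), map_zero]
  have hkey : ∀ χ ∈ s, 2 * P ≤ Tx χ + TR χ := fun χ hχ => by
    have hχB := (Finset.mem_filter.mp hχ).2
    rcases Nat.eq_zero_or_pos (blockHeight p B (χ : G → ℂ)) with h0 | hpos
    · linarith [hTx1 χ (hx1 χ hχB h0), hTR1 χ (hR0 χ hχB h0)]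
    · by_cases hx : xc χ = 0
      · have : gH Z (c' χ) (c' χ) ≠ 0 := by
          rw [hlin, hx, zero_mul, sub_zero]
          exact hdiag χ hχB
        linarith [hTR1 χ this, hTx0 χ]
      · linarith [hx2 χ hχB hpos hx, hTR0 χ]
  have h3 := Finset.sum_le_sum hkey
  rw [Finset.sum_const, nsmul_eq_mul, ← Finset.sum_congr rfl (fun χ _ => hsplit χ), hTsum] at h3
  have : ((2 * s.card : ℕ) : ℤ) ≤ ((blockRank p b * p ^ blockDefect p B : ℕ) : ℤ) := by
    push_cast
    exact le_of_mul_le_mul_right (by linarith) hP0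
  exact_mod_cast this

end CfsgLib.Block
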