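import Cfsg.Agent.Lib.Char.Counting

/-!
# Convolution of two different irreducible characters
-/

set_option linter.unusedSectionVars false

namespace CfsgLib.Block

open Cfsg CfsgLib.Char Representation

universe u

variable {G : Type u} [Group G] [Fintype G]

theorem sum_irr_convolution_ne {χ ψ : IrrCharacter G} (hne : χ ≠ ψ) (g : G) :
    ∑ a : G, (χ : G → ℂ) a * (ψ : G → ℂ) (a⁻¹ * g) = 0 := by
  obtain ⟨χ, n, σ, hσ, rfl⟩ := χ
  obtain ⟨ψ, m, ρ, hρ, rfl⟩ := ψ
  obtain ⟨c, hc⟩ := schur_scalar ρ (∑ a, σ.character a • ρ a⁻¹) fun x => by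
    simp only [Finset.sum_mul, Finset.mul_sum, smul_mul_assoc, mul_smul_comm, ← map_mul]
    refine Fintype.sum_bijective (fun a => x⁻¹ * a * x⁻¹⁻¹) (MulAut.conj x⁻¹).bijective _ _ fun a => ?_
    rw [show x * (x⁻¹ * a * x⁻¹⁻¹)⁻¹ = a⁻¹ * x by group, Representation.char_conj]
  have h1 := congrArg (LinearMap.trace ℂ _) hc
  rw [trace_smul_id, map_sum] at h1
  have hsum : ∑ a : G, LinearMap.trace ℂ _ (σ.character a • ρ a⁻¹) = 0 := by
    have h := classInner_irr_ne hne
    rw [classInner, mul_eq_zero, inv_eq_zero, or_iff_right card_ne_zero'] at h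
    rw [← h]
    exact Finset.sum_congr rfl fun a _ => by rw [map_smul, smul_eq_mul, ← char_inv]; rfl
  rw [hsum] at h1
  have h2 := congrArg (fun T => LinearMap.trace ℂ _ (T * ρ g)) hc
  simp only [Finset.sum_mul, map_sum, smul_mul_assoc, map_smul, smul_eq_mul, ← map_mul,
    ← Module.End.one_eq_id, one_mul] at h2
  have h3 : ρ.character 1 ≠ 0 := irr_one_ne_zero ⟨_, m, ρ, hρ, rfl⟩
  rw [Representation.char_one] at h3
  have hc0 : c = 0 := (mul_eq_zero.mp h1.symm).resolve_right h3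
  rw [hc0, zero_mul] at h2
  exact h2

end CfsgLib.Block
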