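import Cfsg.Agent.Lib.Block.HeightZeroOrbit
import Cfsg.Agent.Lib.Block.InducedChar

/-!
# The covering criterion by central characters
-/

open Finset MonoidAlgebra
open scoped ComplexConjugate

set_option linter.unusedSectionVars false

namespace CfsgLib.Block.HeightZeroOrbit

open Cfsg

universe u

variable {p : ℕ} [Fact p.Prime] {M : Ideal AlgInt} [M.IsMaximal] {G : Type u} [Group G] [Fintype G]
  [DecidableEq G] {N : Subgroup G} [hNn : N.Normal] [Fintype N]

/-- Covering is read off from the central characters on the normal subgroup. -/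
theorem covers_iff (hM : IsPModular p M) {B : Set (IrrCharacter G)} (hB : IsPBlock M B)
    {b : Set (IrrCharacter N)} (hb : IsPBlock M b) :
    Covers B b ↔ ∀ χ ∈ B, ∀ θ ∈ b, ∀ n : N, MemLocalIdeal M
      (centralChar (χ : G → ℂ) (n : G) - inducedCentralChar N (θ : N → ℂ) (n : G)) := by
  classical
  have := Fintype.ofFinite (ConjClasses G)
  have := Fintype.ofFinite (ConjClasses N)
  constructor
  · intro h χ hχ θ hθ n
    obtain ⟨χ', hχ', hc⟩ := exists_above hM hB hb h hθ
    rw [← (classInner_ne_zero_iff_centralChar N χ' θ).mp hc n]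
    exact (isPBlock_sameBlock hB hχ).mp hχ' n
  · intro h
    obtain ⟨χ, hχ⟩ := isPBlock_nonempty hB
    obtain ⟨B₀, hB₀, χ₀, hχ₀, θ, hθ, hc₀⟩ := exists_covers (G := G) hb
    obtain ⟨θ', hc'⟩ := exists_constituent (N := N) χ
    have hres : ∀ n : N, centralRes M χ (n : G) = centralRes M χ₀ (n : G) := by
      intro n
      have h' := h χ hχ θ hθ n
      rw [← (classInner_ne_zero_iff_centralChar N χ₀ θ).mp hc₀ n] at h'
      exact (memLocalIdeal_sub_iff ⟨_, centralChar_mem χ (n : G)⟩ ⟨_, centralChar_mem χ₀ (n : G)⟩).mp h'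
    set z := zkOf M _ (cinv_eG_orbSet (M := M) (G := G) b) with hz
    have hzsum : z = ∑ C : ConjClasses G,
        algebraMap (ResField M) (ZK M G) ((z : MonoidAlgebra (ResField M) G).coeff (rep C)) *
          classBar M (rep C) := by
      apply Subtype.ext
      rw [AddSubmonoidClass.coe_finsetSum]
      refine (classElt_eq_sum (mem_center_iff_isClassElt.mp z.2)).trans
        (Finset.sum_congr rfl fun C _ => ?_)
      rw [MulMemClass.coe_mul, Subalgebra.coe_algebraMap, ← Algebra.smul_def]
      rfl
    have heq : omegaBar M χ z = omegaBar M χ₀ z := by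
      rw [hzsum, map_sum, map_sum]
      refine Finset.sum_congr rfl fun C _ => ?_
      rw [map_mul, map_mul, omegaBar_algebraMap, omegaBar_algebraMap, omegaBar_classBar, omegaBar_classBar]
      by_cases hC : rep C ∈ N
      · rw [hres ⟨_, hC⟩]
      · rw [show (z : MonoidAlgebra (ResField M) G).coeff (rep C) = 0 from suppIn_eG _ _ hC, zero_mul,
          zero_mul]
    rw [omegaBar_eq_omG_of_constituent χ θ' hc' z (suppIn_eG _),
      omegaBar_eq_omG_of_constituent χ₀ θ hc₀ z (suppIn_eG _), hz, coe_zkOf, omG_eG_orbSet hM hb,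
      omG_eG_orbSet hM hb, if_pos (subset_orbSet b hθ)] at heq
    have hmem : θ' ∈ orbSet b := by
      by_contra hn
      rw [if_neg hn] at heq
      exact zero_ne_one heq
    obtain ⟨g, hg⟩ := hmem
    exact ⟨χ, hχ, _, hg, by rwa [classInner_cjN]⟩

end CfsgLib.Block.HeightZeroOrbit
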