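import Cfsg.Agent.Lib.Block.FusionSat
import Cfsg.Agent.Lib.Block.Subsection

/-!
# Inner products in a block as sums over subsections
-/

open Finset MonoidAlgebra
open scoped ComplexConjugate

set_option linter.unusedSectionVars false

namespace CfsgLib.Block

open Cfsg
open scoped Pair

universe u

variable {p : ℕ} {M : Ideal AlgInt} [M.IsMaximal] {G : Type u} [Group G] [Fintype G] [DecidableEq G]
  {P : Subgroup G} {e : Set (IrrCharacter (CQ P))}

/-- The part in the pair `a` of the section of `χ` at `u`, as a function on the whole group. -/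
noncomputable def secPart (χ : IrrCharacter G) (u : G) (a : BrauerPairIdx G) (s : G) : ℂ :=
  ∑ t : G, subgroupBlockCoeff (CQ a.1) a.2 t * (χ : G → ℂ) (u * (t * s))

open scoped Classical in
/-- The contribution of the subsection `(u, a)` to the inner product of `χ` and `ψ`, times the
order of the centralizer. -/
noncomputable def secSum (p : ℕ) (χ ψ : IrrCharacter G) (u : G) (a : BrauerPairIdx G) : ℂ :=
  ∑ s ∈ Finset.univ.filter (fun s : G => s ∈ CQ a.1 ∧ ¬ p ∣ orderOf s),
    secPart χ u a s * conj (secPart ψ u a s)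

/-- On the centralizer the part is the block part of the section. -/
theorem secPart_eq_blockPart {Q : Subgroup G} (b : Set (IrrCharacter (CQ Q))) {u : G}
    (hu : ∀ t : CQ Q, Commute (t : G) u) (χ : IrrCharacter G) (s : CQ Q) :
    secPart χ u ⟨Q, b⟩ (s : G) = blockPart b (secFun u (CQ Q) χ) s := by
  classical
  rw [blockPart_eq_sum b (isClassFunction_secFun hu χ) s, secPart]
  rw [← Finset.sum_subset (Finset.subset_univ (Finset.univ.filter (fun t : G => t ∈ CQ Q)))
    fun t _ ht => by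
      simp only [Finset.mem_filter, Finset.mem_univ, true_and] at ht
      rw [subgroupBlockCoeff_of_notMem b ht, zero_mul],
    Finset.sum_subtype (p := fun t => t ∈ CQ Q) _ (fun t => by simp)]
  exact Finset.sum_congr rfl fun t _ => by rw [subgroupBlockCoeff_coe]; rfl

theorem subgroupBlockCoeff_conjBlock (n : G) {Q : Subgroup G} (b : Set (IrrCharacter (CQ Q))) (t : G) :
    subgroupBlockCoeff (CQ (cjS n Q)) (conjBlock Q n b) t =
      subgroupBlockCoeff (CQ Q) b (n⁻¹ * t * n) := by
  classical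
  have h := cq_cjS_iff n Q
  by_cases ht : n⁻¹ * t * n ∈ CQ Q
  · obtain ⟨c, hc⟩ : ∃ c : CQ Q, (c : G) = n⁻¹ * t * n := ⟨⟨_, ht⟩, rfl⟩
    rw [← hc, subgroupBlockCoeff_coe, show t = ((cjHom (K' := CQ (cjS n Q)) h c : CQ (cjS n Q)) : G) by
      simp [cjHom, hc, mul_assoc], subgroupBlockCoeff_coe]
    rw [show conjBlock Q n b = _ from conjSet_eq_image (K' := CQ (cjS n Q)) h b]
    exact blockCoeff_image_irrEquiv _ b c
  · rw [subgroupBlockCoeff_of_notMem _ ht, subgroupBlockCoeff_of_notMem]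
    intro h'
    exact ht (inv_conj_mem_cq_iff.mp h')

theorem secPart_cjP (χ : IrrCharacter G) (n u : G) (a : BrauerPairIdx G) (s : G) :
    secPart χ (n * u * n⁻¹) (cjP n a) (n * s * n⁻¹) = secPart χ u a s := by
  refine (Fintype.sum_equiv (MulAut.conj n).toEquiv _ _ fun t => ?_).symm
  show _ = subgroupBlockCoeff (CQ (cjS n a.1)) (conjBlock a.1 n a.2) (n * t * n⁻¹) * _
  rw [subgroupBlockCoeff_conjBlock, show n⁻¹ * (n * t * n⁻¹) * n = t by group]
  congr 1
  show _ = (χ : G → ℂ) (n * u * n⁻¹ * (n * t * n⁻¹ * (n * s * n⁻¹)))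
  rw [show n * u * n⁻¹ * (n * t * n⁻¹ * (n * s * n⁻¹)) = n * (u * (t * s)) * n⁻¹ by group,
    Char.isClassFunction_irr χ]

theorem secSum_cjP (χ ψ : IrrCharacter G) (n u : G) (a : BrauerPairIdx G) :
    secSum p χ ψ (n * u * n⁻¹) (cjP n a) = secSum p χ ψ u a := by
  classical
  refine (Finset.sum_equiv (MulAut.conj n).toEquiv (fun s => ?_) fun s _ => ?_).symm
  · simp only [Finset.mem_filter, Finset.mem_univ, true_and, MulEquiv.toEquiv_eq_coe,
      EquivLike.coe_coe, MulAut.conj_apply]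
    rw [orderOf_conj_eq]
    exact and_congr_left fun _ => cq_cjS_iff n a.1 s
  · simp only [MulEquiv.toEquiv_eq_coe, EquivLike.coe_coe, MulAut.conj_apply, secPart_cjP]

theorem exists_eq_pairMk {a : BrauerPairIdx G} {Q : Subgroup G} (h : a.1 = Q) :
    ∃ b : Set (IrrCharacter (CQ Q)), a = ⟨Q, b⟩ := by
  obtain ⟨R, b⟩ := a
  subst h
  exact ⟨b, rfl⟩

theorem below_ext (hM : IsPModular p M) (he : IsBrauerPair p M P e) {a b : BrauerPairIdx G}
    (ha : Below p M P e a) (hb : Below p M P e b) (h : a.1 = b.1) : a = b := by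
  obtain ⟨Q, f⟩ := a
  obtain ⟨f', rfl⟩ := exists_eq_pairMk h.symm
  rw [SubpairLE.unique hM he ha hb]

theorem mem_cq_zpowers_iff {u t : G} : t ∈ CQ (Subgroup.zpowers u) ↔ Commute t u := by
  rw [CQ, Subgroup.zpowers_eq_closure, Subgroup.centralizer_closure]
  exact Subgroup.mem_centralizer_singleton_iff

theorem isPGroup_zpowers {u : G} (hu : ∃ k : ℕ, orderOf u = p ^ k) :
    IsPGroup p (Subgroup.zpowers u) :=
  IsPGroup.of_card (n := hu.choose) ((Nat.card_zpowers u).trans hu.choose_spec)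

theorem isBrauerPairOf_zpowers_iff (hM : IsPModular p M) {B : Set (IrrCharacter G)}
    (hB : IsPBlock M B) {u : G} (hu : ∃ k : ℕ, orderOf u = p ^ k)
    {b : Set (IrrCharacter (CQ (Subgroup.zpowers u)))} :
    IsBrauerPairOf p M B (Subgroup.zpowers u) b ↔ IsInducedBlock M (CQ (Subgroup.zpowers u)) b B := by
  classical
  have hQ := isPGroup_zpowers hu
  have hQC : Subgroup.zpowers u ≤ CQ (Subgroup.zpowers u) := by
    rw [Subgroup.zpowers_le]; exact mem_cq_zpowers_iff.mpr (Commute.refl u)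
  constructor
  · intro h
    refine isInducedBlock_iff.mpr ⟨h.1.2, hB, fun ξ hξ χ hχ z => ?_⟩
    rw [omegaBar_resHK_eq_brMap hQ le_rfl (centralizer_le_normalizer' _) hM hQC ξ z]
    exact (CfsgLib.Block.isBrauerPairOf_iff hM hQ h.1.2 hB).mp h ξ hξ χ hχ z
  · intro h
    obtain ⟨hb, -, hω⟩ := isInducedBlock_iff.mp h
    refine (CfsgLib.Block.isBrauerPairOf_iff hM hQ hb hB).mpr fun ξ hξ χ hχ z => ?_
    rw [← hω ξ hξ χ hχ z,
      omegaBar_resHK_eq_brMap hQ le_rfl (centralizer_le_normalizer' _) hM hQC ξ z]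
    rfl

variable [Fintype (IrrCharacter G)]

open scoped Classical in
/-- The inner product of two members of a block, split along the subsections. -/
theorem sum_secSum_eq (hM : IsPModular p M) {B : Set (IrrCharacter G)} (hB : IsPBlock M B)
    [Fintype (BrauerPairIdx G)] {χ ψ : IrrCharacter G} (hχ : χ ∈ B) (hψ : ψ ∈ B) :
    ∑ u ∈ Finset.univ.filter (fun u : G => ∃ k : ℕ, orderOf u = p ^ k),
      ∑ a ∈ Finset.univ.filter (fun a : BrauerPairIdx G =>
          a.1 = Subgroup.zpowers u ∧ IsBrauerPairOf p M B a.1 a.2), secSum p χ ψ u a =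
      if χ = ψ then (Nat.card G : ℂ) else 0 := by
  have hI : ∑ g : G, (χ : G → ℂ) g * conj ((ψ : G → ℂ) g) = if χ = ψ then (Nat.card G : ℂ) else 0 := by
    have h := Char.classInner_irr (G := G) χ ψ
    rw [classInner, inv_mul_eq_iff_eq_mul₀ (Nat.cast_ne_zero.mpr Nat.card_pos.ne')] at h
    rw [h]
    split_ifs <;> simp
  choose π hπ using fun g : G => exists_isPPart (p := p) hM.1 g
  rw [← hI, ← Finset.sum_fiberwise_of_maps_to (s := Finset.univ) (g := π)
    (t := Finset.univ.filter (fun u : G => ∃ k : ℕ, orderOf u = p ^ k)) fun g _ => by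
      obtain ⟨y, -, -, hk, -⟩ := hπ g
      exact Finset.mem_filter.mpr ⟨Finset.mem_univ _, hk⟩]
  refine Finset.sum_congr rfl fun u hu => ?_
  have hup := (Finset.mem_filter.mp hu).2
  obtain ⟨k, hk⟩ := hup
  set C := CQ (Subgroup.zpowers u) with hCdef
  have hC : ∀ t : G, t ∈ C ↔ Commute t u := fun t => mem_cq_zpowers_iff
  have hC' : ∀ t : C, Commute (t : G) u := fun t => (hC t).mp t.2
  have := Fintype.ofFinite (IrrCharacter C)
  let U : Finset (Set (IrrCharacter C)) := Finset.univ.filter (fun b => IsPBlock M b)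
  have hU : ∀ b, b ∈ U ↔ IsPBlock M b := fun b => by simp [U]
  let T : Finset (Set (IrrCharacter C)) := Finset.univ.filter (fun b => IsInducedBlock M C b B)
  have hT : ∀ b, b ∈ T ↔ IsInducedBlock M C b B := fun b => by simp [T]
  have hsub : ∀ {w : C}, ¬ p ∣ orderOf w → ∀ θ ∈ B,
      (θ : G → ℂ) (u * (w : G)) = ∑ b ∈ T, blockPart b (secFun u C θ) w := by
    intro w hw θ hθ
    rw [show (θ : G → ℂ) (u * (w : G)) = secFun u C θ w from rfl,
      secFun_eq_sum_blockPart hM hC' θ w U hU]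
    refine (Finset.sum_subset (fun b hb => (hU b).mpr ((hT b).mp hb).1) fun b hb hbT => ?_).symm
    obtain ⟨B', hB'⟩ := exists_induced_centralizer hM ⟨k, hk⟩ hC ((hU b).mp hb)
    refine blockPart_secFun_eq_zero hM ⟨k, hk⟩ hC hB' (fun hmem => hbT ((hT b).mpr ?_)) hw
    rwa [isPBlock_eq_of_mem hB hB'.2.1 hθ hmem]
  -- parametrize the fibre
  have hfib : Finset.univ.filter (fun g => π g = u) =
      ((Finset.univ : Finset C).filter (fun y : C => ¬ p ∣ orderOf y)).image
        fun y : C => u * (y : G) := by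
    ext g
    simp only [Finset.mem_filter, Finset.mem_univ, true_and, Finset.mem_image]
    constructor
    · rintro rfl
      obtain ⟨y, hxy, hcom, -, hy⟩ := hπ g
      exact ⟨⟨y, (hC y).mpr hcom.symm⟩, by rwa [← Subgroup.orderOf_coe], hxy⟩
    · rintro ⟨y, hy, rfl⟩
      exact isPPart_unique hM.1 (hπ _) (isPPart_secElt hk hC' hy)
  rw [hfib, Finset.sum_image (fun a _ b _ h => Subtype.ext (mul_left_cancel h))]
  -- cross terms vanish
  have hcross : ∀ b ∈ T, ∀ b' ∈ T, b' ≠ b →
      ∑ w ∈ (Finset.univ : Finset C).filter (fun y : C => ¬ p ∣ orderOf y),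
        blockPart b (secFun u C χ) w * conj (blockPart b' (secFun u C ψ) w) = 0 := by
    intro b hb b' hb' hne
    have hbb := ((hT b).mp hb).1
    have hbb' := ((hT b').mp hb').1
    have hterm : ∀ w ∈ (Finset.univ : Finset C).filter (fun y : C => ¬ p ∣ orderOf y),
        blockPart b (secFun u C χ) w * conj (blockPart b' (secFun u C ψ) w) =
        ∑ η ∈ Finset.univ.filter (· ∈ b), ∑ η' ∈ Finset.univ.filter (· ∈ b'),
          classInner (regFun p (secFun u C χ)) (η : C → ℂ) *
            conj (classInner (regFun p (secFun u C ψ)) (η' : C → ℂ)) *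
              ((η : C → ℂ) w * (η' : C → ℂ) w⁻¹) := by
      intro w hw
      have hw' := (Finset.mem_filter.mp hw).2
      rw [blockPart_regular hM hbb (isClassFunction_secFun hC' χ) hw',
        blockPart_regular hM hbb' (isClassFunction_secFun hC' ψ) hw', map_sum, Finset.sum_mul_sum]
      refine Finset.sum_congr rfl fun η _ => Finset.sum_congr rfl fun η' _ => ?_
      rw [map_mul, Char.irr_inv]
      ring
    rw [Finset.sum_congr rfl hterm, Finset.sum_comm]
    refine Finset.sum_eq_zero fun η hη => ?_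
    rw [Finset.sum_comm]
    refine Finset.sum_eq_zero fun η' hη' => ?_
    rw [← Finset.mul_sum, ← card_mul_regInner,
      regInner_eq_zero_of_not_mem hM (.of_isPBlock hbb) (Finset.mem_filter.mp hη).2 (fun h => hne
        (isPBlock_eq_of_mem hbb' hbb (Finset.mem_filter.mp hη').2 h)), mul_zero, mul_zero]
  have hR : ∑ w ∈ (Finset.univ : Finset C).filter (fun y : C => ¬ p ∣ orderOf y),
      (χ : G → ℂ) (u * (w : G)) * conj ((ψ : G → ℂ) (u * (w : G))) =
      ∑ b ∈ T, ∑ w ∈ (Finset.univ : Finset C).filter (fun y : C => ¬ p ∣ orderOf y),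
        blockPart b (secFun u C χ) w * conj (blockPart b (secFun u C ψ) w) := by
    rw [Finset.sum_congr rfl fun w hw => by
      rw [hsub (Finset.mem_filter.mp hw).2 χ hχ, hsub (Finset.mem_filter.mp hw).2 ψ hψ, map_sum,
        Finset.sum_mul_sum], Finset.sum_comm]
    refine Finset.sum_congr rfl fun b hb => ?_
    rw [Finset.sum_comm, Finset.sum_eq_single b (fun b' hb' hne => hcross b hb b' hb' hne)]
    exact fun h => absurd hb h
  rw [hR]
  refine (Finset.sum_bij (fun b _ => (⟨Subgroup.zpowers u, b⟩ : BrauerPairIdx G)) (fun b hb => ?_)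
    (fun b _ b' _ h => eq_of_heq (Sigma.mk.inj_iff.mp h).2) (fun a ha => ?_) fun b hb => ?_).symm
  · exact Finset.mem_filter.mpr ⟨Finset.mem_univ _, rfl,
      (isBrauerPairOf_zpowers_iff hM hB ⟨k, hk⟩).mpr ((hT b).mp hb)⟩
  · obtain ⟨Q, b⟩ := a
    obtain ⟨-, hQ, hb⟩ := Finset.mem_filter.mp ha
    dsimp only at hQ hb
    subst hQ
    exact ⟨b, (hT b).mpr ((isBrauerPairOf_zpowers_iff hM hB ⟨k, hk⟩).mp hb), rfl⟩
  · rw [secSum]
    refine (Finset.sum_bij (fun w _ => (w : G)) (fun w hw => ?_) (fun w _ w' _ h => Subtype.ext h)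
      (fun s hs => ?_) fun w _ => ?_)
    · exact Finset.mem_filter.mpr ⟨Finset.mem_univ _, w.2, by
        rw [Subgroup.orderOf_coe]; exact (Finset.mem_filter.mp hw).2⟩
    · obtain ⟨-, hs1, hs2⟩ := Finset.mem_filter.mp hs
      exact ⟨⟨s, hs1⟩, Finset.mem_filter.mpr ⟨Finset.mem_univ _, by
        rwa [← Subgroup.orderOf_coe]⟩, rfl⟩
    · rw [secPart_eq_blockPart b hC', secPart_eq_blockPart b hC']

/-- The inner product over the elements of the defect group, for a nilpotent block. -/
theorem sum_secSum_nilpotent (hM : IsPModular p M) {B : Set (IrrCharacter G)}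
    (hmax : IsMaximalBrauerPair p M B P e) (hnil : IsNilpotentBlock p M B) [Fintype P]
    (low : P → BrauerPairIdx G)
    (hlow : ∀ y : P, (low y).1 = Subgroup.zpowers (y : G) ∧ Below p M P e (low y))
    {χ ψ : IrrCharacter G} (hχ : χ ∈ B) (hψ : ψ ∈ B) [Decidable (χ = ψ)] :
    ∑ y : P, (Nat.card (Subgroup.centralizer ({y} : Set P)) : ℂ) *
      secSum p χ ψ (y : G) (low y) / (Nat.card (CQ (Subgroup.zpowers (y : G))) : ℂ) =
      if χ = ψ then (Nat.card P : ℂ) else 0 := by
  classical
  have hpf : Fact p.Prime := ⟨hM.1⟩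
  have hB := hmax.1.2.1
  have he := hmax.1.1
  letI := Fintype.ofFinite (BrauerPairIdx G)
  have hF := isBlockFusionSystemOn_blockFusion hM hmax
  have hin := (isNilpotentBlock_iff_inner hM hF).mp hnil
  have hp : ∀ y : P, ∃ k : ℕ, orderOf (y : G) = p ^ k := fun y => by
    obtain ⟨k, hk⟩ := IsPGroup.iff_orderOf.mp he.1 y
    exact ⟨k, by rw [Subgroup.orderOf_coe, hk]⟩
  have hpair : ∀ y : P, IsBrauerPairOf p M B (low y).1 (low y).2 := fun y =>
    (SubpairLE.isBrauerPairOf_iff hM (hlow y).2).mp hmax.1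
  -- a class in `P` of equal images
  have key : ∀ u : G, (∃ k : ℕ, orderOf u = p ^ k) →
      ∑ a ∈ Finset.univ.filter (fun a : BrauerPairIdx G =>
        a.1 = Subgroup.zpowers u ∧ IsBrauerPairOf p M B a.1 a.2), secSum p χ ψ u a =
      ∑ y ∈ Finset.univ.filter (fun y : P => IsConj (y : G) u),
        (Nat.card (Subgroup.centralizer ({y} : Set P)) : ℂ) / (Nat.card P : ℂ) *
          secSum p χ ψ (y : G) (low y) := by
    intro u hu
    choose c hc using fun y : {y : P // IsConj (y : G) u} => isConj_iff.mp y.2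
    have hcS : ∀ {n v : G}, cjS n (Subgroup.zpowers v) = Subgroup.zpowers (n * v * n⁻¹) :=
      fun {n v} => MonoidHom.map_zpowers _ _
    have hstab : ∀ {n : G} {b : Set (IrrCharacter (CQ (Subgroup.zpowers u)))}, IsPBlock M b →
        Commute n u → cjP n (⟨Subgroup.zpowers u, b⟩ : BrauerPairIdx G) = ⟨Subgroup.zpowers u, b⟩ := by
      intro n b hb hn
      exact conjBlock_eq_of_mem hM hb
        (centralizer_le_normalizer' _ (mem_cq_zpowers_iff.mpr hn))
        (cinv_iff_cj.mp (cinv_eG b) n (mem_cq_zpowers_iff.mpr hn))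
    let φ : {y : P // IsConj (y : G) u} → BrauerPairIdx G := fun y => cjP (c y) (low y.1)
    have hφ : ∀ y, (φ y).1 = Subgroup.zpowers u ∧ IsBrauerPairOf p M B (φ y).1 (φ y).2 := by
      intro y
      refine ⟨?_, IsBrauerPairOf.conj hM _ (hpair y.1)⟩
      show cjS (c y) (low y.1).1 = _
      rw [(hlow y.1).1, hcS, hc y]
    have hfix : ∀ (y : {y : P // IsConj (y : G) u}) (n : G), n * (y.1 : G) * n⁻¹ = u →
        cjP n (low y.1) = φ y := by
      intro y n hn
      have hb := isPBlock_conjBlock (c y) (hpair y.1).1.2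
      have e1 : cjP n (low y.1) = cjP (n * (c y)⁻¹) (φ y) := by
        show _ = cjP (n * (c y)⁻¹) (cjP (c y) ⟨(low y.1).1, (low y.1).2⟩)
        rw [cjP_cjP hM _ _ (hpair y.1).1.2, inv_mul_cancel_right]
      rw [e1]
      have hcomm : Commute (n * (c y)⁻¹) u := by
        have h1 : (c y)⁻¹ * u * c y = (y.1 : G) :=
          (congrArg (fun w => (c y)⁻¹ * w * c y) (hc y).symm).trans (by group)
        show n * (c y)⁻¹ * u = u * (n * (c y)⁻¹)
        calc n * (c y)⁻¹ * u = n * ((c y)⁻¹ * u * c y) * n⁻¹ * (n * (c y)⁻¹) := by group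
          _ = u * (n * (c y)⁻¹) := by rw [h1, hn]
      obtain ⟨b', hpq⟩ := exists_eq_pairMk (hφ y).1
      have hb' := (hφ y).2.1.2
      rw [hpq] at hb' ⊢
      exact hstab hb' hcomm
    -- the fibres are the classes of `P`
    have hfibre : ∀ y z : {y : P // IsConj (y : G) u}, φ z = φ y ↔ IsConj y.1 z.1 := by
      intro y z
      constructor
      · intro h
        have h1 : cjP ((c z)⁻¹ * c y) (low y.1) = low z.1 := by
          have := congrArg (cjP (c z)⁻¹) h.symm
          show cjP _ ⟨(low y.1).1, (low y.1).2⟩ = _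
          rw [← cjP_cjP hM _ _ (hpair y.1).1.2]
          rw [show cjP (c y) ⟨(low y.1).1, (low y.1).2⟩ = φ y from rfl, this]
          show cjP _ (cjP (c z) ⟨(low z.1).1, (low z.1).2⟩) = _
          rw [cjP_cjP hM _ _ (hpair z.1).1.2, inv_mul_cancel, cjP_one hM (hpair z.1).1.2]
        set g := (c z)⁻¹ * c y
        have hgy : g * (y.1 : G) * g⁻¹ = (z.1 : G) := by
          calc g * (y.1 : G) * g⁻¹ = (c z)⁻¹ * (c y * (y.1 : G) * (c y)⁻¹) * c z := by
                simp only [g]; group
            _ = (c z)⁻¹ * (c z * (z.1 : G) * (c z)⁻¹) * c z := by rw [hc y, hc z]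
            _ = (z.1 : G) := by group
        have hle := SubpairLE.le (hlow y.1).2
        have hbel : Below p M P e (cjP g (low y.1)) := by rw [h1]; exact (hlow z.1).2
        have hmap : conjHom (low y.1).1 g ∈ (blockFusion hM he).Hom (low y.1).1 :=
          ⟨hle, g, fun _ => rfl, SubpairLE.le hbel, (low y.1).2, (hlow y.1).2, hbel⟩
        rw [hin] at hmap
        obtain ⟨-, v, hv, hgv⟩ := hmap
        have h2 : g * (y.1 : G) * g⁻¹ = v * (y.1 : G) * v⁻¹ :=
          hgv ⟨(y.1 : G), by rw [(hlow y.1).1]; exact Subgroup.mem_zpowers _⟩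
        refine isConj_iff.mpr ⟨⟨v, hv⟩, Subtype.ext ?_⟩
        show v * (y.1 : G) * v⁻¹ = _
        rw [← h2, hgy]
      · intro h
        obtain ⟨v, hv⟩ := isConj_iff.mp h
        have hv' : (v : G) * (y.1 : G) * (v : G)⁻¹ = (z.1 : G) := congrArg Subtype.val hv
        have hbel : Below p M P e (cjP (v : G) (low y.1)) :=
          below_conj hM (hlow y.1).2 (cjP_top_of_mem hM he v.2)
        have h3 : cjP (v : G) (low y.1) = low z.1 := by
          refine below_ext hM he hbel (hlow z.1).2 ?_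
          show cjS (v : G) (low y.1).1 = _
          rw [(hlow y.1).1, (hlow z.1).1, hcS, hv']
        rw [show φ z = cjP (c z) (cjP (v : G) ⟨(low y.1).1, (low y.1).2⟩) from by
          rw [show cjP (v : G) ⟨(low y.1).1, (low y.1).2⟩ = low z.1 from h3],
          cjP_cjP hM _ _ (hpair y.1).1.2]
        refine hfix y _ ?_
        rw [show c z * (v : G) * (y.1 : G) * (c z * (v : G))⁻¹ =
          c z * ((v : G) * (y.1 : G) * (v : G)⁻¹) * (c z)⁻¹ by group, hv', hc z]
    -- sum fibrewise
    rw [Finset.sum_subtype (p := fun y : P => IsConj (y : G) u) _ (fun y => by simp),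
      ← Finset.sum_fiberwise_of_maps_to (g := φ) (t := Finset.univ.filter (fun a : BrauerPairIdx G =>
        a.1 = Subgroup.zpowers u ∧ IsBrauerPairOf p M B a.1 a.2))
        fun y _ => Finset.mem_filter.mpr ⟨Finset.mem_univ _, hφ y⟩]
    refine Finset.sum_congr rfl fun a ha => ?_
    obtain ⟨-, ha1, ha2⟩ := Finset.mem_filter.mp ha
    obtain ⟨y0, hy0⟩ : ∃ y, φ y = a := by
      obtain ⟨Q, b⟩ := a
      dsimp only at ha1 ha2
      subst ha1
      obtain ⟨x, hx⟩ := exists_conj_subpairLE hM hmax ha2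
      have hxP : x * u * x⁻¹ ∈ P :=
        SubpairLE.le hx (Subgroup.mem_map_of_mem (MulAut.conj x).toMonoidHom (Subgroup.mem_zpowers u))
      refine ⟨⟨⟨_, hxP⟩, isConj_iff.mpr ⟨x⁻¹, by group⟩⟩, ?_⟩
      have hl : low ⟨_, hxP⟩ = cjP x ⟨Subgroup.zpowers u, b⟩ :=
        below_ext hM he (hlow _).2 hx ((hlow _).1.trans hcS.symm)
      refine Eq.trans (hfix ⟨⟨_, hxP⟩, _⟩ x⁻¹ (by group)).symm ?_
      rw [hl, cjP_cjP hM _ _ ha2.1.2, inv_mul_cancel, cjP_one hM ha2.1.2]
    have hF0 : ∀ y : {y : P // IsConj (y : G) u}, φ y = a →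
        secSum p χ ψ (y.1 : G) (low y.1) = secSum p χ ψ u a := fun y hy => by
      rw [← secSum_cjP χ ψ (c y) (y.1 : G) (low y.1), hc y]
      exact congrArg _ hy
    have hcard : ∀ y : {y : P // IsConj (y : G) u}, φ y = a →
        Nat.card (Subgroup.centralizer ({y.1} : Set P)) *
          (Finset.univ.filter (fun z : {y : P // IsConj (y : G) u} => φ z = a)).card = Nat.card P := by
      intro y hy
      have e1 : (Finset.univ.filter (fun z : {y : P // IsConj (y : G) u} => φ z = a)).card =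
          Nat.card {z : P // IsConj y.1 z} := by
        rw [← Fintype.card_subtype, ← Nat.card_eq_fintype_card]
        have hz : ∀ z : {z : P // IsConj y.1 z}, IsConj (z.1 : G) u :=
          fun z => (P.subtype.map_isConj z.2).symm.trans y.2
        exact Nat.card_congr
          ⟨fun z => ⟨z.1.1, (hfibre y z.1).mp (z.2.trans hy.symm)⟩,
            fun z => ⟨⟨z.1, hz z⟩, ((hfibre y ⟨z.1, hz z⟩).mpr z.2).trans hy⟩,
            fun z => Subtype.ext (Subtype.ext rfl), fun z => Subtype.ext rfl⟩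
      rw [e1, Char.card_isConj, mul_comm, Subgroup.index_mul_card]
    rw [Finset.sum_congr rfl (g := fun _ =>
        ((Finset.univ.filter (fun z : {y : P // IsConj (y : G) u} => φ z = a)).card : ℂ)⁻¹ *
          secSum p χ ψ u a) fun y hy => ?_, Finset.sum_const, nsmul_eq_mul, ← mul_assoc,
      mul_inv_cancel₀ (Nat.cast_ne_zero.mpr (Finset.card_pos.mpr
        ⟨y0, Finset.mem_filter.mpr ⟨Finset.mem_univ _, hy0⟩⟩).ne'), one_mul]
    have hy' := (Finset.mem_filter.mp hy).2
    rw [hF0 y hy']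
    congr 1
    have h := hcard y hy'
    rw [← h, Nat.cast_mul, div_mul_eq_div_div,
      div_self (Nat.cast_ne_zero.mpr Nat.card_pos.ne'), one_div]
  have htot := sum_secSum_eq hM hB (χ := χ) (ψ := ψ) hχ hψ
  rw [Finset.sum_congr rfl fun u hu => key u (Finset.mem_filter.mp hu).2] at htot
  rw [Finset.sum_comm' (t' := (Finset.univ : Finset P))
    (s' := fun y => Finset.univ.filter (fun u : G => IsConj (y : G) u)) (fun u y => by
      simp only [Finset.mem_filter, Finset.mem_univ, true_and]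
      refine ⟨fun h => ⟨h.2, trivial⟩, fun h => ⟨?_, h.1⟩⟩
      obtain ⟨d, hd⟩ := isConj_iff.mp h.1
      rw [← hd, orderOf_conj_eq]
      exact hp y)] at htot
  simp only [Finset.sum_const, nsmul_eq_mul] at htot
  have hG : (Nat.card G : ℂ) ≠ 0 := Nat.cast_ne_zero.mpr Nat.card_pos.ne'
  have hPne : (Nat.card P : ℂ) ≠ 0 := Nat.cast_ne_zero.mpr Nat.card_pos.ne'
  have hy : ∀ y : P, ((Finset.univ.filter (fun u : G => IsConj (y : G) u)).card : ℂ) *
      (Nat.card (CQ (Subgroup.zpowers (y : G))) : ℂ) = (Nat.card G : ℂ) := fun y => by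
    rw [← Fintype.card_subtype, ← Nat.card_eq_fintype_card, Char.card_isConj, ← Nat.cast_mul,
      show CQ (Subgroup.zpowers (y : G)) = Subgroup.centralizer ({(y : G)} : Set G) by
        ext t; rw [mem_cq_zpowers_iff, Subgroup.mem_centralizer_singleton_iff]; exact Iff.rfl,
      Subgroup.index_mul_card]
  apply mul_left_cancel₀ (div_ne_zero hG hPne)
  rw [Finset.mul_sum]
  refine Eq.trans (Finset.sum_congr rfl fun y _ => ?_) (htot.trans ?_)
  · rw [← hy y]
    have : (Nat.card (CQ (Subgroup.zpowers (y : G))) : ℂ) ≠ 0 :=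
      Nat.cast_ne_zero.mpr Nat.card_pos.ne'
    field_simp
  · split_ifs
    · field_simp
    · rw [mul_zero]

end CfsgLib.Block
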