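import Cfsg.Agent.Lib.Block.CoveringMax
import Cfsg.Agent.Lib.Block.SubsectionSum

/-!
# The stabilizer of a covered block meets a `p`-extension trivially
-/

open Finset MonoidAlgebra
open scoped ComplexConjugate

set_option linter.unusedSectionVars false

namespace CfsgLib.Block

open Cfsg CfsgLib.Block.Iso
open scoped Pair

universe u

variable {p : ℕ} {M : Ideal AlgInt} [M.IsMaximal] {G : Type u} [Group G] [Fintype G] [DecidableEq G]
  {N L : Subgroup G} [hNn : N.Normal] [hLn : L.Normal] [Fintype N]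

/-- Elements of the normal subgroup fix each of its characters. -/
theorem cjN_image_of_mem {A : Type u} [Group A] [Fintype A] [DecidableEq A] {K : Subgroup A}
    [K.Normal] [Fintype K] {g : A} (hg : g ∈ K)
    (S : Set (IrrCharacter K)) : cjN g '' S = S := by
  have h : ∀ θ : IrrCharacter K, cjN g θ = θ := fun θ => Subtype.ext (funext fun n => by
    rw [cjN_apply]
    have := Char.isClassFunction_irr θ n (⟨g, hg⟩ : K)⁻¹
    rw [← this]
    exact congrArg _ (Subtype.ext (by simp)))
  rw [Set.image_congr (fun θ (_ : θ ∈ S) => h θ), Set.image_id']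

/-- An element stabilizing the covered block in the extension lies in the normal subgroup. -/
theorem mem_of_stabilizes_of_defect_le (hM : IsPModular p M) (hNL : N ≤ L)
    (hLN : ∃ k : ℕ, (N.subgroupOf L).index = p ^ k) {B : Set (IrrCharacter G)} (hB : IsPBlock M B)
    {c : Set (IrrCharacter N)} (hc : IsPBlock M c) (hcov : Covers B c) {D : Subgroup G}
    (hD : IsDefectGroup p M B D) (hDN : D ≤ N) {x : G} (hxL : x ∈ L)
    (hx : StabilizesBlock N c x) : x ∈ N := by
  classical
  have hpf : Fact p.Prime := ⟨hM.1⟩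
  have := Fintype.ofFinite (IrrCharacter G)
  have := Fintype.ofFinite (IrrCharacter L)
  have := Fintype.ofFinite (ConjClasses L)
  have := Fintype.ofFinite (G ⧸ L)
  obtain ⟨k, hk⟩ := hLN
  set Nl := N.subgroupOf L with hNl
  have := Fintype.ofFinite (ConjClasses Nl)
  have := Fintype.ofFinite (L ⧸ Nl)
  let e : Nl ≃* N := Subgroup.subgroupOfEquivOfLe hNL
  set c1 := irrEquiv e.symm '' c with hc1
  have hc1b : IsPBlock M c1 := isPBlock_image_irrEquiv _ hc
  -- the block of the extension
  obtain ⟨χ, hχ, θ, hθ, hinner⟩ := hcov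
  obtain ⟨η, hη1, hη2⟩ : ∃ η : IrrCharacter L, classInner (fun l : L => (χ : G → ℂ) l) (η : L → ℂ) ≠ 0 ∧
      classInner (fun n : Nl => (η : L → ℂ) n) (irrEquiv e.symm θ : Nl → ℂ) ≠ 0 := by
    by_contra hall
    push Not at hall
    refine hinner ?_
    have hexp := Char.classFun_expand (f := fun l : L => (χ : G → ℂ) l)
      (fun a b => Char.isClassFunction_irr χ (a : G) (b : G))
    have h1 : classInner (fun n : N => (χ : G → ℂ) n) (θ : N → ℂ) =
        classInner (fun n : Nl => (χ : G → ℂ) ((n : L) : G)) (irrEquiv e.symm θ : Nl → ℂ) := by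
      simp only [classInner]
      rw [Nat.card_congr e.toEquiv]
      congr 1
      refine (Fintype.sum_equiv e.toEquiv _ _ fun n => ?_).symm
      simp [e]
      exact Or.inl rfl
    rw [h1, show (fun n : Nl => (χ : G → ℂ) ((n : L) : G)) = ∑ η : IrrCharacter L,
      classInner (fun l : L => (χ : G → ℂ) l) (η : L → ℂ) • (fun n : Nl => (η : L → ℂ) n) from ?_,
      Char.classInner_sum_left]
    · refine Finset.sum_eq_zero fun η _ => ?_
      rw [Char.classInner_smul_left]
      by_cases h : classInner (fun l : L => (χ : G → ℂ) l) (η : L → ℂ) = 0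
      · rw [h, zero_mul]
      · rw [hall η h, mul_zero]
    · funext n
      have h2 := congrFun hexp (n : L)
      simpa [Finset.sum_apply] using h2
  set bL := blockOf M (η : L → ℂ) with hbL
  have hbLb : IsPBlock M bL := isPBlock_blockOf η
  have hBL : Covers B bL := ⟨χ, hχ, η, self_mem_blockOf η, hη1⟩
  have hLc : Covers bL c1 := ⟨η, self_mem_blockOf η, _, ⟨θ, hθ, rfl⟩, hη2⟩
  -- its defect groups lie in `N`
  obtain ⟨E, hE⟩ := exists_defectGroup hM hbLb
  obtain ⟨P, hP, hPE⟩ := hBL.exists_defect_inf hM hB hbLb (Subgroup.map_subtype_le E)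
    (by rwa [Subgroup.subgroupOf, Subgroup.comap_map_eq_self_of_injective L.subtype_injective])
  obtain ⟨d, hd⟩ := defectGroup_conj hM hB hD hP
  have hEN : E ≤ Nl := fun v hv => by
    have h1 : (v : G) ∈ P := by
      have : (v : G) ∈ E.map L.subtype := ⟨v, hv, rfl⟩
      rw [← hPE] at this
      exact this.1
    rw [← hd] at h1
    obtain ⟨u, hu, hue⟩ := h1
    rw [hNl, Subgroup.mem_subgroupOf, ← hue]
    exact hNn.conj_mem u (hDN hu) d
  by_contra hxN
  -- a `p`-element outside `N` fixing the block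
  set xL : L := ⟨x, hxL⟩ with hxLdef
  obtain ⟨u', w', huw, -, ⟨i, hi⟩, hw'⟩ :=
    exists_isPPart (p := p) hM.1 (⟨xL, Subgroup.mem_zpowers xL⟩ : Subgroup.zpowers xL)
  have hmemN : ∀ w : L, ¬ p ∣ orderOf w → w ∈ Nl := by
    intro w hw
    have h1 : orderOf (w : L ⧸ Nl) ∣ p ^ k := hk ▸ Nl.index_eq_card ▸ orderOf_dvd_natCard _
    obtain ⟨j, -, hj⟩ := (Nat.dvd_prime_pow hM.1).mp h1
    refine (QuotientGroup.eq_one_iff w).mp (orderOf_eq_one_iff.mp ?_)
    rcases Nat.eq_zero_or_pos j with hj0 | hj0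
    · rw [hj, hj0, pow_zero]
    · exact absurd ((dvd_pow_self p hj0.ne').trans
        (hj ▸ orderOf_map_dvd (QuotientGroup.mk' Nl) w)) hw
  have hxNl : xL ∉ Nl := hxN
  have hu'N : (u' : L) ∉ Nl := fun h => hxNl (by
    rw [show xL = (u' : L) * (w' : L) from (congrArg Subtype.val huw).symm]
    exact mul_mem h (hmemN _ (by rwa [Subgroup.orderOf_coe])))
  have hst1 : cjN xL '' c1 = c1 := by
    have h1 := stabilizesBlock_iff_cjN.mp hx
    rw [hc1, Set.image_image]
    conv_rhs => rw [← h1, Set.image_image]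
    refine Set.image_congr fun φ _ => Subtype.ext (funext fun n => ?_)
    simp only [cjN_apply, irrEquiv_apply, MulEquiv.symm_symm]
    exact congrArg _ (Subtype.ext rfl)
  let St : Subgroup L :=
    { carrier := {v | cjN v '' c1 = c1}
      one_mem' := cjN_one_image c1
      mul_mem' := fun {a b} (ha : cjN a '' c1 = c1) (hb : cjN b '' c1 = c1) => by
        show cjN (a * b) '' c1 = c1
        rw [← cjN_image_image, hb, ha]
      inv_mem' := fun {a} (ha : cjN a '' c1 = c1) => by
        show cjN a⁻¹ '' c1 = c1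
        conv_lhs => rw [← ha, cjN_image_image, inv_mul_cancel, cjN_one_image] }
  have huSt : (u' : L) ∈ St := (Subgroup.zpowers_le (H := St)).mpr hst1 u'.2
  have hstS : ∀ v ∈ Subgroup.zpowers (u' : L), cjN v '' c1 = c1 := fun v hv =>
    (Subgroup.zpowers_le (H := St)).mpr huSt hv
  obtain ⟨s, -, hsc, hs⟩ := exists_fixed_defect_class hM hc1b (S := Subgroup.zpowers (u' : L))
    (isPGroup_zpowers ⟨i, by rw [Subgroup.orderOf_coe, hi]⟩) hstS
  obtain ⟨n, hn⟩ := hs _ (Subgroup.mem_zpowers _)
  have hnSt : ((n : L) * (u' : L)) ∈ St := mul_mem (cjN_image_of_mem n.2 c1) huSt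
  obtain ⟨v, w, hvw, -, ⟨j, hj⟩, hwr⟩ := exists_isPPart (p := p) hM.1
    (⟨(n : L) * (u' : L), hn, hnSt⟩ :
      (Subgroup.centralizer ({(s : L)} : Set L) ⊓ St : Subgroup L))
  have hvN : (v : L) ∉ Nl := fun h => hu'N (by
    have h1 : (n : L) * (u' : L) = (v : L) * (w : L) := (congrArg Subtype.val hvw).symm
    rw [show (u' : L) = (n : L)⁻¹ * ((v : L) * (w : L)) by rw [← h1, inv_mul_cancel_left]]
    exact mul_mem (inv_mem n.2) (mul_mem h (hmemN _ (by rwa [Subgroup.orderOf_coe]))))
  set R := Subgroup.zpowers (v : L) with hR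
  have hRp : IsPGroup p R := isPGroup_zpowers ⟨j, by rw [Subgroup.orderOf_coe, hj]⟩
  have hvc : Commute (v : L) (s : L) := Subgroup.mem_centralizer_singleton_iff.mp v.2.1
  have hsR : (s : L) ∈ CQ R := mem_cq_zpowers_iff.mpr hvc.symm
  -- the Brauer image at `R`
  have hprod : (blockBar M bL : MonoidAlgebra (ResField M) L) * eG M c1 = eG M c1 := by
    rw [blockBar_eq_orbSet_of_ppow hM ⟨k, hk⟩ hbLb hc1b hLc, eG, eG, ← emb_mul, ← MulMemClass.coe_mul]
    congr 2
    refine eq_of_omegaBar_eq_of_idem hM ?_ (blockBar_mul_self hM (.of_isPBlock hc1b)) fun φ => ?_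
    · rw [mul_mul_mul_comm, blockBar_mul_self hM (isBlockUnion_orbSet hc1b),
        blockBar_mul_self hM (.of_isPBlock hc1b)]
    · rw [map_mul, omegaBar_blockBar hM (isBlockUnion_orbSet hc1b),
        omegaBar_blockBar hM (.of_isPBlock hc1b)]
      by_cases h2 : φ ∈ c1
      · rw [if_pos h2, if_pos (subset_orbSet c1 h2), one_mul]
      · rw [if_neg h2, mul_zero]
  have hcR : CInv R (eG M c1) := cinv_iff_cj.mpr fun r hr => by
    rw [← cj_eG_cjN]
    congr 1
    exact (Subgroup.zpowers_le (H := St)).mpr v.2.2 hr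
  obtain ⟨y, hy, hyc⟩ : ∃ y ∈ CQ R, coeffRes M bL y ≠ 0 := by
    by_contra hall
    push Not at hall
    have h0 : trC R (blockBar M bL : MonoidAlgebra (ResField M) L) = 0 := ga_ext fun g => by
      by_cases hg : g ∈ CQ R
      · rw [coeff_trC _ hg, coeff_blockBar, hall g hg]; simp
      · rw [suppIn_trC _ g hg]; simp
    have h1 := trC_mul hM hRp (cinv_of_central (blockBar M bL) R) hcR
    rw [hprod, h0, zero_mul] at h1
    have h2 := congrArg (fun z : MonoidAlgebra (ResField M) L => z.coeff (s : L)) h1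
    simp only [coeff_trC _ hsR, coeff_eG] at h2
    exact hsc (h2.trans (by simp))
  obtain ⟨a, ha⟩ := conjLE_iff.mp (coeff_ne_zero_le_defect hM hbLb hE hRp hyc
    fun r hr => Subgroup.mem_centralizer_iff.mp hy r hr)
  have h3 := hEN (ha (v : L) (Subgroup.mem_zpowers _))
  exact hvN (by simpa [mul_assoc] using (inferInstance : Nl.Normal).conj_mem _ h3 a⁻¹)

end CfsgLib.Block
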