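import Cfsg.Agent.Lib.Block.CentralDefect
import Cfsg.Agent.Lib.Block.Correspondence
import Cfsg.Agent.Lib.Block.CoveringMax
import Cfsg.Agent.Lib.Block.FusionSat
import Cfsg.Agent.Lib.Block.MaxPairs

/-!
# A single block over a stable block whose defect group has its centralizer inside

If `U` is normal in `G`, the block `b` of `U` is `G`-stable with defect group `Q`, `C_G(Q) ≤ U` and
`N_U(Q) = Q C_U(Q)`, then one block of `G` covers `b`, and its defect is as large as possible.
-/

open Finset MonoidAlgebra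
open scoped ComplexConjugate

set_option linter.unusedSectionVars false

namespace CfsgLib.Block

open Cfsg
open scoped Pair

universe u

variable {p : ℕ} {M : Ideal AlgInt} [M.IsMaximal] {G : Type u} [Group G] [Fintype G] [DecidableEq G]
  [Fintype (IrrCharacter G)] {Q : Subgroup G}

/-- The block of a character of the centralizer at which the idempotent is one is a pair of the block. -/
theorem isBrauerPairOf_blockOf_of_omG_one (hM : IsPModular p M) (hQ : IsPGroup p Q)
    {B : Set (IrrCharacter G)} (hB : IsPBlock M B) {ξ : IrrCharacter (CQ Q)}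
    (h : omG M ξ (blockBar M B : MonoidAlgebra (ResField M) G) = 1) :
    IsBrauerPairOf p M B Q (blockOf M (ξ : CQ Q → ℂ)) := by
  classical
  obtain ⟨B', hB', -⟩ := existsUnique_block_of_pair (G := G) hM
    (e := blockOf M (ξ : CQ Q → ℂ)) ⟨hQ, isPBlock_blockOf ξ⟩
  obtain ⟨χ, hχ⟩ := isPBlock_nonempty hB'.2.1
  have h1 := ((isBrauerPairOf_iff_omG hM).mp hB').2.2 ξ (self_mem_blockOf ξ) χ hχ (blockBar M B)
  rw [h, omegaBar_blockBar hM (.of_isPBlock hB)] at h1
  by_cases hc : χ ∈ B
  · rwa [isPBlock_eq_of_mem hB hB'.2.1 hc hχ]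
  · rw [if_neg hc] at h1
    exact absurd h1 one_ne_zero

/-- A pair of a block is met by its idempotent with the value one. -/
theorem omG_blockBar_of_pair (hM : IsPModular p M) {B : Set (IrrCharacter G)}
    {f : Set (IrrCharacter (CQ Q))} (h : IsBrauerPairOf p M B Q f) {ξ : IrrCharacter (CQ Q)}
    (hξ : ξ ∈ f) : omG M ξ (blockBar M B : MonoidAlgebra (ResField M) G) = 1 := by
  classical
  obtain ⟨χ, hχ⟩ := isPBlock_nonempty h.2.1
  rw [((isBrauerPairOf_iff_omG hM).mp h).2.2 ξ hξ χ hχ, omegaBar_blockBar hM (.of_isPBlock h.2.1),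
    if_pos hχ]

/-- When the normalizer of the defect group acts trivially on the blocks of its centralizer, the
idempotent of the block truncates to that of a single block. -/
theorem exists_single_pair (hM : IsPModular p M) {b : Set (IrrCharacter G)} (hb : IsPBlock M b)
    (hQ : IsDefectGroup p M b Q) (hN : Subgroup.normalizer (Q : Set G) ≤ Q ⊔ CQ Q) :
    ∃ f : Set (IrrCharacter (CQ Q)), IsPBlock M f ∧
      ∀ k : CQ Q, coeffRes M b (k : G) = coeffRes M f k := by
  classical
  have hpQ := isPGroup_defectGroup hM hb hQ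
  set y := trC Q (blockBar M b : MonoidAlgebra (ResField M) G) with hy
  have hys : SuppIn (CQ Q) y := suppIn_trC _
  have hcyy : y * y = y := by
    rw [hy, ← trC_mul hM hpQ (cinv_of_central _ _) (cinv_of_central _ _), ← MulMemClass.coe_mul,
      blockBar_mul_self hM (.of_isPBlock hb)]
  have hyc : CInv (CQ Q) y := (cinv_of_central _ _).trC (centralizer_le_normalizer' Q)
  obtain ⟨x, hx, hxc⟩ := (brauer_blockIdem_ne_zero_iff hM hb hQ hpQ).mpr (conjLE_of_le le_rfl)
  obtain ⟨η, hη⟩ := exists_omG_eq_one hM hys hyc hcyy (g := x)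
    (by rw [hy, coeff_trC _ hx, coeff_blockBar]; exact hxc)
  have homG : ∀ ξ : IrrCharacter (CQ Q),
      omG M ξ y = omG M ξ (blockBar M b : MonoidAlgebra (ResField M) G) := fun ξ =>
    omG_congr ξ fun g hg => coeff_trC _ hg
  rw [homG] at hη
  set f := blockOf M (η : CQ Q → ℂ)
  have hf : IsPBlock M f := isPBlock_blockOf η
  have hpair := isBrauerPairOf_blockOf_of_omG_one hM hpQ hb hη
  have hmax : IsMaximalBrauerPair p M b Q f := by
    obtain ⟨D, d, hd, hle⟩ := exists_maximal_above hM Q f hpair
    obtain rfl : Q = D := Subgroup.eq_of_le_of_card_ge (SubpairLE.le hle) (by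
      rw [defectGroup_card hM hb (isDefectGroup_of_maximal hM hd), defectGroup_card hM hb hQ])
    rwa [SubpairLE.eq_of_eq hM hle]
  refine ⟨f, hf, fun k => ?_⟩
  have hz : brC M hM hpQ (blockBar M b) = blockBar M f := by
    refine eq_of_omegaBar_eq_of_idem hM (by rw [← map_mul, blockBar_mul_self hM (.of_isPBlock hb)])
      (blockBar_mul_self hM (.of_isPBlock hf)) fun ξ => ?_
    rw [← omG_eq ξ (blockBar M b : MonoidAlgebra (ResField M) G) _ fun c => coeff_brC hM hpQ _ c,
      omegaBar_blockBar hM (.of_isPBlock hf)]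
    split_ifs with hξ
    · exact omG_blockBar_of_pair hM hpair hξ
    · by_contra hne
      have h1 : omG M ξ (blockBar M b : MonoidAlgebra (ResField M) G) = 1 := by
        have h2 := omG_mul ξ hys hys hyc hyc
        rw [hcyy, homG] at h2
        exact (mul_right_cancel₀ hne ((one_mul _).trans h2)).symm
      obtain ⟨n, hn, hne'⟩ := exists_conjN_eq hM hmax (isBrauerPairOf_blockOf_of_omG_one hM hpQ hb h1)
      refine hξ ?_
      have h3 : blockOf M (ξ : CQ Q → ℂ) = f := by
        refine eG_inj hM (isPBlock_blockOf ξ) hf ?_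
        rw [← hne', eG_conjN hn]
        exact cinv_iff_cj.mp (cinv_sup (cinv_self_eG f) (cinv_eG f)) n (hN hn)
      exact h3 ▸ self_mem_blockOf ξ
  have h4 := congrArg (fun w : ZK M (CQ Q) => (w : MonoidAlgebra (ResField M) (CQ Q)).coeff k) hz
  simpa [coeff_brC, coeff_blockBar] using h4

variable {U : Subgroup G} [hUn : U.Normal]

/-- The blocks covering a stable block whose defect group has its centralizer in `U`. -/
theorem covers_unique_of_cq_le (hM : IsPModular p M) {b : Set (IrrCharacter U)} (hb : IsPBlock M b)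
    (hst : ∀ g : G, cjN g '' b = b) (hQU : Q ≤ U) (hQ : IsDefectGroup p M b (Q.subgroupOf U))
    (hC : CQ Q ≤ U)
    (hN : Subgroup.normalizer (Q.subgroupOf U : Set U) ≤ Q.subgroupOf U ⊔ CQ (Q.subgroupOf U))
    {B B' : Set (IrrCharacter G)} (hB : IsPBlock M B) (hB' : IsPBlock M B')
    (hc : Covers B b) (hc' : Covers B' b) : B = B' := by
  classical
  have := Fintype.ofFinite (IrrCharacter U)
  have := Fintype.ofFinite (G ⧸ U)
  have hpQ : IsPGroup p Q :=
    (isPGroup_defectGroup hM hb hQ).of_equiv (Subgroup.subgroupOfEquivOfLe hQU)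
  obtain ⟨f', hf', hcoef⟩ := exists_single_pair hM hb hQ hN
  set f : Set (IrrCharacter (CQ Q)) := irrEquiv (cqInT hC hQU).symm '' f' with hfdef
  have hf : IsPBlock M f := isPBlock_image_irrEquiv _ hf'
  have hff : irrEquiv (cqInT hC hQU) '' f = f' := by
    rw [hfdef, Set.image_image]
    conv_rhs => rw [← Set.image_id f']
    refine Set.image_congr fun ξ _ => Subtype.ext (funext fun t => ?_)
    simp [irrEquiv_apply]
  have htr : ∀ g ∈ CQ Q, (eG M b).coeff g = (eG M f).coeff g := by
    intro g hg
    have h1 := coeff_eG (M := M) b ⟨g, hC hg⟩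
    have h2 := hcoef (cqInT hC hQU ⟨g, hg⟩)
    have h3 := coeff_eG_inT (M := M) hC hQU f ⟨g, hC hg⟩
    rw [hff] at h3
    rw [show g = ((⟨g, hC hg⟩ : U) : G) from rfl, h1, ← h3]
    refine h2.trans (coeff_eG (M := M) f' (cqInT hC hQU ⟨g, hg⟩)).symm
  have key : ∀ B : Set (IrrCharacter G), IsPBlock M B → Covers B b → IsBrauerPairOf p M B Q f := by
    intro B hB hc
    obtain ⟨x, hx, hxc⟩ := hc.exists_coeff_ne_zero hM hB hb hQU hQ
    set e := (blockBar M B : MonoidAlgebra (ResField M) G) with he
    have hee : e * e = e := by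
      rw [he, ← MulMemClass.coe_mul, blockBar_mul_self hM (.of_isPBlock hB)]
    obtain ⟨ξ, hξ⟩ := exists_omG_eq_one (K := CQ Q) hM (suppIn_trC (R := Q) e)
      ((cinv_of_central _ _).trC (centralizer_le_normalizer' Q))
      (by rw [← trC_mul hM hpQ (cinv_of_central _ _) (cinv_of_central _ _), hee])
      (g := x) (by rw [coeff_trC _ hx, he, coeff_blockBar]; exact hxc)
    rw [omG_congr ξ fun g hg => coeff_trC e hg] at hξ
    have hmul := hc.blockBar_mul hM hB hb
    rw [orbSet_eq_of_stable hst, ← he] at hmul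
    have hcinv : CInv ⊤ (eG M b) := by
      have := cinv_eG_orbSet (G := G) (M := M) b
      rwa [orbSet_eq_of_stable hst] at this
    have h1 := omG_mul_fixed hM hpQ ξ (a := e) (b := eG M b) (cinv_of_central _ _)
      (hcinv.mono le_top) (cinv_of_central _ _) (hcinv.mono le_top)
    rw [hmul, hξ, one_mul] at h1
    rw [omG_congr ξ htr] at h1
    have h2 : ξ ∈ f := by
      by_contra hn
      rw [omG_eG hM hf, if_neg hn] at h1
      exact one_ne_zero h1
    have h3 := isBrauerPairOf_blockOf_of_omG_one hM hpQ hB hξ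
    rwa [isPBlock_eq_of_mem (isPBlock_blockOf ξ) hf (self_mem_blockOf ξ) h2] at h3
  obtain ⟨B₀, -, huniq⟩ := existsUnique_block_of_pair (G := G) hM (e := f) ⟨hpQ, hf⟩
  exact (huniq B (key B hB hc)).trans (huniq B' (key B' hB' hc')).symm

/-- The defect of the block covering such a block. -/
theorem defect_ge_of_cq_le (hM : IsPModular p M) {b : Set (IrrCharacter U)} (hb : IsPBlock M b)
    (hst : ∀ g : G, cjN g '' b = b) (hQU : Q ≤ U) (hQ : IsDefectGroup p M b (Q.subgroupOf U))
    (hC : CQ Q ≤ U)
    (hN : Subgroup.normalizer (Q.subgroupOf U : Set U) ≤ Q.subgroupOf U ⊔ CQ (Q.subgroupOf U))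
    {B : Set (IrrCharacter G)} (hB : IsPBlock M B) (hc : Covers B b) :
    blockDefect p b + U.index.factorization p ≤ blockDefect p B := by
  classical
  have := Fintype.ofFinite (IrrCharacter U)
  have := Fintype.ofFinite (G ⧸ U)
  obtain ⟨B', hB', hc', hge⟩ := exists_covers_defect_ge hM hb hst
  rwa [covers_unique_of_cq_le hM hb hst hQU hQ hC hN hB hB' hc hc']

end CfsgLib.Block
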