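import Cfsg.Agent.Lib.Block.Lift
import Cfsg.Agent.Lib.Block.Subsection

/-!
# Values of characters at idempotents times `p`-elements

The value at `x c` for an idempotent `c` fixed by the `p`-element `x` depends only on the
reduction of `c` on the centralizer of `x`; values at idempotents see only the regular part.
-/

open Finset MonoidAlgebra
open scoped ComplexConjugate

set_option linter.unusedSectionVars false

namespace CfsgLib.Block

open Cfsg

universe u

variable {p : ℕ} {M : Ideal AlgInt} [M.IsMaximal] {G : Type u} [Group G] [Fintype G] [DecidableEq G]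

/-- The value of a function extended linearly to the group algebra. -/
def evalGA (f : G → ℂ) (c : MonoidAlgebra (locRing M) G) : ℂ := ∑ t : G, (c.coeff t : ℂ) * f t

theorem blockIdem_univ (hM : IsPModular p M) :
    (blockIdem M (Set.univ : Set (IrrCharacter G)) : MonoidAlgebra (locRing M) G) = 1 := by
  classical
  have := Fintype.ofFinite (IrrCharacter G)
  refine ga_ext fun g => Subtype.ext ?_
  rw [coe_coeff_blockIdem hM IsBlockUnion.univ, blockCoeff, finsum_mem_univ, finsum_eq_sum_of_fintype]
  have h := Char.sum_irr_mul_conj (1 : G) g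
  rw [h]
  rw [MonoidAlgebra.one_def, MonoidAlgebra.coeff_single, Finsupp.single_apply]
  by_cases hg : (1 : G) = g
  · subst hg
    rw [if_pos (IsConj.refl 1), if_pos rfl, show Subgroup.centralizer ({(1 : G)} : Set G) = ⊤ from
      eq_top_iff.mpr fun u _ => Subgroup.mem_centralizer_singleton_iff.mpr (by simp),
      Subgroup.card_top, inv_mul_cancel₀ (Nat.cast_ne_zero.mpr Nat.card_pos.ne'), OneMemClass.coe_one]
  · rw [if_neg fun h' => hg (isConj_one_right.mp h').symm, if_neg hg, mul_zero, ZeroMemClass.coe_zero]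

variable [Fintype (IrrCharacter G)]

/-- The two-sided trace with a group element on the left. -/
theorem coe_biTrace_single (hM : IsPModular p M) (g : G) (c : MonoidAlgebra (locRing M) G) :
    ((biTrace (single g (1 : locRing M)) c : locRing M) : ℂ) =
      ∑ ψ : IrrCharacter G, (ψ : G → ℂ) g * evalGA (ψ : G → ℂ) c := by
  have h := coe_biTrace_blockIdem_right hM IsBlockUnion.univ g c
  rw [blockIdem_univ hM, one_mul] at h
  rw [h]
  simp only [evalGA, Finset.mul_sum, Set.mem_univ, finsum_true, finsum_eq_sum_of_fintype]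
  rw [Finset.sum_comm]
  exact Finset.sum_congr rfl fun ψ _ => Finset.sum_congr rfl fun t _ => by ring

theorem evalGA_single_mul (f : G → ℂ) (x : G) (c : MonoidAlgebra (locRing M) G) :
    evalGA f (single x 1 * c) = ∑ t : G, (c.coeff t : ℂ) * f (x * t) := by
  rw [evalGA]
  refine Fintype.sum_equiv (Equiv.mulLeft x⁻¹) _ _ fun t => ?_
  simp [coeff_single_mul']

/-- Transfer: idempotents agreeing modulo `M` on the centralizer of `x` have the same values. -/
theorem sum_idem_mul_pElement_congr (hM : IsPModular p M) {x : G}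
    (hxp : ∃ k : ℕ, orderOf x = p ^ k) {c c' : MonoidAlgebra (locRing M) G} (hc : c * c = c)
    (hc' : c' * c' = c') (hxc : Commute (single x 1) c) (hxc' : Commute (single x 1) c')
    (hres : ∀ t, Commute t x → res M (c.coeff t) = res M (c'.coeff t)) (χ : IrrCharacter G) :
    ∑ t : G, (c.coeff t : ℂ) * (χ : G → ℂ) (x * t) =
      ∑ t : G, (c'.coeff t : ℂ) * (χ : G → ℂ) (x * t) := by
  classical
  have hpf : Fact p.Prime := ⟨hM.1⟩
  have := charP_resField hM
  have := charZero_locRing M
  obtain ⟨k, hk⟩ := hxp
  have hxk : x ^ p ^ k = 1 := by rw [← hk, pow_orderOf_eq_one]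
  have hinv : ∀ {d : MonoidAlgebra (locRing M) G}, Commute (single x 1) d →
      Commute (single x⁻¹ 1) d := fun {d} hd => by
    rw [commute_single_iff] at hd ⊢
    intro g
    conv_rhs => rw [show g = x * (x⁻¹ * g * x⁻¹⁻¹) * x⁻¹ by group]
    rw [hd]
  have key : ∀ g : G, biTrace (single g (1 : locRing M)) (single x 1 * c) =
      biTrace (single g (1 : locRing M)) (single x 1 * c') := by
    intro g
    obtain ⟨xg, ys, hsx, hxs, ⟨k', hk'⟩, hys⟩ := exists_isPPart hM.1 g
    obtain ⟨ζ, hζ⟩ := exists_primitiveRoot_locRing M (orderOf ys) (orderOf_pos ys).ne'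
    obtain ⟨η, hη⟩ := exists_primitiveRoot_locRing M (p ^ (k + k')) (pow_ne_zero _ hM.1.ne_zero)
    set m := orderOf ys with hmdef
    set r := invNat hM hys with hr
    have hr1 : r * (m : locRing M) = 1 := invNat_mul hM hys
    have hym : ys ^ m = 1 := pow_orderOf_eq_one ys
    have hdec : single g (1 : locRing M) = ∑ i ∈ Finset.range m,
        ζ ^ ((m - 1) * i) • (avgPow r m (ζ ^ i • single ys (1 : locRing M)) * single xg 1) := by
      rw [← hsx, hxs.eq, show single (ys * xg) (1 : locRing M) = single ys 1 * single xg 1 by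
        simp [MonoidAlgebra.single_mul_single]]
      conv_lhs => rw [← sum_smul_avgPow hr1 hζ (w := single ys (1 : locRing M)) (by
        simp [MonoidAlgebra.single_pow, hym, MonoidAlgebra.one_def]), Finset.sum_mul]
      exact Finset.sum_congr rfl fun i _ => Algebra.smul_mul_assoc _ _ _
    rw [hdec, biTrace_sum_left, biTrace_sum_left]
    refine Finset.sum_congr rfl fun i _ => congrArg _ ?_
    set a := avgPow r m (ζ ^ i • single ys (1 : locRing M)) with ha
    have ha2 : a * a = a := avgPow_mul_self hr1 (by
      rw [_root_.smul_pow, ← pow_mul, mul_comm, pow_mul, hζ.pow_eq_one, one_pow, one_smul,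
        MonoidAlgebra.single_pow, hym, one_pow, MonoidAlgebra.one_def])
    have hau : Commute (single xg 1) a := Commute.avgPow (Commute.smul_right (by
      rw [commute_iff_eq, MonoidAlgebra.single_mul_single, MonoidAlgebra.single_mul_single,
        hxs.eq]) _)
    have hsupp : SuppIn (Subgroup.centralizer ({xg} : Set G)) a :=
      SuppIn.avgPow (SuppIn.smul (suppIn_single
        (Subgroup.mem_centralizer_singleton_iff.mpr hxs.symm.eq) _) _) r m
    have e1 := sum_biMat_biPerm a c xg x⁻¹
    have e2 := sum_biMat_biPerm a c' xg x⁻¹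
    rw [inv_inv] at e1 e2
    rw [← e1, ← e2]
    have hσ : biPerm xg x⁻¹ ^ p ^ (k + k') = 1 := by
      rw [biPerm_pow, show xg ^ p ^ (k + k') = 1 by
          rw [pow_add, mul_comm, pow_mul, ← hk', pow_orderOf_eq_one, one_pow],
        show x⁻¹ ^ p ^ (k + k') = 1 by rw [inv_pow, pow_add, pow_mul, hxk, one_pow, inv_one]]
      ext; simp
    refine trace_perm_eq p (res M) hσ hη hσ _ (biMat_invariant hau (hinv hxc)) (biMat_idem ha2 hc)
      _ (biMat_invariant hau (hinv hxc')) (biMat_idem ha2 hc') (Equiv.refl _) ?_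
    rintro ⟨y, hy⟩ ⟨v, hv⟩
    simp only [Equiv.refl_apply, biMat]
    rw [coeff_mul_sum, coeff_mul_sum, map_sum, map_sum]
    refine Finset.sum_congr rfl fun s _ => ?_
    rw [map_mul (res M), map_mul (res M)]
    by_cases hs : s * v⁻¹ ∈ Subgroup.centralizer ({xg} : Set G)
    · congr 1
      refine hres _ ?_
      rw [biPerm_apply, inv_inv] at hy hv
      rw [Subgroup.mem_centralizer_singleton_iff] at hs
      have h1 : xg * s * x = s :=
        calc xg * s * x = xg * (s * v⁻¹) * (v * x) := by group
          _ = (s * v⁻¹) * (xg * v * x) := by rw [← hs]; group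
          _ = s := by rw [hv]; group
      show s⁻¹ * y * x = x * (s⁻¹ * y)
      have h2 : s⁻¹ * y = x⁻¹ * (s⁻¹ * y) * x :=
        calc s⁻¹ * y = (xg * s * x)⁻¹ * (xg * y * x) := by rw [h1, hy]
          _ = x⁻¹ * (s⁻¹ * y) * x := by group
      exact ((congrArg (x * ·) h2).trans (by group)).symm
    · rw [coeff_mul_single' v, mul_one, hsupp _ hs, map_zero, zero_mul, zero_mul]
  have hlin := Fintype.linearIndependent_iff.mp Char.linearIndependent_irr
    (fun ψ => evalGA (ψ : G → ℂ) (single x 1 * c) - evalGA (ψ : G → ℂ) (single x 1 * c'))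
    (funext fun g => by
      have h := congrArg (fun z : locRing M => (z : ℂ)) (key g)
      simp only [coe_biTrace_single hM] at h
      rw [Finset.sum_apply, Pi.zero_apply, ← sub_eq_zero.mpr h, ← Finset.sum_sub_distrib]
      refine Finset.sum_congr rfl fun ψ _ => ?_
      simp only [Pi.smul_apply, smul_eq_mul]
      ring) χ
  rw [← evalGA_single_mul, ← evalGA_single_mul]
  exact sub_eq_zero.mp hlin

/-- The projective character of an idempotent vanishes at singular elements. -/
theorem sum_irr_mul_evalGA_eq_zero (hM : IsPModular p M) {c : MonoidAlgebra (locRing M) G}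
    (hc : c * c = c) {g : G} (hg : p ∣ orderOf g) :
    ∑ ψ : IrrCharacter G, (ψ : G → ℂ) g * evalGA (ψ : G → ℂ) c = 0 := by
  classical
  have hpf : Fact p.Prime := ⟨hM.1⟩
  have := charP_resField hM
  have := charZero_locRing M
  rw [← coe_biTrace_single hM, ← ZeroMemClass.coe_zero (locRing M)]
  congr 1
  obtain ⟨xg, ys, hsx, hxs, ⟨k', hk'⟩, hys⟩ := exists_isPPart hM.1 g
  have hne : ¬ IsConj xg 1 := fun h => by
    rw [isConj_one_left] at h
    subst h
    rw [one_mul] at hsx
    exact hys (hsx ▸ hg)
  obtain ⟨ζ, hζ⟩ := exists_primitiveRoot_locRing M (orderOf ys) (orderOf_pos ys).ne'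
  obtain ⟨η, hη⟩ := exists_primitiveRoot_locRing M (p ^ k') (pow_ne_zero _ hM.1.ne_zero)
  set m := orderOf ys with hmdef
  set r := invNat hM hys with hr
  have hr1 : r * (m : locRing M) = 1 := invNat_mul hM hys
  have hym : ys ^ m = 1 := pow_orderOf_eq_one ys
  rw [← hsx, hxs.eq, show single (ys * xg) (1 : locRing M) = single ys 1 * single xg 1 by
    simp [MonoidAlgebra.single_mul_single],
    ← sum_smul_avgPow hr1 hζ (w := single ys (1 : locRing M)) (by
      simp [MonoidAlgebra.single_pow, hym, MonoidAlgebra.one_def]), Finset.sum_mul]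
  simp only [Algebra.smul_mul_assoc]
  rw [biTrace_sum_left]
  refine Finset.sum_eq_zero fun i _ => ?_
  set a := avgPow r m (ζ ^ i • single ys (1 : locRing M))
  have ha2 : a * a = a := avgPow_mul_self hr1 (by
    rw [_root_.smul_pow, ← pow_mul, mul_comm, pow_mul, hζ.pow_eq_one, one_pow, one_smul,
      MonoidAlgebra.single_pow, hym, one_pow, MonoidAlgebra.one_def])
  have hau : Commute (single xg 1) a := Commute.avgPow (Commute.smul_right (by
    rw [commute_iff_eq, MonoidAlgebra.single_mul_single, MonoidAlgebra.single_mul_single,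
      hxs.eq]) _)
  have h1c : Commute (single (1 : G) (1 : locRing M)) c := by
    rw [← MonoidAlgebra.one_def]; exact Commute.one_left c
  have := biTrace_eq_zero_of_not_isConj p (res M) hη ha2 hc (u := xg) (w := 1)
    (by rw [← hk', pow_orderOf_eq_one]) (one_pow _) hau h1c hne
  rw [inv_one, ← MonoidAlgebra.one_def, one_mul] at this
  rw [this, mul_zero]

/-- Class functions vanishing on regular elements vanish at idempotents. -/
theorem evalGA_eq_zero_of_regular (hM : IsPModular p M) {c : MonoidAlgebra (locRing M) G}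
    (hc : c * c = c) {f : G → ℂ} (hf : IsClassFunction G f)
    (hreg : ∀ t, ¬ p ∣ orderOf t → f t = 0) : evalGA f c = 0 := by
  classical
  have h : evalGA f c = ∑ ψ : IrrCharacter G, classInner f (ψ : G → ℂ) * evalGA (ψ : G → ℂ) c := by
    conv_lhs => rw [Char.classFun_expand hf]
    simp only [evalGA, Finset.sum_apply, Pi.smul_apply, smul_eq_mul, Finset.mul_sum]
    rw [Finset.sum_comm]
    exact Finset.sum_congr rfl fun ψ _ => Finset.sum_congr rfl fun t _ => by ring
  rw [h]
  simp only [classInner, Finset.mul_sum, Finset.sum_mul]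
  rw [Finset.sum_comm]
  refine Finset.sum_eq_zero fun g _ => ?_
  by_cases hg : p ∣ orderOf g
  · have h0 := sum_irr_mul_evalGA_eq_zero hM hc (g := g⁻¹) (by rwa [orderOf_inv])
    rw [← mul_zero ((Nat.card G : ℂ)⁻¹ * f g), ← h0, Finset.mul_sum]
    refine Finset.sum_congr rfl fun ψ _ => ?_
    rw [Char.irr_inv]
    ring
  · simp [hreg g hg]

/-- The value of a character at an idempotent is a natural number. -/
theorem exists_evalGA_eq_natCast {c : MonoidAlgebra (locRing M) G} (hc : c * c = c)
    (η : IrrCharacter G) : ∃ n : ℕ, evalGA (η : G → ℂ) c = n := by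
  classical
  obtain ⟨m, ρ, -, hη⟩ := η.2
  set z := toC M c with hz
  have hzz : z * z = z := by rw [hz, ← map_mul, hc]
  set f := ρ.asAlgebraHom z with hf
  have hff : f * f = f := by rw [hf, ← map_mul, hzz]
  have hproj : LinearMap.IsProj (LinearMap.range f) f :=
    ⟨fun v => ⟨v, rfl⟩, fun v ⟨w, hw⟩ => by rw [← hw]; exact LinearMap.congr_fun hff w⟩
  refine ⟨Module.finrank ℂ (LinearMap.range f), ?_⟩
  rw [← hproj.trace]
  have hz' : z = ∑ t, single t (z.coeff t) := ga_ext fun t => by
    rw [coeff_sum_apply, Finset.sum_eq_single t] <;> simp +contextual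
  rw [hf, hz', map_sum, map_sum, evalGA]
  refine Finset.sum_congr rfl fun t _ => ?_
  rw [Representation.asAlgebraHom_single, map_smul, smul_eq_mul, hz, coeff_toC, ← hη]
  rfl

end CfsgLib.Block
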