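import Cfsg.Agent.Lib.Block.CycloNorm
import Cfsg.Agent.Lib.Block.Local
import Cfsg.Agent.Lib.Char.InvariantAbove
import Cfsg.Agent.Lib.Char.Gallagher
import Cfsg.Agent.Lib.Char.Extend
import Cfsg.Agent.Lib.Char.Induction
import Cfsg.Agent.Lib.Char.ExtendChar

/-!
# Characters on the generating coset of a normal subgroup with cyclic quotient

For `Γ = K⟨x⟩` the irreducible characters are paired on the coset `K x` by the coset average.  A
character of norm one on the coset is there a multiple, by a root of unity, of an extension.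
-/

set_option autoImplicit false
set_option linter.unusedSectionVars false
set_option linter.style.haveILetI false

namespace CfsgLib.Block.CyclicCoset

open scoped ComplexConjugate
open Cfsg CfsgLib.Char CfsgLib.Block

universe u

variable {Γ : Type u} [Group Γ] [Fintype Γ] {K : Subgroup Γ} [hKn : K.Normal] [Fintype K] {x : Γ}

/-- The pairing of two functions on the coset `K x`. -/
noncomputable def cinner (K : Subgroup Γ) [Fintype K] (x : Γ) (f h : Γ → ℂ) : ℂ :=
  cosetAvg K (fun y => f y * conj (h y)) x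

theorem cinner_def (f h : Γ → ℂ) :
    cinner K x f h = (Nat.card K : ℂ)⁻¹ * ∑ k : K, f ((k : Γ) * x) * conj (h ((k : Γ) * x)) := rfl

theorem conj_cinner (f h : Γ → ℂ) : conj (cinner K x f h) = cinner K x h f := by
  simp only [cinner_def, map_mul, map_inv₀, map_natCast, map_sum, Complex.conj_conj]
  exact congrArg _ (Finset.sum_congr rfl fun k _ => mul_comm _ _)

variable (hgen : K ⊔ Subgroup.zpowers x = ⊤)
include hgen

theorem exists_rep (g : Γ) : ∃ k ∈ K, ∃ i : ℤ, g = k * x ^ i := by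
  have hg : g ∈ ((K ⊔ Subgroup.zpowers x : Subgroup Γ) : Set Γ) := hgen ▸ Subgroup.mem_top g
  rw [Subgroup.normal_mul] at hg
  obtain ⟨k, hk, z, hz, e⟩ := hg
  obtain ⟨i, rfl⟩ := hz
  exact ⟨k, hk, i, e.symm⟩

theorem mk_mem_zpowers (q : Γ ⧸ K) : q ∈ Subgroup.zpowers (x : Γ ⧸ K) := by
  obtain ⟨g, rfl⟩ := QuotientGroup.mk_surjective q
  obtain ⟨k, hk, i, rfl⟩ := exists_rep hgen g
  exact ⟨i, by rw [QuotientGroup.mk_mul, (QuotientGroup.eq_one_iff k).mpr hk, one_mul, QuotientGroup.mk_zpow]⟩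

theorem comm_mem (a b : Γ) : a * b * a⁻¹ * b⁻¹ ∈ K := by
  obtain ⟨i, hi⟩ := mk_mem_zpowers hgen (a : Γ ⧸ K)
  obtain ⟨j, hj⟩ := mk_mem_zpowers hgen (b : Γ ⧸ K)
  rw [← QuotientGroup.eq_one_iff]
  simp only [QuotientGroup.mk_mul, QuotientGroup.mk_inv, ← hi, ← hj]
  simp only [← zpow_neg, ← zpow_add]
  simp

theorem lin_eq_one {f : Γ →* ℂˣ} (hf : f ∈ linearOver K) (hx : f x = 1) : f = 1 := by
  refine MonoidHom.ext fun g => ?_
  obtain ⟨k, hk, i, rfl⟩ := exists_rep hgen g
  rw [map_mul, map_zpow, hx, one_zpow, mul_one, hf k hk, MonoidHom.one_apply]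

omit hgen in
theorem lin_apply_coset {f : Γ →* ℂˣ} (hf : f ∈ linearOver K) (k : K) : f ((k : Γ) * x) = f x := by
  rw [map_mul, hf k k.2, one_mul]

/-- An invariant irreducible character extends. -/
theorem exists_extension (χ : IrrCharacter K)
    (hinv : ∀ k : K, (χ : K → ℂ) ⟨x * k * x⁻¹, hKn.conj_mem k k.2 x⟩ = (χ : K → ℂ) k) :
    ∃ α : IrrCharacter Γ, ∀ k : K, (α : Γ → ℂ) k = (χ : K → ℂ) k := by
  have hI : inertia K (χ : K → ℂ) = ⊤ := by
    refine top_unique (hgen ▸ sup_le (le_inertia K (isClassFunction_irr χ)) ?_)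
    rw [Subgroup.zpowers_le, mem_inertia]
    exact funext fun k => hinv k
  obtain ⟨χ, d, ρ, hρ, rfl⟩ := χ
  have hρinv : IsInvariant K ρ := fun g n => by
    have hg : g ∈ inertia K ρ.character := hI ▸ Subgroup.mem_top g
    exact congrFun ((mem_inertia K _ g).mp hg) n
  have hcyc : IsCyclic (Γ ⧸ K) := ⟨⟨(x : Γ ⧸ K), mk_mem_zpowers hgen⟩⟩
  obtain ⟨σ, hσ⟩ := extends_of_cyclic K ρ hρinv hcyc
  have hres : ∀ k : K, σ.character k = ρ.character k := fun k => by
    rw [Representation.character, Representation.character, hσ]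
  haveI hσirr : σ.IsIrreducible := isIrreducible_of_restrict σ ρ hσ
  exact ⟨⟨σ.character, d, σ, hσirr, rfl⟩, hres⟩

omit hgen in
/-- Characters with different irreducible restrictions are orthogonal on the coset. -/
theorem cinner_eq_zero {α β : IrrCharacter Γ}
    (h : classInner (fun k : K => (α : Γ → ℂ) k) (fun k : K => (β : Γ → ℂ) k) = 0) :
    cinner K x (α : Γ → ℂ) (β : Γ → ℂ) = 0 :=
  congrFun (eq_zero_of_char_one_eq_zero (isCharacter_cosetAvg K
    (isCharacter_mul (isCharacter_irr α) (isCharacter_conj (isCharacter_irr β))))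
      ((cosetAvg_one_eq K (α : Γ → ℂ) (β : Γ → ℂ)).trans h)) x

omit hgen in
theorem cinner_self {α : IrrCharacter Γ} (hα : IsIrrCharacter K (fun k : K => (α : Γ → ℂ) k)) :
    cinner K x (α : Γ → ℂ) (α : Γ → ℂ) = 1 :=
  congrFun (cosetAvg_self_eq_one K α hα) x

/-- A character not vanishing on the coset restricts irreducibly. -/
theorem irr_restrict_of_ne_zero {η : IrrCharacter Γ} {k₀ : K} (h : (η : Γ → ℂ) ((k₀ : Γ) * x) ≠ 0) :
    IsIrrCharacter K (fun k : K => (η : Γ → ℂ) k) ∧
      Function.Injective (fun f : linearOver K => linMul (f : Γ →* ℂˣ) η) := by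
  classical
  haveI := Fintype.ofFinite (linearOver K)
  have hinj : Function.Injective (fun f : linearOver K => linMul (f : Γ →* ℂˣ) η) := by
    intro f f' e
    have e1 := congrArg (fun θ : IrrCharacter Γ => (θ : Γ → ℂ) ((k₀ : Γ) * x)) e
    simp only [linMul] at e1
    have e2 : ((f : Γ →* ℂˣ) ((k₀ : Γ) * x)) = (f' : Γ →* ℂˣ) ((k₀ : Γ) * x) :=
      Units.ext (mul_right_cancel₀ h e1)
    rw [lin_apply_coset f.2, lin_apply_coset f'.2] at e2
    have e3 := lin_eq_one hgen ((linearOver K).mul_mem f.2 ((linearOver K).inv_mem f'.2)) (by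
      rw [MonoidHom.mul_apply, MonoidHom.inv_apply, e2, mul_inv_cancel])
    exact Subtype.ext (mul_inv_eq_one.mp e3)
  refine ⟨isIrr_of_isCharacter_norm_one (isCharacter_comp (isCharacter_irr η) K.subtype) ?_, hinj⟩
  have h1 : ∀ f : linearOver K, classInner (fun y => ((f : Γ →* ℂˣ) y : ℂ) * (η : Γ → ℂ) y) (η : Γ → ℂ) =
      if f = 1 then 1 else 0 := by
    intro f
    rw [show (fun y => ((f : Γ →* ℂˣ) y : ℂ) * (η : Γ → ℂ) y) = ((linMul (f : Γ →* ℂˣ) η : IrrCharacter Γ) : Γ → ℂ)
      from rfl, classInner_irr]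
    refine if_congr ⟨fun e => hinj (e.trans ?_), fun e => ?_⟩ rfl rfl
    · exact Subtype.ext (funext fun y => by simp [linMul])
    · subst e; exact Subtype.ext (funext fun y => by simp [linMul])
  have h2 : ∑ f : linearOver K, classInner (fun y => ((f : Γ →* ℂˣ) y : ℂ) * (η : Γ → ℂ) y) (η : Γ → ℂ) = 1 := by
    rw [Finset.sum_congr rfl fun f _ => h1 f, Finset.sum_ite_eq' Finset.univ (1 : linearOver K) fun _ => (1 : ℂ)]
    simp
  have h3 : ∑ f : linearOver K, classInner (fun y => ((f : Γ →* ℂˣ) y : ℂ) * (η : Γ → ℂ) y) (η : Γ → ℂ) =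
      classInner (fun k : K => (η : Γ → ℂ) k) (fun k : K => (η : Γ → ℂ) k) := by
    simp only [classInner]
    rw [← Finset.mul_sum, Finset.sum_comm, Finset.sum_congr rfl fun y _ => by
      simp only [mul_assoc, ← Finset.sum_mul]; rw [sum_linearOver K (comm_mem hgen) y]]
    rw [Finset.sum_congr rfl (g := fun y => if y ∈ K then (K.index : ℂ) * ((η : Γ → ℂ) y * conj ((η : Γ → ℂ) y)) else 0)
      fun y _ => by split_ifs <;> ring, ← Finset.sum_filter,
      Finset.sum_subtype (p := fun y => y ∈ K) (Finset.univ.filter (· ∈ K)) (fun y => by simp)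
        (fun y => (K.index : ℂ) * ((η : Γ → ℂ) y * conj ((η : Γ → ℂ) y))), ← Finset.mul_sum]
    have hc : (Nat.card Γ : ℂ) = (Nat.card K : ℂ) * K.index := by exact_mod_cast (K.card_mul_index).symm
    have hi : (K.index : ℂ) ≠ 0 := Nat.cast_ne_zero.mpr Subgroup.index_ne_zero_of_finite
    rw [hc]
    field_simp
  exact h3 ▸ h2

omit hgen in
/-- Multiplication by a linear character over `K` multiplies the pairing by a root of unity. -/
theorem cinner_linMul (F : Γ → ℂ) (f : linearOver K) (η : IrrCharacter Γ) :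
    cinner K x F ((linMul (f : Γ →* ℂˣ) η : IrrCharacter Γ) : Γ → ℂ) =
      conj (((f : Γ →* ℂˣ) x : ℂ)) * cinner K x F (η : Γ → ℂ) := by
  simp only [cinner_def, linMul, map_mul, lin_apply_coset f.2, Finset.mul_sum]
  exact Finset.sum_congr rfl fun k _ => by ring

omit hgen in
/-- The inner product of a function supported on the coset is the pairing there. -/
theorem classInner_coset_ite (F h : Γ → ℂ) [DecidablePred fun y => y * x⁻¹ ∈ K] :
    classInner (fun y => if y * x⁻¹ ∈ K then F y else 0) h = (K.index : ℂ)⁻¹ * cinner K x F h := by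
  classical
  set f₀ : Γ → ℂ := fun y => if y * x⁻¹ ∈ K then F y else 0 with hf₀
  have hcard : (Nat.card Γ : ℂ) = (Nat.card K : ℂ) * K.index := by exact_mod_cast (K.card_mul_index).symm
  have hs : ∑ y : Γ, f₀ y * conj (h y) = ∑ k : K, F ((k : Γ) * x) * conj (h ((k : Γ) * x)) := by
    rw [← Finset.sum_subset (Finset.subset_univ (Finset.univ.filter fun y : Γ => y * x⁻¹ ∈ K)) fun y _ hy => ?_,
      Finset.sum_bij' (fun y hy => (⟨y * x⁻¹, (Finset.mem_filter.mp hy).2⟩ : K))
        (fun k _ => (k : Γ) * x) (fun _ _ => Finset.mem_univ _)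
        (fun k _ => Finset.mem_filter.mpr ⟨Finset.mem_univ _, by simpa using k.2⟩)
        (fun y _ => inv_mul_cancel_right y x) (fun k _ => Subtype.ext (mul_inv_cancel_right _ _)) fun y hy => ?_]
    · rw [Finset.mem_filter] at hy
      rw [inv_mul_cancel_right]
      simp only [hf₀, if_pos hy.2]
    · have : y * x⁻¹ ∉ K := fun e => hy (Finset.mem_filter.mpr ⟨Finset.mem_univ y, e⟩)
      simp only [hf₀, if_neg this, zero_mul]
  rw [classInner, hs, hcard, cinner_def, mul_inv, ← mul_assoc, mul_comm (Nat.card K : ℂ)⁻¹]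

/-- A function of norm one on the coset with cyclotomic integral pairings is there a multiple, by a
number of absolute value one, of one character, all others pairing being with twists of it. -/
theorem coset_norm_one {F : Γ → ℂ} (hF : IsClassFunction Γ F) {n : ℕ} (hn : n ≠ 0)
    (hint : ∀ η : IrrCharacter Γ, cinner K x F (η : Γ → ℂ) ∈ cycInt n)
    (hnorm : cinner K x F F = 1) :
    ∃ η₀ : IrrCharacter Γ, IsIrrCharacter K (fun k : K => (η₀ : Γ → ℂ) k) ∧
      cinner K x F (η₀ : Γ → ℂ) * conj (cinner K x F (η₀ : Γ → ℂ)) = 1 ∧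
      (∀ k : K, F ((k : Γ) * x) = cinner K x F (η₀ : Γ → ℂ) * (η₀ : Γ → ℂ) ((k : Γ) * x)) ∧
      ∀ η : IrrCharacter Γ, cinner K x F (η : Γ → ℂ) ≠ 0 →
        ∀ k : K, (η : Γ → ℂ) k = (η₀ : Γ → ℂ) k := by
  classical
  haveI := Fintype.ofFinite (IrrCharacter Γ)
  haveI := Fintype.ofFinite (linearOver K)
  set a : IrrCharacter Γ → ℂ := fun η => cinner K x F (η : Γ → ℂ) with ha
  set f₀ : Γ → ℂ := fun y => if y * x⁻¹ ∈ K then F y else 0 with hf₀
  have hf₀cl : IsClassFunction Γ f₀ := fun g y => by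
    have hiff : y * g * y⁻¹ * x⁻¹ ∈ K ↔ g * x⁻¹ ∈ K := by
      rw [← QuotientGroup.eq_one_iff, ← QuotientGroup.eq_one_iff (N := K)]
      have hc := (QuotientGroup.eq_one_iff _).mpr (comm_mem hgen y g)
      simp only [QuotientGroup.mk_mul, QuotientGroup.mk_inv] at hc ⊢
      rw [mul_inv_eq_one] at hc
      rw [hc]
    simp only [hf₀, hiff, hF g y]
  have hN0 : (Nat.card K : ℂ) ≠ 0 := Nat.cast_ne_zero.mpr Nat.card_pos.ne'
  have hi0 : (K.index : ℂ) ≠ 0 := Nat.cast_ne_zero.mpr Subgroup.index_ne_zero_of_finite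
  have hcard : (Nat.card Γ : ℂ) = (Nat.card K : ℂ) * K.index := by exact_mod_cast (K.card_mul_index).symm
  have hred : ∀ h : Γ → ℂ, classInner f₀ h = (K.index : ℂ)⁻¹ * cinner K x F h :=
    fun h => classInner_coset_ite F h
  have hsum : ∑ η : IrrCharacter Γ, a η * conj (a η) = (K.index : ℂ) := by
    have e : classInner f₀ f₀ = (K.index : ℂ)⁻¹ := by
      rw [hred, show cinner K x F f₀ = cinner K x F F from by
        simp only [cinner_def, hf₀, mul_inv_cancel_right, SetLike.coe_mem, if_true], hnorm, mul_one]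
    rw [classInner_expand hf₀cl, Finset.sum_congr rfl fun η _ => by
      rw [hred, map_mul, map_inv₀, map_natCast, mul_mul_mul_comm], ← Finset.mul_sum] at e
    field_simp at e
    exact e
  set S : Finset (IrrCharacter Γ) := Finset.univ.filter fun η => a η ≠ 0 with hS
  have hsumS : ∑ η : ↥S, a η * conj (a η) = (K.index : ℂ) := by
    rw [Finset.sum_coe_sort S fun η => a η * conj (a η), ← hsum]
    exact Finset.sum_filter_of_ne fun η _ h => left_ne_zero_of_mul h
  let X : ↥S → cycInt n := fun η => ⟨a η, hint η⟩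
  have hX0 : ∀ η : ↥S, (X η : ℂ) ≠ 0 := fun η => (Finset.mem_filter.mp η.2).2
  have hle : (Fintype.card ↥S : ℤ) ≤ K.index :=
    card_le_sum_normSq hn X hX0 (N := (K.index : ℤ)) (by rw [Int.cast_natCast]; exact hsumS)
  obtain ⟨η₀, hη₀⟩ : ∃ η₀, a η₀ ≠ 0 := by
    by_contra hno
    push Not at hno
    exact hi0 (hsum ▸ Finset.sum_eq_zero fun η _ => by rw [hno η, zero_mul])
  obtain ⟨k₀, hk₀⟩ : ∃ k : K, (η₀ : Γ → ℂ) ((k : Γ) * x) ≠ 0 := by
    by_contra hno
    push Not at hno
    exact hη₀ (by simp only [ha, cinner_def, hno, map_zero, mul_zero, Finset.sum_const_zero])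
  obtain ⟨hirr, hinj⟩ := irr_restrict_of_ne_zero hgen hk₀
  have hsub : Finset.univ.image (fun f : linearOver K => linMul (f : Γ →* ℂˣ) η₀) ⊆ S := by
    intro η hη
    obtain ⟨f, -, rfl⟩ := Finset.mem_image.mp hη
    refine Finset.mem_filter.mpr ⟨Finset.mem_univ _, ?_⟩
    simp only [ha, cinner_linMul]
    exact mul_ne_zero (by simp) hη₀
  have hcardim : (Finset.univ.image fun f : linearOver K => linMul (f : Γ →* ℂˣ) η₀).card = K.index := by
    rw [Finset.card_image_of_injective _ hinj, Finset.card_univ, ← Nat.card_eq_fintype_card,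
      card_linearOver K (comm_mem hgen)]
  have heqS : Finset.univ.image (fun f : linearOver K => linMul (f : Γ →* ℂˣ) η₀) = S := by
    refine Finset.eq_of_subset_of_card_le hsub ?_
    rw [hcardim]
    rw [Fintype.card_coe] at hle
    exact_mod_cast hle
  have hcardS : Fintype.card ↥S = K.index := by rw [Fintype.card_coe, ← heqS, hcardim]
  have hunit : a η₀ * conj (a η₀) = 1 :=
    normSq_eq_one_of_card_eq hn X hX0 (by rw [hcardS, Int.cast_natCast]; exact hsumS)
      ⟨η₀, Finset.mem_filter.mpr ⟨Finset.mem_univ _, hη₀⟩⟩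
  refine ⟨η₀, hirr, hunit, fun k => ?_, fun η hη k => ?_⟩
  · have e := congrFun (classFun_expand hf₀cl) ((k : Γ) * x)
    simp only [Finset.sum_apply, Pi.smul_apply, smul_eq_mul] at e
    rw [← Finset.sum_subset (Finset.subset_univ S) (fun η _ h => by
      have : a η = 0 := by_contra fun h' => h (Finset.mem_filter.mpr ⟨Finset.mem_univ _, h'⟩)
      rw [hred, show cinner K x F (η : Γ → ℂ) = 0 from this, mul_zero, zero_mul]), ← heqS,
      Finset.sum_image (fun f _ f' _ h => hinj h),
      Finset.sum_congr rfl (g := fun _ => (K.index : ℂ)⁻¹ * a η₀ * (η₀ : Γ → ℂ) ((k : Γ) * x)) fun f _ => by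
        rw [hred, cinner_linMul]
        simp only [linMul, lin_apply_coset f.2]
        have hu : conj (((f : Γ →* ℂˣ) x : ℂ)) * ((f : Γ →* ℂˣ) x : ℂ) = 1 := by
          rw [conj_eq_inv_of_pow_eq_one (orderOf_pos x).ne' (by
            rw [← Units.val_pow_eq_pow_val, ← map_pow, pow_orderOf_eq_one, map_one, Units.val_one]),
            inv_mul_cancel₀ (Units.ne_zero _)]
        linear_combination (K.index : ℂ)⁻¹ * a η₀ * (η₀ : Γ → ℂ) ((k : Γ) * x) * hu,
      Finset.sum_const, Finset.card_univ, ← Nat.card_eq_fintype_card, card_linearOver K (comm_mem hgen),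
      nsmul_eq_mul, ← mul_assoc, ← mul_assoc, mul_inv_cancel₀ hi0, one_mul] at e
    simpa only [hf₀, mul_inv_cancel_right, SetLike.coe_mem, if_true, ha] using e
  · have : η ∈ Finset.univ.image (fun f : linearOver K => linMul (f : Γ →* ℂˣ) η₀) :=
      heqS ▸ Finset.mem_filter.mpr ⟨Finset.mem_univ _, hη⟩
    obtain ⟨f, -, rfl⟩ := Finset.mem_image.mp this
    simp [linMul, f.2 k k.2]

end CfsgLib.Block.CyclicCoset
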