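import Cfsg.Agent.Lib.Block.Sections
import Cfsg.Agent.Lib.Block.CentralQuot

/-!
# Defect groups of blocks of a quotient group

If the inflations of `Bbar` lie in `B`, a defect group of `Bbar` lies in the image of one of `B`;
modulo a normal `p`-subgroup some such `Bbar` has exactly the images as defect groups.
-/

open Finset
open scoped ComplexConjugate

set_option linter.unusedSectionVars false

namespace CfsgLib.Block.QuotientDefect

open Cfsg CfsgLib.Block.Cyclic

universe u

variable {p : ℕ} [Fact p.Prime] {M : Ideal AlgInt} [M.IsMaximal] {A : Type u} [Group A] [Fintype A]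
  [DecidableEq A] {N : Subgroup A} [N.Normal] [Fintype (A ⧸ N)] [DecidableEq (A ⧸ N)]

theorem centralizer_le_comap (g : A) :
    Subgroup.centralizer ({g} : Set A) ≤
      (Subgroup.centralizer ({(g : A ⧸ N)} : Set (A ⧸ N))).comap (QuotientGroup.mk' N) := by
  intro u hu
  rw [Subgroup.mem_comap, Subgroup.mem_centralizer_singleton_iff]
  exact congrArg (QuotientGroup.mk' N) (Subgroup.mem_centralizer_singleton_iff.mp hu)

variable (N) in
/-- The index of the centralizer of `g` in the preimage of the centralizer of its image. -/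
noncomputable def centIdx (g : A) : ℕ :=
  (Subgroup.centralizer ({g} : Set A)).relIndex
    ((Subgroup.centralizer ({(g : A ⧸ N)} : Set (A ⧸ N))).comap (QuotientGroup.mk' N))

theorem centralRes_inflQ_eq (θ : IrrCharacter (A ⧸ N)) (g : A) :
    centralRes M (inflQ θ) g = (centIdx N g : ResField M) * centralRes M θ (g : A ⧸ N) := by
  rw [← res_natCast, centralRes, centralRes, ← map_mul]
  refine congrArg (res M) (Subtype.ext ?_)
  show centralChar _ g = ((centIdx N g : locRing M) : ℂ) * centralChar _ (g : A ⧸ N)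
  have h := Subgroup.relIndex_mul_index (centralizer_le_comap (N := N) g)
  rw [Subgroup.index_comap_of_surjective _ (QuotientGroup.mk'_surjective N)] at h
  rw [centralChar, centralChar, ← h, centIdx]
  push_cast
  rw [inflQ_apply, inflQ_apply, QuotientGroup.mk_one]
  ring

theorem not_dvd_centIdx (hM : IsPModular p M) (θ : IrrCharacter (A ⧸ N)) {g : A}
    (h : centralRes M (inflQ θ) g ≠ 0) :
    ¬ p ∣ centIdx N g ∧ centralRes M θ (g : A ⧸ N) ≠ 0 := by
  rw [centralRes_inflQ_eq] at h
  refine ⟨fun hd => h ?_, right_ne_zero_of_mul h⟩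
  haveI := charP_resField (M := M) hM
  rw [(CharP.cast_eq_zero_iff (ResField M) p _).mpr hd, zero_mul]

/-- The image of a Sylow subgroup of the centralizer is one of the centralizer of the image. -/
theorem isSylowCent_image {g : A} (ht : ¬ p ∣ centIdx N g) {D : Subgroup A}
    (hD : IsSylowCent p g D) : IsSylowCent p (g : A ⧸ N) (D.map (QuotientGroup.mk' N)) := by
  constructor
  · rintro _ ⟨u, hu, rfl⟩
    exact (hD.commute u hu).map (QuotientGroup.mk' N)
  set C := (Subgroup.centralizer ({(g : A ⧸ N)} : Set (A ⧸ N))) with hC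
  set C' := C.comap (QuotientGroup.mk' N) with hC'
  have hle : D ≤ C' := hD.le.trans (centralizer_le_comap g)
  have hcard : Nat.card (D.subgroupOf C') = p ^ (Nat.card C').factorization p := by
    rw [Nat.card_congr (Subgroup.subgroupOfEquivOfLe hle).toEquiv, hD.card_eq]
    congr 1
    have h : (Subgroup.centralizer ({g} : Set A)).relIndex C' *
        Nat.card (Subgroup.centralizer ({g} : Set A)) = Nat.card C' := by
      rw [Subgroup.relIndex, mul_comm,
        ← Nat.card_congr (Subgroup.subgroupOfEquivOfLe (centralizer_le_comap (N := N) g)).toEquiv]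
      exact Subgroup.card_mul_index _
    have ht' : ¬ p ∣ (Subgroup.centralizer ({g} : Set A)).relIndex C' := ht
    have h0 : (Subgroup.centralizer ({g} : Set A)).relIndex C' ≠ 0 := fun e => ht' (e ▸ dvd_zero p)
    rw [← h, Nat.factorization_mul h0 Nat.card_pos.ne', Finsupp.add_apply,
      show ((Subgroup.centralizer ({g} : Set A)).relIndex C').factorization p = 0 from
        Nat.factorization_eq_zero_of_not_dvd ht', zero_add]
  let f : C' →* C := (QuotientGroup.mk' N).subgroupComap C
  have hf : Function.Surjective f := by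
    rintro ⟨q, hq⟩
    obtain ⟨a, rfl⟩ := QuotientGroup.mk'_surjective N q
    exact ⟨⟨a, hq⟩, rfl⟩
  have h := ((Sylow.ofCard (D.subgroupOf C') hcard).mapSurjective hf).card_eq_multiplicity
  rw [Sylow.coe_mapSurjective, Sylow.coe_ofCard] at h
  rw [← h, ← Subgroup.card_map_of_injective (C.subtype_injective), Subgroup.map_map,
    show C.subtype.comp f = (QuotientGroup.mk' N).comp C'.subtype from rfl, ← Subgroup.map_map,
    Subgroup.map_subgroupOf_eq_of_le hle]

/-- A defect group of a block of the quotient lies in the image of one of the block above it. -/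
theorem exists_lift (hM : IsPModular p M) {Bbar : Set (IrrCharacter (A ⧸ N))} (hBbar : IsPBlock M Bbar)
    {B : Set (IrrCharacter A)} (hB : IsPBlock M B) (hsub : ∀ θ ∈ Bbar, inflQ θ ∈ B)
    {Dbar : Subgroup (A ⧸ N)} (hDbar : IsDefectGroup p M Bbar Dbar) :
    ∃ P : Subgroup A, IsDefectGroup p M B P ∧ Dbar ≤ P.map (QuotientGroup.mk' N) := by
  obtain ⟨D, hD⟩ := exists_defectGroup hM hB
  obtain ⟨g, hg, -, hgω⟩ := exists_isSylowCent_of_isDefectGroup hM hB hD
  obtain ⟨θ, hθ⟩ := isPBlock_nonempty hBbar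
  obtain ⟨ht, hω⟩ := not_dvd_centIdx hM θ (hgω _ (hsub θ hθ))
  obtain ⟨g', hg', hgc', -⟩ := exists_isSylowCent_of_isDefectGroup hM hBbar hDbar
  obtain ⟨x, hx⟩ := conjLE_iff.mp
    (sylowCent_conjLE hM hBbar hgc' hθ hω hg' (isSylowCent_image ht hg))
  obtain ⟨a, rfl⟩ := QuotientGroup.mk'_surjective N x
  refine ⟨_, isDefectGroup_conj hM hB hD a⁻¹, fun u hu => ?_⟩
  obtain ⟨d, hd, he⟩ := hx u hu
  refine ⟨a⁻¹ * d * a⁻¹⁻¹, ⟨d, hd, rfl⟩, ?_⟩
  simp only [map_mul, map_inv, he]
  group

open scoped Classical in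
/-- The idempotent of the inflating characters is the image of the block idempotent. -/
theorem blockCoeff_quotSet [Fintype (IrrCharacter A)] [Fintype (IrrCharacter (A ⧸ N))]
    (B : Set (IrrCharacter A)) (q : A ⧸ N) :
    blockCoeff (quotSet N B) q =
      ∑ y ∈ Finset.univ.filter (fun y : A => (y : A ⧸ N) = q), blockCoeff B y := by
  let F : A ⧸ N → ℂ := fun r =>
    ∑ y ∈ Finset.univ.filter (fun y : A => (y : A ⧸ N) = r), conj (blockCoeff B y)
  have hbc : ∀ y : A, conj (blockCoeff B y) =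
      (Nat.card A : ℂ)⁻¹ * ∑ χ ∈ Finset.univ.filter (· ∈ B), (χ : A → ℂ) 1 * (χ : A → ℂ) y := by
    intro y
    rw [blockCoeff, finsum_mem_eq_finite_toFinset_sum _ (Set.toFinite _), map_mul, map_inv₀,
      map_natCast, map_sum]
    congr 1
    refine Finset.sum_congr (by ext; simp) fun χ _ => ?_
    rw [map_mul, Complex.conj_conj, (charDegree_eq χ).1, map_natCast]
  have hinner : ∀ θ : IrrCharacter (A ⧸ N), classInner F (θ : A ⧸ N → ℂ) =
      if θ ∈ quotSet N B then (Nat.card (A ⧸ N) : ℂ)⁻¹ * (θ : A ⧸ N → ℂ) 1 else 0 := by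
    intro θ
    have h1 : ∑ r : A ⧸ N, F r * conj ((θ : A ⧸ N → ℂ) r) =
        ∑ y : A, conj (blockCoeff B y) * conj ((inflQ θ : A → ℂ) y) := by
      rw [← Finset.sum_fiberwise Finset.univ (fun y : A => (y : A ⧸ N))]
      refine Finset.sum_congr rfl fun r _ => ?_
      rw [Finset.sum_mul]
      refine Finset.sum_congr rfl fun y hy => ?_
      rw [inflQ_apply, (Finset.mem_filter.mp hy).2]
    have h2 : ∑ y : A, conj (blockCoeff B y) * conj ((inflQ θ : A → ℂ) y) =
        ∑ χ ∈ Finset.univ.filter (· ∈ B),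
          (χ : A → ℂ) 1 * classInner (χ : A → ℂ) (inflQ θ : A → ℂ) := by
      simp only [hbc, classInner, Finset.mul_sum, Finset.sum_mul]
      rw [Finset.sum_comm]
      exact Finset.sum_congr rfl fun χ _ => Finset.sum_congr rfl fun y _ => by ring
    rw [classInner, h1, h2]
    simp only [Char.classInner_irr, mul_ite, mul_one, mul_zero]
    rw [Finset.sum_ite_eq']
    by_cases h : θ ∈ quotSet N B
    · have h' : inflQ θ ∈ B := h
      simp [h, h', inflQ_apply]
    · have h' : inflQ θ ∉ B := h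
      simp [h, h']
  have hF : IsClassFunction (A ⧸ N) F := by
    intro r w
    obtain ⟨a, rfl⟩ := QuotientGroup.mk_surjective w
    refine (Finset.sum_bij (fun y _ => a * y * a⁻¹) (fun y hy => ?_) (fun y _ z _ h => ?_)
      (fun z hz => ?_) (fun y _ => ?_)).symm
    · rw [Finset.mem_filter] at hy ⊢
      refine ⟨Finset.mem_univ _, ?_⟩
      rw [QuotientGroup.mk_mul, QuotientGroup.mk_mul, QuotientGroup.mk_inv, hy.2]
    · simpa using h
    · rw [Finset.mem_filter] at hz
      refine ⟨a⁻¹ * z * a, Finset.mem_filter.mpr ⟨Finset.mem_univ _, ?_⟩, by group⟩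
      rw [QuotientGroup.mk_mul, QuotientGroup.mk_mul, QuotientGroup.mk_inv, hz.2]
      group
    · rw [blockCoeff_conj]
  have h := congrFun (Char.classFun_expand hF) q
  rw [Finset.sum_apply] at h
  apply (starRingEnd ℂ).injective
  rw [map_sum, show (∑ y ∈ Finset.univ.filter (fun y : A => (y : A ⧸ N) = q),
      conj (blockCoeff B y)) = F q from rfl, h, blockCoeff,
    finsum_mem_eq_finite_toFinset_sum _ (Set.toFinite _), map_mul, map_inv₀, map_natCast, map_sum,
    Finset.mul_sum,
    ← Finset.sum_subset (Finset.subset_univ (Finset.univ.filter (· ∈ quotSet N B)))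
      (fun θ _ hθ => by
        rw [Pi.smul_apply, hinner, if_neg (fun h' => hθ (Finset.mem_filter.mpr ⟨Finset.mem_univ _, h'⟩)),
          zero_smul])]
  refine Finset.sum_congr (by ext; simp) fun θ hθ => ?_
  rw [Pi.smul_apply, hinner, if_pos (by simpa using hθ), smul_eq_mul, map_mul, Complex.conj_conj,
    (charDegree_eq θ).1, map_natCast]
  ring

theorem isBlockUnion_quotSet {B : Set (IrrCharacter A)} (hB : IsPBlock M B) :
    IsBlockUnion M (quotSet N B) := by
  intro θ hθ θ' h
  refine IsBlockUnion.of_isPBlock hB _ hθ _ (sameBlock_iff_centralRes.mpr fun g => ?_)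
  rw [centralRes_inflQ_eq, centralRes_inflQ_eq, sameBlock_iff_centralRes.mp h]

open scoped Classical in
/-- Some block of the quotient below `B` has a non-zero residue at the image of a defect class. -/
theorem exists_coeffRes_ne_zero [Fintype (IrrCharacter A)] [Fintype (IrrCharacter (A ⧸ N))]
    (hM : IsPModular p M) (hN : IsPGroup p N) {B : Set (IrrCharacter A)} (hB : IsPBlock M B) {g : A}
    (hg : coeffRes M B g ≠ 0) (hNg : g ∈ Subgroup.centralizer (N : Set A)) :
    ∃ Bbar : Set (IrrCharacter (A ⧸ N)), IsPBlock M Bbar ∧ (∀ θ ∈ Bbar, inflQ θ ∈ B) ∧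
      coeffRes M Bbar (g : A ⧸ N) ≠ 0 := by
  have hS := IsBlockUnion.of_isPBlock hB
  have hS' : IsBlockUnion M (quotSet N B) := isBlockUnion_quotSet hB
  have hreg := regular_of_coeffRes_ne_zero hM hS hg
  have hone : ¬ MemLocalIdeal M (blockCoeff (quotSet N B) (g : A ⧸ N)) := by
    intro h
    refine hg ?_
    rw [coeffRes_eq_zero_iff hM hS]
    rw [blockCoeff_quotSet] at h
    rwa [Finset.sum_eq_single g (fun y hy hne => ?_) (fun h' => absurd (by simp) h')] at h
    refine blockCoeff_eq_zero_of_singular hM hS (by_contra fun hy' => hne ?_)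
    have hmem : g⁻¹ * y ∈ N := QuotientGroup.eq.mp (Finset.mem_filter.mp hy).2.symm
    obtain ⟨k, hk⟩ := hN ⟨_, hmem⟩
    obtain ⟨j, -, hj⟩ := (Nat.dvd_prime_pow hM.1).mp
      (orderOf_dvd_of_pow_eq_one (congrArg Subtype.val hk : (g⁻¹ * y) ^ p ^ k = 1))
    have hc : Commute (g⁻¹ * y) g := Subgroup.mem_centralizer_iff.mp hNg _ hmem
    have e : IsPPart p y (g⁻¹ * y) := ⟨g, by rw [hc.eq, mul_inv_cancel_left], hc, ⟨j, hj⟩, hreg⟩
    exact (inv_mul_eq_one.mp (isPPart_unique hM.1 e (isPPart_one_of_not_dvd hy'))).symm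
  by_contra hno
  push Not at hno
  apply hone
  have hblk : ∀ θ ∈ quotSet N B, MemLocalIdeal M
      (blockCoeff (blockOf M (θ : A ⧸ N → ℂ)) (g : A ⧸ N)) := by
    intro θ hθ
    rw [← coeffRes_eq_zero_iff hM (.of_isPBlock (isPBlock_blockOf θ))]
    exact hno _ (isPBlock_blockOf θ) fun θ' h' => hS' θ hθ θ' h'
  have hsum : blockCoeff (quotSet N B) (g : A ⧸ N) =
      ∑ S ∈ (Finset.univ.filter (· ∈ quotSet N B)).image (fun θ : IrrCharacter (A ⧸ N) =>
        blockOf M (θ : A ⧸ N → ℂ)), blockCoeff S (g : A ⧸ N) := by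
    simp only [blockCoeff, ← Finset.mul_sum]
    congr 1
    rw [finsum_mem_eq_finite_toFinset_sum _ (Set.toFinite _),
      show (Set.toFinite (quotSet N B)).toFinset = Finset.univ.filter (· ∈ quotSet N B) by ext; simp,
      ← Finset.sum_fiberwise_of_maps_to
      (t := (Finset.univ.filter (· ∈ quotSet N B)).image (fun θ : IrrCharacter (A ⧸ N) =>
        blockOf M (θ : A ⧸ N → ℂ))) (fun x hx => Finset.mem_image_of_mem _ hx)]
    refine Finset.sum_congr rfl fun S hS'' => ?_
    obtain ⟨θ, hθ, rfl⟩ := Finset.mem_image.mp hS''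
    rw [finsum_mem_eq_finite_toFinset_sum _ (Set.toFinite _)]
    refine Finset.sum_congr ?_ fun _ _ => rfl
    ext θ'
    simp only [Finset.mem_filter, Finset.mem_univ, true_and, Set.Finite.mem_toFinset]
    constructor
    · rintro ⟨-, e⟩
      exact e ▸ self_mem_blockOf θ'
    · intro h
      exact ⟨hS' θ (Finset.mem_filter.mp hθ).2 θ' h, (blockOf_eq h).symm⟩
  rw [hsum]
  refine Finset.sum_induction _ (MemLocalIdeal M) (fun _ _ => memLocalIdeal_add)
    ⟨0, 1, M.zero_mem, Ideal.IsPrime.one_notMem inferInstance, by simp⟩ fun S hS'' => ?_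
  obtain ⟨θ, hθ, rfl⟩ := Finset.mem_image.mp hS''
  exact hblk θ (Finset.mem_filter.mp hθ).2

/-- Modulo a normal `p`-subgroup, some block below `B` has exactly the images as defect groups. -/
theorem exists_image_block (hM : IsPModular p M) (hN : IsPGroup p N) {B : Set (IrrCharacter A)}
    (hB : IsPBlock M B) :
    ∃ Bbar : Set (IrrCharacter (A ⧸ N)), IsPBlock M Bbar ∧ (∀ θ ∈ Bbar, inflQ θ ∈ B) ∧
      ∀ Dbar : Subgroup (A ⧸ N), IsDefectGroup p M Bbar Dbar ↔
        ∃ P : Subgroup A, IsDefectGroup p M B P ∧ Dbar = P.map (QuotientGroup.mk' N) := by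
  classical
  have := Fintype.ofFinite (IrrCharacter A)
  have := Fintype.ofFinite (IrrCharacter (A ⧸ N))
  obtain ⟨D, hD⟩ := exists_defectGroup hM hB
  obtain ⟨g, hg, hgc, hgω⟩ := exists_isSylowCent_of_isDefectGroup hM hB hD
  obtain ⟨χ, hχ⟩ := isPBlock_nonempty hB
  have hNg : g ∈ Subgroup.centralizer (N : Set A) :=
    by_contra fun h => hgω χ hχ (centralRes_eq_zero_of_not_centralize hM χ hN h)
  obtain ⟨Bbar, hBbar, hsub, hc⟩ := exists_coeffRes_ne_zero hM hN hB hgc hNg
  obtain ⟨θ, hθ⟩ := isPBlock_nonempty hBbar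
  obtain ⟨ht, hω⟩ := not_dvd_centIdx hM θ (hgω _ (hsub θ hθ))
  have hDbar : IsDefectGroup p M Bbar (D.map (QuotientGroup.mk' N)) :=
    isDefectGroup_of_isSylowCent hM ((isDefectClass_iff hM hBbar).mpr ⟨hc, fun η hη => by
      rwa [centralRes_eq_of_mem hBbar hη hθ]⟩) (isSylowCent_image ht hg)
  refine ⟨Bbar, hBbar, hsub, fun Dbar => ⟨fun h => ?_, ?_⟩⟩
  · obtain ⟨x, rfl⟩ := defectGroup_conj hM hBbar hDbar h
    obtain ⟨a, rfl⟩ := QuotientGroup.mk'_surjective N x
    refine ⟨_, isDefectGroup_conj hM hB hD a, ?_⟩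
    rw [Subgroup.map_map, Subgroup.map_map]
    congr 1
  · rintro ⟨P, hP, rfl⟩
    obtain ⟨a, rfl⟩ := defectGroup_conj hM hB hD hP
    have h := isDefectGroup_conj hM hBbar hDbar (QuotientGroup.mk' N a)
    rw [Subgroup.map_map] at h ⊢
    convert h using 2
    ext u
    simp

end CfsgLib.Block.QuotientDefect
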