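import Cfsg.Agent.Lib.Block.NilpotentChar

/-!
# The characters of a nilpotent block

For a maximal pair `(P, e)` and a height zero `χ` of a nilpotent block the contributions
`y ↦ contrib χ ψ y` are the irreducible characters of `P`.
-/

open Finset MonoidAlgebra Polynomial
open scoped ComplexConjugate

set_option linter.unusedSectionVars false

namespace CfsgLib.Block

open Cfsg
open scoped Pair

universe u

variable {p : ℕ} {M : Ideal AlgInt} [M.IsMaximal] {G : Type u} [Group G] [Fintype G] [DecidableEq G]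
  [Fintype (IrrCharacter G)]

/-- A maximal pair on a given defect group. -/
theorem exists_maximalPair_at (hM : IsPModular p M) {B : Set (IrrCharacter G)} (hB : IsPBlock M B)
    {P : Subgroup G} (hP : IsDefectGroup p M B P) :
    ∃ e : Set (IrrCharacter (CQ P)), IsMaximalBrauerPair p M B P e := by
  obtain ⟨D, d, hmax⟩ := exists_maximalPair hM hB
  obtain ⟨x, hx⟩ := defectGroup_conj hM hB (isDefectGroup_of_maximal hM hmax) hP
  subst hx
  refine ⟨conjBlock D x d, IsBrauerPairOf.conj hM x hmax.1, fun R g hg hle => ?_⟩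
  have h : SubpairLE p M (cjS x⁻¹ (cjS x D)) (conjBlock (cjS x D) x⁻¹ (conjBlock D x d))
      (cjS x⁻¹ R) (conjBlock R x⁻¹ g) := SubpairLE.conj hM x⁻¹ hle
  have hback : cjP x⁻¹ (cjP x ⟨D, d⟩) = (⟨D, d⟩ : BrauerPairIdx G) := by
    rw [cjP_cjP hM _ _ hmax.1.1.2, inv_mul_cancel, cjP_one hM hmax.1.1.2]
  have h' : Relation.ReflTransGen (NormalSubpairRel p M) (cjP x⁻¹ (cjP x ⟨D, d⟩))
      (⟨cjS x⁻¹ R, conjBlock R x⁻¹ g⟩ : BrauerPairIdx G) := h
  rw [hback] at h'
  have heq : cjS x⁻¹ R = D := hmax.2 _ _ (IsBrauerPairOf.conj hM x⁻¹ hg) h'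
  show R = cjS x D
  rw [← heq, cjS_cjS, mul_inv_cancel, cjS_one]

/-- The bijection of a nilpotent block with the characters of the pair's group. -/
theorem exists_height_bijection (hM : IsPModular p M) {B : Set (IrrCharacter G)} {P : Subgroup G}
    {e : Set (IrrCharacter (CQ P))} (hmax : IsMaximalBrauerPair p M B P e)
    (hnil : IsNilpotentBlock p M B) :
    ∃ Φ : B ≃ IrrCharacter P, ∀ χ : B, blockHeight p B ((χ : IrrCharacter G) : G → ℂ) =
      (charDegree ((Φ χ : IrrCharacter P) : P → ℂ)).factorization p := by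
  classical
  have hpf : Fact p.Prime := ⟨hM.1⟩
  have := charP_resField hM
  have := Fintype.ofFinite (IrrCharacter P)
  have := Fintype.ofFinite (ConjClasses G)
  have he := hmax.1.1
  have hB := hmax.1.2.1
  have hPcard := exists_defect_pow_card hM hmax
  obtain ⟨χ, hχ, hmin⟩ := exists_minDeg (p := p) (isPBlock_nonempty hB)
  have h0 : blockHeight p B (χ : G → ℂ) = 0 := (blockHeight_eq_zero_iff hχ).mpr hmin
  obtain ⟨i, hi, -⟩ := exists_sourceIdem hM hmax hχ h0
  obtain ⟨ih, hih, hred, hcomm⟩ := exists_lift_idem_commute (S := (P : Set G)) hi.idem hi.cinv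
  choose lowf hlowf hlowle using fun y : P =>
    exists_subpairLE hM he (Subgroup.zpowers (y : G)) (Subgroup.zpowers_le.mpr y.2)
  let low : P → BrauerPairIdx G := fun y => ⟨_, lowf y⟩
  have hlow : ∀ y : P, (low y).1 = Subgroup.zpowers (y : G) ∧ Below p M P e (low y) :=
    fun y => ⟨rfl, hlowle y⟩
  have hsections : ∀ y : P, ∀ b : Set (IrrCharacter (CQ (Subgroup.zpowers (y : G)))),
      IsBrauerPairOf p M B (Subgroup.zpowers (y : G)) b → HasUnitRow p b := fun y b hb =>
    isNilpotentBlock_unitRow hM (isNilpotentBlock_local hM hnil hb)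
  choose n dd hsd using fun y : P =>
    exists_secData hM hmax hnil hi hih hred hcomm low hlow y (hsections y)
  obtain ⟨hrows, hnorm⟩ := hasUnitRow_step hM hmax hnil (fun y _ => hsections y) hχ h0
  choose! d hd using hrows
  have htot : ∀ θ ∈ B, ∀ θ' ∈ B,
      ∑ y : P, dd y θ * conj (dd y θ') = if θ = θ' then (Nat.card P : ℂ) else 0 := by
    intro θ hθ θ' hθ'
    rw [← sum_secSum_nilpotent hM hmax hnil low hlow hθ hθ']
    exact Finset.sum_congr rfl fun y _ => ((hsd y θ).2.2 θ').symm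
  have hddint : ∀ y θ, IsIntegral ℤ (dd y θ) := fun y θ =>
    isIntegral_of_mem_cycInt Nat.card_pos.ne' (hsd y θ).1
  have hconjint : ∀ {z : ℂ}, IsIntegral ℤ z → IsIntegral ℤ (conj z) := fun h =>
    h.map ((starRingEnd ℂ).toIntAlgHom)
  have hnz : ∀ y : P, dd y χ ≠ 0 ∧ ¬ p ∣ n y := by
    intro y
    obtain ⟨w, hw, hwres⟩ := exists_sval_res hM he.1 hred hi.cinv χ y
    rw [(hsd y χ).2.1] at hw
    have hne : res M w ≠ 0 := hwres ▸ hi.trB_ne
    refine ⟨fun h => hne ?_, fun h => hne ?_⟩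
    · rw [show w = 0 from Subtype.ext (by rw [hw, h, mul_zero, ZeroMemClass.coe_zero]), map_zero]
    · rw [show w = (n y : locRing M) * ⟨dd y χ, integral_mem M (hddint y χ)⟩ from Subtype.ext (by
        rw [Subring.coe_mul, hw]; simp), map_mul, map_natCast,
        (CharP.cast_eq_zero_iff (ResField M) p (n y)).mpr h, zero_mul]
  have hunit : ∀ y, dd y χ * conj (dd y χ) = 1 :=
    normSq_eq_one_of_card_eq Nat.card_pos.ne'
      (fun y => (⟨dd y χ, (hsd y χ).1⟩ : cycInt (Nat.card P))) (fun y => (hnz y).1) (by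
        rw [Int.cast_natCast, ← Nat.card_eq_fintype_card]
        exact (htot χ hχ χ hχ).trans (if_pos rfl))
  -- the class functions
  let a : IrrCharacter G → P → ℂ := fun ψ y => dd y χ * conj (dd y ψ)
  have hPc : (Nat.card P : ℂ) = (p : ℂ) ^ blockDefect p B := by rw [hPcard, Nat.cast_pow]
  have hP0 : (Nat.card P : ℂ) ≠ 0 := Nat.cast_ne_zero.mpr Nat.card_pos.ne'
  have hG0 : (Nat.card G : ℂ) ≠ 0 := Nat.cast_ne_zero.mpr Nat.card_pos.ne'
  have hreg : ∀ ψ ∈ B, ∀ θ, regInner p ψ θ = (d ψ : ℂ) * regInner p χ θ := by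
    intro ψ hψ θ
    refine mul_left_cancel₀ hG0 ?_
    rw [card_mul_regInner, mul_left_comm, card_mul_regInner, Finset.mul_sum]
    exact Finset.sum_congr rfl fun g hg => by
      rw [hd ψ hψ g (Finset.mem_filter.mp hg).2, mul_assoc]
  have hχχ : regInner p χ χ = (Nat.card P : ℂ)⁻¹ := by
    rw [← hPc] at hnorm
    exact eq_inv_of_mul_eq_one_left hnorm
  have ha1 : ∀ ψ ∈ B, a ψ 1 = (d ψ : ℂ) := by
    intro ψ hψ
    have h1 : ∀ t : G, Commute t ((1 : P) : G) := fun t => by simp [Commute, SemiconjBy]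
    have hl : ∀ θ : IrrCharacter G, ∀ t, (θ : G → ℂ) (((1 : P) : G) * t) = 1 * (θ : G → ℂ) t :=
      fun θ t => by simp
    show dd 1 χ * conj (dd 1 ψ) = _
    rw [← (hsd 1 χ).2.2 ψ, contrib_central hM hmax low hlow 1 h1 hχ hψ (hl χ) (hl ψ),
      regInner_comm hM χ ψ, hreg ψ hψ χ, hχχ, map_one, one_mul, one_mul, mul_comm (d ψ : ℂ),
      ← mul_assoc, mul_inv_cancel₀ hP0, one_mul]
  -- generalized characters
  let N : P → ℕ := fun y => n y ^ 2
  have hN2 : ∀ y : P, sval ih χ (y : G) * conj (sval ih χ (y : G)) = (N y : ℂ) := by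
    intro y
    simp only [N, (hsd y χ).2.1, map_mul, map_natCast, Nat.cast_pow]
    linear_combination (n y : ℂ) ^ 2 * hunit y
  have hNp : ∀ y, ¬ p ∣ N y := fun y hd => (hnz y).2 (hM.1.dvd_of_dvd_pow hd)
  set vals : Finset ℕ := Finset.univ.image N
  set Qp : Polynomial ℤ := ∏ v ∈ vals, (C (v : ℤ) - X)
  set m : ℤ := Qp.coeff 0 with hmdef
  have hmv : m = ∏ v ∈ vals, (v : ℤ) := by
    rw [hmdef, coeff_zero_eq_eval_zero, eval_prod]
    simp
  have hcop : IsCoprime m (Nat.card P : ℤ) := by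
    rw [hmv, hPcard, Nat.cast_pow]
    refine (IsCoprime.prod_left fun v hv => ?_).pow_right
    obtain ⟨y, -, rfl⟩ := Finset.mem_image.mp hv
    exact Nat.isCoprime_iff_coprime.mpr ((hM.1.coprime_iff_not_dvd.mpr (hNp y)).symm)
  have hm00 : m ≠ 0 := by
    rw [hmv, Finset.prod_ne_zero_iff]
    intro v hv
    obtain ⟨y, -, rfl⟩ := Finset.mem_image.mp hv
    exact Int.natCast_ne_zero.mpr fun h => hNp y (h ▸ dvd_zero p)
  have hm0 : (m : ℂ) ≠ 0 := Int.cast_ne_zero.mpr hm00
  let v : P → ℂ := fun y => - aeval (sval ih χ (y : G) * conj (sval ih χ (y : G))) Qp.divX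
  have hv : ∀ y : P, (N y : ℂ) * v y = (m : ℂ) := by
    intro y
    simp only [v, hN2 y]
    have h : aeval (N y : ℂ) Qp = 0 := by
      rw [map_prod]
      exact Finset.prod_eq_zero (Finset.mem_image_of_mem N (Finset.mem_univ y)) (by simp)
    rw [← divX_mul_X_add Qp, map_add, map_mul, aeval_X, aeval_C, algebraMap_int_eq, eq_intCast] at h
    linear_combination -h
  have hf : ∀ θ, IsGeneralizedCharacter P (fun y : P => sval ih θ (y : G)) := fun θ =>
    Char.isGeneralizedCharacter_of_isCharacter (isCharacter_sval ih hih hcomm θ)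
  have hfc : ∀ θ, IsGeneralizedCharacter P (fun y : P => conj (sval ih θ (y : G))) := fun θ =>
    Char.isGeneralizedCharacter_of_isCharacter
      (Char.isCharacter_conj (isCharacter_sval ih hih hcomm θ))
  have hvgen : IsGeneralizedCharacter P v := Char.isGeneralizedCharacter_neg
    (isGeneralizedCharacter_aeval (Char.isGeneralizedCharacter_mul (hf χ) (hfc χ)) _)
  have hagen : ∀ ψ, IsGeneralizedCharacter P (fun y => (m : ℂ) * a ψ y) := by
    intro ψ
    have hg := Char.isGeneralizedCharacter_mul (Char.isGeneralizedCharacter_mul (hf χ) (hfc ψ)) hvgen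
    convert hg using 1
    funext y
    have hNv := hv y
    simp only [a, Pi.mul_apply, (hsd y χ).2.1, (hsd y ψ).2.1, map_mul, map_natCast]
    simp only [N, Nat.cast_pow] at hNv
    linear_combination -(dd y χ * conj (dd y ψ)) * hNv
  have hacf : ∀ ψ, IsClassFunction P (a ψ) := fun ψ y u =>
    mul_left_cancel₀ hm0 (Char.isClassFunction_of_isGeneralized (hagen ψ) y u)
  have haint : ∀ ψ, ∀ μ : IrrCharacter P, ∃ k : ℤ, classInner (a ψ) (μ : P → ℂ) = k := by
    intro ψ μ
    obtain ⟨r, hr⟩ := Char.classInner_generalized_int (hagen ψ)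
      (Char.isGeneralizedCharacter_of_isCharacter (Char.isCharacter_irr μ))
    refine exists_intCast_of_mul_eq hm00 hcop (r := r) ?_ ?_
    · rw [← hr, classInner, classInner, Finset.mul_sum, Finset.mul_sum, Finset.mul_sum]
      exact Finset.sum_congr rfl fun y _ => by ring
    · rw [classInner, ← mul_assoc, mul_inv_cancel₀ hP0, one_mul]
      exact IsIntegral.sum _ fun y _ =>
        ((hddint y χ).mul (hconjint (hddint y ψ))).mul
          (hconjint (Char.isCharacter_isIntegral (Char.isCharacter_irr μ) y))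
  choose k hk using haint
  have hpars : ∀ ψ ∈ B, ∑ μ : IrrCharacter P, k ψ μ * k ψ μ = 1 := by
    intro ψ hψ
    have h1 : ((∑ μ : IrrCharacter P, k ψ μ * k ψ μ : ℤ) : ℂ) = classInner (a ψ) (a ψ) := by
      conv_rhs => arg 1; rw [Char.classFun_expand (hacf ψ)]
      rw [Char.classInner_sum_left, Int.cast_sum]
      refine Finset.sum_congr rfl fun μ _ => ?_
      have hsym : classInner (μ : P → ℂ) (a ψ) = conj (classInner (a ψ) (μ : P → ℂ)) := by
        simp only [classInner, map_mul, map_sum, map_inv₀, map_natCast, Complex.conj_conj]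
        simp only [mul_comm]
      rw [Char.classInner_smul_left, hsym, hk, map_intCast, Int.cast_mul]
    have h2 : classInner (a ψ) (a ψ) = 1 := by
      rw [classInner, Finset.sum_congr rfl (g := fun y => dd y ψ * conj (dd y ψ)) fun y _ => by
          simp only [a, map_mul, Complex.conj_conj]
          linear_combination (dd y ψ * conj (dd y ψ)) * hunit y,
        htot ψ hψ ψ hψ, if_pos rfl, inv_mul_cancel₀ hP0]
    rw [h2] at h1
    exact_mod_cast h1
  have hdpos : ∀ ψ ∈ B, 0 < d ψ := fun ψ hψ => Nat.pos_of_ne_zero fun h => by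
    have h1 := hd ψ hψ 1 (by simp [hM.1.ne_one])
    rw [h, Nat.cast_zero, zero_mul] at h1
    exact Char.irr_one_ne_zero ψ h1
  have hμ : ∀ ψ ∈ B, ∃ μ : IrrCharacter P, a ψ = (μ : P → ℂ) := by
    intro ψ hψ
    have hex : ∃ μ, k ψ μ ≠ 0 := by
      by_contra hall
      push Not at hall
      exact absurd (hpars ψ hψ) (by simp [hall])
    obtain ⟨μ, hμ⟩ := hex
    have hsq : ∀ ν, 0 ≤ k ψ ν * k ψ ν := fun ν => mul_self_nonneg _
    have hge : 1 ≤ k ψ μ * k ψ μ := by
      have := (hsq μ).lt_of_ne' (mul_self_ne_zero.mpr hμ)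
      omega
    have hothers : ∀ ν, ν ≠ μ → k ψ ν = 0 := by
      intro ν hν
      have hsum := hpars ψ hψ
      rw [← Finset.sum_erase_add _ _ (Finset.mem_univ μ)] at hsum
      have h1 := Finset.single_le_sum (f := fun ν => k ψ ν * k ψ ν) (fun ν _ => hsq ν)
        (Finset.mem_erase.mpr ⟨hν, Finset.mem_univ ν⟩)
      exact mul_self_eq_zero.mp (le_antisymm (by omega) (hsq ν))
    have hk1 : k ψ μ * k ψ μ = 1 := by
      rw [← hpars ψ hψ, Finset.sum_eq_single μ (fun ν _ hν => by rw [hothers ν hν, mul_zero])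
        (by simp)]
    have haμ : a ψ = (k ψ μ : ℂ) • (μ : P → ℂ) := by
      conv_lhs => rw [Char.classFun_expand (hacf ψ)]
      rw [Finset.sum_eq_single μ (fun ν _ hν => by rw [hk, hothers ν hν, Int.cast_zero, zero_smul])
        (by simp), hk]
    obtain ⟨dμ, hdμ⟩ := Char.isCharacter_degree (Char.isCharacter_irr μ)
    have hsign := congrFun haμ 1
    rw [ha1 ψ hψ, Pi.smul_apply, smul_eq_mul, hdμ] at hsign
    have hsign' : (d ψ : ℤ) = k ψ μ * dμ := by exact_mod_cast hsign
    have hkpos : k ψ μ = 1 := by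
      rcases mul_self_eq_one_iff.mp hk1 with h | h
      · exact h
      · rw [h] at hsign'
        have := hdpos ψ hψ
        omega
    exact ⟨μ, by rw [haμ, hkpos, Int.cast_one, one_smul]⟩
  have : Nonempty (IrrCharacter P) := ⟨oneChar P⟩
  choose! μf hμf using hμ
  have hinj : ∀ ψ ∈ B, ∀ ψ' ∈ B, μf ψ = μf ψ' → ψ = ψ' := by
    intro ψ hψ ψ' hψ' heq
    by_contra hne
    have h1 : classInner (a ψ) (a ψ') = 1 := by
      rw [hμf ψ hψ, hμf ψ' hψ', heq, Char.classInner_irr_self]
    rw [classInner, Finset.sum_congr rfl (g := fun y => dd y ψ' * conj (dd y ψ)) fun y _ => by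
        simp only [a, map_mul, Complex.conj_conj]
        linear_combination (dd y ψ' * conj (dd y ψ)) * hunit y,
      htot ψ' hψ' ψ hψ, if_neg (Ne.symm hne), mul_zero] at h1
    exact zero_ne_one h1
  have hμone : ∀ ψ ∈ B, (μf ψ : P → ℂ) 1 = (d ψ : ℂ) := fun ψ hψ => by rw [← hμf ψ hψ, ha1 ψ hψ]
  -- the squares of the degrees exhaust the order
  have hsum : ∑ θ ∈ Finset.univ.filter (· ∈ B), (d θ : ℂ) ^ 2 = (Nat.card P : ℂ) := by
    have h := sum_regInner_mul_regInner p χ χ
    rw [← Finset.sum_filter_add_sum_filter_not Finset.univ (· ∈ B),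
      Finset.sum_eq_zero (s := Finset.univ.filter (fun θ => ¬ θ ∈ B)) fun θ hθ => by
        rw [regInner_eq_zero_of_not_mem hM (IsBlockUnion.of_isPBlock hB) hχ
          (Finset.mem_filter.mp hθ).2, zero_mul],
      add_zero, Finset.sum_congr rfl (g := fun θ => (d θ : ℂ) ^ 2 * ((Nat.card P : ℂ)⁻¹ *
        (Nat.card P : ℂ)⁻¹)) fun θ hθ => by
          rw [regInner_comm hM χ θ, hreg θ (Finset.mem_filter.mp hθ).2 χ, hχχ]; ring,
      ← Finset.sum_mul, hχχ] at h
    field_simp at h
    exact h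
  let F : B → IrrCharacter P := fun ψ => μf ψ
  have hFinj : Function.Injective F := fun ψ ψ' h => Subtype.ext (hinj _ ψ.2 _ ψ'.2 h)
  have hFsurj : Function.Surjective F := by
    intro ν
    by_contra hν
    push Not at hν
    have hall := Char.sum_degree_sq (G := P)
    have himg : ∑ μ ∈ Finset.univ.image F, (μ : P → ℂ) 1 ^ 2 = (Nat.card P : ℂ) := by
      rw [Finset.sum_image (fun x _ y _ h => hFinj h), ← hsum,
        Finset.sum_subtype (p := fun θ => θ ∈ B) _ (fun θ => by simp) (fun θ => (d θ : ℂ) ^ 2)]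
      exact Finset.sum_congr rfl fun ψ _ => by rw [hμone _ ψ.2]
    rw [← Finset.sum_sdiff (Finset.subset_univ (Finset.univ.image F)), himg, add_eq_right] at hall
    choose dg hdg using fun μ : IrrCharacter P => Char.isCharacter_degree (Char.isCharacter_irr μ)
    simp only [hdg] at hall
    rw [show (∑ μ ∈ Finset.univ \ Finset.univ.image F, ((dg μ : ℕ) : ℂ) ^ 2) =
      ((∑ μ ∈ Finset.univ \ Finset.univ.image F, dg μ ^ 2 : ℕ) : ℂ) by push_cast; rfl,
      Nat.cast_eq_zero, Finset.sum_eq_zero_iff] at hall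
    have h1 := hall ν (by simpa using hν)
    exact Char.irr_one_ne_zero ν (by rw [hdg, pow_eq_zero_iff two_ne_zero |>.mp h1, Nat.cast_zero])
  refine ⟨Equiv.ofBijective F ⟨hFinj, hFsurj⟩, fun ψ => ?_⟩
  have hdeg : charDegree (((ψ : IrrCharacter G)) : G → ℂ) = d ψ * charDegree (χ : G → ℂ) :=
    Nat.cast_injective (R := ℂ) (by
      rw [← (charDegree_eq (ψ : IrrCharacter G)).1, hd _ ψ.2 1 (by simp [hM.1.ne_one]),
        (charDegree_eq χ).1, Nat.cast_mul])
  have hdμ : charDegree ((F ψ : IrrCharacter P) : P → ℂ) = d ψ :=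
    Nat.cast_injective (R := ℂ) (by rw [← (charDegree_eq (F ψ)).1]; exact hμone _ ψ.2)
  show blockHeight p B _ = (charDegree ((F ψ : IrrCharacter P) : P → ℂ)).factorization p
  rw [hdμ, blockHeight_eq, ← hmin, degVal, degVal, hdeg,
    Nat.factorization_mul (hdpos _ ψ.2).ne' (charDegree_eq χ).2, Finsupp.add_apply,
    add_tsub_cancel_right]

end CfsgLib.Block
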