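import Cfsg.Agent.Lib.Block.LocalTracial
import Cfsg.Agent.Lib.Block.GroupAlg
import Mathlib.Data.Matrix.Basis
import Mathlib.Data.ZMod.Basic
import Mathlib.FieldTheory.IsAlgClosed.Basic

/-!
# Primitive idempotents under an automorphism of order `p`

In a finite-dimensional algebra over an algebraically closed field of characteristic `p`, let an
idempotent `i` be fixed by an automorphism `σ` with `σ ^ p = 1` and be a relative trace.  Then every
additive integer function on idempotents that is constant on equivalent ones and on `σ`-orbits is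
divisible by `p` at `i`.
-/

set_option autoImplicit false
set_option linter.unusedSectionVars false

namespace CfsgLib.Block.Points

open Finset

universe u v

/-- The dimension of a space on which an element of order `p` has a free relative trace. -/
theorem dvd_finrank_of_sum_conj {k : Type u} [Field k] {p : ℕ} [hp : Fact p.Prime] [CharP k p]
    {V : Type v} [AddCommGroup V] [Module k V] [FiniteDimensional k V] {T A : Module.End k V}
    (hT : T ^ p = 1) (hA : ∑ l ∈ Finset.range p, T ^ l * A * T ^ (p - l) = 1) :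
    p ∣ Module.finrank k V := by
  rcases subsingleton_or_nontrivial V with h | h
  · rw [Module.finrank_zero_of_subsingleton]; exact dvd_zero p
  have : CharP (Module.End k V) p :=
    charP_of_injective_algebraMap (algebraMap k (Module.End k V)).injective p
  set S : Module.End k V := T - 1 with hS
  have hSp : S ^ p = 0 := by
    rw [hS, sub_pow_char_of_commute p (Commute.one_right T), hT, one_pow, sub_self]
  have hN : S ^ (p - 1) = ∑ l ∈ Finset.range p, T ^ l := by
    have h1 : ((Polynomial.X : Polynomial k) - 1) ^ (p - 1) =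
        ∑ l ∈ Finset.range p, Polynomial.X ^ l := by
      have hne : ((Polynomial.X : Polynomial k) - 1) ≠ 0 := by
        simpa using Polynomial.X_sub_C_ne_zero (1 : k)
      refine mul_left_cancel₀ hne ?_
      rw [← pow_succ', Nat.sub_add_cancel hp.out.one_le, sub_pow_char, one_pow, mul_geom_sum]
    have h2 := congrArg (Polynomial.aeval T) h1
    simpa [map_sum, hS] using h2
  set d := Module.finrank k (LinearMap.ker S) with hd
  have hker : ∀ j, j < p → LinearMap.ker S ≤ LinearMap.range (S ^ j) := by
    intro j hj v hv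
    have hTv : T v = v := by
      have := LinearMap.mem_ker.mp hv
      rwa [hS, LinearMap.sub_apply, Module.End.one_apply, sub_eq_zero] at this
    have hpow : ∀ l : ℕ, (T ^ l) v = v := by
      intro l
      induction l with
      | zero => simp
      | succ l ih => rw [pow_succ, Module.End.mul_apply, hTv, ih]
    have hv' : v = (S ^ (p - 1)) (A v) := by
      conv_lhs => rw [← Module.End.one_apply (R := k) v, ← hA]
      rw [hN, LinearMap.sum_apply, LinearMap.sum_apply]
      exact Finset.sum_congr rfl fun l _ => by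
        rw [Module.End.mul_apply, Module.End.mul_apply, hpow]
    refine ⟨(S ^ (p - 1 - j)) (A v), ?_⟩
    rw [← Module.End.mul_apply, ← pow_add, Nat.add_sub_cancel' (by omega)]
    exact hv'.symm
  have hrec : ∀ j, j < p → Module.finrank k (LinearMap.range (S ^ j)) =
      Module.finrank k (LinearMap.range (S ^ (j + 1))) + d := by
    intro j hj
    have h := LinearMap.finrank_range_add_finrank_ker (S.domRestrict (LinearMap.range (S ^ j)))
    have e1 : LinearMap.range (S.domRestrict (LinearMap.range (S ^ j))) =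
        LinearMap.range (S ^ (j + 1)) := by
      rw [LinearMap.range_domRestrict, pow_succ', Module.End.mul_eq_comp, LinearMap.range_comp]
    have e2 : Module.finrank k (LinearMap.ker (S.domRestrict (LinearMap.range (S ^ j)))) = d := by
      rw [LinearMap.ker_domRestrict]
      exact LinearEquiv.finrank_eq (Submodule.comapSubtypeEquivOfLe (hker j hj))
    rw [e1, e2] at h
    exact h.symm
  have key : ∀ j, j ≤ p → Module.finrank k V = Module.finrank k (LinearMap.range (S ^ j)) + j * d := by
    intro j
    induction j with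
    | zero =>
      intro _
      rw [pow_zero, Module.End.one_eq_id, LinearMap.range_id, finrank_top, zero_mul, add_zero]
    | succ j ih =>
      intro hj
      rw [ih (by omega), hrec j (by omega)]
      ring
  refine ⟨d, ?_⟩
  rw [key p le_rfl, hSp, LinearMap.range_zero, finrank_bot, zero_add]

variable {k : Type u} [Field k] {B : Type v} [Ring B] [Algebra k B]

/-- A primitive idempotent. -/
structure IsPt (j : B) : Prop where
  idem : j * j = j
  ne : j ≠ 0
  prim : ∀ a, a * a = a → j * a = a → a * j = a → a = 0 ∨ a = j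

/-- Equivalence of idempotents. -/
def EqPt (j j' : B) : Prop :=
  ∃ a b, j * a = a ∧ a * j' = a ∧ j' * b = b ∧ b * j = b ∧ a * b = j ∧ b * a = j'

theorem EqPt.refl {j : B} (h : j * j = j) : EqPt j j := ⟨j, j, h, h, h, h, h, h⟩

theorem EqPt.symm {j j' : B} (h : EqPt j j') : EqPt j' j := by
  obtain ⟨a, b, h1, h2, h3, h4, h5, h6⟩ := h
  exact ⟨b, a, h3, h4, h1, h2, h6, h5⟩

theorem EqPt.trans {j j' j'' : B} (h : EqPt j j') (h' : EqPt j' j'') : EqPt j j'' := by
  obtain ⟨a, b, h1, h2, h3, h4, h5, h6⟩ := h
  obtain ⟨c, d, g1, g2, g3, g4, g5, g6⟩ := h'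
  refine ⟨a * c, d * b, by rw [← mul_assoc, h1], by rw [mul_assoc, g2], by rw [← mul_assoc, g3],
    by rw [mul_assoc, h4], ?_, ?_⟩
  · rw [mul_assoc, ← mul_assoc c, g5, ← mul_assoc, h2, h5]
  · rw [mul_assoc, ← mul_assoc b, h6, ← mul_assoc, g4, g6]

theorem EqPt.map {B' : Type v} [Ring B'] [Algebra k B'] (f : B →ₐ[k] B') {j j' : B} (h : EqPt j j') :
    EqPt (f j) (f j') := by
  obtain ⟨a, b, h1, h2, h3, h4, h5, h6⟩ := h
  exact ⟨f a, f b, by rw [← map_mul, h1], by rw [← map_mul, h2], by rw [← map_mul, h3],
    by rw [← map_mul, h4], by rw [← map_mul, h5], by rw [← map_mul, h6]⟩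

theorem IsPt.map {σ : B ≃ₐ[k] B} {j : B} (h : IsPt j) : IsPt (σ j) := by
  refine ⟨by rw [← map_mul, h.idem], fun e => h.ne (σ.injective (e.trans (map_zero σ).symm)),
    fun a ha h1 h2 => ?_⟩
  rcases h.prim (σ.symm a) (by rw [← map_mul, ha]) (σ.injective (by
    rw [map_mul, σ.apply_symm_apply, h1])) (σ.injective (by rw [map_mul, σ.apply_symm_apply, h2])) with
    e | e
  · exact Or.inl (by rw [← σ.apply_symm_apply a, e, map_zero])
  · exact Or.inr (by rw [← σ.apply_symm_apply a, e])

section val

variable [IsAlgClosed k] [FiniteDimensional k B]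

theorem exists_val {j : B} (hj : IsPt j) :
    ∃ v : B →ₗ[k] k, (∀ x, IsNilpotent (j * x * j - v x • j)) ∧
      (∀ x y, v (x * j * y) = v x * v y) ∧ v j = 1 ∧
      (∀ x c, IsNilpotent (j * x * j - c • j) → v x = c) ∧
      ∀ x, v x ≠ 0 → ∃ r, j * r = r ∧ r * j = r ∧ j * x * j * r = j := by
  classical
  have hf : IsIdempotentElem j := hj.idem
  haveI : Nontrivial hf.Corner := LocalAlg.corner_nontrivial hj.ne
  have hid := LocalAlg.corner_idem (hf := hf) fun a ha h1 h2 => hj.prim a ha h1 h2
  obtain ⟨ε, hε⟩ := LocalAlg.exists_scalar_hom (k := k) hid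
  set P := LocalAlg.cornerProj k hf with hP
  have hval : ∀ x, (P x).1 = j * x * j := fun x => rfl
  have hcoe : ∀ c : k, (algebraMap k hf.Corner c).1 = c • j := fun c => by
    rw [Algebra.algebraMap_eq_smul_one, LocalAlg.corner_coe_smul]
    rfl
  have hpow : ∀ (z : hf.Corner) (n : ℕ), (z ^ (n + 1)).1 = z.1 ^ (n + 1) := by
    intro z n
    induction n with
    | zero => simp
    | succ n ih =>
      rw [pow_succ z, pow_succ z.1, ← ih]
      rfl
  refine ⟨ε.toLinearMap.comp P, fun x => ?_, fun x y => ?_, ?_, fun x c hc => ?_, fun x hx => ?_⟩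
  · obtain ⟨n, hn⟩ := hε (P x)
    refine ⟨n + 1, ?_⟩
    have h := congrArg Subtype.val (show (P x - algebraMap k hf.Corner (ε (P x))) ^ (n + 1) = 0 by
      rw [pow_succ, hn, zero_mul])
    rw [hpow] at h
    have e : (P x - algebraMap k hf.Corner (ε (P x))).1 = j * x * j - ε (P x) • j := by
      rw [← hcoe, ← hval]; rfl
    rw [e] at h
    exact h
  · show ε (P (x * j * y)) = ε (P x) * ε (P y)
    rw [← map_mul]
    refine congrArg ε (Subtype.ext ?_)
    show j * (x * j * y) * j = j * x * j * (j * y * j)
    simp only [← mul_assoc, mul_assoc _ j j, hj.idem]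
  · show ε (P j) = 1
    rw [show P j = 1 from Subtype.ext (by rw [hval, hj.idem, hj.idem]; rfl), map_one]
  · show ε (P x) = c
    obtain ⟨n, hn⟩ := hc
    have h : (P x - algebraMap k hf.Corner c) ^ (n + 1) = 0 := Subtype.ext (by
      rw [hpow, show (P x - algebraMap k hf.Corner c).1 = j * x * j - c • j by
        rw [← hcoe, ← hval]; rfl, pow_succ, hn, zero_mul]
      rfl)
    have h' := congrArg ε h
    rw [map_pow, map_zero, map_sub, AlgHom.commutes] at h'
    exact sub_eq_zero.mp (pow_eq_zero_iff n.succ_ne_zero |>.mp h')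
  · have hu : IsUnit (P x) := by
      have h1 : IsUnit (algebraMap k hf.Corner (ε (P x))) := (isUnit_iff_ne_zero.mpr hx).map _
      have h2 := (hε (P x)).isUnit_add_left_of_commute h1 (Algebra.commute_algebraMap_right _ _)
      rwa [add_sub_cancel] at h2
    obtain ⟨r, hr⟩ := hu.exists_right_inv
    obtain ⟨w, hw⟩ := r.2
    refine ⟨r.1, ?_, ?_, ?_⟩
    · rw [← hw]; simp only [← mul_assoc, hj.idem]
    · rw [← hw]; simp only [mul_assoc, hj.idem]
    · exact congrArg Subtype.val hr

variable (k) in
/-- The scalar of the corner of a primitive idempotent. -/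
noncomputable def val {j : B} (hj : IsPt j) : B →ₗ[k] k := (exists_val (k := k) hj).choose

theorem val_mul {j : B} (hj : IsPt j) (x y : B) : val k hj (x * j * y) = val k hj x * val k hj y :=
  (exists_val (k := k) hj).choose_spec.2.1 x y

theorem val_self {j : B} (hj : IsPt j) : val k hj j = 1 := (exists_val (k := k) hj).choose_spec.2.2.1

theorem val_unique {j : B} (hj : IsPt j) {x : B} {c : k} (h : IsNilpotent (j * x * j - c • j)) :
    val k hj x = c := (exists_val (k := k) hj).choose_spec.2.2.2.1 x c h

theorem val_nil {j : B} (hj : IsPt j) (x : B) : IsNilpotent (j * x * j - val k hj x • j) :=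
  (exists_val (k := k) hj).choose_spec.1 x

theorem val_sandwich {j : B} (hj : IsPt j) (x : B) : val k hj (j * x * j) = val k hj x := by
  refine val_unique hj ?_
  rw [show j * (j * x * j) * j = j * x * j by simp only [← mul_assoc, hj.idem, mul_assoc _ j j]]
  exact val_nil hj x

/-- A nonzero value through another primitive idempotent gives equivalence. -/
theorem eqPt_of_val_ne_zero {j j' : B} (hj : IsPt j) (hj' : IsPt j') {x y : B}
    (h : val k hj (x * j' * y) ≠ 0) : EqPt j j' := by
  obtain ⟨r, hjr, hrj, hr⟩ := (exists_val (k := k) hj).choose_spec.2.2.2.2 _ h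
  set a := j * x * j' with ha
  set b := j' * y * r with hb
  have hab : a * b = j := by
    rw [ha, hb, show j * x * j' * (j' * y * r) = j * x * (j' * j') * y * r by simp only [mul_assoc],
      hj'.idem]
    conv_rhs => rw [← hr]
    rw [show j * (x * j' * y) * j * r = j * x * j' * y * (j * r) by simp only [mul_assoc], hjr]
  refine ⟨a, b, by rw [ha, ← mul_assoc, ← mul_assoc, hj.idem], by rw [ha, mul_assoc, hj'.idem],
    by rw [hb, ← mul_assoc, ← mul_assoc, hj'.idem], by rw [hb, mul_assoc, hrj], hab, ?_⟩
  have hidem : b * a * (b * a) = b * a := by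
    rw [show b * a * (b * a) = b * (a * b) * a by simp only [mul_assoc], hab, mul_assoc, ha,
      ← mul_assoc j, ← mul_assoc j, hj.idem]
  have hb0 : j' * b = b := by rw [hb, ← mul_assoc, ← mul_assoc, hj'.idem]
  have ha0 : a * j' = a := by rw [ha, mul_assoc, hj'.idem]
  rcases hj'.prim (b * a) hidem (by rw [← mul_assoc, hb0]) (by rw [mul_assoc, ha0]) with e | e
  · refine absurd ?_ hj.ne
    rw [← hj.idem, ← hab, show a * b * (a * b) = a * (b * a) * b by simp only [mul_assoc], e,
      mul_zero, zero_mul]
  · exact e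

/-- Transfer of the scalar along an equivalence. -/
theorem val_transfer {j j' : B} (hj : IsPt j) (hj' : IsPt j') {a b : B} (h1 : j * a = a)
    (h2 : a * j' = a) (h3 : j' * b = b) (h4 : b * j = b) (h5 : a * b = j) (h6 : b * a = j') (x : B) :
    val k hj (a * x * b) = val k hj' x := by
  refine val_unique hj ?_
  obtain ⟨n, hn⟩ := val_nil (k := k) hj' x
  set N := j' * x * j' - val k hj' x • j' with hN
  have e : j * (a * x * b) * j - val k hj' x • j = a * N * b := by
    rw [hN, mul_sub, sub_mul, Algebra.mul_smul_comm, Algebra.smul_mul_assoc, h2, h5,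
      show a * (j' * x * j') * b = (a * j') * x * (j' * b) by simp only [mul_assoc], h2, h3,
      show j * (a * x * b) * j = (j * a) * x * (b * j) by simp only [mul_assoc], h1, h4]
  have hjN : j' * N = N := by
    rw [hN, mul_sub, Algebra.mul_smul_comm, hj'.idem, ← mul_assoc, ← mul_assoc, hj'.idem]
  rw [e]
  refine ⟨n + 1, ?_⟩
  have key : ∀ m : ℕ, (a * N * b) ^ (m + 1) = a * N ^ (m + 1) * b := by
    intro m
    induction m with
    | zero => simp
    | succ m ih =>
      rw [pow_succ, ih, show a * N ^ (m + 1) * b * (a * N * b) = a * N ^ (m + 1) * ((b * a) * N) * b by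
        simp only [mul_assoc], h6, hjN, pow_succ N (m + 1)]
      simp only [mul_assoc]
  rw [key, pow_succ, hn, zero_mul, mul_zero, zero_mul]

theorem val_map (σ : B ≃ₐ[k] B) {j : B} (hj : IsPt j) (hj' : IsPt (σ j)) (x : B) :
    val k hj' (σ x) = val k hj x := by
  refine val_unique hj' ?_
  rw [← map_mul, ← map_mul, ← map_smul, ← map_sub]
  exact (val_nil (k := k) hj x).map σ

end val

/-- Additivity on orthogonal idempotents extends to families. -/
theorem sum_additive (ν : B → ℤ)
    (hadd : ∀ e f, e * e = e → f * f = f → e * f = 0 → f * e = 0 → ν (e + f) = ν e + ν f)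
    {ι : Type*} [DecidableEq ι] (t : Finset ι) (s : ι → B) (hs : ∀ r ∈ t, s r * s r = s r)
    (horth : ∀ r ∈ t, ∀ r' ∈ t, r ≠ r' → s r * s r' = 0) :
    ν (∑ r ∈ t, s r) = ∑ r ∈ t, ν (s r) ∧ (∑ r ∈ t, s r) * (∑ r ∈ t, s r) = ∑ r ∈ t, s r := by
  induction t using Finset.induction_on with
  | empty =>
    have h := hadd 0 0 (mul_zero 0) (mul_zero 0) (mul_zero 0) (mul_zero 0)
    rw [add_zero] at h
    simp only [Finset.sum_empty, mul_zero, and_true]
    omega
  | insert r t hr ih =>
    obtain ⟨h1, h2⟩ := ih (fun x hx => hs x (Finset.mem_insert_of_mem hx))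
      fun x hx y hy => horth x (Finset.mem_insert_of_mem hx) y (Finset.mem_insert_of_mem hy)
    have hl : s r * ∑ x ∈ t, s x = 0 := by
      rw [Finset.mul_sum]
      exact Finset.sum_eq_zero fun x hx => horth r (Finset.mem_insert_self r t) x
        (Finset.mem_insert_of_mem hx) fun e => hr (e ▸ hx)
    have hrr : (∑ x ∈ t, s x) * s r = 0 := by
      rw [Finset.sum_mul]
      exact Finset.sum_eq_zero fun x hx => horth x (Finset.mem_insert_of_mem hx) r
        (Finset.mem_insert_self r t) fun e => hr (e ▸ hx)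
    have hrs := hs r (Finset.mem_insert_self r t)
    rw [Finset.sum_insert hr, Finset.sum_insert hr]
    refine ⟨by rw [hadd _ _ hrs h2 hl hrr, h1], ?_⟩
    rw [add_mul, mul_add, mul_add, hrs, h2, hl, hrr, add_zero, zero_add]

/-- An idempotent is a sum of orthogonal primitive idempotents. -/
theorem exists_decomp [FiniteDimensional k B] (e : B) (he : e * e = e) :
    ∃ (n : ℕ) (s : Fin n → B), (∀ r, IsPt (s r)) ∧ (∀ r r', r ≠ r' → s r * s r' = 0) ∧
      (∑ r, s r = e) ∧ ∀ r, e * s r = s r ∧ s r * e = s r := by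
  classical
  induction hm : Module.finrank k (LinearMap.range (LinearMap.mulLeft k e)) using Nat.strong_induction_on
    generalizing e with
  | _ m ih =>
  by_cases h0 : e = 0
  · exact ⟨0, Fin.elim0, fun r => r.elim0, fun r => r.elim0, by simp [h0], fun r => r.elim0⟩
  by_cases hp : IsPt e
  · exact ⟨1, fun _ => e, fun _ => hp, fun r r' h => absurd (Subsingleton.elim r r') h, by simp,
      fun _ => ⟨he, he⟩⟩
  obtain ⟨a, ha, h1, h2, ha0, hae⟩ : ∃ a, a * a = a ∧ e * a = a ∧ a * e = a ∧ a ≠ 0 ∧ a ≠ e := by
    by_contra hall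
    push Not at hall
    exact hp ⟨he, h0, fun a ha h1 h2 => or_iff_not_imp_left.mpr (hall a ha h1 h2)⟩
  have small : ∀ c, c * c = c → e * c = c → c * e = c → c ≠ e →
      Module.finrank k (LinearMap.range (LinearMap.mulLeft k c)) < m := by
    intro c hc hec hce hne
    rw [← hm]
    refine Submodule.finrank_lt_finrank_of_lt (lt_of_le_of_ne ?_ fun heq => hne ?_)
    · rintro _ ⟨z, rfl⟩
      exact ⟨c * z, by simp only [LinearMap.mulLeft_apply, ← mul_assoc, hec]⟩
    · obtain ⟨z, hz⟩ : e ∈ LinearMap.range (LinearMap.mulLeft k c) := heq ▸ ⟨e, he⟩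
      simp only [LinearMap.mulLeft_apply] at hz
      rw [← hce, ← hz, ← mul_assoc, hc]
  have hb : (e - a) * (e - a) = e - a := by
    rw [sub_mul, mul_sub, mul_sub, he, h1, h2, ha, sub_self, sub_zero]
  have hb1 : e * (e - a) = e - a := by rw [mul_sub, he, h1]
  have hb2 : (e - a) * e = e - a := by rw [sub_mul, he, h2]
  have hab : a * (e - a) = 0 := by rw [mul_sub, h2, ha, sub_self]
  have hba : (e - a) * a = 0 := by rw [sub_mul, h1, ha, sub_self]
  obtain ⟨n1, s1, hs1, ho1, hsum1, hin1⟩ := ih _ (small a ha h1 h2 hae) a ha rfl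
  obtain ⟨n2, s2, hs2, ho2, hsum2, hin2⟩ :=
    ih _ (small (e - a) hb hb1 hb2 fun h => ha0 (sub_eq_self.mp h)) (e - a) hb rfl
  have hx12 : ∀ r r', s1 r * s2 r' = 0 := fun r r' => by
    rw [← (hin1 r).2, mul_assoc, ← (hin2 r').1, ← mul_assoc a, hab, zero_mul, mul_zero]
  have hx21 : ∀ r r', s2 r' * s1 r = 0 := fun r r' => by
    rw [← (hin2 r').2, mul_assoc, ← (hin1 r).1, ← mul_assoc (e - a), hba, zero_mul, mul_zero]
  refine ⟨n1 + n2, Fin.append s1 s2, fun r => ?_, fun r r' h => ?_, ?_, fun r => ?_⟩
  · refine Fin.addCases (fun x => ?_) (fun x => ?_) r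
    · rw [Fin.append_left]; exact hs1 x
    · rw [Fin.append_right]; exact hs2 x
  · revert h
    refine Fin.addCases (fun x => ?_) (fun x => ?_) r <;>
      refine Fin.addCases (fun y => ?_) (fun y => ?_) r' <;>
      simp only [Fin.append_left, Fin.append_right] <;> intro h
    · exact ho1 x y fun e => h (by rw [e])
    · exact hx12 x y
    · exact hx21 y x
    · exact ho2 x y fun e => h (by rw [e])
  · rw [Fin.sum_univ_add]
    simp only [Fin.append_left, Fin.append_right]
    rw [hsum1, hsum2, add_sub_cancel]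
  · refine Fin.addCases (fun x => ?_) (fun x => ?_) r
    · rw [Fin.append_left]
      exact ⟨by rw [← (hin1 x).1, ← mul_assoc, h1], by rw [← (hin1 x).2, mul_assoc, h2]⟩
    · rw [Fin.append_right]
      exact ⟨by rw [← (hin2 x).1, ← mul_assoc, hb1], by rw [← (hin2 x).2, mul_assoc, hb2]⟩

/-- Divisibility at a relative trace. -/
theorem dvd_of_relTrace [IsAlgClosed k] {p : ℕ} [hp : Fact p.Prime] [CharP k p] [FiniteDimensional k B]
    (σ : B ≃ₐ[k] B) (hσ : ∀ x, σ^[p] x = x) {i a : B} (hi : i * i = i) (hσi : σ i = i)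
    (ha : ∑ l ∈ Finset.range p, σ^[l] a = i) (ν : B → ℤ)
    (hadd : ∀ e f, e * e = e → f * f = f → e * f = 0 → f * e = 0 → ν (e + f) = ν e + ν f)
    (hequiv : ∀ e f, EqPt e f → ν e = ν f) (hinv : ∀ e, e * e = e → ν (σ e) = ν e) :
    (p : ℤ) ∣ ν i := by
  classical
  obtain ⟨n, s, hs, horth, hsum, hin⟩ := exists_decomp (k := k) i hi
  letI st : Setoid (Fin n) := ⟨fun r r' => EqPt (s r) (s r'),
    ⟨fun r => EqPt.refl (hs r).idem, fun h => h.symm, fun h h' => h.trans h'⟩⟩
  have hex : ∀ q : B, IsPt q → i * q = q → q * i = q → ∃ t, EqPt q (s t) := by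
    intro q hq h1 h2
    have h : ∑ t, val k hq (s t) = 1 := by
      rw [← map_sum, hsum, ← val_sandwich hq i,
        show q * i * q = q by rw [h2, hq.idem], val_self]
    obtain ⟨t, -, ht⟩ := Finset.exists_ne_zero_of_sum_ne_zero (h.trans_ne one_ne_zero)
    exact ⟨t, eqPt_of_val_ne_zero hq (hs t) (x := 1) (y := 1) (by rwa [one_mul, mul_one])⟩
  have hσin : ∀ r, i * σ (s r) = σ (s r) ∧ σ (s r) * i = σ (s r) := fun r =>
    ⟨by rw [← hσi, ← map_mul, (hin r).1], by rw [← hσi, ← map_mul, (hin r).2]⟩
  choose f hf using fun r : Fin n => hex (σ (s r)) (hs r).map (hσin r).1 (hσin r).2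
  have hfr : ∀ r r', EqPt (s r) (s r') → EqPt (s (f r)) (s (f r')) := fun r r' h =>
    ((hf r).symm.trans (EqPt.map (k := k) σ.toAlgHom h)).trans (hf r')
  have hfl : ∀ (l : ℕ) (r : Fin n), EqPt (σ^[l] (s r)) (s (f^[l] r)) := by
    intro l
    induction l with
    | zero => exact fun r => EqPt.refl (hs r).idem
    | succ l ih =>
      intro r
      rw [Function.iterate_succ', Function.comp_apply, Function.iterate_succ', Function.comp_apply]
      exact (EqPt.map (k := k) σ.toAlgHom (ih r)).trans (hf _)
  have hfp : ∀ r, EqPt (s (f^[p] r)) (s r) := fun r => by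
    have := hfl p r
    rw [hσ] at this
    exact this.symm
  let F : Quotient st → Quotient st := Quotient.map f fun r r' h => hfr r r' h
  have hFl : ∀ (l : ℕ) (r : Fin n), F^[l] (Quotient.mk st r) = Quotient.mk st (f^[l] r) := by
    intro l
    induction l with
    | zero => intro r; rfl
    | succ l ih =>
      intro r
      rw [Function.iterate_succ', Function.comp_apply, ih, Function.iterate_succ', Function.comp_apply]
      rfl
  have hFp : ∀ C, F^[p] C = C := fun C => by
    induction C using Quotient.inductionOn with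
    | h r => rw [hFl]; exact Quotient.sound (hfp r)
  let π : Equiv.Perm (Quotient st) :=
    { toFun := F
      invFun := F^[p - 1]
      left_inv := fun C => by
        rw [← Function.iterate_succ_apply, Nat.succ_eq_add_one, Nat.sub_add_cancel hp.out.one_le, hFp]
      right_inv := fun C => by
        rw [← Function.iterate_succ_apply' F, Nat.succ_eq_add_one, Nat.sub_add_cancel hp.out.one_le,
          hFp] }
  have hπp : π ^ p = 1 := Equiv.ext fun C => by
    rw [Equiv.Perm.coe_pow, Equiv.Perm.one_apply]
    exact hFp C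
  have hPG : IsPGroup p (Subgroup.zpowers π) := by
    obtain ⟨j, -, hj⟩ := (Nat.dvd_prime_pow hp.out).mp
      ((orderOf_dvd_of_pow_eq_one hπp).trans (dvd_of_eq (pow_one p).symm))
    exact IsPGroup.of_card (n := j) (by rw [Nat.card_zpowers, hj])
  let X : Quotient st → Finset (Fin n) := fun C =>
    Finset.univ.filter (fun r => Quotient.mk st r = C)
  have hmemX : ∀ {C : Quotient st} {r : Fin n}, r ∈ X C ↔ EqPt (s C.out) (s r) := by
    intro C r
    simp only [X, Finset.mem_filter, Finset.mem_univ, true_and]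
    conv_lhs => rw [← C.out_eq, eq_comm, Quotient.eq]
    exact Iff.rfl
  let g : Quotient st → ZMod p := fun C => ((X C).card : ZMod p) * (ν (s C.out) : ZMod p)
  have htot : (ν i : ZMod p) = ∑ C, g C := by
    rw [← hsum, (sum_additive ν hadd Finset.univ s (fun r _ => (hs r).idem)
      fun r _ r' _ h => horth r r' h).1, Int.cast_sum,
      ← Finset.sum_fiberwise_of_maps_to (g := Quotient.mk st) (t := Finset.univ)
        fun r _ => Finset.mem_univ _]
    refine Finset.sum_congr rfl fun C _ => ?_
    rw [Finset.sum_congr rfl (g := fun _ => (ν (s C.out) : ZMod p)) fun r hr => ?_,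
      Finset.sum_const, nsmul_eq_mul]
    rw [hequiv _ _ (hmemX.mp hr)]
  -- matrix units of each class
  have hab : ∀ (C : Quotient st) (r : {r : Fin n // r ∈ X C}), ∃ b a : B, s C.out * b = b ∧
      b * s r.1 = b ∧ s r.1 * a = a ∧ a * s C.out = a ∧ b * a = s C.out ∧ a * b = s r.1 :=
    fun C r => hmemX.mp r.2
  choose bb aa hb1 hb2 ha1 ha2 hba hab' using hab
  have hbi : ∀ C r, bb C r * i = bb C r := fun C r => by
    rw [← hb2 C r, mul_assoc, (hin r.1).2]
  have hai : ∀ C r, i * aa C r = aa C r := fun C r => by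
    rw [← ha1 C r, ← mul_assoc, (hin r.1).1]
  have hdiag : ∀ (C : Quotient st) (r t : {r : Fin n // r ∈ X C}),
      bb C r * aa C t = if r = t then s C.out else 0 := by
    intro C r t
    split_ifs with h
    · subst h; exact hba C r
    · rw [← hb2 C r, ← ha1 C t, mul_assoc, ← mul_assoc (s r.1),
        horth _ _ (fun e => h (Subtype.ext e)), zero_mul, mul_zero]
  have key : ∀ (C : Quotient st) (u w : B), ∑ t : {r : Fin n // r ∈ X C},
      val k (hs C.out) (u * aa C t) * val k (hs C.out) (bb C t * w) =
        val k (hs C.out) (u * i * w) := by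
    intro C u w
    conv_rhs => rw [← hsum, Finset.mul_sum, Finset.sum_mul, map_sum]
    rw [← Finset.sum_subset (Finset.subset_univ (X C)) fun r _ hr => by
      by_contra hne
      exact hr (hmemX.mpr (eqPt_of_val_ne_zero (hs _) (hs r) hne))]
    rw [← Finset.sum_coe_sort (X C)]
    refine Finset.sum_congr rfl fun t _ => ?_
    rw [← val_mul (hs C.out), show u * aa C t * s C.out * (bb C t * w) =
      u * ((aa C t * s C.out) * bb C t) * w by simp only [mul_assoc], ha2, hab']
  have key2 : ∀ (C D : Quotient st) (a0 b0 : B), σ (s C.out) * a0 = a0 → a0 * s D.out = a0 →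
      s D.out * b0 = b0 → b0 * σ (s C.out) = b0 → a0 * b0 = σ (s C.out) → b0 * a0 = s D.out →
      ∀ u w : B, ∑ t : {r : Fin n // r ∈ X C},
        val k (hs D.out) (u * σ (aa C t) * a0) * val k (hs D.out) (b0 * σ (bb C t) * w) =
          val k (hs D.out) (u * i * w) := by
    intro C D a0 b0 h1 h2 h3 h4 h5 h6 u w
    conv_rhs => rw [← hσi, ← hsum, map_sum, Finset.mul_sum, Finset.sum_mul, map_sum]
    rw [← Finset.sum_subset (Finset.subset_univ (X C)) fun r _ hr => by
      by_contra hne
      refine hr (hmemX.mpr ?_)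
      have e0 : EqPt (σ (s C.out)) (s D.out) := ⟨a0, b0, h1, h2, h3, h4, h5, h6⟩
      have e1 := e0.trans (eqPt_of_val_ne_zero (hs _) (hs r).map hne)
      simpa using EqPt.map (k := k) σ.symm.toAlgHom e1]
    rw [← Finset.sum_coe_sort (X C)]
    refine Finset.sum_congr rfl fun t _ => ?_
    rw [← val_mul (hs D.out), show u * σ (aa C t) * a0 * s D.out * (b0 * σ (bb C t) * w) =
      u * σ (aa C t) * ((a0 * s D.out) * b0) * σ (bb C t) * w by simp only [mul_assoc], h2, h5,
      show u * σ (aa C t) * σ (s C.out) * σ (bb C t) * w =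
        u * (σ (aa C t) * σ (s C.out) * σ (bb C t)) * w by simp only [mul_assoc],
      ← map_mul, ← map_mul, ha2, hab']
  -- the intertwining matrices of two classes
  let W : ∀ (C D : Quotient st) (a0 : B),
      Matrix {r : Fin n // r ∈ X D} {r : Fin n // r ∈ X C} k := fun C D a0 =>
    Matrix.of fun r t => val k (hs D.out) (bb D r * σ (aa C t) * a0)
  let V : ∀ (C D : Quotient st) (b0 : B),
      Matrix {r : Fin n // r ∈ X C} {r : Fin n // r ∈ X D} k := fun C D b0 =>
    Matrix.of fun t r => val k (hs D.out) (b0 * σ (bb C t) * aa D r)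
  have hdiag' : ∀ (C : Quotient st) (r t : {r : Fin n // r ∈ X C}),
      val k (hs C.out) (bb C r * aa C t) = if r = t then 1 else 0 := by
    intro C r t
    rw [hdiag]
    split_ifs with h
    · exact val_self (hs C.out)
    · exact map_zero _
  have hWV : ∀ (C D : Quotient st) (a0 b0 : B), σ (s C.out) * a0 = a0 → a0 * s D.out = a0 → s D.out * b0 = b0 →
      b0 * σ (s C.out) = b0 → a0 * b0 = σ (s C.out) → b0 * a0 = s D.out →
      W C D a0 * V C D b0 = 1 ∧ V C D b0 * W C D a0 = 1 := by
    intro C D a0 b0 h1 h2 h3 h4 h5 h6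
    refine ⟨Matrix.ext fun r r' => ?_, Matrix.ext fun t t' => ?_⟩
    · simp only [Matrix.mul_apply, W, V, Matrix.of_apply]
      rw [key2 C D a0 b0 h1 h2 h3 h4 h5 h6, hbi, hdiag', Matrix.one_apply]
    · simp only [Matrix.mul_apply, W, V, Matrix.of_apply]
      simp_rw [mul_assoc (bb D _)]
      rw [key D, show b0 * σ (bb C t) * i * (σ (aa C t') * a0) =
          b0 * (σ (bb C t) * i * σ (aa C t')) * a0 by simp only [mul_assoc],
        show σ (bb C t) * i * σ (aa C t') = σ (bb C t * aa C t') by
          rw [← hσi, ← map_mul, ← map_mul, hbi], hdiag, Matrix.one_apply]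
      split_ifs with h
      · rw [h4, h6, val_self]
      · rw [map_zero, mul_zero, zero_mul, map_zero]
  have hedge : ∀ C : Quotient st, EqPt (σ (s C.out)) (s (π C).out) := by
    intro C
    have e1 : EqPt (s (f C.out)) (s (π C).out) := Quotient.exact
      (show Quotient.mk st (f C.out) = Quotient.mk st (π C).out by
        rw [Quotient.out_eq]
        conv_rhs => rw [← C.out_eq]
        rfl)
    exact (hf C.out).trans e1
  have hgπ : ∀ C, g (π C) = g C := by
    intro C
    obtain ⟨a0, b0, h1, h2, h3, h4, h5, h6⟩ := hedge C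
    have hν : ν (s (π C).out) = ν (s C.out) := by
      rw [← hequiv _ _ (hedge C), hinv _ (hs C.out).idem]
    obtain ⟨e1, e2⟩ := hWV C (π C) a0 b0 h1 h2 h3 h4 h5 h6
    have ht : ((X (π C)).card : k) = ((X C).card : k) := by
      have h := Matrix.trace_mul_comm (W C (π C) a0) (V C (π C) b0)
      rwa [e1, e2, Matrix.trace_one, Matrix.trace_one, Fintype.card_coe, Fintype.card_coe] at h
    have ht' : ((X (π C)).card : ZMod p) = ((X C).card : ZMod p) :=
      (ZMod.natCast_eq_natCast_iff _ _ p).mpr ((CharP.natCast_eq_natCast k p).mp ht)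
    simp only [g, hν, ht']
  have hfix : ∀ C, π C = C → (p : ℕ) ∣ (X C).card := by
    intro C hC
    obtain ⟨a0, b0, h1, h2, h3, h4, h5, h6⟩ : EqPt (σ (s C.out)) (s C.out) := by
      have := hedge C
      rwa [hC] at this
    obtain ⟨e1, e2⟩ := hWV C C a0 b0 h1 h2 h3 h4 h5 h6
    set W0 := W C C a0 with hW0
    let rep : B → Matrix {r : Fin n // r ∈ X C} {r : Fin n // r ∈ X C} k := fun x =>
      Matrix.of fun r t => val k (hs C.out) (bb C r * x * aa C t)
    have hint : ∀ x, rep (σ x) * W0 = W0 * rep x := by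
      intro x
      refine Matrix.ext fun r t => ?_
      have htr : ∀ c, val k (hs C.out) c = val k (hs C.out) (b0 * σ c * a0) := fun c => by
        rw [val_transfer (hs C.out) (hs C.out).map h3 h4 h1 h2 h6 h5, val_map σ (hs C.out) (hs C.out).map]
      simp only [Matrix.mul_apply, rep, hW0, W, Matrix.of_apply]
      simp_rw [mul_assoc (bb C _) (σ (aa C _)) a0]
      rw [key C]
      simp_rw [← mul_assoc (bb C _) (σ (aa C _)) a0]
      rw [Finset.sum_congr rfl fun u (_ : u ∈ Finset.univ) => by
          rw [htr (bb C u * x * aa C t), show b0 * σ (bb C u * x * aa C t) * a0 =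
            b0 * σ (bb C u) * (σ (x * aa C t) * a0) by simp only [map_mul, mul_assoc]],
        key2 C C a0 b0 h1 h2 h3 h4 h5 h6]
      congr 1
      rw [show bb C r * σ x * i * (σ (aa C t) * a0) = bb C r * σ x * ((i * σ (aa C t)) * a0) by
          simp only [mul_assoc], show i * σ (aa C t) = σ (aa C t) by rw [← hσi, ← map_mul, hai],
        hbi, map_mul]
      simp only [mul_assoc]
    have hrepi : rep i = 1 := Matrix.ext fun r t => by
      simp only [rep, Matrix.of_apply]
      rw [hbi, hdiag', Matrix.one_apply]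
    have hpow : ∀ (l : ℕ) x, rep (σ^[l] x) * W0 ^ l = W0 ^ l * rep x := by
      intro l
      induction l with
      | zero => intro x; simp
      | succ l ih =>
        intro x
        rw [Function.iterate_succ', Function.comp_apply, pow_succ' W0, ← mul_assoc, hint, mul_assoc,
          ih, ← mul_assoc]
    have hsingle : ∀ r t : {r : Fin n // r ∈ X C},
        rep (aa C r * bb C t) = Matrix.single r t 1 := fun r t => Matrix.ext fun u v => by
      simp only [rep, Matrix.of_apply]
      rw [show bb C u * (aa C r * bb C t) * aa C v = (bb C u * aa C r) * (bb C t * aa C v) by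
        simp only [mul_assoc], hdiag, hdiag, Matrix.single_apply]
      by_cases hu : u = r <;> by_cases hv : t = v
      · rw [if_pos hu, if_pos hv, if_pos ⟨hu.symm, hv⟩, (hs C.out).idem, val_self]
      · rw [if_neg hv, mul_zero, map_zero, if_neg fun h => hv h.2]
      · rw [if_neg hu, zero_mul, map_zero, if_neg fun h => hu h.1.symm]
      · rw [if_neg hu, zero_mul, map_zero, if_neg fun h => hu h.1.symm]
    obtain ⟨c, hc⟩ := Matrix.mem_range_scalar_of_commute_single (M := W0 ^ p) fun r t _ => by
      have h := hpow p (aa C r * bb C t)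
      rw [hσ, hsingle] at h
      exact h
    rcases Nat.eq_zero_or_pos (X C).card with h0 | hpos
    · rw [h0]; exact dvd_zero p
    haveI : Nonempty {r : Fin n // r ∈ X C} :=
      (Finset.card_pos.mp hpos).to_subtype
    have hWu : IsUnit W0 := IsUnit.of_mul_eq_one _ e1
    have hc0 : c ≠ 0 := by
      intro h
      rw [h, map_zero] at hc
      exact not_isUnit_zero (hc ▸ hWu.pow p)
    obtain ⟨d, hd⟩ := IsAlgClosed.exists_pow_nat_eq c⁻¹ hp.out.pos
    set W1 := d • W0 with hW1
    have hW1p : W1 ^ p = 1 := by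
      rw [hW1, _root_.smul_pow, hd, ← hc, Matrix.scalar_apply, ← Matrix.smul_one_eq_diagonal,
        smul_smul, inv_mul_cancel₀ hc0, one_smul]
    have hpow1 : ∀ (l : ℕ) x, rep (σ^[l] x) * W1 ^ l = W1 ^ l * rep x := fun l x => by
      rw [hW1, _root_.smul_pow, Matrix.mul_smul, hpow, Matrix.smul_mul]
    have hsum1 : ∑ l ∈ Finset.range p, W1 ^ l * rep a * W1 ^ (p - l) = 1 := by
      rw [← hrepi, ← ha, show rep (∑ l ∈ Finset.range p, σ^[l] a) =
          ∑ l ∈ Finset.range p, rep (σ^[l] a) from Matrix.ext fun r t => by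
        simp only [rep, Matrix.of_apply, Matrix.sum_apply, Finset.mul_sum, Finset.sum_mul, map_sum]]
      refine Finset.sum_congr rfl fun l hl => ?_
      rw [← hpow1, mul_assoc, ← pow_add, Nat.add_sub_cancel' (Finset.mem_range.mp hl).le, hW1p,
        mul_one]
    have hdvd := dvd_finrank_of_sum_conj (k := k) (p := p)
      (T := Matrix.toLinAlgEquiv' W1) (A := Matrix.toLinAlgEquiv' (rep a))
      (by rw [← map_pow, hW1p, map_one])
      (by simpa only [map_sum, map_mul, map_pow, map_one] using congrArg Matrix.toLinAlgEquiv' hsum1)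
    rwa [Module.finrank_fintype_fun_eq_card, Fintype.card_coe] at hdvd
  have hzero : (ν i : ZMod p) = 0 := by
    rw [htot, sum_eq_sum_fixedPoints (p := p) (R := ZMod p) hPG g fun u C => by
      obtain ⟨u, hu⟩ := u
      obtain ⟨l, rfl⟩ := Subgroup.mem_zpowers_iff.mp hu
      show g ((π ^ l) C) = g C
      clear hu
      induction l using Int.induction_on generalizing C with
      | zero => simp
      | succ l ih => rw [zpow_add, zpow_one, Equiv.Perm.mul_apply, ih, hgπ]
      | pred l ih =>
        rw [zpow_sub, zpow_one, Equiv.Perm.mul_apply, ih]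
        conv_rhs => rw [← π.apply_symm_apply C, hgπ]
        rfl]
    refine Finset.sum_eq_zero fun C hC => ?_
    have hC' : π C = C := (Finset.mem_filter.mp hC).2 ⟨π, Subgroup.mem_zpowers π⟩
    simp only [g, (ZMod.natCast_eq_zero_iff _ p).mpr (hfix C hC'), zero_mul]
  exact (ZMod.intCast_zmod_eq_zero_iff_dvd _ p).mp hzero

end CfsgLib.Block.Points
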