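import Cfsg.Agent.Lib.Block.NilpotentData
import Cfsg.Agent.Lib.Block.Transfer

/-!
# Values of characters at reduced idempotents times `p`-elements

`liftVal χ u z` is the value of `χ` at `u` times any lift of the idempotent `z` fixed by the
`p`-element `u`.  It is additive, depends only on the truncation of `z` to the centralizer of `u`,
and agrees on equivalent idempotents.
-/

open Finset MonoidAlgebra
open scoped ComplexConjugate

set_option linter.unusedSectionVars false

namespace CfsgLib.Block

open Cfsg
open scoped Pair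

universe u

variable {p : ℕ} {M : Ideal AlgInt} [M.IsMaximal] {G : Type u} [Group G] [Fintype G] [DecidableEq G]

/-- Values of class functions at products commute. -/
theorem evalGA_mul_comm {f : G → ℂ} (hf : IsClassFunction G f) (a b : MonoidAlgebra (locRing M) G) :
    evalGA f (a * b) = evalGA f (b * a) := by
  have key : ∀ a b : MonoidAlgebra (locRing M) G,
      evalGA f (a * b) = ∑ h : G, ∑ m : G, (a.coeff h : ℂ) * (b.coeff m : ℂ) * f (h * m) := by
    intro a b
    simp only [evalGA, coeff_mul_sum, AddSubmonoidClass.coe_finsetSum, Subring.coe_mul,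
      Finset.sum_mul]
    rw [Finset.sum_comm]
    refine Finset.sum_congr rfl fun h _ => ?_
    exact Fintype.sum_equiv (Equiv.mulLeft h⁻¹) _ _ fun t => by simp
  rw [key, key, Finset.sum_comm]
  refine Finset.sum_congr rfl fun m _ => Finset.sum_congr rfl fun h _ => ?_
  rw [← hf (h * m) m, show m * (h * m) * m⁻¹ = m * h by group]
  ring

/-- An element congruent to one is a unit. -/
theorem isUnit_of_toK_eq_one {x : MonoidAlgebra (locRing M) G} (hx : toK M x = 1) : IsUnit x := by
  classical
  let L : Matrix G G (locRing M) := Matrix.of fun s t => x.coeff (s * t⁻¹)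
  have hmul : ∀ y : MonoidAlgebra (locRing M) G, ∀ s, (x * y).coeff s = L.mulVec y.coeff s := by
    intro y s
    rw [coeff_mul_sum]
    simp only [Matrix.mulVec, dotProduct, L, Matrix.of_apply]
    exact Fintype.sum_equiv ((Equiv.inv G).trans (Equiv.mulRight s)) _ _ fun t => by
      simp [mul_inv_rev]
  have hres : (res M).mapMatrix L = 1 := by
    refine Matrix.ext fun s t => ?_
    simp only [RingHom.mapMatrix_apply, Matrix.map_apply, L, Matrix.of_apply, Matrix.one_apply]
    rw [← coeff_toK, hx, MonoidAlgebra.one_def, MonoidAlgebra.coeff_single, Finsupp.single_apply]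
    by_cases h : s = t
    · subst h; rw [mul_inv_cancel, if_pos rfl, if_pos rfl]
    · rw [if_neg h, if_neg fun e => h (mul_inv_eq_one.mp e.symm)]
  have hL : IsUnit L := (Matrix.isUnit_iff_isUnit_det L).mpr (isUnit_locRing_of_res_ne_zero (by
    rw [RingHom.map_det, hres, Matrix.det_one]; exact one_ne_zero))
  have hinj : ∀ y : MonoidAlgebra (locRing M) G, x * y = 0 → y = 0 := by
    intro y hy
    have h0 : L.mulVec y.coeff = L.mulVec 0 := by
      rw [Matrix.mulVec_zero]
      funext s
      rw [← hmul, hy]
      simp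
    have h := (Matrix.mulVec_injective_of_isUnit hL) h0
    exact ga_ext fun g => by rw [congrFun h g]; simp
  obtain ⟨v, hv⟩ := (Matrix.mulVec_surjective_iff_isUnit.mpr hL) (Pi.single (1 : G) 1)
  have hxg : x * gaOfFun v = 1 := by
    refine ga_ext fun s => ?_
    rw [hmul, show (gaOfFun v).coeff = v from funext fun t => coeff_gaOfFun v t, hv,
      MonoidAlgebra.one_def, MonoidAlgebra.coeff_single, Finsupp.single_apply, Pi.single_apply]
    simp [eq_comm]
  refine ⟨⟨x, gaOfFun v, hxg, sub_eq_zero.mp (hinj _ ?_)⟩, rfl⟩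
  rw [mul_sub, ← mul_assoc, hxg, one_mul, mul_one, sub_self]

theorem trC_add {S : Type*} [CommRing S] {R : Subgroup G} (a b : MonoidAlgebra S G) :
    trC R (a + b) = trC R a + trC R b := by
  refine ga_ext fun x => ?_
  by_cases hx : x ∈ CQ R <;> simp [coeff_trC, suppIn_trC _ _, hx]

theorem trC_sum {S : Type*} [CommRing S] {R : Subgroup G} {ι : Type*} (t : Finset ι)
    (a : ι → MonoidAlgebra S G) : trC R (∑ i ∈ t, a i) = ∑ i ∈ t, trC R (a i) := by
  classical
  induction t using Finset.induction_on with
  | empty => exact ga_ext fun x => by by_cases hx : x ∈ CQ R <;> simp [coeff_trC, suppIn_trC _ _, hx]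
  | insert i t hi ih => rw [Finset.sum_insert hi, Finset.sum_insert hi, trC_add, ih]

theorem trC_zero {S : Type*} [CommRing S] {R : Subgroup G} :
    trC R (0 : MonoidAlgebra S G) = 0 := by
  simpa using trC_sum (R := R) (∅ : Finset G) (fun _ : G => (0 : MonoidAlgebra S G))

theorem cinv_zpowers_of_fix {S : Type*} [CommRing S] {u : G} {z : MonoidAlgebra S G}
    (h : Commute (single u 1) z) : CInv (Subgroup.zpowers u) z := by
  refine cinv_of_commute fun s hs => ?_
  obtain ⟨l, rfl⟩ := (isOfFinOrder_of_finite u).mem_zpowers_iff_mem_range_orderOf.mp hs |>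
    (fun h' => (Finset.mem_image.mp h').imp fun l hl => hl.2)
  have := h.pow_left l
  rwa [MonoidAlgebra.single_pow, one_pow] at this

/-- A naive lift, fixed by what fixes the element. -/
noncomputable def naiveLift (a : MonoidAlgebra (ResField M) G) : MonoidAlgebra (locRing M) G :=
  gaOfFun fun x => (res_surjective (M := M) (a.coeff x)).choose

theorem toK_naiveLift (a : MonoidAlgebra (ResField M) G) : toK M (naiveLift a) = a :=
  ga_ext fun x => by simp [naiveLift, (res_surjective (M := M) (a.coeff x)).choose_spec]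

theorem commute_naiveLift {u : G} {a : MonoidAlgebra (ResField M) G}
    (h : Commute (single u 1) a) : Commute (single u (1 : locRing M)) (naiveLift a) := by
  rw [commute_single_iff] at h ⊢
  intro x
  simp only [naiveLift, coeff_gaOfFun]
  congr 1
  funext y
  rw [h x]

open scoped Classical in
/-- The value of `χ` at `u` times a lift of the idempotent. -/
noncomputable def liftVal (χ : IrrCharacter G) (u : G) (z : MonoidAlgebra (ResField M) G) : ℂ :=
  if h : ∃ c : MonoidAlgebra (locRing M) G, c * c = c ∧ Commute (single u 1) c ∧ toK M c = z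
  then sval h.choose χ u else 0

theorem exists_lift_at {u : G} {z : MonoidAlgebra (ResField M) G} (hz : z * z = z)
    (hu : Commute (single u 1) z) :
    ∃ c : MonoidAlgebra (locRing M) G, c * c = c ∧ Commute (single u 1) c ∧ toK M c = z := by
  obtain ⟨c, hc, hcz, hcu⟩ := exists_lift_idem_commute (S := {u}) hz fun g hg x => by
    rw [Set.mem_singleton_iff.mp hg]
    exact (commute_single_iff z u).mp hu x
  exact ⟨c, hc, hcu u rfl, hcz⟩

variable [Fintype (IrrCharacter G)]

/-- Any lift that agrees on the centralizer gives the value. -/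
theorem liftVal_eq_of_agree (hM : IsPModular p M) {u : G} (hu : ∃ k : ℕ, orderOf u = p ^ k)
    {z : MonoidAlgebra (ResField M) G} (hz : z * z = z) (hzu : Commute (single u 1) z)
    {c : MonoidAlgebra (locRing M) G} (hc : c * c = c) (hcu : Commute (single u 1) c)
    (h : ∀ t, Commute t u → res M (c.coeff t) = z.coeff t) (χ : IrrCharacter G) :
    liftVal χ u z = sval c χ u := by
  classical
  have hex := exists_lift_at hz hzu
  rw [liftVal, dif_pos hex]
  obtain ⟨hd, hdu, hdz⟩ := hex.choose_spec
  exact sum_idem_mul_pElement_congr hM hu hd hc hdu hcu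
    (fun t ht => by rw [h t ht, ← coeff_toK, hdz]) χ

theorem liftVal_eq (hM : IsPModular p M) {u : G} (hu : ∃ k : ℕ, orderOf u = p ^ k)
    {c : MonoidAlgebra (locRing M) G} (hc : c * c = c) (hcu : Commute (single u 1) c)
    (χ : IrrCharacter G) : liftVal χ u (toK M c) = sval c χ u := by
  refine liftVal_eq_of_agree hM hu (by rw [← map_mul, hc]) ?_ hc hcu (fun t _ => (coeff_toK c t).symm) χ
  rw [commute_single_iff] at hcu ⊢
  intro g
  rw [coeff_toK, coeff_toK, hcu g]

theorem liftVal_zero (hM : IsPModular p M) {u : G} (hu : ∃ k : ℕ, orderOf u = p ^ k)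
    (χ : IrrCharacter G) : liftVal χ u (0 : MonoidAlgebra (ResField M) G) = 0 := by
  rw [← map_zero (toK M (G := G)), liftVal_eq hM hu (mul_zero 0) (Commute.zero_right _) χ]
  simp [sval]

theorem sval_add (c d : MonoidAlgebra (locRing M) G) (χ : IrrCharacter G) (u : G) :
    sval (c + d) χ u = sval c χ u + sval d χ u := by
  simp only [sval, MonoidAlgebra.coeff_add, Finsupp.add_apply, Subring.coe_add, add_mul,
    Finset.sum_add_distrib]

theorem liftVal_add (hM : IsPModular p M) {u : G} (hu : ∃ k : ℕ, orderOf u = p ^ k)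
    {e f : MonoidAlgebra (ResField M) G} (he : e * e = e) (hf : f * f = f) (hef : e * f = 0)
    (hfe : f * e = 0) (heu : Commute (single u 1) e) (hfu : Commute (single u 1) f)
    (χ : IrrCharacter G) : liftVal χ u (e + f) = liftVal χ u e + liftVal χ u f := by
  obtain ⟨c, hc, hcu, hce⟩ := exists_lift_at he heu
  set x := (1 - c) * naiveLift f * (1 - c) with hx
  have hxf : toK M x = f := by
    rw [hx, map_mul, map_mul, map_sub, map_one, hce, toK_naiveLift, sub_mul, one_mul, hef, sub_zero,
      mul_sub, mul_one, hfe, sub_zero]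
  obtain ⟨q, hq, hq'⟩ := exists_lift_idem x (by rw [hxf, hf])
  set d := (1 - c) * Polynomial.aeval x q with hd
  have hcc : (1 - c) * (1 - c) = 1 - c := by rw [mul_sub, mul_one, sub_mul, one_mul, hc, sub_self, sub_zero]
  have hxc : Commute x (1 - c) := by
    rw [commute_iff_eq, hx, mul_assoc _ (1 - c) (1 - c), hcc, ← mul_assoc, ← mul_assoc, hcc]
  have hcomm : ∀ {y : MonoidAlgebra (locRing M) G}, Commute x y → Commute (Polynomial.aeval x q) y := by
    intro y hy
    clear hq hq' hd
    induction q using Polynomial.induction_on' with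
    | add q r ihq ihr => rw [map_add]; exact ihq.add_left ihr
    | monomial n a => rw [Polynomial.aeval_monomial, ← Algebra.smul_def]; exact (hy.pow_left n).smul_left a
  have hdd : d * d = d := by
    rw [hd, ((hcomm hxc).eq ▸ rfl : (1 - c) * Polynomial.aeval x q * ((1 - c) * Polynomial.aeval x q) =
      (1 - c) * Polynomial.aeval x q * (Polynomial.aeval x q * (1 - c))), ← mul_assoc,
      mul_assoc (1 - c), hq, mul_assoc, (hcomm hxc).eq, ← mul_assoc, hcc]
  have hxu : Commute (single u (1 : locRing M)) x :=
    (((Commute.one_right _).sub_right hcu).mul_right (commute_naiveLift hfu)).mul_right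
      ((Commute.one_right _).sub_right hcu)
  have hdu : Commute (single u (1 : locRing M)) d :=
    ((Commute.one_right _).sub_right hcu).mul_right (hcomm hxu.symm).symm
  have hdf : toK M d = f := by
    rw [hd, map_mul, map_sub, map_one, hce, hq', hxf, sub_mul, one_mul, hef, sub_zero]
  have hcd : c * d = 0 := by rw [hd, ← mul_assoc, mul_sub, mul_one, hc, sub_self, zero_mul]
  have hdc : d * c = 0 := by
    rw [hd, ← (hcomm hxc).eq, mul_assoc, sub_mul, one_mul, hc, sub_self, mul_zero]
  have hsum : (c + d) * (c + d) = c + d := by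
    rw [add_mul, mul_add, mul_add, hc, hdd, hcd, hdc, add_zero, zero_add]
  rw [← hce, ← hdf, ← map_add, liftVal_eq hM hu hsum (hcu.add_right hdu),
    liftVal_eq hM hu hc hcu, liftVal_eq hM hu hdd hdu, sval_add]

theorem sval_mul_comm {u : G} {a b : MonoidAlgebra (locRing M) G} (hb : Commute (single u 1) b)
    (χ : IrrCharacter G) : sval (a * b) χ u = sval (b * a) χ u := by
  rw [sval, sval, ← evalGA_single_mul, ← evalGA_single_mul, ← mul_assoc,
    evalGA_mul_comm (Char.isClassFunction_irr χ), ← mul_assoc, ← mul_assoc, hb.eq]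

/-- Equivalent idempotents have the same value. -/
theorem liftVal_equiv (hM : IsPModular p M) {u : G} (hu : ∃ k : ℕ, orderOf u = p ^ k)
    {e f a b : MonoidAlgebra (ResField M) G} (he : e * e = e) (hea : e * a = a) (hbe : b * e = b)
    (hab : a * b = e) (hba : b * a = f) (hau : Commute (single u 1) a) (hbu : Commute (single u 1) b)
    (heu : Commute (single u 1) e) (χ : IrrCharacter G) : liftVal χ u e = liftVal χ u f := by
  obtain ⟨c, hc, hcu, hce⟩ := exists_lift_at he heu
  set a' := c * naiveLift a with ha'
  set b' := naiveLift b * c with hb'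
  have haK : toK M a' = a := by rw [ha', map_mul, hce, toK_naiveLift, hea]
  have hbK : toK M b' = b := by rw [hb', map_mul, hce, toK_naiveLift, hbe]
  have ha'u : Commute (single u (1 : locRing M)) a' := hcu.mul_right (commute_naiveLift hau)
  have hb'u : Commute (single u (1 : locRing M)) b' := (commute_naiveLift hbu).mul_right hcu
  have hca : c * a' = a' := by rw [ha', ← mul_assoc, hc]
  have hbc : b' * c = b' := by rw [hb', mul_assoc, hc]
  obtain ⟨x, hx⟩ := isUnit_of_toK_eq_one (M := M) (x := 1 - c + a' * b') (by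
    rw [map_add, map_sub, map_one, hce, map_mul, haK, hbK, hab, sub_add_cancel])
  set h := c * (↑x⁻¹ : MonoidAlgebra (locRing M) G) * c with hh
  have hxu : Commute (single u (1 : locRing M)) (↑x⁻¹ : MonoidAlgebra (locRing M) G) := by
    refine Commute.units_inv_right ?_
    rw [hx]
    exact ((Commute.one_right _).sub_right hcu).add_right (ha'u.mul_right hb'u)
  have hxc : Commute (x : MonoidAlgebra (locRing M) G) c := by
    rw [hx, commute_iff_eq, add_mul, mul_add, sub_mul, mul_sub, one_mul, mul_one, mul_assoc a', hbc,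
      ← mul_assoc c a' b', hca]
  have hab' : a' * (b' * h) = c := by
    rw [hh, ← mul_assoc, ← mul_assoc, ← mul_assoc, mul_assoc a' b' c, hbc,
      show a' * b' = c * (x : MonoidAlgebra (locRing M) G) by
        rw [hx, mul_add, mul_sub, mul_one, hc, sub_self, zero_add, ← mul_assoc c a' b', hca],
      mul_assoc c, x.mul_inv, mul_one, hc]
  set b'' := b' * h with hb''
  have hb''c : b'' * c = b'' := by rw [hb'', hh, mul_assoc, mul_assoc _ c c, hc]
  have hb''u : Commute (single u (1 : locRing M)) b'' :=
    hb'u.mul_right ((hcu.mul_right hxu).mul_right hcu)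
  have hidem : b'' * a' * (b'' * a') = b'' * a' := by
    rw [show b'' * a' * (b'' * a') = b'' * (a' * b'') * a' by simp only [mul_assoc], hab', hb''c]
  have hK : toK M (b'' * a') = f := by
    have hxK : toK M (↑x⁻¹ : MonoidAlgebra (locRing M) G) = 1 := by
      have h1 := congrArg (toK M) x.inv_mul
      rwa [map_mul, hx, map_add, map_sub, map_one, hce, map_mul, haK, hbK, hab, sub_add_cancel,
        mul_one] at h1
    rw [hb'', hh]
    simp only [map_mul, hce, hxK, haK, hbK, mul_one, he, hbe, hba]
  rw [← hce, ← hK, liftVal_eq hM hu hc hcu, liftVal_eq hM hu hidem (hb''u.mul_right ha'u),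
    ← sval_mul_comm hb''u, hab']

theorem liftVal_conj (hM : IsPModular p M) {u : G} (hu : ∃ k : ℕ, orderOf u = p ^ k)
    {z : MonoidAlgebra (ResField M) G} (hz : z * z = z) (hzu : Commute (single u 1) z) (n : G)
    (χ : IrrCharacter G) : liftVal χ (n * u * n⁻¹) (cj n z) = liftVal χ u z := by
  obtain ⟨c, hc, hcu, hcz⟩ := exists_lift_at hz hzu
  have hk : toK M (cj n c) = cj n z := ga_ext fun g => by
    rw [coeff_toK, coeff_cj, coeff_cj, ← coeff_toK, hcz]
  have hcu' : Commute (single (n * u * n⁻¹) (1 : locRing M)) (cj n c) := by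
    rw [commute_iff_eq, ← cj_single, ← cj_mul, ← cj_mul, hcu.eq]
  obtain ⟨k, hk'⟩ := hu
  rw [← hk, ← hcz, liftVal_eq hM ⟨k, by rw [orderOf_conj_eq, hk']⟩ (by rw [← cj_mul, hc]) hcu',
    liftVal_eq hM ⟨k, hk'⟩ hc hcu]
  refine (Fintype.sum_equiv (MulAut.conj n).toEquiv _ _ fun t => ?_).symm
  simp only [MulEquiv.toEquiv_eq_coe, EquivLike.coe_coe, MulAut.conj_apply, coeff_cj]
  rw [show n⁻¹ * (n * t * n⁻¹) * n = t by group,
    show n * u * n⁻¹ * (n * t * n⁻¹) = n * (u * t) * n⁻¹ by group, Char.isClassFunction_irr χ]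

/-- The value only sees the truncation to the centralizer. -/
theorem liftVal_trC (hM : IsPModular p M) {u : G} (hu : ∃ k : ℕ, orderOf u = p ^ k)
    {z : MonoidAlgebra (ResField M) G} (hz : z * z = z) (hzu : Commute (single u 1) z)
    (χ : IrrCharacter G) : liftVal χ u (trC (Subgroup.zpowers u) z) = liftVal χ u z := by
  have hR : IsPGroup p (Subgroup.zpowers u) :=
    IsPGroup.of_card (n := hu.choose) ((Nat.card_zpowers u).trans hu.choose_spec)
  have hci := cinv_zpowers_of_fix hzu
  obtain ⟨c, hc, hcu, hcz⟩ := exists_lift_at hz hzu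
  rw [← hcz, liftVal_eq hM hu hc hcu]
  refine liftVal_eq_of_agree hM hu (by rw [← trC_mul hM hR (hcz ▸ hci) (hcz ▸ hci), ← map_mul, hc]) ?_
    hc hcu (fun t ht => ?_) χ
  · exact (cinv_of_suppIn (suppIn_trC (toK M c))).commute (Subgroup.mem_zpowers u)
  · rw [coeff_trC _ (mem_centralizer_zpowers ht), coeff_toK]
where
  mem_centralizer_zpowers {u t : G} (ht : Commute t u) :
      t ∈ Subgroup.centralizer (Subgroup.zpowers u : Set G) := by
    rw [Subgroup.zpowers_eq_closure, Subgroup.centralizer_closure]
    exact Subgroup.mem_centralizer_singleton_iff.mpr ht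

end CfsgLib.Block
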