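import Cfsg.Agent.Lib.Block.NilpotentData

/-!
# The unit row of a nilpotent block

A nilpotent block has one irreducible Brauer character, the restriction of each member of height
zero (Broué–Puig).
-/

open Finset MonoidAlgebra Polynomial
open scoped ComplexConjugate

set_option linter.unusedSectionVars false

namespace CfsgLib.Block

open Cfsg
open scoped Pair

universe u

/-- A rational number times an integer prime to a denominator. -/
theorem exists_intCast_of_mul_eq {X : ℂ} {m : ℤ} {q : ℕ} {r : ℤ} (hm0 : m ≠ 0)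
    (hm : IsCoprime m (q : ℤ))
    (hr : (m : ℂ) * X = r) (hs : IsIntegral ℤ ((q : ℂ) * X)) : ∃ z : ℤ, X = z := by
  have hm' : (m : ℂ) ≠ 0 := Int.cast_ne_zero.mpr hm0
  have hX : X = (((r : ℚ) / m : ℚ) : ℂ) := by
    push_cast
    rw [eq_div_iff hm', mul_comm, hr]
  have hq' : (q : ℂ) * X = algebraMap ℚ ℂ ((q : ℚ) * ((r : ℚ) / m)) := by
    rw [hX, eq_ratCast]; push_cast; rfl
  rw [hq', isIntegral_algebraMap_iff (algebraMap ℚ ℂ).injective] at hs
  obtain ⟨s, hs'⟩ := IsIntegrallyClosed.isIntegral_iff.mp hs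
  obtain ⟨α, β, hab⟩ := hm
  refine ⟨α * r + β * s, ?_⟩
  have h1 : (q : ℂ) * X = s := by
    rw [hq', ← hs', eq_ratCast]; simp
  calc X = (((α * m + β * q : ℤ)) : ℂ) * X := by rw [hab]; simp
    _ = _ := by
      push_cast
      linear_combination (α : ℂ) * hr + (β : ℂ) * h1

theorem isGeneralizedCharacter_natCast {A : Type u} [Group A] (n : ℕ) :
    IsGeneralizedCharacter A (fun _ : A => (n : ℂ)) := by
  have h := Char.isGeneralizedCharacter_of_isCharacter
    (Char.isCharacter_natSmul (Char.isCharacter_of_isIrr (Char.isIrrCharacter_one (G := A))) n)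
  convert h using 1
  funext a
  simp

/-- Integer polynomials in a generalized character are generalized characters. -/
theorem isGeneralizedCharacter_aeval {A : Type u} [Group A] {f : A → ℂ}
    (hf : IsGeneralizedCharacter A f) (q : Polynomial ℤ) :
    IsGeneralizedCharacter A (fun a => aeval (f a) q) := by
  induction q using Polynomial.induction_on' with
  | add q r hq hr =>
    simp only [map_add]
    exact Char.isGeneralizedCharacter_add hq hr
  | monomial n c =>
    simp only [aeval_monomial, algebraMap_int_eq, eq_intCast]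
    have hpow : ∀ n : ℕ, IsGeneralizedCharacter A (fun a => f a ^ n) := by
      intro n
      induction n with
      | zero => simpa using isGeneralizedCharacter_natCast (A := A) 1
      | succ n ih => simp only [pow_succ]; exact Char.isGeneralizedCharacter_mul ih hf
    have h := Char.isGeneralizedCharacter_zsmul (hpow n) c
    convert h using 1
    funext a
    simp

/-- The sum of a character over a central subgroup. -/
theorem sum_central_char {A : Type u} [Group A] [Fintype A] (μ : IrrCharacter A) {Z : Subgroup A}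
    [Fintype Z] (hZ : ∀ z ∈ Z, ∀ a : A, Commute z a) :
    ∑ z : Z, (μ : A → ℂ) z = 0 ∨ ∑ z : Z, (μ : A → ℂ) z = (Nat.card Z : ℂ) * (μ : A → ℂ) 1 := by
  classical
  choose l hl hlt using fun z : Z =>
    exists_central_scalar μ (z := (z : A)) (hZ z z.2) (n := Nat.card A) pow_card_eq_one'
  by_cases h : ∀ z, l z = 1
  · refine Or.inr ?_
    rw [Finset.sum_congr rfl fun (z : Z) _ => show (μ : A → ℂ) (z : A) = (μ : A → ℂ) 1 by
      rw [← mul_one (z : A), hlt, h, one_mul], Finset.sum_const, Finset.card_univ,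
      ← Nat.card_eq_fintype_card, nsmul_eq_mul]
  · push Not at h
    obtain ⟨z₀, hz₀⟩ := h
    refine Or.inl ?_
    have hshift : ∑ z : Z, (μ : A → ℂ) z = l z₀ * ∑ z : Z, (μ : A → ℂ) z := by
      rw [Finset.mul_sum]
      exact (Fintype.sum_equiv (Equiv.mulLeft z₀) _ _ fun z => by
        simp only [Equiv.coe_mulLeft, Subgroup.coe_mul, hlt]).symm
    by_contra hne
    exact hz₀ (mul_right_cancel₀ hne ((one_mul _).trans hshift)).symm

variable {p : ℕ} {M : Ideal AlgInt} [M.IsMaximal] {G : Type u} [Group G] [Fintype G] [DecidableEq G]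
  [Fintype (IrrCharacter G)] {P : Subgroup G} {e : Set (IrrCharacter (CQ P))}

/-- Broué–Puig: the unit row, given the ones at the non-central sections. -/
theorem hasUnitRow_step (hM : IsPModular p M) {B : Set (IrrCharacter G)}
    (hmax : IsMaximalBrauerPair p M B P e) (hnil : IsNilpotentBlock p M B)
    (hsections : ∀ y : P, ¬ (∀ t : G, Commute t (y : G)) →
      ∀ b : Set (IrrCharacter (CQ (Subgroup.zpowers (y : G)))),
        IsBrauerPairOf p M B (Subgroup.zpowers (y : G)) b → HasUnitRow p b)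
    {χ : IrrCharacter G} (hχ : χ ∈ B) (h0 : blockHeight p B (χ : G → ℂ) = 0) :
    (∀ ψ ∈ B, ∃ d : ℕ, ∀ t : G, ¬ p ∣ orderOf t →
      (ψ : G → ℂ) t = (d : ℂ) * (χ : G → ℂ) t) ∧
    regInner p χ χ * (p : ℂ) ^ blockDefect p B = 1 := by
  classical
  have hpf : Fact p.Prime := ⟨hM.1⟩
  have := charP_resField hM
  have := Fintype.ofFinite (ConjClasses G)
  have he := hmax.1.1
  have hB := hmax.1.2.1
  have hBU := IsBlockUnion.of_isPBlock hB
  have hPcard := exists_defect_pow_card hM hmax
  -- the idempotent and the pairs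
  obtain ⟨i, hi, -⟩ := exists_sourceIdem hM hmax hχ h0
  obtain ⟨ih, hih, hred, hcomm⟩ := exists_lift_idem_commute (S := (P : Set G)) hi.idem hi.cinv
  choose lowf hlowf hlowle using fun y : P =>
    exists_subpairLE hM he (Subgroup.zpowers (y : G)) (Subgroup.zpowers_le.mpr y.2)
  let low : P → BrauerPairIdx G := fun y => ⟨_, lowf y⟩
  have hlow : ∀ y : P, (low y).1 = Subgroup.zpowers (y : G) ∧ Below p M P e (low y) :=
    fun y => ⟨rfl, hlowle y⟩
  set Z : Subgroup P := (Subgroup.center G).subgroupOf P with hZdef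
  have hmemZ : ∀ y : P, y ∈ Z ↔ ∀ t : G, Commute t (y : G) := fun y => by
    rw [hZdef, Subgroup.mem_subgroupOf, Subgroup.mem_center_iff]; exact Iff.rfl
  choose! n dd hsd using fun (y : P) (hy : y ∉ Z) =>
    exists_secData hM hmax hnil hi hih hred hcomm low hlow y
      (hsections y (fun h => hy ((hmemZ y).mpr h)))
  have hPn : ∀ y : P, (y : G) ^ Nat.card P = 1 := fun y => by
    rw [← Subgroup.coe_pow, pow_card_eq_one', Subgroup.coe_one]
  choose! lam hlam hlamt using fun (θ : IrrCharacter G) (y : P) (hy : y ∈ Z) =>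
    exists_central_scalar θ (z := (y : G)) (fun t => ((hmemZ y).mp hy t).symm) (hPn y)
  have hlam1 : ∀ θ, ∀ y ∈ Z, lam θ y * conj (lam θ y) = 1 := fun θ y hy => by
    have hne : lam θ y ≠ 0 := fun h => by
      have := hlam θ y hy
      rw [h, zero_pow Nat.card_pos.ne'] at this
      exact zero_ne_one this
    rw [Char.conj_eq_inv_of_pow_eq_one Nat.card_pos.ne' (hlam θ y hy), mul_inv_cancel₀ hne]
  have hcentral : ∀ θ ∈ B, ∀ θ' ∈ B, ∀ y ∈ Z, contrib p low θ θ' y =
      (Nat.card P : ℂ) * (lam θ y * conj (lam θ' y) * regInner p θ θ') := fun θ hθ θ' hθ' y hy =>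
    contrib_central hM hmax low hlow y ((hmemZ y).mp hy) hθ hθ' (hlamt θ y hy) (hlamt θ' y hy)
  have htot : ∀ θ ∈ B, ∀ θ' ∈ B,
      ∑ y : P, contrib p low θ θ' y = if θ = θ' then (Nat.card P : ℂ) else 0 :=
    fun θ hθ θ' hθ' => sum_secSum_nilpotent hM hmax hnil low hlow hθ hθ'
  -- non-vanishing of the values of `χ`
  have hnz : ∀ y : P, ∀ (n : ℕ) (d : ℂ), IsIntegral ℤ d → sval ih χ (y : G) = (n : ℂ) * d →
      d ≠ 0 ∧ ¬ p ∣ n := by
    intro y n d hd heq
    obtain ⟨w, hw, hwres⟩ := exists_sval_res hM he.1 hred hi.cinv χ y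
    have hne : res M w ≠ 0 := hwres ▸ hi.trB_ne
    refine ⟨fun h => hne ?_, fun h => hne ?_⟩
    · rw [show w = 0 from Subtype.ext (by rw [hw, heq, h, mul_zero, ZeroMemClass.coe_zero]), map_zero]
    · rw [show w = (n : locRing M) * ⟨d, integral_mem M hd⟩ from Subtype.ext (by
        rw [Subring.coe_mul, hw, heq]; simp), map_mul, map_natCast,
        (CharP.cast_eq_zero_iff (ResField M) p n).mpr h, zero_mul]
  have hddint : ∀ y, y ∉ Z → ∀ θ, IsIntegral ℤ (dd y θ) := fun y hy θ =>
    isIntegral_of_mem_cycInt Nat.card_pos.ne' (hsd y hy θ).1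
  -- the norm of the regular part of `χ`
  have hle : (Nat.card G).factorization p ≤ degVal p χ + blockDefect p B := by
    have h2 := minDeg_le (p := p) hχ
    show _ ≤ _ + ((Nat.card G).factorization p - minDeg p B)
    omega
  have hPc : (Nat.card P : ℂ) = (p : ℂ) ^ blockDefect p B := by rw [hPcard, Nat.cast_pow]
  choose z hz hzres using fun ψ => exists_scaled_regInner hM hle ψ
  have hD : ∀ ψ, (Nat.card P : ℂ) * regInner p χ ψ = (z ψ : ℂ) := fun ψ => by rw [hPc]; exact hz ψ
  have hnorm : ∀ g : G, 0 ≤ Complex.normSq ((χ : G → ℂ) g) := fun g => Complex.normSq_nonneg _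
  have hpos : 0 < z χ := by
    have h1 : (Nat.card G : ℂ) * ((Nat.card P : ℂ) * regInner p χ χ) =
        (((Nat.card P : ℝ) * ∑ g ∈ Finset.univ.filter (fun g : G => ¬ p ∣ orderOf g),
          Complex.normSq ((χ : G → ℂ) g) : ℝ) : ℂ) := by
      rw [mul_left_comm, card_mul_regInner, Complex.ofReal_mul, Complex.ofReal_natCast,
        Complex.ofReal_sum]
      refine congrArg _ (Finset.sum_congr rfl fun g _ => ?_)
      rw [Char.irr_inv, Complex.mul_conj]
    rw [hD, ← Int.cast_natCast (Nat.card G), ← Int.cast_mul] at h1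
    have h2 : (0 : ℝ) < (Nat.card P : ℝ) * ∑ g ∈ Finset.univ.filter (fun g : G => ¬ p ∣ orderOf g),
        Complex.normSq ((χ : G → ℂ) g) := by
      refine mul_pos (by exact_mod_cast Nat.card_pos) (Finset.sum_pos' (fun g _ => hnorm g)
        ⟨1, Finset.mem_filter.mpr ⟨Finset.mem_univ _, by simp [hM.1.ne_one]⟩,
          Complex.normSq_pos.mpr (Char.irr_one_ne_zero χ)⟩)
    have h3 : ((((Nat.card G : ℕ) : ℤ) * z χ : ℤ) : ℝ) = (Nat.card P : ℝ) *
        ∑ g ∈ Finset.univ.filter (fun g : G => ¬ p ∣ orderOf g), Complex.normSq ((χ : G → ℂ) g) := by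
      exact_mod_cast h1
    have h4 : (0 : ℤ) < ((Nat.card G : ℕ) : ℤ) * z χ := by
      rw [← h3] at h2; exact_mod_cast h2
    exact pos_of_mul_pos_right h4 (Int.natCast_nonneg _)
  have hsplit : ∀ f : P → ℂ, ∑ y : P, f y =
      ∑ y ∈ Finset.univ.filter (· ∈ Z), f y + ∑ y ∈ Finset.univ.filter (fun y => ¬ y ∈ Z), f y :=
    fun f => (Finset.sum_filter_add_sum_filter_not _ _ _).symm
  set c : ℕ := (Finset.univ.filter (fun y : P => y ∈ Z)).card with hcdef
  have hc0 : 0 < c := Finset.card_pos.mpr ⟨1, Finset.mem_filter.mpr ⟨Finset.mem_univ _, Z.one_mem⟩⟩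
  have hself : ∀ θ ∈ B, (c : ℂ) * ((Nat.card P : ℂ) * regInner p θ θ) +
      ∑ y ∈ Finset.univ.filter (fun y => ¬ y ∈ Z), dd y θ * conj (dd y θ) = (Nat.card P : ℂ) := by
    intro θ hθ
    have h := htot θ hθ θ hθ
    rw [if_pos rfl, hsplit, Finset.sum_congr rfl (s₂ := Finset.univ.filter (· ∈ Z))
      (g := fun _ => (Nat.card P : ℂ) * regInner p θ θ) fun y hy => by
        rw [hcentral θ hθ θ hθ y (Finset.mem_filter.mp hy).2, hlam1 θ y (Finset.mem_filter.mp hy).2,
          one_mul],
      Finset.sum_const, nsmul_eq_mul, Finset.sum_congr rfl (s₂ := Finset.univ.filter (fun y => ¬ y ∈ Z))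
      (g := fun y => dd y θ * conj (dd y θ)) fun y hy =>
        (hsd y (Finset.mem_filter.mp hy).2 θ).2.2 θ] at h
    exact h
  have hnc : ((Fintype.card {y : P // ¬ y ∈ Z} : ℕ) : ℤ) = (Nat.card P : ℤ) - c := by
    have h := Finset.card_filter_add_card_filter_not (s := (Finset.univ : Finset P)) (fun y => y ∈ Z)
    rw [Fintype.card_subtype, Nat.card_eq_fintype_card, ← Finset.card_univ]
    omega
  have hN : ∑ y : {y : P // ¬ y ∈ Z}, dd y.1 χ * conj (dd y.1 χ) =
      (((Nat.card P : ℤ) - c * z χ : ℤ) : ℂ) := by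
    rw [← Finset.sum_subtype (Finset.univ.filter (fun y : P => ¬ y ∈ Z)) (fun y => by simp)
      (fun y => dd y χ * conj (dd y χ))]
    have h := hself χ hχ
    rw [hD] at h
    push_cast
    linear_combination h
  have hx0 : ∀ y : {y : P // ¬ y ∈ Z},
      ((⟨dd y.1 χ, (hsd y.1 y.2 χ).1⟩ : cycInt (Nat.card P)) : ℂ) ≠ 0 := fun y =>
    (hnz y.1 _ _ (hddint y.1 y.2 χ) (hsd y.1 y.2 χ).2.1).1
  have hAM := card_le_sum_normSq_and Nat.card_pos.ne' _ hx0 hN
  have hz1 : z χ = 1 := by
    have h := hAM.1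
    rw [hnc] at h
    have : z χ ≤ 1 := by
      by_contra hlt
      have : (c : ℤ) * 2 ≤ c * z χ := mul_le_mul_of_nonneg_left (by omega) (by omega)
      omega
    omega
  have hunit : ∀ y, y ∉ Z → dd y χ * conj (dd y χ) = 1 := fun y hy =>
    hAM.2 (by rw [hnc, hz1, mul_one]) ⟨y, hy⟩
  have hχnorm : (Nat.card P : ℂ) * regInner p χ χ = 1 := by rw [hD, hz1, Int.cast_one]
  -- the natural numbers `|f χ y| ^ 2`
  obtain ⟨n1, hn1⟩ := exists_evalGA_eq_natCast hih χ
  rw [← sval_one] at hn1
  have hn1p : ¬ p ∣ n1 := (hnz 1 n1 1 isIntegral_one (by rw [OneMemClass.coe_one, hn1, mul_one])).2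
  let N : P → ℕ := fun y => if y ∈ Z then n1 ^ 2 else n y ^ 2
  have hN2 : ∀ y : P, sval ih χ (y : G) * conj (sval ih χ (y : G)) = (N y : ℂ) := by
    intro y
    by_cases hy : y ∈ Z
    · simp only [N, if_pos hy, sval_central ih (hlamt χ y hy), hn1, map_mul, map_natCast, Nat.cast_pow]
      linear_combination (n1 : ℂ) ^ 2 * hlam1 χ y hy
    · simp only [N, if_neg hy, (hsd y hy χ).2.1, map_mul, map_natCast, Nat.cast_pow]
      linear_combination (n y : ℂ) ^ 2 * hunit y hy
  have hNp : ∀ y, ¬ p ∣ N y := by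
    intro y hd
    simp only [N] at hd
    split_ifs at hd with hy
    · exact hn1p (hM.1.dvd_of_dvd_pow hd)
    · exact (hnz y _ _ (hddint y hy χ) (hsd y hy χ).2.1).2 (hM.1.dvd_of_dvd_pow hd)
  set vals : Finset ℕ := Finset.univ.image N
  set Qp : Polynomial ℤ := ∏ v ∈ vals, (C (v : ℤ) - X)
  set m : ℤ := Qp.coeff 0 with hmdef
  have hmv : m = ∏ v ∈ vals, (v : ℤ) := by
    rw [hmdef, coeff_zero_eq_eval_zero, eval_prod]
    simp
  have hcop : IsCoprime m (Nat.card P : ℤ) := by
    rw [hmv, hPcard, Nat.cast_pow]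
    refine (IsCoprime.prod_left fun v hv => ?_).pow_right
    obtain ⟨y, -, rfl⟩ := Finset.mem_image.mp hv
    exact Nat.isCoprime_iff_coprime.mpr ((hM.1.coprime_iff_not_dvd.mpr (hNp y)).symm)
  have hm00 : m ≠ 0 := by
    rw [hmv, Finset.prod_ne_zero_iff]
    intro v hv
    obtain ⟨y, -, rfl⟩ := Finset.mem_image.mp hv
    exact Int.natCast_ne_zero.mpr fun h => hNp y (h ▸ dvd_zero p)
  have hroot : ∀ y, aeval (N y : ℂ) Qp = 0 := fun y => by
    rw [map_prod]
    exact Finset.prod_eq_zero (Finset.mem_image_of_mem N (Finset.mem_univ y)) (by simp)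
  let v : P → ℂ := fun y => - aeval (sval ih χ (y : G) * conj (sval ih χ (y : G))) Qp.divX
  have hv : ∀ y : P, (N y : ℂ) * v y = (m : ℂ) := by
    intro y
    simp only [v, hN2 y]
    have h := hroot y
    rw [← divX_mul_X_add Qp, map_add, map_mul, aeval_X, aeval_C, algebraMap_int_eq, eq_intCast] at h
    linear_combination -h
  have hf : ∀ θ, IsCharacter P (fun y : P => sval ih θ (y : G)) := fun θ =>
    isCharacter_sval ih hih hcomm θ
  have hvgen : IsGeneralizedCharacter P v := Char.isGeneralizedCharacter_neg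
    (isGeneralizedCharacter_aeval (Char.isGeneralizedCharacter_mul
      (Char.isGeneralizedCharacter_of_isCharacter (hf χ))
      (Char.isGeneralizedCharacter_of_isCharacter (Char.isCharacter_conj (hf χ)))) _)
  -- members with the central character of `χ`
  have hsame : ∀ ψ ∈ B, (∀ y ∈ Z, lam ψ y = lam χ y) → ∀ t : G, ¬ p ∣ orderOf t →
      (ψ : G → ℂ) t = (z ψ : ℂ) * (χ : G → ℂ) t := by
    intro ψ hψ hcs
    set D : ℤ := z ψ with hDdef
    obtain ⟨nψ, hnψ⟩ := exists_evalGA_eq_natCast hih ψ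
    rw [← sval_one] at hnψ
    have hn10 : (n1 : ℂ) ≠ 0 := Nat.cast_ne_zero.mpr fun h => hn1p (h ▸ dvd_zero p)
    let g : P → ℂ := fun y => sval ih χ (y : G) * conj (sval ih ψ (y : G)) * v y
    have hg : IsGeneralizedCharacter P g := Char.isGeneralizedCharacter_mul
      (Char.isGeneralizedCharacter_mul (Char.isGeneralizedCharacter_of_isCharacter (hf χ))
        (Char.isGeneralizedCharacter_of_isCharacter (Char.isCharacter_conj (hf ψ)))) hvgen
    set δ : ℂ := (m : ℂ) * ((D : ℂ) - (nψ : ℂ) / (n1 : ℂ)) with hδ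
    let a : P → ℂ := fun y => if y ∈ Z then (D : ℂ) else dd y χ * conj (dd y ψ)
    have ha : ∀ y : P, (m : ℂ) * a y = g y + if y ∈ Z then δ else 0 := by
      intro y
      have hNv := hv y
      by_cases hy : y ∈ Z
      · simp only [a, g, if_pos hy, sval_central ih (hlamt χ y hy), sval_central ih (hlamt ψ y hy),
          hcs y hy, hn1, hnψ, map_mul, map_natCast, hδ]
        simp only [N, if_pos hy, Nat.cast_pow] at hNv
        field_simp
        linear_combination (-(nψ : ℂ) * (n1 : ℂ) ^ 2 * v y) * hlam1 χ y hy - (nψ : ℂ) * hNv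
      · simp only [a, g, if_neg hy, (hsd y hy χ).2.1, (hsd y hy ψ).2.1, map_mul, map_natCast,
          add_zero]
        simp only [N, if_neg hy, Nat.cast_pow] at hNv
        linear_combination -(dd y χ * conj (dd y ψ)) * hNv
    have hcontr : ∀ y : P, contrib p low χ ψ y = a y := by
      intro y
      by_cases hy : y ∈ Z
      · simp only [a, if_pos hy, hcentral χ hχ ψ hψ y hy, hcs y hy, hlam1 χ y hy, one_mul]
        exact hD ψ
      · simp only [a, if_neg hy]
        exact (hsd y hy χ).2.2 ψ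
    have hacf : IsClassFunction P a := by
      have hm0 : (m : ℂ) ≠ 0 := Int.cast_ne_zero.mpr hm00
      intro y u
      have hZn : u * y * u⁻¹ ∈ Z ↔ y ∈ Z := by
        have : Z.Normal := by rw [hZdef]; infer_instance
        exact ⟨fun h => by simpa [mul_assoc] using this.conj_mem _ h u⁻¹, fun h => this.conj_mem _ h u⟩
      apply mul_left_cancel₀ hm0
      rw [ha, ha, Char.isClassFunction_of_isGeneralized hg y u]
      simp only [hZn]
    have := Fintype.ofFinite (IrrCharacter P)
    have hinner : ∀ μ : IrrCharacter P, (m : ℂ) * classInner a (μ : P → ℂ) =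
        classInner g (μ : P → ℂ) + δ / (Nat.card P : ℂ) * conj (∑ y : Z, (μ : P → ℂ) (y : P)) := by
      intro μ
      have hsumZ : ∑ y : P, (if y ∈ Z then conj ((μ : P → ℂ) y) else 0) =
          conj (∑ y : Z, (μ : P → ℂ) (y : P)) := by
        rw [map_sum, ← Finset.sum_filter]
        exact (Finset.sum_subtype (p := fun y => y ∈ Z) _ (fun y => by simp) _)
      rw [← hsumZ, classInner, classInner, Finset.mul_sum, Finset.mul_sum, Finset.mul_sum,
        Finset.mul_sum, ← Finset.sum_add_distrib]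
      refine Finset.sum_congr rfl fun y _ => ?_
      have h := ha y
      split_ifs at h ⊢ with hy
      · linear_combination ((Nat.card P : ℂ)⁻¹ * conj ((μ : P → ℂ) y)) * h
      · linear_combination ((Nat.card P : ℂ)⁻¹ * conj ((μ : P → ℂ) y)) * h
    -- the trivial character
    have hone : classInner a ((oneChar P : IrrCharacter P) : P → ℂ) = if χ = ψ then 1 else 0 := by
      have h := htot χ hχ ψ hψ
      rw [Finset.sum_congr rfl fun y _ => hcontr y] at h
      have hone' : ∀ y : P, ((oneChar P : IrrCharacter P) : P → ℂ) y = 1 := fun _ => rfl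
      simp only [classInner, hone', map_one, mul_one, h]
      split_ifs <;> simp
    have hgint : ∀ μ : IrrCharacter P, ∃ r : ℤ, classInner g (μ : P → ℂ) = r := fun μ =>
      Char.classInner_generalized_int hg
        (Char.isGeneralizedCharacter_of_isCharacter (Char.isCharacter_irr μ))
    obtain ⟨K, hK⟩ : ∃ K : ℤ, δ / (Nat.card P : ℂ) * (Nat.card Z : ℂ) = K := by
      obtain ⟨r, hr⟩ := hgint (oneChar P)
      refine ⟨m * (if χ = ψ then 1 else 0) - r, ?_⟩
      have h := hinner (oneChar P)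
      rw [hone, hr] at h
      have hone' : ∑ y : Z, ((oneChar P : IrrCharacter P) : P → ℂ) (y : P) = (Nat.card Z : ℂ) := by
        simp [oneChar, Nat.card_eq_fintype_card]
      rw [hone', map_natCast] at h
      push_cast
      split_ifs at h ⊢ <;> linear_combination -h
    have haint : ∀ μ : IrrCharacter P, ∃ k : ℤ, classInner a (μ : P → ℂ) = k := by
      intro μ
      obtain ⟨r, hr⟩ := hgint μ
      obtain ⟨dμ, hdμ⟩ := Char.isCharacter_degree (Char.isCharacter_irr μ)
      have hZc : ∀ z ∈ Z, ∀ u : P, Commute z u := fun z hz u =>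
        (Subtype.ext ((hmemZ z).mp hz (u : G)).eq.symm)
      have hm : ∃ r' : ℤ, (m : ℂ) * classInner a (μ : P → ℂ) = r' := by
        rcases sum_central_char μ hZc with h | h
        · exact ⟨r, by rw [hinner, hr, h, map_zero, mul_zero, add_zero]⟩
        · refine ⟨r + dμ * K, ?_⟩
          rw [hinner, hr, h, hdμ, map_mul, map_natCast, map_natCast]
          push_cast
          linear_combination (dμ : ℂ) * hK
      obtain ⟨r', hr'⟩ := hm
      refine exists_intCast_of_mul_eq hm00 hcop hr' ?_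
      rw [classInner, ← mul_assoc, mul_inv_cancel₀ (Nat.cast_ne_zero.mpr Nat.card_pos.ne'), one_mul]
      refine IsIntegral.sum _ fun y _ => IsIntegral.mul ?_ ?_
      · simp only [a]
        split_ifs with hy
        · exact isIntegral_algebraMap (R := ℤ) (x := D)
        · exact (hddint y hy χ).mul ((hddint y hy ψ).map ((starRingEnd ℂ).toIntAlgHom))
      · exact (Char.isCharacter_isIntegral (Char.isCharacter_irr μ) y).map
          ((starRingEnd ℂ).toIntAlgHom)
    choose k hk using haint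
    -- Parseval
    set E : ℂ := (Nat.card P : ℂ) * regInner p ψ ψ - (D : ℂ) * (D : ℂ) with hE
    have hpars : (((∑ μ : IrrCharacter P, k μ * k μ : ℤ)) : ℂ) * (Nat.card P : ℂ) =
        (Nat.card P : ℂ) - (c : ℂ) * E := by
      have h1 : ((∑ μ : IrrCharacter P, k μ * k μ : ℤ) : ℂ) = classInner a a := by
        conv_rhs => arg 1; rw [Char.classFun_expand hacf]
        rw [Char.classInner_sum_left, Int.cast_sum]
        refine Finset.sum_congr rfl fun μ _ => ?_
        have hsym : classInner (μ : P → ℂ) a = conj (classInner a (μ : P → ℂ)) := by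
          simp only [classInner, map_mul, map_sum, map_inv₀, map_natCast, Complex.conj_conj]
          simp only [mul_comm]
        rw [Char.classInner_smul_left, hsym, hk, map_intCast, Int.cast_mul]
      rw [h1, classInner, mul_comm, ← mul_assoc,
        mul_inv_cancel₀ (Nat.cast_ne_zero.mpr Nat.card_pos.ne'), one_mul, hsplit,
        Finset.sum_congr rfl (s₂ := Finset.univ.filter (· ∈ Z)) (g := fun _ => (D : ℂ) * (D : ℂ))
          fun y hy => by simp only [a, if_pos (Finset.mem_filter.mp hy).2, map_intCast],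
        Finset.sum_const, nsmul_eq_mul,
        Finset.sum_congr rfl (s₂ := Finset.univ.filter (fun y => ¬ y ∈ Z))
          (g := fun y => dd y ψ * conj (dd y ψ)) fun y hy => ?_]
      · have h := hself ψ hψ
        rw [hE]
        linear_combination h
      · have hy' := (Finset.mem_filter.mp hy).2
        simp only [a, if_neg hy', map_mul, Complex.conj_conj]
        linear_combination (dd y ψ * conj (dd y ψ)) * hunit y hy'
    -- the deficiency is a squared norm
    have hE' : (Nat.card G : ℂ) * E = (((Nat.card P : ℝ) *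
        ∑ g ∈ Finset.univ.filter (fun g : G => ¬ p ∣ orderOf g),
          Complex.normSq ((ψ : G → ℂ) g - (D : ℂ) * (χ : G → ℂ) g) : ℝ) : ℂ) := by
      rw [Complex.ofReal_mul, Complex.ofReal_natCast, Complex.ofReal_sum]
      simp only [← Complex.mul_conj, map_sub, map_mul, map_intCast]
      rw [Finset.sum_congr rfl (g := fun g => (ψ : G → ℂ) g * (ψ : G → ℂ) g⁻¹ -
          (D : ℂ) * ((χ : G → ℂ) g * (ψ : G → ℂ) g⁻¹) - (D : ℂ) * ((ψ : G → ℂ) g * (χ : G → ℂ) g⁻¹) +
          (D : ℂ) * (D : ℂ) * ((χ : G → ℂ) g * (χ : G → ℂ) g⁻¹)) fun g _ => by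
            rw [Char.irr_inv, Char.irr_inv]; ring,
        Finset.sum_add_distrib, Finset.sum_sub_distrib, Finset.sum_sub_distrib, ← Finset.mul_sum,
        ← Finset.mul_sum, ← Finset.mul_sum, ← card_mul_regInner, ← card_mul_regInner,
        ← card_mul_regInner, ← card_mul_regInner, regInner_comm hM ψ χ, hE]
      linear_combination (2 * (D : ℂ) * (Nat.card G : ℂ)) * hD ψ -
        ((D : ℂ) * (D : ℂ) * (Nat.card G : ℂ)) * hχnorm
    set S := Finset.univ.filter (fun g : G => ¬ p ∣ orderOf g) with hSdef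
    set s := ∑ g ∈ S, Complex.normSq ((ψ : G → ℂ) g - (D : ℂ) * (χ : G → ℂ) g) with hsdef
    have hs0 : 0 ≤ s := Finset.sum_nonneg fun g _ => Complex.normSq_nonneg _
    have hT : (1 : ℤ) ≤ ∑ μ : IrrCharacter P, k μ * k μ := by
      have h0 : ∀ μ, 0 ≤ k μ * k μ := fun μ => mul_self_nonneg _
      by_contra hlt
      have hzero : ∀ μ, k μ = 0 := fun μ => mul_self_eq_zero.mp (le_antisymm
        ((Finset.single_le_sum (fun μ _ => h0 μ) (Finset.mem_univ μ)).trans (by omega)) (h0 μ))
      have haz : a 1 = 0 := by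
        rw [Char.classFun_expand hacf]
        simp [hk, hzero]
      simp only [a, if_pos Z.one_mem, Int.cast_eq_zero] at haz
      -- `D` is prime to the zero
      obtain ⟨w, hw, hwz⟩ := exists_regInner_int hM ψ
      obtain ⟨r, hr, hr'⟩ := hwz χ
      have hreg0 : regInner p ψ χ = 0 := by
        rw [regInner_comm hM]
        have h1 := hD ψ
        rw [← hDdef, haz, Int.cast_zero, mul_eq_zero] at h1
        exact h1.resolve_left (Nat.cast_ne_zero.mpr Nat.card_pos.ne')
      rw [hreg0, mul_zero, eq_comm, Int.cast_eq_zero] at hr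
      rw [hr, Int.cast_zero, eq_comm] at hr'
      exact mul_ne_zero hw ((regN_ne_zero_iff hM hB hψ hχ).mpr
        ((forall_degVal_le_iff hχ).mpr (by assumption))) hr'
    have hreal : ((∑ μ : IrrCharacter P, k μ * k μ : ℤ) : ℝ) * (Nat.card P : ℝ) * (Nat.card G : ℝ) =
        (Nat.card P : ℝ) * (Nat.card G : ℝ) - (c : ℝ) * ((Nat.card P : ℝ) * s) := by
      have h := congrArg (fun w : ℂ => w * (Nat.card G : ℂ)) hpars
      simp only [sub_mul] at h
      rw [mul_assoc ((c : ℕ) : ℂ), mul_comm E, hE'] at h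
      exact_mod_cast h
    have hs : s = 0 := by
      have hP : (0 : ℝ) < Nat.card P := by exact_mod_cast Nat.card_pos
      have hG : (0 : ℝ) < Nat.card G := by exact_mod_cast Nat.card_pos
      have hT' : (1 : ℝ) ≤ ((∑ μ : IrrCharacter P, k μ * k μ : ℤ) : ℝ) := by exact_mod_cast hT
      have hcr : (0 : ℝ) < c := by exact_mod_cast hc0
      nlinarith [mul_pos hcr hP, mul_pos hP hG, mul_le_mul_of_nonneg_right hT' (mul_pos hP hG).le]
    intro t ht
    have := (Finset.sum_eq_zero_iff_of_nonneg fun g _ => Complex.normSq_nonneg _).mp hs t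
      (Finset.mem_filter.mpr ⟨Finset.mem_univ _, ht⟩)
    exact sub_eq_zero.mp (Complex.normSq_eq_zero.mp this)
  -- all members
  refine ⟨fun ψ hψ => ?_, by rw [mul_comm, ← hPc]; exact hχnorm⟩
  choose π hπ using fun g : G => exists_isPPart (p := p) hM.1 g
  let InZ : G → Prop := fun u => ∃ y : P, y ∈ Z ∧ (y : G) = u
  let F : G → ℂ := fun g => if h : InZ (π g) then lam χ h.choose * (ψ : G → ℂ) ((π g)⁻¹ * g) else 0
  have hFval : ∀ (g : G) (y : P), y ∈ Z → π g = (y : G) →
      F g = lam χ y * (ψ : G → ℂ) ((y : G)⁻¹ * g) := by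
    intro g y hy hg
    have h : InZ (π g) := ⟨y, hy, hg.symm⟩
    simp only [F, dif_pos h]
    rw [show h.choose = y from Subtype.ext (h.choose_spec.2.trans hg), hg]
  have hF0 : ∀ g, ¬ InZ (π g) → F g = 0 := fun g hg => dif_neg hg
  have hlmul : ∀ y ∈ Z, ∀ y' ∈ Z, lam χ (y * y') = lam χ y * lam χ y' := by
    intro y hy y' hy'
    have h := hlamt χ _ (Z.mul_mem hy hy') 1
    rw [Subgroup.coe_mul, mul_assoc, hlamt χ y hy, hlamt χ y' hy', ← mul_assoc] at h
    exact (mul_right_cancel₀ (Char.irr_one_ne_zero χ) h).symm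
  have hFcf : IsClassFunction G F := by
    intro g h
    have hπ' : π (h * g * h⁻¹) = h * π g * h⁻¹ := isPPart_unique hM.1 (hπ _) (isPPart_conj (hπ g) h)
    by_cases hz : InZ (π g)
    · obtain ⟨y, hy, hyg⟩ := hz
      have hconj : h * π g * h⁻¹ = (y : G) := by
        rw [← hyg, ((hmemZ y).mp hy h).eq, mul_inv_cancel_right]
      rw [hFval g y hy hyg.symm, hFval _ y hy (hπ'.trans hconj),
        show (y : G)⁻¹ * (h * g * h⁻¹) = h * ((y : G)⁻¹ * g) * h⁻¹ by
          rw [← mul_assoc, ← mul_assoc, ← ((hmemZ y).mp hy h).inv_right.eq]; group,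
        Char.isClassFunction_irr ψ]
    · rw [hF0 g hz, hF0]
      rintro ⟨y, hy, hyg⟩
      refine hz ⟨y, hy, ?_⟩
      rw [hπ'] at hyg
      have h2 : π g = h⁻¹ * (y : G) * h := by rw [hyg]; group
      rw [h2, ((hmemZ y).mp hy h⁻¹).eq, inv_mul_cancel_right]
  have hFshift : ∀ y ∈ Z, ∀ g, F ((y : G) * g) = lam χ y * F g := by
    intro y hy g
    have hπ' : π ((y : G) * g) = (y : G) * π g := by
      refine isPPart_unique hM.1 (hπ _) ?_
      obtain ⟨w, hgw, hcw, ⟨j, hj⟩, hw⟩ := hπ g
      obtain ⟨l, hl⟩ := isPPow_of_mem hM he.1 y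
      refine ⟨w, by rw [mul_assoc, hgw], (((hmemZ y).mp hy w).symm.mul_left hcw), ?_, hw⟩
      have hcm : Commute (y : G) (π g) := ((hmemZ y).mp hy _).symm
      obtain ⟨r, -, hr⟩ := (Nat.dvd_prime_pow hM.1).mp (show orderOf ((y : G) * π g) ∣ p ^ (l + j) by
        rw [pow_add, ← hl, ← hj]; exact hcm.orderOf_mul_dvd_mul_orderOf)
      exact ⟨r, hr⟩
    by_cases hz : InZ (π g)
    · obtain ⟨y', hy', hyg⟩ := hz
      rw [hFval g y' hy' hyg.symm, hFval _ (y * y') (Z.mul_mem hy hy')
        (by rw [hπ', ← hyg, Subgroup.coe_mul]), hlmul y hy y' hy', Subgroup.coe_mul]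
      rw [show ((y : G) * (y' : G))⁻¹ * ((y : G) * g) = (y' : G)⁻¹ * g by group]
      ring
    · rw [hF0 g hz, hF0, mul_zero]
      rintro ⟨y', hy', hyg⟩
      refine hz ⟨y⁻¹ * y', Z.mul_mem (Z.inv_mem hy) hy', ?_⟩
      rw [hπ'] at hyg
      rw [Subgroup.coe_mul, Subgroup.coe_inv, hyg, inv_mul_cancel_left]
  have hFreg : ∀ t, ¬ p ∣ orderOf t → F t = (ψ : G → ℂ) t := by
    intro t ht
    have h1 : π t = ((1 : P) : G) :=
      isPPart_unique hM.1 (hπ t) (by rw [OneMemClass.coe_one]; exact isPPart_one_of_not_dvd ht)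
    rw [hFval t 1 Z.one_mem h1]
    have hl1 : lam χ 1 = 1 := by
      have h := hlamt χ 1 Z.one_mem 1
      rw [OneMemClass.coe_one, one_mul] at h
      exact (mul_left_eq_self₀.mp h.symm).resolve_right (Char.irr_one_ne_zero χ)
    rw [hl1, one_mul, OneMemClass.coe_one, inv_one, one_mul]
  have hprop : ∃ r : ℂ, ∀ t, ¬ p ∣ orderOf t → (ψ : G → ℂ) t = r * (χ : G → ℂ) t := by
    refine ⟨∑ θ ∈ Finset.univ.filter (· ∈ B), classInner F (θ : G → ℂ) * (z θ : ℂ), fun t ht => ?_⟩
    have h1 : blockPart B F t = (ψ : G → ℂ) t := by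
      have h2 : blockPart B (ψ : G → ℂ) t = (ψ : G → ℂ) t := by
        rw [blockPart_eq, Finset.sum_eq_single ψ]
        · rw [Char.classInner_irr_self, one_mul]
        · intro η _ hη
          rw [Char.classInner_irr_ne (Ne.symm hη), zero_mul]
        · intro hn
          exact absurd (Finset.mem_filter.mpr ⟨Finset.mem_univ _, hψ⟩) hn
      rw [← h2, blockPart_eq, blockPart_eq]
      refine sum_block_eq_of_eq_regular hM hBU (fun y hy => ?_) ht
      have e1 := congrFun (Char.classFun_expand hFcf) y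
      have e2 := congrFun (Char.classFun_expand (Char.isClassFunction_irr ψ)) y
      simp only [Finset.sum_apply, Pi.smul_apply, smul_eq_mul] at e1 e2
      rw [← e1, ← e2, hFreg y hy]
    rw [← h1, blockPart_eq, Finset.sum_mul]
    refine Finset.sum_congr rfl fun θ hθ => ?_
    have hθB := (Finset.mem_filter.mp hθ).2
    by_cases hcs : ∀ y ∈ Z, lam θ y = lam χ y
    · rw [hsame θ hθB hcs t ht, mul_assoc]
    · push Not at hcs
      obtain ⟨y, hy, hne⟩ := hcs
      have hzero : classInner F (θ : G → ℂ) = 0 := by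
        have hsh : classInner F (θ : G → ℂ) =
            lam χ y * conj (lam θ y) * classInner F (θ : G → ℂ) := by
          simp only [classInner, Finset.mul_sum]
          refine (Fintype.sum_equiv (Equiv.mulLeft (y : G)) _ _ fun g => ?_).symm
          simp only [Equiv.coe_mulLeft, hFshift y hy, hlamt θ y hy, map_mul]
          ring
        by_contra h0'
        have h3 := mul_right_cancel₀ h0' ((one_mul _).trans hsh)
        refine hne ?_
        calc lam θ y = lam χ y * conj (lam θ y) * lam θ y := by rw [← h3, one_mul]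
          _ = lam χ y * (lam θ y * conj (lam θ y)) := by ring
          _ = lam χ y := by rw [hlam1 θ y hy, mul_one]
      rw [hzero, zero_mul, zero_mul, zero_mul]
  obtain ⟨r, hr⟩ := hprop
  have hrz : conj r = (z ψ : ℂ) := by
    rw [← hD ψ]
    have : (Nat.card G : ℂ) * regInner p χ ψ = (Nat.card G : ℂ) * (conj r * regInner p χ χ) := by
      rw [card_mul_regInner, mul_left_comm, card_mul_regInner, Finset.mul_sum]
      refine Finset.sum_congr rfl fun g hg => ?_
      rw [Char.irr_inv, Char.irr_inv, hr g (Finset.mem_filter.mp hg).2, map_mul]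
      ring
    rw [mul_left_cancel₀ (Nat.cast_ne_zero.mpr Nat.card_pos.ne') this, mul_left_comm, hχnorm, mul_one]
  have hrz' : r = (z ψ : ℂ) := by rw [← Complex.conj_conj r, hrz, map_intCast]
  have h1 := hr 1 (by simp [hM.1.ne_one])
  obtain ⟨d1, hd1, hd1'⟩ := Char.isIrrCharacter_degree ψ.2
  obtain ⟨d2, hd2, hd2'⟩ := Char.isIrrCharacter_degree χ.2
  have hnn : 0 ≤ z ψ := by
    rw [hrz', hd1', hd2'] at h1
    have h1' : (d1 : ℤ) = z ψ * d2 := by exact_mod_cast h1
    nlinarith
  exact ⟨(z ψ).toNat, fun t ht => by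
    rw [hr t ht, hrz', ← Int.cast_natCast, Int.toNat_of_nonneg hnn]⟩

/-- Every nilpotent block has a unit row. -/
theorem hasUnitRow_of_nilpotent (hM : IsPModular p M) :
    ∀ (N : ℕ) (A : Type u) [Group A] [Fintype A] (b : Set (IrrCharacter A)),
      Nat.card A = N → IsNilpotentBlock p M b → HasUnitRow p b := by
  intro N
  induction N using Nat.strong_induction_on with
  | _ N ihN =>
  intro A _ _ b hN hnil
  classical
  have hpf : Fact p.Prime := ⟨hM.1⟩
  have := Fintype.ofFinite (IrrCharacter A)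
  obtain ⟨P, e, hmax⟩ := exists_maximalPair hM hnil.1
  obtain ⟨χ, hχ, hmin⟩ := exists_minDeg (p := p) (isPBlock_nonempty hnil.1)
  have h := hasUnitRow_step hM hmax hnil (fun y hy c hc => ?_) hχ
    ((blockHeight_eq_zero_iff hχ).mpr hmin)
  · exact ⟨χ, hχ, h.1, h.2⟩
  · refine ihN _ ?_ _ c rfl (isNilpotentBlock_local hM hnil hc)
    rw [← hN]
    refine lt_of_le_of_ne (Subgroup.card_le_card_group _) fun heq => hy fun t => ?_
    exact mem_cq_zpowers_iff.mp (by rw [Subgroup.eq_top_of_card_eq _ heq]; trivial)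

end CfsgLib.Block

namespace CfsgLib.Block

open Cfsg

universe v

variable {p : ℕ} {M : Ideal AlgInt} [M.IsMaximal] {G : Type v} [Group G] [Fintype G]

/-- The regular rank of a block with a unit row is one. -/
theorem blockRank_eq_one_of_unitRow (hp : p ≠ 1) {B : Set (IrrCharacter G)} (h : HasUnitRow p B) :
    blockRank p B = 1 ∧ ∃ χ₀ ∈ B, ∀ χ ∈ B, ∃ d : ℕ, ∀ x : G,
      pRegularPart p (χ : G → ℂ) x = (d : ℂ) * pRegularPart p (χ₀ : G → ℂ) x := by
  classical
  obtain ⟨χ₀, hχ₀, hd, -⟩ := h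
  have hrow : ∀ χ ∈ B, ∃ d : ℕ, ∀ x : G,
      pRegularPart p (χ : G → ℂ) x = (d : ℂ) * pRegularPart p (χ₀ : G → ℂ) x := fun χ hχ => by
    obtain ⟨d, hd⟩ := hd χ hχ
    refine ⟨d, fun x => ?_⟩
    by_cases hx : p ∣ orderOf x
    · simp [pRegularPart, IsPRegular, hx]
    · simp [pRegularPart, IsPRegular, hx, hd x hx]
  refine ⟨?_, χ₀, hχ₀, hrow⟩
  have hspan : Submodule.span ℂ ((fun χ : IrrCharacter G => pRegularPart p (χ : G → ℂ)) '' B) =
      Submodule.span ℂ {pRegularPart p (χ₀ : G → ℂ)} := by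
    refine le_antisymm (Submodule.span_le.mpr ?_)
      (Submodule.span_mono (Set.singleton_subset_iff.mpr ⟨χ₀, hχ₀, rfl⟩))
    rintro _ ⟨χ, hχ, rfl⟩
    obtain ⟨d, hd⟩ := hrow χ hχ
    exact Submodule.mem_span_singleton.mpr ⟨(d : ℂ), funext fun x => (hd x).symm⟩
  rw [blockRank, hspan, finrank_span_singleton]
  intro h0
  have h1 := congrFun h0 1
  simp only [pRegularPart, IsPRegular, orderOf_one, Nat.dvd_one, hp, not_false_iff, if_true,
    Pi.zero_apply] at h1
  exact Char.irr_one_ne_zero χ₀ h1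

theorem isNilpotentBlock_unitRow (hM : IsPModular p M) {B : Set (IrrCharacter G)}
    (hnil : IsNilpotentBlock p M B) : HasUnitRow p B :=
  hasUnitRow_of_nilpotent hM _ G B rfl hnil

end CfsgLib.Block
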