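import Cfsg.Agent.Lib.Block.SubsectionCount
import Cfsg.Agent.Lib.Block.Rank
import Cfsg.Agent.Lib.Block.Cyclic.PrincipalSq
import Cfsg.Agent.Lib.Invol.DihedralSubgroup
import Cfsg.Agent.Lib.Invol.ThreePoint
import Cfsg.Agent.Lib.Fusion.PComplement

/-!
# Dihedral Sylow 2-subgroups: the rotations and their centralisers

`Frame P σ τ h`: the Sylow 2-subgroup `P` is dihedral of order `4 h`, with rotations `σ ^ l` and
reflections `τ * σ ^ l`.  Rotations fuse only with their inverses (`fusion`), the centraliser of a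
nontrivial rotation has a normal 2-complement, hence the members of the principal 2-block are
constant on these sections (`value_eq`) and the columns are orthogonal (`colSum`).
-/

open Finset
open scoped ComplexConjugate

set_option autoImplicit false
set_option linter.unusedSectionVars false
set_option linter.style.haveILetI false

namespace CfsgLib.Block.Dihedral

open Cfsg CfsgLib CfsgLib.Block

universe u

variable {G : Type u} [Group G]

/-- A dihedral Sylow 2-subgroup with a chosen rotation and reflection. -/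
structure Frame (P : Sylow 2 G) (σ τ : G) (h : ℕ) : Prop where
  pow2 : ∃ k : ℕ, 0 < k ∧ h = 2 ^ k
  memσ : σ ∈ (P : Subgroup G)
  memτ : τ ∈ (P : Subgroup G)
  orderσ : orderOf σ = 2 * h
  sqτ : τ * τ = 1
  rel : τ * σ * τ⁻¹ = σ⁻¹
  not_zpow : τ ∉ Subgroup.zpowers σ
  card : Nat.card (P : Subgroup G) = 4 * h
  cases : ∀ x ∈ (P : Subgroup G), ∃ l : ℕ, x = σ ^ l ∨ x = τ * σ ^ l

namespace Frame

variable {P : Sylow 2 G} {σ τ : G} {h : ℕ} (D : Frame P σ τ h)
include D

theorem two_le : 2 ≤ h := by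
  obtain ⟨k, hk, rfl⟩ := D.pow2
  exact le_trans (by norm_num) (Nat.pow_le_pow_right two_pos hk)

theorem h_even : Even h := by
  obtain ⟨k, hk, rfl⟩ := D.pow2
  exact Nat.even_pow.2 ⟨even_two, hk.ne'⟩

theorem pow_eq_one {l : ℕ} : σ ^ l = 1 ↔ 2 * h ∣ l := by
  rw [← orderOf_dvd_iff_pow_eq_one, D.orderσ]

theorem τ_inv : τ⁻¹ = τ := inv_eq_of_mul_eq_one_right D.sqτ

theorem conjτ (l : ℕ) : τ * σ ^ l * τ⁻¹ = (σ ^ l)⁻¹ := by rw [← conj_pow, D.rel, inv_pow]

theorem refl_sq (l : ℕ) : τ * σ ^ l * (τ * σ ^ l) = 1 := by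
  calc τ * σ ^ l * (τ * σ ^ l) = (τ * σ ^ l * τ⁻¹) * σ ^ l := by rw [D.τ_inv]; group
    _ = 1 := by rw [D.conjτ, inv_mul_cancel]

theorem refl_not_rot (l m : ℕ) : τ * σ ^ l ≠ σ ^ m := fun e => D.not_zpow (by
  rw [show τ = σ ^ m * (σ ^ l)⁻¹ by rw [← e, mul_inv_cancel_right]]
  exact mul_mem (Subgroup.npow_mem_zpowers σ m) (inv_mem (Subgroup.npow_mem_zpowers σ l)))

theorem memZ {x : G} (hx : x ∈ Subgroup.zpowers σ) : x ∈ (P : Subgroup G) :=
  Subgroup.zpowers_le.2 D.memσ hx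

theorem sq_ne_iff (l : ℕ) : σ ^ l * σ ^ l ≠ 1 ↔ ¬ h ∣ l := by
  rw [← pow_add, Ne, D.pow_eq_one, not_iff_not, ← two_mul, Nat.mul_dvd_mul_iff_left two_pos]

/-- An element of `P` with nontrivial square is a rotation. -/
theorem rot_of_sq {x : G} (hx : x ∈ (P : Subgroup G)) (h2 : x * x ≠ 1) : ∃ l : ℕ, x = σ ^ l := by
  obtain ⟨l, e | e⟩ := D.cases x hx
  · exact ⟨l, e⟩
  · exact absurd (by rw [e]; exact D.refl_sq l) h2

theorem sigma_h_sq : σ ^ h * σ ^ h = 1 := by rw [← pow_add, D.pow_eq_one, two_mul]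

theorem sigma_h_ne : σ ^ h ≠ 1 := fun e => by
  have := Nat.le_of_dvd (by have := D.two_le; omega) (D.pow_eq_one.1 e)
  have := D.two_le
  omega

/-- A rotation whose square is one. -/
theorem eq_J {l : ℕ} (h1 : σ ^ l ≠ 1) (h2 : h ∣ l) : σ ^ l = σ ^ h := by
  obtain ⟨c, rfl⟩ := h2
  rcases Nat.even_or_odd' c with ⟨d, rfl | rfl⟩
  · exact absurd (D.pow_eq_one.2 ⟨d, by ring⟩) h1
  · rw [show h * (2 * d + 1) = h + 2 * h * d by ring, pow_add, D.pow_eq_one.2 (dvd_mul_right _ d),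
      mul_one]

theorem J_comm {x : G} (hx : x ∈ (P : Subgroup G)) : Commute x (σ ^ h) := by
  obtain ⟨l, e | e⟩ := D.cases x hx
  · rw [e]; exact Commute.pow_pow_self σ l h
  · rw [e]
    refine Commute.mul_left ?_ (Commute.pow_pow_self σ l h)
    show τ * σ ^ h = σ ^ h * τ
    rw [← mul_inv_eq_iff_eq_mul, D.conjτ, inv_eq_of_mul_eq_one_right D.sigma_h_sq]

/-- A rotation of order at least four is centralised in `P` only by rotations. -/
theorem mem_zpowers_of_commute {x : G} (hx : x ∈ (P : Subgroup G)) {l : ℕ} (hl : ¬ h ∣ l)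
    (hc : Commute x (σ ^ l)) : x ∈ Subgroup.zpowers σ := by
  obtain ⟨m, e | e⟩ := D.cases x hx
  · exact e ▸ Subgroup.npow_mem_zpowers σ m
  · exfalso
    subst e
    have h1 : τ * σ ^ l * τ⁻¹ = σ ^ l := by
      have h0 := hc.eq
      rw [mul_assoc, ← pow_add, add_comm, pow_add, ← mul_assoc, ← mul_assoc] at h0
      have h0' := mul_right_cancel h0
      rw [h0', mul_inv_cancel_right]
    rw [D.conjτ] at h1
    exact (D.sq_ne_iff l).2 hl (by nth_rewrite 1 [← h1]; exact inv_mul_cancel _)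

theorem zpowers_isPGroup : IsPGroup 2 (Subgroup.zpowers σ) :=
  P.2.to_le (Subgroup.zpowers_le.2 D.memσ)

section Finite

variable [Finite G]

/-- The rotations form a Sylow subgroup of the centraliser of a rotation of order at least four. -/
theorem eq_zpowers_of_le {R : Subgroup G} (hR : IsPGroup 2 R) {l : ℕ} (hl : ¬ h ∣ l)
    (hRC : ∀ r ∈ R, Commute r (σ ^ l)) (hZR : Subgroup.zpowers σ ≤ R) : R = Subgroup.zpowers σ := by
  haveI : Fact (Nat.Prime 2) := ⟨Nat.prime_two⟩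
  obtain ⟨a, ha⟩ := CfsgLib.Invol.exists_conj_le_sylow hR P
  obtain ⟨j, hj⟩ := D.rot_of_sq (ha _ (hZR (Subgroup.npow_mem_zpowers σ l))) (by
    rw [show a * σ ^ l * a⁻¹ * (a * σ ^ l * a⁻¹) = a * (σ ^ l * σ ^ l) * a⁻¹ by group, Ne,
      conj_eq_one_iff]
    exact (D.sq_ne_iff l).2 hl)
  have hjl : ¬ h ∣ j := by
    rw [← D.sq_ne_iff, ← hj, show a * σ ^ l * a⁻¹ * (a * σ ^ l * a⁻¹) = a * (σ ^ l * σ ^ l) * a⁻¹ by group,
      Ne, conj_eq_one_iff]
    exact (D.sq_ne_iff l).2 hl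
  have hle : R.map (MulAut.conj a).toMonoidHom ≤ Subgroup.zpowers σ := by
    rintro _ ⟨r, hr, rfl⟩
    exact D.mem_zpowers_of_commute (ha r hr) hjl (hj ▸ (hRC r hr).map (MulAut.conj a).toMonoidHom)
  refine (Subgroup.eq_of_le_of_card_ge hZR ?_).symm
  have := Subgroup.card_le_of_le hle
  rwa [Subgroup.card_map_of_injective (MulAut.conj a).injective] at this

theorem le_centralizer (l : ℕ) : Subgroup.zpowers σ ≤ Subgroup.centralizer ({σ ^ l} : Set G) :=
  Subgroup.zpowers_le.2 (Subgroup.mem_centralizer_singleton_iff.2 ((Commute.refl σ).pow_right l).eq)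

/-- The Sylow subgroup `zpowers σ` of the centraliser. -/
theorem exists_sylow {l : ℕ} (hl : ¬ h ∣ l) :
    ∃ T : Sylow 2 (Subgroup.centralizer ({σ ^ l} : Set G)),
      (T : Subgroup (Subgroup.centralizer ({σ ^ l} : Set G))) =
        (Subgroup.zpowers σ).subgroupOf (Subgroup.centralizer ({σ ^ l} : Set G)) := by
  set C := Subgroup.centralizer ({σ ^ l} : Set G) with hC
  obtain ⟨T, hT⟩ := (D.zpowers_isPGroup.comap_subtype (H := Subgroup.zpowers σ) (K := C)).exists_le_sylow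
  refine ⟨T, le_antisymm ?_ hT⟩
  have e := D.eq_zpowers_of_le (T.2.map C.subtype) hl
    (by rintro _ ⟨r, -, rfl⟩; exact Subgroup.mem_centralizer_singleton_iff.1 r.2)
    (fun z hz => ⟨⟨z, D.le_centralizer l hz⟩, hT hz, rfl⟩)
  intro t ht
  rw [Subgroup.mem_subgroupOf, ← e]
  exact ⟨t, ht, rfl⟩

/-- The automisers of the rotation subgroup. -/
theorem conj_sigma {g : G} (hg : g ∈ Subgroup.normalizer (Subgroup.zpowers σ : Set G)) :
    g * σ * g⁻¹ = σ ∨ g * σ * g⁻¹ = σ⁻¹ := by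
  haveI : Fact (Nat.Prime 2) := ⟨Nat.prime_two⟩
  set Z := Subgroup.zpowers σ
  set N := Subgroup.normalizer (Z : Set G)
  have hPN : (P : Subgroup G) ≤ N := fun x hx => Subgroup.mem_normalizer_iff.2 fun z => by
    have key : ∀ y ∈ (P : Subgroup G), ∀ z ∈ Z, y * z * y⁻¹ ∈ Z := by
      intro y hy z hz
      obtain ⟨m, rfl⟩ := Subgroup.mem_zpowers_iff.1 hz
      obtain ⟨l, e | e⟩ := D.cases y hy
      · rw [e]
        exact mul_mem (mul_mem (Subgroup.npow_mem_zpowers σ l) hz) (inv_mem (Subgroup.npow_mem_zpowers σ l))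
      · rw [← conj_zpow, e, show τ * σ ^ l * σ * (τ * σ ^ l)⁻¹ = τ * σ * τ⁻¹ by group, D.rel]
        exact Subgroup.zpow_mem _ (inv_mem (Subgroup.mem_zpowers σ)) m
    refine ⟨key x hx z, fun hz => ?_⟩
    have := key x⁻¹ (inv_mem hx) _ hz
    rwa [show x⁻¹ * (x * z * x⁻¹) * x⁻¹⁻¹ = z by group] at this
  haveI : IsCyclic Z := Subgroup.isCyclic_zpowers σ
  set f := (Z.normalizerMonoidHom).rangeRestrict
  have hf : Function.Surjective f := MonoidHom.rangeRestrict_surjective _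
  have hA : IsPGroup 2 (MulAut Z) := by
    obtain ⟨k, hk, hk'⟩ := D.pow2
    refine IsPGroup.of_card (n := k) ?_
    rw [IsCyclic.card_mulAut, Nat.card_zpowers, D.orderσ, hk', ← pow_succ',
      Nat.totient_prime_pow_succ Nat.prime_two]
    simp
  set T : Sylow 2 N := P.subtype hPN
  have htop : ((T.mapSurjective hf) : Subgroup Z.normalizerMonoidHom.range) = ⊤ :=
    ((T.mapSurjective hf).3 (((hA.to_subgroup _).to_subgroup ⊤)) le_top).symm
  have hmem : f ⟨g, hg⟩ ∈ ((T.mapSurjective hf) : Subgroup Z.normalizerMonoidHom.range) := by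
    rw [htop]; trivial
  obtain ⟨p, hp, hpe⟩ := hmem
  have hpP : (p : G) ∈ (P : Subgroup G) := hp
  have e := congrArg (fun φ => ((φ.1 ⟨σ, Subgroup.mem_zpowers σ⟩ : Z) : G)) hpe
  have e' : (p : G) * σ * (p : G)⁻¹ = g * σ * g⁻¹ := e
  rw [← e']
  obtain ⟨l, el | el⟩ := D.cases _ hpP
  · left; rw [el]; group
  · right; rw [el, show τ * σ ^ l * σ * (τ * σ ^ l)⁻¹ = τ * σ * τ⁻¹ by group, D.rel]

/-- Rotations are fused only with their inverses. -/
theorem fusion {g : G} {l m : ℕ} (hlm : g * σ ^ l * g⁻¹ = σ ^ m) :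
    σ ^ m = σ ^ l ∨ σ ^ m = (σ ^ l)⁻¹ := by
  by_cases h1 : σ ^ l = 1
  · left; rw [← hlm, h1, mul_one, mul_inv_cancel]
  by_cases hl : h ∣ l
  · left
    have hm1 : σ ^ m ≠ 1 := by rw [← hlm, Ne, conj_eq_one_iff]; exact h1
    have hm : h ∣ m := by
      by_contra hm
      refine (D.sq_ne_iff m).2 hm ?_
      rw [← hlm, show g * σ ^ l * g⁻¹ * (g * σ ^ l * g⁻¹) = g * (σ ^ l * σ ^ l) * g⁻¹ by group,
        show σ ^ l * σ ^ l = 1 from not_not.1 fun e => (D.sq_ne_iff l).1 e hl, mul_one, mul_inv_cancel]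
    rw [D.eq_J hm1 hm, D.eq_J h1 hl]
  haveI : Fact (Nat.Prime 2) := ⟨Nat.prime_two⟩
  have hml : ¬ h ∣ m := by
    rw [← D.sq_ne_iff, ← hlm, show g * σ ^ l * g⁻¹ * (g * σ ^ l * g⁻¹) = g * (σ ^ l * σ ^ l) * g⁻¹ by group,
      Ne, conj_eq_one_iff]
    exact (D.sq_ne_iff l).2 hl
  set C := Subgroup.centralizer ({σ ^ m} : Set G) with hC
  set Z := Subgroup.zpowers σ
  obtain ⟨T, hT⟩ := D.exists_sylow hml
  have hgZ : Z.map (MulAut.conj g).toMonoidHom ≤ C := by
    rintro _ ⟨z, hz, rfl⟩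
    refine Subgroup.mem_centralizer_singleton_iff.2 ?_
    rw [← hlm]
    exact (Commute.map (Subgroup.mem_centralizer_singleton_iff.1 (D.le_centralizer l hz))
      (MulAut.conj g).toMonoidHom).eq
  obtain ⟨c, hc⟩ := CfsgLib.Invol.exists_conj_le_sylow
    ((D.zpowers_isPGroup.map (MulAut.conj g).toMonoidHom).comap_subtype (K := C)) T
  set n := (c : G) * g
  have hn : ∀ z ∈ Z, n * z * n⁻¹ ∈ Z := by
    intro z hz
    have h2 : (c : G) * (g * z * g⁻¹) * (c : G)⁻¹ ∈ Z := by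
      have := hc ⟨g * z * g⁻¹, hgZ ⟨z, hz, rfl⟩⟩ (Subgroup.mem_subgroupOf.2 ⟨z, hz, rfl⟩)
      change _ ∈ (T : Subgroup C) at this
      rw [hT, Subgroup.mem_subgroupOf] at this
      simpa using this
    rwa [show n * z * n⁻¹ = (c : G) * (g * z * g⁻¹) * (c : G)⁻¹ by simp only [n]; group]
  have hnN : n ∈ Subgroup.normalizer (Z : Set G) := by
    refine Subgroup.mem_normalizer_iff.2 fun z => ⟨hn z, fun hz => ?_⟩
    have hmap : Z.map (MulAut.conj n).toMonoidHom = Z := by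
      refine Subgroup.eq_of_le_of_card_ge (fun w ⟨y, hy, e⟩ => e ▸ hn y hy) ?_
      rw [Subgroup.card_map_of_injective (MulAut.conj n).injective]
    rw [← hmap] at hz
    obtain ⟨y, hy, e⟩ := hz
    have : y = z := (MulAut.conj n).injective e
    exact this ▸ hy
  have hcm : (c : G) * σ ^ m * (c : G)⁻¹ = σ ^ m :=
    mul_inv_eq_iff_eq_mul.2 (Subgroup.mem_centralizer_singleton_iff.1 c.2)
  have hnl : n * σ ^ l * n⁻¹ = σ ^ m := by
    rw [show n * σ ^ l * n⁻¹ = (c : G) * (g * σ ^ l * g⁻¹) * (c : G)⁻¹ by simp only [n]; group, hlm, hcm]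
  rw [← hnl, ← conj_pow]
  rcases D.conj_sigma hnN with e | e <;> rw [e]
  · exact Or.inl rfl
  · exact Or.inr (inv_pow σ l)

theorem le_centralizer_J : (P : Subgroup G) ≤ Subgroup.centralizer ({σ ^ h} : Set G) := fun _ hx =>
  Subgroup.mem_centralizer_singleton_iff.2 (D.J_comm hx).eq

theorem hasNormalPComplement_J :
    Cfsg.HasNormalPComplement 2 (Subgroup.centralizer ({σ ^ h} : Set G)) := by
  haveI : Fact (Nat.Prime 2) := ⟨Nat.prime_two⟩
  set C := Subgroup.centralizer ({σ ^ h} : Set G)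
  refine CfsgLib.Fusion.hasNormalPComplement_of_locallyPNilpotentAction (P.subtype D.le_centralizer_J) ?_
  intro Q hQ g hg hgo
  have hmem : ∀ {a : C}, a ∈ Q → (a : G) ∈ (P : Subgroup G) := fun ha => hQ ha
  have hodd : Odd (orderOf g) := Nat.coprime_two_right.1 hgo
  have hgJ : Commute (g : G) (σ ^ h) := Subgroup.mem_centralizer_singleton_iff.1 g.2
  have hcj : ∀ {a : C}, a ∈ Q → g * a * g⁻¹ ∈ Q := fun ha => (Subgroup.mem_normalizer_iff.1 hg _).1 ha
  -- `g` fixes the rotations in `Q`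
  have hrot : ∀ a ∈ Q, (∃ l : ℕ, (a : G) = σ ^ l) → g * a = a * g := by
    rintro a ha ⟨l, hl⟩
    by_cases hd : h ∣ l
    · refine Subtype.ext ?_
      show (g : G) * (a : G) = (a : G) * (g : G)
      rw [hl]
      by_cases h1 : σ ^ l = 1
      · rw [h1, mul_one, one_mul]
      · rw [D.eq_J h1 hd]; exact hgJ.eq
    · obtain ⟨m, hm⟩ := D.rot_of_sq (hmem (hcj ha)) (by
        rw [Subgroup.coe_mul, Subgroup.coe_mul, Subgroup.coe_inv, hl,
          show (g : G) * σ ^ l * (g : G)⁻¹ * ((g : G) * σ ^ l * (g : G)⁻¹) =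
            (g : G) * (σ ^ l * σ ^ l) * (g : G)⁻¹ by group, Ne, conj_eq_one_iff]
        exact (D.sq_ne_iff l).2 hd)
      rw [Subgroup.coe_mul, Subgroup.coe_mul, Subgroup.coe_inv, hl] at hm
      have h2 : Commute (g ^ 2) a := by
        refine Subtype.ext ?_
        show ((g ^ 2 : C) : G) * (a : G) = (a : G) * ((g ^ 2 : C) : G)
        rw [SubmonoidClass.coe_pow, hl, pow_two, ← mul_inv_eq_iff_eq_mul]
        rw [show (g : G) * g * σ ^ l * ((g : G) * g)⁻¹ = (g : G) * ((g : G) * σ ^ l * (g : G)⁻¹) * (g : G)⁻¹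
          by group, hm]
        rcases D.fusion hm with e | e <;> rw [e]
        · rw [hm, e]
        · rw [show (g : G) * (σ ^ l)⁻¹ * (g : G)⁻¹ = ((g : G) * σ ^ l * (g : G)⁻¹)⁻¹ by group, hm, e, inv_inv]
      obtain ⟨t, ht⟩ := hodd
      have h3 : g = (g ^ 2) ^ (t + 1) := by
        rw [← pow_mul, show 2 * (t + 1) = 2 * t + 1 + 1 by ring, ← ht, pow_succ, pow_orderOf_eq_one, one_mul]
      rw [h3]
      exact (h2.pow_left (t + 1)).eq
  refine Subgroup.mem_centralizer_iff.2 fun a ha => ?_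
  obtain ⟨l, hl | hl⟩ := D.cases _ (hmem ha)
  · exact (hrot a ha ⟨l, hl⟩).symm
  obtain ⟨m, hm | hm⟩ := D.cases _ (hmem (hcj ha))
  · exfalso
    have h1 := hrot _ (hcj ha) ⟨m, hm⟩
    have h2 : g * a * g⁻¹ = a := by
      have : g * (g * a * g⁻¹) = g * a := by rw [h1]; group
      exact mul_left_cancel this
    rw [h2, hl] at hm
    exact D.refl_not_rot l m hm
  set b := a⁻¹ * (g * a * g⁻¹) with hb
  have hbQ : b ∈ Q := mul_mem (inv_mem ha) (hcj ha)
  have hbrot : ∃ i : ℕ, (b : G) = σ ^ i := by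
    have : (b : G) = (σ ^ l)⁻¹ * σ ^ m := by
      rw [hb, Subgroup.coe_mul, Subgroup.coe_inv, hl, hm]
      group
    obtain ⟨i, hi⟩ := (mem_powers_iff_mem_zpowers (x := σ) (y := (b : G))).2
      (this ▸ mul_mem (inv_mem (Subgroup.npow_mem_zpowers σ l)) (Subgroup.npow_mem_zpowers σ m))
    exact ⟨i, hi.symm⟩
  have hgb : Commute g b := hrot b hbQ hbrot
  have hit : ∀ i : ℕ, g ^ i * a * (g ^ i)⁻¹ = a * b ^ i := by
    intro i
    induction i with
    | zero => simp
    | succ i ih =>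
      rw [pow_succ', show g * g ^ i * a * (g * g ^ i)⁻¹ = g * (g ^ i * a * (g ^ i)⁻¹) * g⁻¹ by group, ih,
        pow_succ', ← mul_assoc, show g * a * b ^ i * g⁻¹ = (g * a * g⁻¹) * (g * b ^ i * g⁻¹) by group,
        show g * b ^ i * g⁻¹ = b ^ i from mul_inv_eq_iff_eq_mul.2 (hgb.pow_right i).eq,
        show g * a * g⁻¹ = a * b by rw [hb]; group, mul_assoc]
  have hb1 : b = 1 := by
    have h1 := hit (orderOf g)
    rw [pow_orderOf_eq_one, one_mul, inv_one, mul_one, left_eq_mul] at h1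
    obtain ⟨k, hk⟩ := IsPGroup.iff_orderOf.1 P.2 ⟨_, hmem hbQ⟩
    rw [Subgroup.orderOf_mk, Subgroup.orderOf_coe] at hk
    refine orderOf_eq_one_iff.1 (Nat.eq_one_of_dvd_coprimes (hgo.pow_right k) ?_ (dvd_of_eq hk))
    exact orderOf_dvd_of_pow_eq_one h1
  rw [hb, inv_mul_eq_one] at hb1
  conv_lhs => rw [hb1]
  group

theorem hasNormalPComplement {l : ℕ} (h1 : σ ^ l ≠ 1) :
    Cfsg.HasNormalPComplement 2 (Subgroup.centralizer ({σ ^ l} : Set G)) := by
  by_cases hl : h ∣ l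
  · rw [D.eq_J h1 hl]; exact D.hasNormalPComplement_J
  haveI : Fact (Nat.Prime 2) := ⟨Nat.prime_two⟩
  obtain ⟨T, hT⟩ := D.exists_sylow hl
  refine CfsgLib.Invol.hasNormalPComplement_two_of_isCyclic T ?_
  rw [hT]
  exact (Subgroup.subgroupOfEquivOfLe (D.le_centralizer l)).isCyclic.2 (Subgroup.isCyclic_zpowers σ)

theorem exists_order_pow (l : ℕ) : ∃ k : ℕ, orderOf (σ ^ l) = 2 ^ k := by
  obtain ⟨k, hk⟩ := IsPGroup.iff_orderOf.1 P.2 ⟨σ ^ l, pow_mem D.memσ l⟩
  exact ⟨k, by rwa [Subgroup.orderOf_mk] at hk⟩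

/-- The order of the Sylow subgroups of the centralisers of the rotations. -/
theorem factorization_centralizer {l : ℕ} (h1 : σ ^ l ≠ 1) :
    2 ^ (Nat.card (Subgroup.centralizer ({σ ^ l} : Set G))).factorization 2 =
      if h ∣ l then 4 * h else 2 * h := by
  haveI : Fact (Nat.Prime 2) := ⟨Nat.prime_two⟩
  split_ifs with hl
  · rw [D.eq_J h1 hl, ← (P.subtype D.le_centralizer_J).card_eq_multiplicity]
    exact (Nat.card_congr (Subgroup.subgroupOfEquivOfLe D.le_centralizer_J).toEquiv).trans D.card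
  · obtain ⟨T, hT⟩ := D.exists_sylow hl
    rw [← T.card_eq_multiplicity]
    show Nat.card (T : Subgroup (Subgroup.centralizer ({σ ^ l} : Set G))) = _
    rw [hT,
      Nat.card_congr (Subgroup.subgroupOfEquivOfLe (D.le_centralizer l)).toEquiv, Nat.card_zpowers, D.orderσ]

variable {M : Ideal AlgInt} (hM : IsPModular 2 M)
include hM

/-- The principal block is constant on the section of a nontrivial rotation. -/
theorem value_eq {χ : IrrCharacter G} (hχ : χ ∈ principalBlock M G) {z : G} {l : ℕ}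
    (h1 : σ ^ l ≠ 1) (hz : IsPPart 2 z (σ ^ l)) : (χ : G → ℂ) z = (χ : G → ℂ) (σ ^ l) := by
  classical
  have := hM.2.1
  haveI : Fact (Nat.Prime 2) := ⟨Nat.prime_two⟩
  letI := Fintype.ofFinite G
  set C := Subgroup.centralizer ({σ ^ l} : Set G)
  have := Fintype.ofFinite C
  have := Fintype.ofFinite (IrrCharacter G)
  have := Fintype.ofFinite (IrrCharacter C)
  have := Fintype.ofFinite (ConjClasses C)
  obtain ⟨b, hb, hc, hyp, hb'⟩ := hz
  have hbC : b ∈ C := Subgroup.mem_centralizer_singleton_iff.mpr hc.eq.symm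
  have hC : ∀ t : G, t ∈ C ↔ Commute t (σ ^ l) := fun t => Subgroup.mem_centralizer_singleton_iff
  have hb2 : ¬ 2 ∣ orderOf (⟨b, hbC⟩ : C) := by rwa [← Subgroup.orderOf_coe]
  have h1' : ¬ 2 ∣ orderOf (1 : C) := by simp
  have e1 := Cyclic.secFun_principal_eq hM hyp hC hχ hb2
  have e2 := Cyclic.secFun_principal_eq hM hyp hC hχ h1'
  have e : blockPart (principalBlock M C) (secFun (σ ^ l) C χ) (⟨b, hbC⟩ : C) =
      blockPart (principalBlock M C) (secFun (σ ^ l) C χ) 1 := by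
    rw [blockPart_eq, blockPart_eq]
    exact Finset.sum_congr rfl fun η hη => by
      rw [irr_eq_one_of_regular hM (D.hasNormalPComplement h1) (Finset.mem_filter.mp hη).2 hb2]
  rw [← e1, ← e2] at e
  simp only [secFun, OneMemClass.coe_one, mul_one, hb] at e
  exact e

open scoped Classical in
/-- The orthogonality of the columns of the rotations. -/
theorem colSum {l m : ℕ} (hl : σ ^ l ≠ 1) :
    ∑ᶠ χ ∈ principalBlock M G, (χ : G → ℂ) (σ ^ l) * conj ((χ : G → ℂ) (σ ^ m)) =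
      (2 * h : ℂ) * ((if σ ^ m = σ ^ l then 1 else 0) + (if σ ^ m = (σ ^ l)⁻¹ then 1 else 0)) := by
  have := hM.2.1
  haveI : Fact (Nat.Prime 2) := ⟨Nat.prime_two⟩
  letI := Fintype.ofFinite G
  have := Fintype.ofFinite (IrrCharacter G)
  have hne : ∀ a : G, (∃ k : ℕ, orderOf a = 2 ^ k) → IsPPart 2 a a := fun a ha =>
    isPPart_one_mul ha (by norm_num)
  by_cases hc : IsConj (σ ^ l) (σ ^ m)
  · obtain ⟨g, hg⟩ := isConj_iff.1 hc
    set C := Subgroup.centralizer ({σ ^ l} : Set G)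
    have := Fintype.ofFinite C
    have := Fintype.ofFinite (IrrCharacter C)
    have := Fintype.ofFinite (ConjClasses C)
    have hs := sum_principal_secFun hM (C := C) (D.exists_order_pow l)
      (fun t => Subgroup.mem_centralizer_singleton_iff) (y := 1) (z := 1) (by simp) (by simp)
    simp only [OneMemClass.coe_one, mul_one] at hs
    have hrw : ∀ χ : IrrCharacter G, (χ : G → ℂ) (σ ^ m) = (χ : G → ℂ) (σ ^ l) := fun χ =>
      (Char.classFun_isConj (Char.isClassFunction_irr χ) hc).symm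
    simp only [hrw]
    rw [hs]
    simp only [Char.conj_irr_one]
    rw [finsum_mem_eq_toFinset_sum,
      show (principalBlock M C).toFinset = (principalBlock M C).toFinite.toFinset by ext; simp,
      sum_sq_principal_of_complement hM (D.hasNormalPComplement hl), D.factorization_centralizer hl]
    by_cases hd : h ∣ l
    · have hinv : (σ ^ l)⁻¹ = σ ^ l := by
        rw [D.eq_J hl hd]; exact inv_eq_of_mul_eq_one_right D.sigma_h_sq
      have hm' : σ ^ m = σ ^ l := by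
        rcases D.fusion hg with e | e
        · exact e
        · rw [e, hinv]
      rw [if_pos hd, if_pos hm', if_pos (hm'.trans hinv.symm)]
      push_cast; ring
    · have hinv : (σ ^ l)⁻¹ ≠ σ ^ l := fun e => (D.sq_ne_iff l).2 hd (by
        nth_rewrite 1 [← e]; exact inv_mul_cancel _)
      rw [if_neg hd]
      rcases D.fusion hg with e | e <;> rw [e]
      · rw [if_pos rfl, if_neg hinv.symm]; push_cast; ring
      · rw [if_pos rfl, if_neg hinv]; push_cast; ring
  · rw [blockUnion_orthogonal_conj hM (.of_isPBlock isPBlock_principalBlock) (hne _ (D.exists_order_pow l))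
      (hne _ (D.exists_order_pow m)) hc]
    have h1 : σ ^ m ≠ σ ^ l := fun e => hc (by rw [e])
    have h2 : σ ^ m ≠ (σ ^ l)⁻¹ := fun e => hc (isConj_iff.2 ⟨τ, by rw [D.conjτ, e]⟩)
    rw [if_neg h1, if_neg h2, add_zero, mul_zero]

end Finite

end Frame

end CfsgLib.Block.Dihedral
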