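import Cfsg.Agent.Lib.Block.DihedralShape
import Cfsg.Agent.Lib.Char.ClassMul

/-!
# Pairs of involutions with a rotation as the 2-part of the product

For a dihedral Sylow 2-subgroup with one class of involutions: the number of such pairs, once from
the class multiplication formula and the principal block (`pairs_formula`), once inside the
centraliser of the central involution (`exists_pair_data`).
-/

open Finset
open scoped ComplexConjugate

set_option autoImplicit false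
set_option linter.unusedSectionVars false
set_option linter.style.haveILetI false

namespace CfsgLib.Block.Dihedral

open Cfsg CfsgLib CfsgLib.Block

universe u

variable {G : Type u} [Group G] [Finite G]

/-- The pairs of involutions conjugate to `J` whose product has 2-part `v`. -/
def pairsAt (J v : G) : Set (G × G) :=
  {p | IsConj J p.1 ∧ IsConj J p.2 ∧ IsPPart 2 (p.1 * p.2) v}

/-- The number of regular elements of the centraliser. -/
noncomputable def regCard (x : G) : ℕ :=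
  Nat.card {y : Subgroup.centralizer ({x} : Set G) // ¬ 2 ∣ orderOf y}

theorem regCard_mul (x : G) (hc : Cfsg.HasNormalPComplement 2 (Subgroup.centralizer ({x} : Set G))) :
    regCard x * 2 ^ (Nat.card (Subgroup.centralizer ({x} : Set G))).factorization 2 =
      Nat.card (Subgroup.centralizer ({x} : Set G)) := by
  haveI : Fact (Nat.Prime 2) := ⟨Nat.prime_two⟩
  classical
  letI := Fintype.ofFinite G
  set C := Subgroup.centralizer ({x} : Set G)
  letI := Fintype.ofFinite C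
  letI := Fintype.ofFinite (IrrCharacter C)
  letI := Fintype.ofFinite (ConjClasses C)
  obtain ⟨S⟩ : Nonempty (Sylow 2 C) := inferInstance
  rw [← S.card_eq_multiplicity, regCard, Nat.card_congr (Equiv.subtypeEquivRight
    fun y : C => (mem_pResidual_iff_regular hc (g := y)).symm)]
  exact ((CfsgLib.Fusion.hasNormalPComplement_iff_forall_sylow).mp hc S).card_mul

variable {P : Sylow 2 G} {σ τ : G} {h : ℕ} {M : Ideal AlgInt}

namespace Frame

variable (D : Frame P σ τ h)
include D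

theorem regCard_pos {l : ℕ} (hl : σ ^ l ≠ 1) : 0 < regCard (σ ^ l) := by
  rcases Nat.eq_zero_or_pos (regCard (σ ^ l)) with h0 | h0
  · have := regCard_mul _ (D.hasNormalPComplement hl)
    rw [h0, zero_mul] at this
    exact absurd this.symm Nat.card_pos.ne'
  · exact h0

/-- Sums over a section: only the principal block contributes. -/
theorem sum_section (hM : IsPModular 2 M) {l : ℕ} (hl : σ ^ l ≠ 1) (χ : IrrCharacter G)
    [Fintype (Subgroup.centralizer ({σ ^ l} : Set G))] [Decidable (χ ∈ principalBlock M G)] :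
    ∑ y ∈ Finset.univ.filter (fun y : Subgroup.centralizer ({σ ^ l} : Set G) => ¬ 2 ∣ orderOf y),
      (χ : G → ℂ) (σ ^ l * (y : G)) =
    if χ ∈ principalBlock M G then (regCard (σ ^ l) : ℂ) * (χ : G → ℂ) (σ ^ l) else 0 := by
  classical
  haveI := hM.2.1
  haveI : Fact (Nat.Prime 2) := ⟨Nat.prime_two⟩
  letI := Fintype.ofFinite G
  have := Fintype.ofFinite (IrrCharacter G)
  set C := Subgroup.centralizer ({σ ^ l} : Set G) with hCdef
  have := Fintype.ofFinite (IrrCharacter C)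
  have := Fintype.ofFinite (ConjClasses C)
  have hC : ∀ t : G, t ∈ C ↔ Commute t (σ ^ l) := fun t => Subgroup.mem_centralizer_singleton_iff
  have hxp := D.exists_order_pow l
  split_ifs with hχ
  · have he : ∀ y ∈ Finset.univ.filter (fun y : C => ¬ 2 ∣ orderOf y),
        (χ : G → ℂ) (σ ^ l * (y : G)) = (χ : G → ℂ) (σ ^ l) := fun y hy =>
      D.value_eq hM hχ hl ⟨y, rfl, ((hC y).1 y.2).symm, hxp, by
        rw [Subgroup.orderOf_coe]; exact (Finset.mem_filter.1 hy).2⟩
    refine (Finset.sum_congr rfl fun y hy => he y (by simpa using hy)).trans ?_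
    rw [Finset.sum_const, nsmul_eq_mul, regCard, Nat.card_eq_fintype_card, Fintype.card_subtype]
    congr 3
    ext; simp
  · let T : Finset (Set (IrrCharacter C)) := Finset.univ.filter (fun b => IsPBlock M b)
    have hT : ∀ b, b ∈ T ↔ IsPBlock M b := fun b => by simp [T]
    rw [Finset.sum_congr rfl fun (y : C) _ => show (χ : G → ℂ) (σ ^ l * (y : G)) =
      ∑ b ∈ T, blockPart b (secFun (σ ^ l) C χ) y from
        secFun_eq_sum_blockPart hM (fun t => (hC t).1 t.2) χ y T hT, Finset.sum_comm]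
    refine Finset.sum_eq_zero fun b hb => ?_
    by_cases hb1 : b = principalBlock M C
    · subst hb1
      obtain ⟨B, hB⟩ := exists_induced_centralizer hM hxp hC (isPBlock_principalBlock (M := M) (G := C))
      obtain rfl := (isInducedBlock_principal_iff hM hB).mpr rfl
      exact Finset.sum_eq_zero fun y hy =>
        blockPart_secFun_eq_zero hM hxp hC hB hχ (Finset.mem_filter.1 hy).2
    · rw [Finset.sum_congr rfl fun y _ => blockPart_eq b (secFun (σ ^ l) C χ) y, Finset.sum_comm]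
      refine Finset.sum_eq_zero fun η hη => ?_
      have hη' := (Finset.mem_filter.1 hη).2
      have h1 : oneChar C ∉ b := fun h => hb1
        (isPBlock_eq_of_mem ((hT b).1 hb) isPBlock_principalBlock h one_mem_principalBlock)
      have h0 := regInner_eq_zero_of_not_mem hM (.of_isPBlock ((hT b).1 hb)) hη' h1
      have h2 := card_mul_regInner 2 η (oneChar C)
      rw [h0, mul_zero] at h2
      simp only [oneChar, mul_one] at h2
      rw [← Finset.mul_sum]
      convert mul_zero (classInner (secFun (σ ^ l) C χ) (η : C → ℂ))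
      rw [h2]
      exact Finset.sum_congr (by ext; simp) fun _ _ => rfl

/-- The class multiplication formula summed over the section. -/
theorem pairs_formula (hM : IsPModular 2 M) {l : ℕ} (hl : σ ^ l ≠ 1) :
    (Nat.card G : ℂ) * (Nat.card (pairsAt (σ ^ h) (σ ^ l)) : ℂ) =
      (Nat.card {x : G // IsConj (σ ^ h) x} : ℂ) ^ 2 * (regCard (σ ^ l) : ℂ) *
        ∑ᶠ χ ∈ principalBlock M G, (χ : G → ℂ) (σ ^ h) * (χ : G → ℂ) (σ ^ h) *
          conj ((χ : G → ℂ) (σ ^ l)) / (χ : G → ℂ) 1 := by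
  classical
  letI := Fintype.ofFinite G
  have := Fintype.ofFinite (IrrCharacter G)
  set C := Subgroup.centralizer ({σ ^ l} : Set G) with hCdef
  have := Fintype.ofFinite C
  set J := σ ^ h
  set x := σ ^ l
  obtain hxp := D.exists_order_pow l
  have hcount : Nat.card (pairsAt J x) =
      ∑ y ∈ Finset.univ.filter (fun y : C => ¬ 2 ∣ orderOf y), Char.classConst J J (x * (y : G)) := by
    rw [Finset.sum_subtype (p := fun y : C => ¬ 2 ∣ orderOf y) _ (fun y => by simp)]
    simp only [Char.classConst]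
    rw [← Nat.card_sigma]
    refine (Nat.card_eq_of_bijective (fun p => (⟨p.2.1, ?_⟩ : pairsAt J x)) ⟨?_, ?_⟩).symm
    · obtain ⟨⟨y, hy⟩, p, hp1, hp2, hp3⟩ := p
      exact ⟨hp1, hp2, (y : G), hp3.symm, (Subgroup.mem_centralizer_singleton_iff.1 y.2).symm, hxp,
        by rwa [Subgroup.orderOf_coe]⟩
    · rintro ⟨y, p⟩ ⟨y', p'⟩ e
      have e' : p.1 = p'.1 := congrArg Subtype.val e
      have hy : y = y' := Subtype.ext (Subtype.ext (mul_left_cancel
        (p.2.2.2.symm.trans ((congrArg (fun q : G × G => q.1 * q.2) e').trans p'.2.2.2))))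
      subst hy
      exact congrArg (Sigma.mk y) (Subtype.ext e')
    · rintro ⟨p, hp1, hp2, z, hz, hc, -, hz2⟩
      refine ⟨⟨⟨⟨z, Subgroup.mem_centralizer_singleton_iff.2 hc.eq.symm⟩, ?_⟩, ⟨p, hp1, hp2, hz.symm⟩⟩, rfl⟩
      rw [← Subgroup.orderOf_coe]
      exact hz2
  rw [hcount, Nat.cast_sum, finsum_mem_eq_toFinset_sum]
  simp only [Char.classConst_formula]
  rw [← Finset.mul_sum]
  simp only [finsum_eq_sum_of_fintype, ← Finset.sum_div, ← Finset.mul_sum]
  rw [Finset.sum_comm]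
  simp only [← Finset.sum_div, ← Finset.mul_sum, ← map_sum]
  rw [Finset.sum_congr rfl fun χ _ => by rw [D.sum_section hM hl χ]]
  simp only [apply_ite (starRingEnd ℂ), map_zero, mul_ite, mul_zero, ite_div, zero_div, map_mul, map_natCast]
  rw [← Finset.sum_filter,
    show (Finset.univ.filter fun χ : IrrCharacter G => χ ∈ principalBlock M G) =
      (principalBlock M G).toFinset by ext; simp]
  have hG : (Nat.card G : ℂ) ≠ 0 := Nat.cast_ne_zero.mpr Nat.card_pos.ne'
  rw [Finset.mul_sum, Finset.mul_sum, Finset.mul_sum]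
  refine Finset.sum_congr rfl fun χ _ => ?_
  field_simp
  rfl

/-- With the involutions fused: an involution of `G` is conjugate to the central one. -/
theorem isConj_J (hτ : IsConj (σ ^ h) τ) (hτσ : IsConj (σ ^ h) (τ * σ)) {a : G} :
    IsConj (σ ^ h) a ↔ a * a = 1 ∧ a ≠ 1 := by
  haveI : Fact (Nat.Prime 2) := ⟨Nat.prime_two⟩
  constructor
  · intro hc
    obtain ⟨c, rfl⟩ := isConj_iff.1 hc
    refine ⟨?_, fun e => D.sigma_h_ne (conj_eq_one_iff.1 e)⟩
    rw [show c * σ ^ h * c⁻¹ * (c * σ ^ h * c⁻¹) = c * (σ ^ h * σ ^ h) * c⁻¹ by group, D.sigma_h_sq]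
    group
  · rintro ⟨ha, ha1⟩
    have hz : IsPGroup 2 (Subgroup.zpowers a) := IsPGroup.of_card (n := 1) (by
      rw [Nat.card_zpowers, pow_one, orderOf_eq_prime_iff]; exact ⟨by rwa [pow_two], ha1⟩)
    obtain ⟨g, hg⟩ := CfsgLib.Invol.exists_conj_le_sylow hz P
    refine IsConj.trans ?_ (isConj_iff.2 ⟨g, rfl⟩ : IsConj a (g * a * g⁻¹)).symm
    have hsq : g * a * g⁻¹ * (g * a * g⁻¹) = 1 := by
      rw [show g * a * g⁻¹ * (g * a * g⁻¹) = g * (a * a) * g⁻¹ by group, ha]; group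
    have hne : g * a * g⁻¹ ≠ 1 := fun e => ha1 (conj_eq_one_iff.1 e)
    obtain ⟨i, e | e⟩ := D.cases _ (hg a (Subgroup.mem_zpowers a))
    · rw [e] at hsq hne ⊢
      rw [D.eq_J hne (by by_contra hd; exact (D.sq_ne_iff i).2 hd hsq)]
    · rw [e]
      obtain ⟨k, rfl | rfl⟩ := Nat.even_or_odd' i
      · refine hτ.trans (isConj_iff.2 ⟨(σ ^ k)⁻¹, ?_⟩)
        calc (σ ^ k)⁻¹ * τ * (σ ^ k)⁻¹⁻¹ = (τ * σ ^ k * τ⁻¹) * τ * σ ^ k := by rw [D.conjτ]; group
          _ = τ * σ ^ (2 * k) := by group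
      · refine hτσ.trans (isConj_iff.2 ⟨(σ ^ k)⁻¹, ?_⟩)
        calc (σ ^ k)⁻¹ * (τ * σ) * (σ ^ k)⁻¹⁻¹ = (τ * σ ^ k * τ⁻¹) * τ * σ * σ ^ k := by rw [D.conjτ]; group
          _ = τ * σ ^ (2 * k + 1) := by group

/-- A retraction of `C(J)` onto `P` whose kernel consists of the regular elements. -/
theorem exists_retraction : ∃ π : Subgroup.centralizer ({σ ^ h} : Set G) →* G,
    (∀ x, π x ∈ (P : Subgroup G)) ∧
    (∀ x : Subgroup.centralizer ({σ ^ h} : Set G), (x : G) ∈ (P : Subgroup G) → π x = (x : G)) ∧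
    ∀ x, π x = 1 ↔ ¬ 2 ∣ orderOf x := by
  classical
  haveI : Fact (Nat.Prime 2) := ⟨Nat.prime_two⟩
  set H := Subgroup.centralizer ({σ ^ h} : Set G)
  letI := Fintype.ofFinite G
  letI := Fintype.ofFinite H
  letI := Fintype.ofFinite (IrrCharacter H)
  letI := Fintype.ofFinite (ConjClasses H)
  set P' : Sylow 2 H := P.subtype D.le_centralizer_J
  haveI := CfsgLib.Fusion.pResidual_normal (G := H) (p := 2)
  set K := Cfsg.pResidual 2 H
  have hc : K.IsComplement' (P' : Subgroup H) :=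
    CfsgLib.Fusion.hasNormalPComplement_iff_forall_sylow.mp D.hasNormalPComplement_J P'
  set f := (QuotientGroup.mk' K).comp (P' : Subgroup H).subtype
  have hinj : Function.Injective f := by
    rw [← MonoidHom.ker_eq_bot_iff, eq_bot_iff]
    intro p hp
    exact Subgroup.mem_bot.2 (Subtype.ext (Subgroup.mem_bot.1
      (hc.disjoint.le_bot ⟨(QuotientGroup.eq_one_iff _).1 hp, p.2⟩)))
  have hbij : Function.Bijective f := by
    refine ⟨hinj, ((Nat.bijective_iff_injective_and_card f).2 ⟨hinj, ?_⟩).2⟩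
    rw [← Subgroup.index_eq_card, hc.symm.index_eq_card]
  let e := MulEquiv.ofBijective f hbij
  refine ⟨(H.subtype.comp (P' : Subgroup H).subtype).comp
    (e.symm.toMonoidHom.comp (QuotientGroup.mk' K)), fun x => ?_, fun x hx => ?_, fun x => ?_⟩
  · exact (e.symm (QuotientGroup.mk' K x)).2
  · show ((e.symm (QuotientGroup.mk' K x) : (P' : Subgroup H)) : H).1 = _
    have h1 : e ⟨x, hx⟩ = QuotientGroup.mk' K x := rfl
    rw [← h1, e.symm_apply_apply]
  · rw [← mem_pResidual_iff_regular D.hasNormalPComplement_J]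
    show ((e.symm (QuotientGroup.mk' K x) : (P' : Subgroup H)) : H).1 = 1 ↔ _
    rw [OneMemClass.coe_eq_one, OneMemClass.coe_eq_one, MulEquiv.map_eq_one_iff, QuotientGroup.mk'_apply,
      QuotientGroup.eq_one_iff]

theorem sigma_pow_eq_iff {i j : ℕ} : σ ^ i = σ ^ j ↔ i % (2 * h) = j % (2 * h) := by
  rw [pow_eq_pow_iff_modEq, D.orderσ]; rfl

/-- The counts inside the centraliser of the central involution. -/
theorem exists_pair_data (hτ : IsConj (σ ^ h) τ) (hτσ : IsConj (σ ^ h) (τ * σ)) :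
    ∃ F₀ F₁ : ℕ,
      h * F₀ * Nat.card (Subgroup.centralizer ({σ ^ h, τ} : Set G)) =
        Nat.card (Subgroup.centralizer ({σ ^ h} : Set G)) ∧
      h * F₁ * Nat.card (Subgroup.centralizer ({σ ^ h, σ * τ} : Set G)) =
        Nat.card (Subgroup.centralizer ({σ ^ h} : Set G)) ∧
      Nat.card (pairsAt (σ ^ h) (σ ^ h)) = h * (F₀ ^ 2 + F₁ ^ 2) ∧
      regCard (σ ^ h) * Nat.card (pairsAt (σ ^ h) σ) = 2 * h * F₀ * F₁ * regCard σ := by
  classical
  haveI : Fact (Nat.Prime 2) := ⟨Nat.prime_two⟩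
  set H := Subgroup.centralizer ({σ ^ h} : Set G) with hH
  obtain ⟨π, hπP, hπfix, hπ1⟩ : ∃ π : H →* G, (∀ x, π x ∈ (P : Subgroup G)) ∧
    (∀ x : H, (x : G) ∈ (P : Subgroup G) → π x = (x : G)) ∧ ∀ x, π x = 1 ↔ ¬ 2 ∣ orderOf x :=
    D.exists_retraction
  have h2h := D.two_le
  have hHmem : ∀ {x : G}, x ∈ H ↔ Commute x (σ ^ h) := Subgroup.mem_centralizer_singleton_iff
  have hPH : ∀ {x : G}, x ∈ (P : Subgroup G) → x ∈ H := fun hx => D.le_centralizer_J hx
  have hrefP : ∀ i : ℕ, τ * σ ^ i ∈ (P : Subgroup G) := fun i => mul_mem D.memτ (pow_mem D.memσ i)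
  let A : G → Type u := fun r => {a : H // a * a = 1 ∧ π a = r}
  have hconjA : ∀ p ∈ (P : Subgroup G), ∀ r, Nat.card (A r) = Nat.card (A (p * r * p⁻¹)) := by
    intro p hp r
    refine Nat.card_congr (Equiv.subtypeEquiv (MulAut.conj (⟨p, hPH hp⟩ : H)).toEquiv fun a => ?_)
    show _ ↔ (⟨p, hPH hp⟩ * a * ⟨p, hPH hp⟩⁻¹) * (⟨p, hPH hp⟩ * a * ⟨p, hPH hp⟩⁻¹) = 1 ∧
      π (⟨p, hPH hp⟩ * a * ⟨p, hPH hp⟩⁻¹) = p * r * p⁻¹
    rw [map_mul, map_mul, map_inv, hπfix ⟨p, hPH hp⟩ hp, mul_left_inj, mul_right_inj]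
    refine and_congr_left fun _ => ?_
    rw [show (⟨p, hPH hp⟩ : H) * a * ⟨p, hPH hp⟩⁻¹ * (⟨p, hPH hp⟩ * a * ⟨p, hPH hp⟩⁻¹) =
      ⟨p, hPH hp⟩ * (a * a) * ⟨p, hPH hp⟩⁻¹ by group, conj_eq_one_iff]
  set F : ℕ → ℕ := fun i => Nat.card (A (τ * σ ^ i)) with hF
  have hshift : ∀ i, F i = F (i + 2) := fun i => by
    refine (hconjA σ⁻¹ (inv_mem D.memσ) _).trans (congrArg (fun r => Nat.card (A r)) ?_)
    calc σ⁻¹ * (τ * σ ^ i) * σ⁻¹⁻¹ = (τ * σ * τ⁻¹) * τ * σ ^ i * σ := by rw [D.rel]; group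
      _ = τ * σ ^ (i + 2) := by group
  have hpar : ∀ i, F i = F (i % 2) := by
    intro i
    induction i using Nat.strong_induction_on with
    | _ i ih =>
      rcases i with _ | _ | i
      · rfl
      · rfl
      · rw [← hshift, ih i (by omega)]; congr 1; omega
  -- the 2-part in the centraliser
  have hπpart : ∀ (x v : H), IsPPart 2 (x : G) (v : G) → π x = π v := by
    rintro x v ⟨y, hy, -, -, hy2⟩
    have : x = v * (⟨y, by
        have : y = (v : G)⁻¹ * x := by rw [← hy, inv_mul_cancel_left]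
        rw [this]; exact mul_mem (inv_mem v.2) x.2⟩ : H) := Subtype.ext hy.symm
    rw [this, map_mul, (hπ1 ⟨y, _⟩).2 (by rw [← Subgroup.orderOf_coe]; exact hy2), mul_one]
  have hrefl : ∀ a : H, a * a = 1 → a ≠ 1 → (a : G) ≠ σ ^ h → ∃ i, i < 2 * h ∧ π a = τ * σ ^ i := by
    intro a ha ha1 haJ
    have hsq : π a * π a = 1 := by rw [← map_mul, ha, map_one]
    have hne : π a ≠ 1 := fun e => by
      have h2 : orderOf a = 2 := orderOf_eq_prime_iff.2 ⟨by rwa [pow_two], ha1⟩
      exact (hπ1 a).1 e (h2 ▸ dvd_rfl)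
    obtain ⟨i, e | e⟩ := D.cases _ (hπP a)
    · exfalso
      rw [e] at hsq hne
      have hJ := D.eq_J hne (by by_contra hd; exact (D.sq_ne_iff i).2 hd hsq)
      set j : H := ⟨σ ^ h, hHmem.2 (Commute.refl _)⟩
      have hj : π (a * j) = 1 := by
        rw [map_mul, hπfix j (pow_mem D.memσ h), e, hJ, D.sigma_h_sq]
      have hc : Commute a j := Subtype.ext (hHmem.1 a.2)
      have h1 : a * j * (a * j) = 1 := by
        rw [mul_assoc a j, ← mul_assoc j a, ← hc.eq, mul_assoc a j, ← mul_assoc a a, ha, one_mul]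
        exact Subtype.ext D.sigma_h_sq
      by_cases haj : a * j = 1
      · refine haJ ?_
        have := congrArg Subtype.val (eq_inv_of_mul_eq_one_left haj)
        rw [Subgroup.coe_inv] at this
        rw [this]
        exact inv_eq_of_mul_eq_one_right D.sigma_h_sq
      · exact (hπ1 _).1 hj (dvd_of_eq (orderOf_eq_prime_iff.2 ⟨by rwa [pow_two], haj⟩).symm)
    · refine ⟨i % (2 * h), Nat.mod_lt _ (by omega), ?_⟩
      rw [e, D.sigma_pow_eq_iff.2 (Nat.mod_mod i (2 * h)).symm]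
  have hreflinj : ∀ i j, i < 2 * h → j < 2 * h → τ * σ ^ i = τ * σ ^ j → i = j := by
    intro i j hi hj e
    have := D.sigma_pow_eq_iff.1 (mul_left_cancel e)
    rwa [Nat.mod_eq_of_lt hi, Nat.mod_eq_of_lt hj] at this
  -- classes of reflections
  have hclass : ∀ e : ℕ, h * F e * Nat.card (Subgroup.centralizer ({σ ^ h, τ * σ ^ e} : Set G)) = Nat.card H := by
    intro e
    set r : H := ⟨τ * σ ^ e, hPH (hrefP e)⟩
    have hr : π r = τ * σ ^ e := hπfix r (hrefP e)
    let g : (Σ k : Fin h, A (τ * σ ^ (e + 2 * (k : ℕ)))) → H := fun ka => ka.2.1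
    have hg : Function.Injective g := by
      rintro ⟨k, a⟩ ⟨k', a'⟩ hk
      have hk1 : τ * σ ^ (e + 2 * (k : ℕ)) = τ * σ ^ (e + 2 * (k' : ℕ)) := by
        rw [← a.2.2, ← a'.2.2]; exact congrArg π hk
      have hk2 := D.sigma_pow_eq_iff.1 (mul_left_cancel hk1)
      have hk3 : 2 * (k : ℕ) ≡ 2 * (k' : ℕ) [MOD 2 * h] := Nat.ModEq.add_left_cancel' e hk2
      obtain rfl : k = k' := Fin.ext (by
        have := k.2; have := k'.2
        rw [Nat.ModEq, Nat.mod_eq_of_lt (by omega), Nat.mod_eq_of_lt (by omega)] at hk3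
        omega)
      exact congrArg (Sigma.mk k) (Subtype.ext hk)
    have hrange : Set.range g = {a : H | IsConj r a} := by
      ext a
      constructor
      · rintro ⟨⟨k, b⟩, rfl⟩
        show IsConj r b.1
        obtain ⟨hb, hπb⟩ := b.2
        have hb1 : b.1 ≠ 1 := fun e' => D.refl_not_rot (e + 2 * (k : ℕ)) 0 (by
          rw [pow_zero, ← hπb, e', map_one])
        obtain ⟨c, hc⟩ := CfsgLib.Invol.exists_conj_le_sylow (Q := Subgroup.zpowers b.1)
          (IsPGroup.of_card (n := 1) (by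
            rw [Nat.card_zpowers, pow_one, orderOf_eq_prime_iff]; exact ⟨by rwa [pow_two], hb1⟩))
          (P.subtype D.le_centralizer_J)
        have hcP : ((c * b.1 * c⁻¹ : H) : G) ∈ (P : Subgroup G) := hc b.1 (Subgroup.mem_zpowers _)
        have hv := hπfix (c * b.1 * c⁻¹) hcP
        rw [map_mul, map_mul, map_inv, hπb] at hv
        refine IsConj.trans ?_ (isConj_iff.2 ⟨c, rfl⟩ : IsConj b.1 (c * b.1 * c⁻¹)).symm
        have : ∃ d ∈ (P : Subgroup G), ((c * b.1 * c⁻¹ : H) : G) = d * (τ * σ ^ e) * d⁻¹ := by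
          refine ⟨π c * (σ ^ (k : ℕ))⁻¹, mul_mem (hπP c) (inv_mem (pow_mem D.memσ _)), ?_⟩
          rw [← hv]
          calc π c * (τ * σ ^ (e + 2 * (k : ℕ))) * (π c)⁻¹
              = π c * ((τ * σ ^ (k : ℕ) * τ⁻¹) * (τ * σ ^ e) * σ ^ (k : ℕ)) * (π c)⁻¹ := by group
            _ = π c * (σ ^ (k : ℕ))⁻¹ * (τ * σ ^ e) * (π c * (σ ^ (k : ℕ))⁻¹)⁻¹ := by rw [D.conjτ]; group
        obtain ⟨d, hd, hde⟩ := this
        exact isConj_iff.2 ⟨⟨d, hPH hd⟩, Subtype.ext hde.symm⟩
      · intro ha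
        obtain ⟨c, rfl⟩ := isConj_iff.1 (ha : IsConj r a)
        have hsq : c * r * c⁻¹ * (c * r * c⁻¹) = 1 := by
          rw [show c * r * c⁻¹ * (c * r * c⁻¹) = c * (r * r) * c⁻¹ by group, conj_eq_one_iff]
          exact Subtype.ext (D.refl_sq e)
        obtain ⟨m, hm⟩ : ∃ m : ℕ, π (c * r * c⁻¹) = τ * σ ^ (e + 2 * m) := by
          rw [map_mul, map_mul, map_inv, hr]
          obtain ⟨m, hm | hm⟩ := D.cases _ (hπP c)
          · refine ⟨2 * h * m - m, ?_⟩
            rw [hm, show σ ^ m * (τ * σ ^ e) * (σ ^ m)⁻¹ = τ * ((τ⁻¹ * σ ^ m * τ) * (σ ^ e * (σ ^ m)⁻¹)) by group]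
            congr 1
            rw [show τ⁻¹ * σ ^ m * τ = (σ ^ m)⁻¹ by rw [← D.conjτ, D.τ_inv]]
            have h1 : σ ^ (2 * h * m - m) = (σ ^ m)⁻¹ := eq_inv_of_mul_eq_one_left (by
              rw [← pow_add, Nat.sub_add_cancel (Nat.le_mul_of_pos_left m (by omega)), pow_mul,
                D.pow_eq_one.2 dvd_rfl, one_pow])
            rw [two_mul (2 * h * m - m), pow_add, pow_add, h1]
            group
          · obtain ⟨he, hm2⟩ : e ≤ 2 * h * (e + 1) ∧ m ≤ 2 * h * (m + 1) := ⟨by nlinarith, by nlinarith⟩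
            refine ⟨(2 * h * (e + 1) - e) + m, ?_⟩
            rw [hm, show τ * σ ^ m * (τ * σ ^ e) * (τ * σ ^ m)⁻¹ =
              τ * ((σ ^ m) * (τ * (σ ^ e * (σ ^ m)⁻¹) * τ⁻¹)) by group]
            congr 1
            have h1 : σ ^ (2 * h * (e + 1) - e) = (σ ^ e)⁻¹ := eq_inv_of_mul_eq_one_left (by
              rw [← pow_add, Nat.sub_add_cancel he, pow_mul, D.pow_eq_one.2 dvd_rfl, one_pow])
            rw [show τ * (σ ^ e * (σ ^ m)⁻¹) * τ⁻¹ = (τ * σ ^ e * τ⁻¹) * (τ * σ ^ m * τ⁻¹)⁻¹ by group,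
              D.conjτ, D.conjτ, inv_inv, two_mul ((2 * h * (e + 1) - e) + m), pow_add, pow_add, pow_add, h1]
            group
        have hm' : τ * σ ^ (e + 2 * m) = τ * σ ^ (e + 2 * (m % h)) := by
          rw [D.sigma_pow_eq_iff.2]
          rw [← Nat.mul_mod_mul_left]
          exact (Nat.add_mod_mod e (2 * m) (2 * h)).symm
        exact ⟨⟨⟨m % h, Nat.mod_lt _ (by omega)⟩, ⟨c * r * c⁻¹, hsq, hm.trans hm'⟩⟩, rfl⟩
    have hcardσ : Nat.card (Σ k : Fin h, A (τ * σ ^ (e + 2 * (k : ℕ)))) = h * F e := by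
      rw [Nat.card_sigma, Finset.sum_congr rfl (g := fun _ => F e) fun k _ => ?_, Finset.sum_const,
        Finset.card_univ, Fintype.card_fin, smul_eq_mul]
      show F (e + 2 * (k : ℕ)) = F e
      rw [hpar, hpar e]; congr 1; omega
    have hcard : h * F e = (Subgroup.centralizer ({r} : Set H)).index := by
      rw [← hcardσ, ← Nat.card_range_of_injective hg, hrange, ← Char.card_isConj]
      rfl
    rw [hcard, ← Subgroup.index_mul_card (Subgroup.centralizer ({r} : Set H))]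
    congr 1
    refine Nat.card_congr
      { toFun := fun t => ⟨⟨t, hHmem.2 (Subgroup.mem_centralizer_iff.1 t.2 _ (Set.mem_insert _ _)).symm⟩,
          Subgroup.mem_centralizer_singleton_iff.2 (Subtype.ext
            (Subgroup.mem_centralizer_iff.1 t.2 _ (Set.mem_insert_of_mem _ rfl)).symm)⟩
        invFun := fun t => ⟨((t : H) : G), Subgroup.mem_centralizer_iff.2 (by
          rintro s (rfl | rfl)
          · exact (hHmem.1 (t : H).2).symm.eq
          · exact (congrArg Subtype.val (Subgroup.mem_centralizer_singleton_iff.1 t.2)).symm)⟩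
        left_inv := fun t => rfl
        right_inv := fun t => rfl }
  -- pairs lie in the centraliser
  have hmemH : ∀ {v : G} {n : ℕ}, v ^ n = σ ^ h → ∀ p ∈ pairsAt (σ ^ h) v,
      p.1 ∈ H ∧ p.2 ∈ H ∧ p.1 ≠ σ ^ h ∧ p.2 ≠ σ ^ h ∨ (v * v = 1 ∧ (p.1 = σ ^ h ∨ p.2 = σ ^ h)) := by
    intro v n hv p hp
    obtain ⟨hpa, hpb, hpart⟩ := hp
    obtain ⟨ha, -⟩ := (D.isConj_J hτ hτσ).1 hpa
    obtain ⟨hb, -⟩ := (D.isConj_J hτ hτσ).1 hpb
    have hai : p.1⁻¹ = p.1 := inv_eq_of_mul_eq_one_right ha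
    have hbi : p.2⁻¹ = p.2 := inv_eq_of_mul_eq_one_right hb
    obtain ⟨y, hy, hc, hvp, hy2⟩ := hpart
    have hinv : IsPPart 2 (p.1 * p.2)⁻¹ v⁻¹ := ⟨y⁻¹, by rw [← hy, mul_inv_rev, hc.inv_inv.eq],
      hc.inv_inv, by simpa [orderOf_inv] using hvp, by rwa [orderOf_inv]⟩
    have h1 := isPPart_conj ⟨y, hy, hc, hvp, hy2⟩ p.1
    rw [show p.1 * (p.1 * p.2) * p.1⁻¹ = (p.1 * p.2)⁻¹ by
      rw [mul_inv_rev, hbi, hai, ← mul_assoc, ha, one_mul]] at h1
    have hav : p.1 * v * p.1⁻¹ = v⁻¹ := isPPart_unique Nat.prime_two h1 hinv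
    have haJ : Commute p.1 (σ ^ h) := by
      refine mul_inv_eq_iff_eq_mul.1 ?_
      rw [← hv, ← conj_pow, hav, inv_pow, hv]
      exact inv_eq_of_mul_eq_one_right D.sigma_h_sq
    have habJ : Commute (p.1 * p.2) (σ ^ h) := by
      rw [← hv, ← hy]
      exact (Commute.mul_left (Commute.refl v) hc.symm).pow_right n
    have hbJ : Commute p.2 (σ ^ h) := by
      have := haJ.inv_left.mul_left habJ
      rwa [inv_mul_cancel_left] at this
    by_cases h1' : p.1 = σ ^ h ∨ p.2 = σ ^ h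
    · refine Or.inr ⟨?_, h1'⟩
      have hg2 : (p.1 * p.2) * (p.1 * p.2) = 1 := by
        rcases h1' with e | e
        · rw [e, mul_assoc, ← mul_assoc p.2, hbJ.eq, mul_assoc, hb, mul_one, D.sigma_h_sq]
        · rw [e, mul_assoc, ← mul_assoc (σ ^ h), ← haJ.eq, mul_assoc, D.sigma_h_sq, mul_one, ha]
      have hsq : IsPPart 2 ((p.1 * p.2) * (p.1 * p.2)) (v * v) := by
        refine ⟨y * y, ?_, (hc.mul_right hc).mul_left (hc.mul_right hc), ?_, fun hd => hy2 ?_⟩
        · rw [← hy, hc.mul_mul_mul_comm]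
        · obtain ⟨k, hk⟩ := hvp
          obtain ⟨i, -, hi⟩ := (Nat.dvd_prime_pow Nat.prime_two).1
            (hk ▸ orderOf_dvd_of_pow_eq_one (show (v * v) ^ orderOf v = 1 by
              rw [← pow_two, ← pow_mul, mul_comm, pow_mul, pow_orderOf_eq_one, one_pow]) : orderOf (v * v) ∣ 2 ^ k)
          exact ⟨i, hi⟩
        · exact hd.trans (orderOf_dvd_of_pow_eq_one (by
            rw [← pow_two, ← pow_mul, mul_comm, pow_mul, pow_orderOf_eq_one, one_pow]))
      rw [hg2] at hsq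
      exact isPPart_unique Nat.prime_two hsq (isPPart_one_of_not_dvd (by simp))
    · push Not at h1'
      exact Or.inl ⟨hHmem.2 haJ, hHmem.2 hbJ, h1'.1, h1'.2⟩
  -- pairs in the centraliser, by their images
  have hπJ : π ⟨σ ^ h, hHmem.2 (Commute.refl _)⟩ = σ ^ h := hπfix _ (pow_mem D.memσ h)
  let T : G → Set (G × G) := fun t => {p | ∃ a b : H, (a : G) = p.1 ∧ (b : G) = p.2 ∧ a * a = 1 ∧ b * b = 1 ∧
    π a * π b = t ∧ ∃ i < 2 * h, π a = τ * σ ^ i}
  have hTcard : ∀ d, Nat.card (T (σ ^ d)) = ∑ i : Fin (2 * h), F i * F ((i : ℕ) + d) := by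
    intro d
    have hmul : ∀ i, τ * σ ^ i * (τ * σ ^ (i + d)) = σ ^ d := fun i => by
      rw [pow_add, ← mul_assoc τ (σ ^ i) (σ ^ d), ← mul_assoc, D.refl_sq, one_mul]
    rw [Finset.sum_congr rfl (g := fun i : Fin (2 * h) =>
      Nat.card (A (τ * σ ^ (i : ℕ)) × A (τ * σ ^ ((i : ℕ) + d)))) fun i _ => by rw [Nat.card_prod],
      ← Nat.card_sigma]
    refine (Nat.card_eq_of_bijective (fun x => (⟨((x.2.1.1 : G), (x.2.2.1 : G)), x.2.1.1, x.2.2.1, rfl, rfl,
      x.2.1.2.1, x.2.2.2.1, by rw [x.2.1.2.2, x.2.2.2.2, hmul], x.1, x.1.2, x.2.1.2.2⟩ : T (σ ^ d)))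
      ⟨?_, ?_⟩).symm
    · rintro ⟨i, a, b⟩ ⟨i', a', b'⟩ e
      have e' := congrArg Subtype.val e
      have ea : a.1 = a'.1 := Subtype.ext (congrArg Prod.fst e')
      have eb : b.1 = b'.1 := Subtype.ext (congrArg Prod.snd e')
      obtain rfl : i = i' := Fin.ext (hreflinj _ _ i.2 i'.2 (by rw [← a.2.2, ← a'.2.2, ea]))
      exact congrArg (Sigma.mk i) (Prod.ext (Subtype.ext ea) (Subtype.ext eb))
    · rintro ⟨p, a, b, ha', hb', ha, hb, hab, i, hi, hai⟩
      refine ⟨⟨⟨i, hi⟩, ⟨a, ha, hai⟩, ⟨b, hb, ?_⟩⟩, Subtype.ext (Prod.ext ha' hb')⟩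
      rw [hai] at hab
      exact mul_left_cancel (hab.trans (hmul i).symm)
  have hFev : ∀ i, F i = if i % 2 = 0 then F 0 else F 1 := by
    intro i
    rw [hpar]
    split_ifs with hi
    · rw [hi]
    · rw [Nat.mod_two_ne_zero.1 hi]
  have hsumF : ∀ d, ∑ i : Fin (2 * h), F i * F ((i : ℕ) + d) =
      if d % 2 = 0 then h * (F 0 ^ 2 + F 1 ^ 2) else 2 * h * F 0 * F 1 := by
    intro d
    have hpairs : ∀ (f : ℕ → ℕ) (m : ℕ), ∑ i ∈ Finset.range (2 * m), f i =
        ∑ k ∈ Finset.range m, (f (2 * k) + f (2 * k + 1)) := by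
      intro f m
      induction m with
      | zero => simp
      | succ m ih => rw [Finset.sum_range_succ _ m, ← ih, Nat.mul_succ, Finset.sum_range_succ,
          Finset.sum_range_succ, add_assoc]
    rw [Fin.sum_univ_eq_sum_range (fun i => F i * F (i + d)), hpairs,
      Finset.sum_congr rfl (g := fun _ => if d % 2 = 0 then F 0 ^ 2 + F 1 ^ 2 else 2 * F 0 * F 1)
        fun k _ => ?_, Finset.sum_const, Finset.card_range, smul_eq_mul]
    · split_ifs <;> ring
    · rw [hFev (2 * k), hFev (2 * k + d), hFev (2 * k + 1), hFev (2 * k + 1 + d)]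
      split_ifs <;> first | (exfalso; omega) | ring
  have hTmem : ∀ (v : G) (hvH : v ∈ H), ∀ p : G × G, p.1 ∈ H → p.2 ∈ H → p.1 ≠ σ ^ h →
      p ∈ pairsAt (σ ^ h) v → p ∈ T (π ⟨v, hvH⟩) := by
    intro v hvH p h1 h2 h3 hp
    obtain ⟨ha, ha1⟩ := (D.isConj_J hτ hτσ).1 hp.1
    obtain ⟨hb, -⟩ := (D.isConj_J hτ hτσ).1 hp.2.1
    refine ⟨⟨p.1, h1⟩, ⟨p.2, h2⟩, rfl, rfl, Subtype.ext ha, Subtype.ext hb, ?_, ?_⟩
    · rw [← map_mul]; exact hπpart _ ⟨v, hvH⟩ hp.2.2
    · exact hrefl _ (Subtype.ext ha) (fun e => ha1 (congrArg Subtype.val e)) h3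
  have hTconj : ∀ (d : ℕ) (p : G × G), p ∈ T (σ ^ d) → IsConj (σ ^ h) p.1 ∧ IsConj (σ ^ h) p.2 := by
    rintro d ⟨_, _⟩ ⟨a, b, rfl, rfl, ha, hb, hab, i, -, hai⟩
    refine ⟨(D.isConj_J hτ hτσ).2 ⟨congrArg Subtype.val ha, fun e => ?_⟩,
      (D.isConj_J hτ hτσ).2 ⟨congrArg Subtype.val hb, fun e => ?_⟩⟩
    · rw [show a = 1 from Subtype.ext e, map_one] at hai
      exact D.refl_not_rot i 0 (by rw [pow_zero, ← hai])
    · rw [show b = 1 from Subtype.ext e, map_one, mul_one, hai] at hab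
      exact D.refl_not_rot i d hab
  refine ⟨F 0, F 1, ?_, ?_, ?_, ?_⟩
  · simpa using hclass 0
  · have e := hclass (2 * h - 1)
    rw [show F (2 * h - 1) = F 1 by rw [hFev, if_neg (by omega)]] at e
    rw [show τ * σ ^ (2 * h - 1) = σ * τ by
      have h1 : σ ^ (2 * h - 1) = σ⁻¹ := eq_inv_of_mul_eq_one_left (by
        rw [← pow_succ, Nat.sub_add_cancel (by omega), D.pow_eq_one])
      calc τ * σ ^ (2 * h - 1) = τ * (τ * σ * τ⁻¹) := by rw [h1, D.rel]
        _ = σ * τ := by rw [D.τ_inv, ← mul_assoc, ← mul_assoc, D.sqτ, one_mul]] at e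
    exact e
  · rw [show pairsAt (σ ^ h) (σ ^ h) = T (σ ^ h) from Set.ext fun p => ⟨fun hp => ?_, fun hp => ?_⟩, hTcard,
      hsumF, if_pos (Nat.even_iff.1 D.h_even)]
    · rcases hmemH (n := 1) (pow_one _) p hp with ⟨h1, h2, h3, -⟩ | ⟨-, hcase⟩
      · have := hTmem (σ ^ h) (hHmem.2 (Commute.refl _)) p h1 h2 h3 hp
        rwa [hπJ] at this
      · exfalso
        obtain ⟨hpa, hpb, y, hy, hc, -, hy2⟩ := hp
        obtain ⟨ha, ha1⟩ := (D.isConj_J hτ hτσ).1 hpa
        obtain ⟨hb, hb1⟩ := (D.isConj_J hτ hτσ).1 hpb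
        rcases hcase with e | e
        · rw [e] at hy
          exact hy2 (by
            rw [mul_left_cancel hy]
            exact dvd_of_eq (orderOf_eq_prime_iff.2 ⟨by rwa [pow_two], hb1⟩).symm)
        · rw [e, hc.eq] at hy
          exact hy2 (by
            rw [mul_right_cancel hy]
            exact dvd_of_eq (orderOf_eq_prime_iff.2 ⟨by rwa [pow_two], ha1⟩).symm)
    · obtain ⟨hc1, hc2⟩ := hTconj h p hp
      obtain ⟨a, b, ha', hb', ha, hb, hab, -⟩ := hp
      set j : H := ⟨σ ^ h, hHmem.2 (Commute.refl _)⟩ with hj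
      have hπy : π (j⁻¹ * (a * b)) = 1 := by rw [map_mul, map_inv, map_mul, hab, hπJ, inv_mul_cancel]
      refine ⟨hc1, hc2, ((j⁻¹ * (a * b) : H) : G), ?_, (hHmem.1 (j⁻¹ * (a * b) : H).2).symm,
        D.exists_order_pow h, ?_⟩
      · simp [j, ← ha', ← hb']
      · rw [Subgroup.orderOf_coe]; exact (hπ1 _).1 hπy
  · set sH : H := ⟨σ, hPH D.memσ⟩ with hsH
    have hπσ : π sH = σ := hπfix sH D.memσ
    set τH : H := ⟨τ, hPH D.memτ⟩
    have hπτ : π τH = τ := hπfix τH D.memτ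
    have hσne : σ ≠ σ⁻¹ := fun e => by
      have : σ ^ 2 = 1 := by rw [pow_two]; nth_rewrite 2 [e]; exact mul_inv_cancel σ
      have := Nat.le_of_dvd two_pos (D.pow_eq_one.1 this)
      omega
    have hconjP : ∀ u ∈ (P : Subgroup G), u * σ * u⁻¹ = σ ∨ u * σ * u⁻¹ = σ⁻¹ := by
      intro u hu
      obtain ⟨i, e | e⟩ := D.cases u hu
      · left; rw [e]; group
      · right; rw [e, show τ * σ ^ i * σ * (τ * σ ^ i)⁻¹ = τ * σ * τ⁻¹ by group, D.rel]
    let X := {v : H // IsConj sH v ∧ π v = σ}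
    let g : X × Bool → {v : H // IsConj sH v} := fun q => if q.2 then ⟨q.1.1, q.1.2.1⟩ else
      ⟨τH * q.1.1 * τH⁻¹, q.1.2.1.trans (isConj_iff.2 ⟨τH, rfl⟩)⟩
    have hgπ : ∀ v : H, π v = σ → π (τH * v * τH⁻¹) = σ⁻¹ := fun v hv => by
      rw [map_mul, map_mul, map_inv, hv, hπτ, D.rel]
    have hgbij : Function.Bijective g := by
      refine ⟨?_, fun v => ?_⟩
      · rintro ⟨v, b⟩ ⟨v', b'⟩ e
        have e' := congrArg Subtype.val e
        have eπ := congrArg π e'
        rcases b with _ | _ <;> rcases b' with _ | _ <;>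
          simp only [g, Bool.false_eq_true, if_false, if_true] at e' eπ
        · exact Prod.ext (Subtype.ext (mul_left_cancel (mul_right_cancel e'))) rfl
        · rw [hgπ _ v.2.2, v'.2.2] at eπ; exact absurd eπ.symm hσne
        · rw [hgπ _ v'.2.2, v.2.2] at eπ; exact absurd eπ hσne
        · exact Prod.ext (Subtype.ext e') rfl
      · obtain ⟨c, hc⟩ := isConj_iff.1 v.2
        have h1 := hconjP _ (hπP c)
        rw [← hπσ, ← map_inv, ← map_mul, ← map_mul, hc, hπσ] at h1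
        rcases h1 with h1 | h1
        · exact ⟨(⟨v.1, v.2, h1⟩, true), by simp [g]⟩
        · refine ⟨(⟨τH⁻¹ * v.1 * τH, v.2.trans (isConj_iff.2 ⟨τH⁻¹, by group⟩), ?_⟩, false), Subtype.ext ?_⟩
          · rw [map_mul, map_mul, map_inv, h1, hπτ, ← D.rel]; group
          · simp only [g, Bool.false_eq_true, if_false]; group
    have hX : Nat.card X * regCard σ = regCard (σ ^ h) := by
      have e1 := Nat.card_eq_of_bijective g hgbij
      rw [Nat.card_prod, Nat.card_eq_fintype_card (α := Bool), Fintype.card_bool, Char.card_isConj] at e1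
      have e2 : Nat.card (Subgroup.centralizer ({sH} : Set H)) =
          Nat.card (Subgroup.centralizer ({σ} : Set G)) := by
        refine Nat.card_congr
          { toFun := fun t => ⟨((t : H) : G), Subgroup.mem_centralizer_singleton_iff.2
              (congrArg Subtype.val (Subgroup.mem_centralizer_singleton_iff.1 t.2))⟩
            invFun := fun t => ⟨⟨t, hHmem.2 ((Commute.pow_right
              (Subgroup.mem_centralizer_singleton_iff.1 t.2 : Commute (t : G) σ) h))⟩,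
              Subgroup.mem_centralizer_singleton_iff.2 (Subtype.ext
                (Subgroup.mem_centralizer_singleton_iff.1 t.2))⟩
            left_inv := fun t => rfl
            right_inv := fun t => rfl }
      have hne1 : σ ^ 1 ≠ 1 := fun e => by
        have := Nat.le_of_dvd one_pos (D.pow_eq_one.1 e)
        omega
      have e3 := regCard_mul (σ ^ h) D.hasNormalPComplement_J
      rw [D.factorization_centralizer D.sigma_h_ne, if_pos dvd_rfl] at e3
      have e4 := regCard_mul (σ ^ 1) (D.hasNormalPComplement hne1)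
      rw [D.factorization_centralizer hne1, if_neg (fun hd => by
        have := Nat.le_of_dvd one_pos hd; omega), pow_one] at e4
      have e5 : Nat.card X * 2 * Nat.card (Subgroup.centralizer ({sH} : Set H)) = Nat.card H := by
        rw [e1, Subgroup.index_mul_card]
      rw [e2, ← e4] at e5
      rw [← hH] at e3
      rw [← e3] at e5
      have h4 : 0 < 4 * h := by omega
      apply Nat.eq_of_mul_eq_mul_left h4
      calc 4 * h * (Nat.card X * regCard σ) = Nat.card X * 2 * (regCard σ * (2 * h)) := by ring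
        _ = regCard (σ ^ h) * (4 * h) := e5
        _ = 4 * h * regCard (σ ^ h) := by ring
    have hfib : ∀ v : X, Nat.card (pairsAt (σ ^ h) (v.1 : G)) = Nat.card (pairsAt (σ ^ h) σ) := by
      intro v
      obtain ⟨c, hc⟩ := isConj_iff.1 v.2.1
      have hcv : (c : G) * σ * (c : G)⁻¹ = (v.1 : G) := congrArg Subtype.val hc
      refine (Nat.card_congr (Equiv.subtypeEquiv
        (Equiv.prodCongr (MulAut.conj (c : G)).toEquiv (MulAut.conj (c : G)).toEquiv) fun p => ?_)).symm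
      simp only [pairsAt, Set.mem_setOf_eq, Equiv.prodCongr_apply, Prod.map_fst, Prod.map_snd,
        MulEquiv.toEquiv_eq_coe, EquivLike.coe_coe, MulAut.conj_apply]
      have hconj : ∀ a : G, IsConj (σ ^ h) a ↔ IsConj (σ ^ h) ((c : G) * a * (c : G)⁻¹) := fun a =>
        ⟨fun e => e.trans (isConj_iff.2 ⟨c, rfl⟩), fun e => e.trans (isConj_iff.2 ⟨(c : G)⁻¹, by group⟩)⟩
      rw [← hconj, ← hconj, show (c : G) * p.1 * (c : G)⁻¹ * ((c : G) * p.2 * (c : G)⁻¹) =
        (c : G) * (p.1 * p.2) * (c : G)⁻¹ by group, ← hcv]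
      refine and_congr_right fun _ => and_congr_right fun _ => ⟨fun e => isPPart_conj e _, fun e => ?_⟩
      have := isPPart_conj e (c : G)⁻¹
      rwa [show (c : G)⁻¹ * ((c : G) * (p.1 * p.2) * (c : G)⁻¹) * (c : G)⁻¹⁻¹ = p.1 * p.2 by group,
        show (c : G)⁻¹ * ((c : G) * σ * (c : G)⁻¹) * (c : G)⁻¹⁻¹ = σ by group] at this
    have hin : ∀ (v : X) (p : G × G), p ∈ pairsAt (σ ^ h) (v.1 : G) → p ∈ T (σ ^ 1) := by
      intro v p hp
      obtain ⟨c, hc⟩ := isConj_iff.1 v.2.1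
      have hcv : (c : G) * σ * (c : G)⁻¹ = (v.1 : G) := congrArg Subtype.val hc
      have hvh : (v.1 : G) ^ h = σ ^ h := by
        rw [← hcv, conj_pow]; exact mul_inv_eq_iff_eq_mul.2 (hHmem.1 c.2)
      rcases hmemH hvh p hp with ⟨h1, h2, h3, -⟩ | ⟨hsq, -⟩
      · have := hTmem (v.1 : G) v.1.2 p h1 h2 h3 hp
        rwa [v.2.2, ← pow_one σ] at this
      · exfalso
        rw [← hcv, show (c : G) * σ * (c : G)⁻¹ * ((c : G) * σ * (c : G)⁻¹) = (c : G) * (σ * σ) * (c : G)⁻¹
          by group, conj_eq_one_iff, ← pow_two] at hsq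
        have := Nat.le_of_dvd two_pos (D.pow_eq_one.1 hsq)
        omega
    let Φ : (Σ v : X, pairsAt (σ ^ h) (v.1 : G)) → T (σ ^ 1) := fun vp => ⟨vp.2.1, hin vp.1 _ vp.2.2⟩
    have hΦ : Function.Bijective Φ := by
      refine ⟨?_, fun p => ?_⟩
      · rintro ⟨v, p⟩ ⟨v', p'⟩ e
        have e' : p.1 = p'.1 := congrArg Subtype.val e
        obtain rfl : v = v' := Subtype.ext (Subtype.ext
          (isPPart_unique Nat.prime_two p.2.2.2 (e' ▸ p'.2.2.2)))
        exact congrArg (Sigma.mk v) (Subtype.ext e')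
      · obtain ⟨hc1, hc2⟩ := hTconj 1 p.1 p.2
        obtain ⟨a, b, ha', hb', ha, hb, hab, -⟩ := p.2
        obtain ⟨v, y, hy, hc, ⟨k, hk⟩, hy2⟩ := exists_isPPart (p := 2) Nat.prime_two (a * b)
        have hvp : IsPPart 2 (p.1.1 * p.1.2) (v : G) := ⟨(y : G),
          by rw [← ha', ← hb', ← Subgroup.coe_mul, hy, Subgroup.coe_mul], congrArg Subtype.val hc,
          ⟨k, by rw [Subgroup.orderOf_coe, hk]⟩, by rwa [Subgroup.orderOf_coe]⟩
        have hπv : π v = σ := by
          have := hπpart (a * b) v (by rw [Subgroup.coe_mul, ha', hb']; exact hvp)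
          rw [← this, map_mul, hab, pow_one]
        obtain ⟨c, hcv⟩ := CfsgLib.Invol.exists_conj_le_sylow (Q := Subgroup.zpowers v)
          (IsPGroup.of_card (n := k) (by rw [Nat.card_zpowers, hk])) (P.subtype D.le_centralizer_J)
        have h1 := hπfix (c * v * c⁻¹) (hcv v (Subgroup.mem_zpowers v))
        rw [map_mul, map_mul, map_inv, hπv] at h1
        have hvσ : IsConj sH v := by
          refine IsConj.trans ?_ (isConj_iff.2 ⟨c, rfl⟩ : IsConj v (c * v * c⁻¹)).symm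
          rcases hconjP _ (hπP c) with e | e
          · exact isConj_iff.2 ⟨1, Subtype.ext (by rw [← h1, e]; simp [sH])⟩
          · exact isConj_iff.2 ⟨τH, Subtype.ext (by
              rw [← h1, e]
              simp only [sH, τH, Subgroup.coe_mul, InvMemClass.coe_inv, D.rel])⟩
        exact ⟨⟨⟨v, hvσ, hπv⟩, ⟨p.1, hc1, hc2, hvp⟩⟩, rfl⟩
    have hXfin : Fintype X := Fintype.ofFinite X
    have e := Nat.card_eq_of_bijective Φ hΦ
    rw [Nat.card_sigma, Finset.sum_congr rfl fun v _ => hfib v, Finset.sum_const, Finset.card_univ,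
      ← Nat.card_eq_fintype_card, smul_eq_mul, hTcard, hsumF, if_neg (by norm_num)] at e
    calc regCard (σ ^ h) * Nat.card (pairsAt (σ ^ h) σ)
        = (Nat.card X * Nat.card (pairsAt (σ ^ h) σ)) * regCard σ := by rw [← hX]; ring
      _ = 2 * h * F 0 * F 1 * regCard σ := by rw [e]

end Frame

end CfsgLib.Block.Dihedral
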