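import Cfsg.Agent.Lib.Block.DihedralFrame
import Cfsg.Agent.Lib.Block.Contrib
import Mathlib.NumberTheory.LegendreSymbol.AddCharacter

/-!
# The principal 2-block over a dihedral Sylow 2-subgroup

The multiplicities of the linear characters of the rotations give integral vectors over the block
with the inner products `δ(x = z) + δ(x = -z) + 2`; hence the shape `Table` of the block: the
trivial character, three further characters and `h - 1` exceptional ones.
-/

open Finset
open scoped ComplexConjugate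

set_option autoImplicit false
set_option linter.unusedSectionVars false
set_option linter.style.haveILetI false

namespace CfsgLib.Block.Dihedral

open Cfsg CfsgLib CfsgLib.Block

universe u

section combinatorics

variable {ι : Type*} [Fintype ι] [DecidableEq ι]

/-- An integral vector of square length at most three. -/
theorem exists_supp (w : ι → ℤ) {m : ℕ} (hm : m ≤ 3) (h : ∑ i, w i * w i = m) :
    ∃ T : Finset ι, T.card = m ∧ (∀ i ∈ T, w i = 1 ∨ w i = -1) ∧ ∀ i ∉ T, w i = 0 := by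
  refine ⟨Finset.univ.filter (w · ≠ 0), ?_, ?_, fun i hi => by simpa using hi⟩
  swap
  · intro i hi
    have h1 : w i * w i ≤ 3 := le_trans (le_trans
      (Finset.single_le_sum (fun j _ => mul_self_nonneg (w j)) (Finset.mem_univ i)) h.le) (by exact_mod_cast hm)
    have h2 : -1 ≤ w i ∧ w i ≤ 1 := ⟨by nlinarith, by nlinarith⟩
    have h3 : w i ≠ 0 := by simpa using hi
    omega
  have hterm : ∀ i, w i * w i = if w i ≠ 0 then 1 else 0 := by
    intro i
    have h1 : w i * w i ≤ 3 := le_trans (le_trans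
      (Finset.single_le_sum (fun j _ => mul_self_nonneg (w j)) (Finset.mem_univ i)) h.le) (by exact_mod_cast hm)
    have h2 : -1 ≤ w i ∧ w i ≤ 1 := ⟨by nlinarith, by nlinarith⟩
    obtain e | e | e : w i = -1 ∨ w i = 0 ∨ w i = 1 := by omega
    all_goals simp [e]
  rw [Finset.sum_congr rfl fun i _ => hterm i, Finset.sum_boole] at h
  exact_mod_cast h

/-- The sum of the products of two such vectors. -/
theorem sum_eq_inter (w v : ι → ℤ) (T U : Finset ι) (hT : ∀ i ∉ T, w i = 0) (hU : ∀ i ∉ U, v i = 0) :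
    ∑ i, w i * v i = ∑ i ∈ T ∩ U, w i * v i := by
  refine (Finset.sum_subset (Finset.subset_univ _) fun i _ hi => ?_).symm
  rw [Finset.mem_inter, not_and_or] at hi
  rcases hi with hi | hi
  · rw [hT i hi, zero_mul]
  · rw [hU i hi, mul_zero]

/-- The configuration of vectors forced by the inner products and the degrees. -/
theorem exists_config {n : ℕ} (hn : 0 < n) (hn2 : n ≠ 2) (wh : ι → ℤ) (w : Fin n → ι → ℤ) (d : ι → ℤ)
    (hd : ∀ i, 0 < d i) (hhh : ∑ i, wh i * wh i = 3) (hjj : ∀ j, ∑ i, w j i * w j i = 2)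
    (hjk : ∀ j k, j ≠ k → ∑ i, w j i * w k i = 1) (hjh : ∀ j, ∑ i, w j i * wh i = 1)
    (hdh : ∑ i, wh i * d i = 1) (hdj : ∀ j, ∑ i, w j i * d i = 1) :
    ∃ (a b c : ι) (x : Fin n → ι) (s t u : ℤ), (s = 1 ∨ s = -1) ∧ (t = 1 ∨ t = -1) ∧
      (u = 1 ∨ u = -1) ∧ a ≠ b ∧ a ≠ c ∧ b ≠ c ∧ Function.Injective x ∧
      (∀ j, x j ≠ a ∧ x j ≠ b ∧ x j ≠ c) ∧
      (∀ i, wh i = (if i = a then s else 0) + (if i = b then t else 0) + (if i = c then u else 0)) ∧
      ∀ j i, w j i = (if i = a then s else 0) - (if i = x j then s else 0) := by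
  classical
  obtain ⟨S, hS, hSv, hS0⟩ := exists_supp wh (m := 3) le_rfl (by exact_mod_cast hhh)
  choose T hT hTv hT0 using fun j => exists_supp (w j) (m := 2) (by norm_num) (by exact_mod_cast hjj j)
  have hpx : ∀ j, ∃ π x, π ∈ S ∧ x ∉ S ∧ T j = {π, x} ∧ w j π = wh π := by
    intro j
    obtain ⟨y, z, hyz, hT2⟩ := Finset.card_eq_two.1 (hT j)
    have hy := hTv j y (by simp [hT2])
    have hz := hTv j z (by simp [hT2])
    have e := hjh j
    rw [sum_eq_inter (w j) wh (T j) Finset.univ (hT0 j) (fun i hi => absurd (Finset.mem_univ i) hi),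
      Finset.inter_univ, hT2, Finset.sum_pair hyz] at e
    by_cases h1 : y ∈ S <;> by_cases h2 : z ∈ S
    · rcases hy with a | a <;> rcases hz with b | b <;> rcases hSv y h1 with c | c <;>
        rcases hSv z h2 with d | d <;> simp [a, b, c, d] at e
    · refine ⟨y, z, h1, h2, hT2, ?_⟩
      rw [hS0 z h2, mul_zero, add_zero] at e
      rcases hy with a | a <;> rcases hSv y h1 with c | c <;> simp [a, c] at e ⊢
    · refine ⟨z, y, h2, h1, by rw [hT2, Finset.pair_comm], ?_⟩
      rw [hS0 y h1, mul_zero, zero_add] at e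
      rcases hz with a | a <;> rcases hSv z h2 with c | c <;> simp [a, c] at e ⊢
    · rw [hS0 y h1, hS0 z h2, mul_zero, mul_zero] at e
      norm_num at e
  choose π x hπS hxS hTe hwπ using hpx
  have hπx : ∀ j k, π j ≠ x k := fun j k e => hxS k (e ▸ hπS j)
  have hwx : ∀ j, w j (x j) = 1 ∨ w j (x j) = -1 := fun j => hTv j _ (by simp [hTe])
  have hdeg : ∀ j, wh (π j) * d (π j) + w j (x j) * d (x j) = 1 := by
    intro j
    have e := hdj j
    rw [sum_eq_inter (w j) d (T j) Finset.univ (hT0 j) (fun i hi => absurd (Finset.mem_univ i) hi),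
      Finset.inter_univ, hTe, Finset.sum_pair (hπx j j), hwπ] at e
    exact e
  have hsum1 : ∑ i ∈ S, wh i * d i = 1 := by
    rw [← Finset.inter_univ S,
      ← sum_eq_inter wh d S Finset.univ hS0 (fun i hi => absurd (Finset.mem_univ i) hi), hdh]
  have hwv : ∀ j i, w j i = (if i = π j then wh (π j) else 0) + (if i = x j then w j (x j) else 0) := by
    intro j i
    by_cases h1 : i = π j
    · subst h1; rw [if_pos rfl, if_neg (hπx j j), add_zero, hwπ]
    · by_cases h2 : i = x j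
      · subst h2; rw [if_neg h1, if_pos rfl, zero_add]
      · rw [if_neg h1, if_neg h2, add_zero, hT0 j i (by simp [hTe, h1, h2])]
  have hpair : ∀ j k, j ≠ k → (π j = π k ∧ x j ≠ x k) ∨
      (π j ≠ π k ∧ x j = x k ∧ w j (x j) = w k (x k)) := by
    intro j k hne
    have e := hjk j k hne
    rw [sum_eq_inter (w j) (w k) (T j) (T k) (hT0 j) (hT0 k), hTe, hTe] at e
    have hnx : ∀ i, i ∈ ({π j, x j} : Finset ι) ∩ {π k, x k} → (i = π j ∧ i = π k) ∨ (i = x j ∧ i = x k) := by
      intro i hi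
      simp only [Finset.mem_inter, Finset.mem_insert, Finset.mem_singleton] at hi
      rcases hi with ⟨rfl | rfl, h2 | h2⟩
      · exact Or.inl ⟨rfl, h2⟩
      · exact absurd h2 (hπx j k)
      · exact absurd h2.symm (hπx k j)
      · exact Or.inr ⟨rfl, h2⟩
    by_cases h1 : π j = π k <;> by_cases h2 : x j = x k
    · exfalso
      rw [h1, h2, Finset.inter_self, Finset.sum_pair (hπx k k), ← h1, hwπ, h1, hwπ, ← h2] at e
      rw [h2] at e
      rcases hSv _ (hπS k) with a | a <;> rcases hwx k with b | b <;>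
        rcases hTv j (x k) (by simp [hTe, h2]) with c | c <;> simp [a, b, c] at e
    · exact Or.inl ⟨h1, h2⟩
    · refine Or.inr ⟨h1, h2, ?_⟩
      rw [show ({π j, x j} : Finset ι) ∩ {π k, x k} = {x j} from ?_, Finset.sum_singleton] at e
      · rw [← h2]
        rcases hwx j with a | a <;> rcases hTv k (x j) (by simp [hTe, h2]) with b | b <;> simp [a, b] at e ⊢
      · refine Finset.ext fun i => ⟨fun hi => ?_, fun hi => ?_⟩
        · rcases hnx i hi with ⟨a, b⟩ | ⟨a, -⟩
          · exact absurd (a.symm.trans b) h1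
          · simp [a]
        · rw [Finset.mem_singleton] at hi
          simp [hi, h2]
    · exfalso
      rw [show ({π j, x j} : Finset ι) ∩ {π k, x k} = ∅ from Finset.eq_empty_of_forall_notMem fun i hi => by
        rcases hnx i hi with ⟨a, b⟩ | ⟨a, b⟩
        · exact h1 (a.symm.trans b)
        · exact h2 (a.symm.trans b), Finset.sum_empty] at e
      exact zero_ne_one e
  let j₀ : Fin n := ⟨0, hn⟩
  have hall : ∀ j, π j = π j₀ := by
    intro j
    by_contra hne
    have hjne : j ≠ j₀ := fun e => hne (by rw [e])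
    obtain ⟨-, hx0, hw0⟩ := (hpair j j₀ hjne).resolve_left fun h => hne h.1
    obtain ⟨l, hl1, hl2⟩ : ∃ l : Fin n, l ≠ j ∧ l ≠ j₀ := by
      have h2 : ({j, j₀} : Finset (Fin n)) ≠ Finset.univ := by
        intro e
        have := congrArg Finset.card e
        rw [Finset.card_pair hjne, Finset.card_univ, Fintype.card_fin] at this
        exact hn2 this.symm
      obtain ⟨l, -, hl⟩ := Finset.exists_of_ssubset (lt_of_le_of_ne (Finset.subset_univ _) h2)
      exact ⟨l, fun e => hl (by simp [e]), fun e => hl (by simp [e])⟩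
    have hl3 : π l ≠ π j ∧ π l ≠ π j₀ := by
      constructor
      · intro e
        have h1 := ((hpair l j hl1).resolve_right fun h => h.1 e).2
        have h2 := hpair l j₀ hl2
        rcases h2 with ⟨h2, -⟩ | ⟨-, h2, -⟩
        · exact hne (e.symm.trans h2)
        · exact h1 (h2.trans hx0.symm)
      · intro e
        have h1 := ((hpair l j₀ hl2).resolve_right fun h => h.1 e).2
        have h2 := hpair l j hl1
        rcases h2 with ⟨h2, -⟩ | ⟨-, h2, -⟩
        · exact hne (h2.symm.trans e)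
        · exact h1 (h2.trans hx0)
    obtain ⟨-, hxl, hwl⟩ := (hpair l j hl1).resolve_left fun h => hl3.1 h.1
    have hS3 : S = {π l, π j, π j₀} := by
      refine (Finset.eq_of_subset_of_card_le ?_ ?_).symm
      · intro i hi
        simp only [Finset.mem_insert, Finset.mem_singleton] at hi
        rcases hi with rfl | rfl | rfl <;> exact hπS _
      · rw [hS, Finset.card_insert_of_notMem (by simp [hl3.1, hl3.2]), Finset.card_pair hne]
    rw [hS3, Finset.sum_insert (by simp [hl3.1, hl3.2]), Finset.sum_pair hne] at hsum1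
    have e1 := hdeg l
    have e2 := hdeg j
    have e3 := hdeg j₀
    rw [hwl, hxl] at e1
    rw [← hw0, ← hx0] at e3
    omega
  set a := π j₀ with ha
  obtain ⟨b, c, hbc, hSe⟩ := Finset.card_eq_two.1
    (show (S.erase a).card = 2 by rw [Finset.card_erase_of_mem (hπS j₀), hS])
  have hb : b ∈ S.erase a := by simp [hSe]
  have hc : c ∈ S.erase a := by simp [hSe]
  rw [Finset.mem_erase] at hb hc
  have hxinj : Function.Injective x := fun j k e => by
    by_contra hne
    exact (hpair j k hne).elim (fun h => h.2 e) fun h => h.1 ((hall j).trans (hall k).symm)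
  refine ⟨a, b, c, x, wh a, wh b, wh c, hSv _ (hπS j₀), hSv _ hb.2, hSv _ hc.2, hb.1.symm, hc.1.symm,
    hbc, hxinj, fun j => ⟨fun e => hxS j (e ▸ hπS j₀), fun e => hxS j (e ▸ hb.2), fun e => hxS j (e ▸ hc.2)⟩,
    fun i => ?_, fun j i => ?_⟩
  · by_cases hi : i ∈ S
    · by_cases h1 : i = a
      · subst h1; simp [hb.1.symm, hc.1.symm]
      · have : i ∈ ({b, c} : Finset ι) := hSe ▸ Finset.mem_erase.2 ⟨h1, hi⟩
        simp only [Finset.mem_insert, Finset.mem_singleton] at this
        rcases this with rfl | rfl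
        · simp [h1, hbc]
        · simp [h1, hbc.symm]
    · rw [hS0 i hi, if_neg fun (e : i = a) => hi (e ▸ hπS j₀), if_neg fun (e : i = b) => hi (e ▸ hb.2),
        if_neg fun (e : i = c) => hi (e ▸ hc.2)]
      simp
  · have e : w j (x j) = -wh a := by
      have e := hdeg j
      rw [hall j] at e
      have h1 := hd (π j₀)
      have h2 := hd (x j)
      rcases hSv _ (hπS j₀) with p | p <;> rcases hwx j with q | q <;> rw [p, q] at e ⊢ <;>
        first | (norm_num; done) | (simp only [← ha] at h1; omega) | omega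
    rw [hwv j i, hall j, e]
    split_ifs <;> ring

end combinatorics

variable {G : Type u} [Group G] [Finite G]

/-- The shape of the block. -/
structure Table (M : Ideal AlgInt) (σ : G) (h : ℕ) (ζ : ℂ) (χ₁ χ₂ χ₃ : IrrCharacter G)
    (χ' : Fin (h - 1) → IrrCharacter G) (δ₁ δ₂ δ₃ : ℤ) : Prop where
  sign₁ : δ₁ = 1 ∨ δ₁ = -1
  sign₂ : δ₂ = 1 ∨ δ₂ = -1
  sign₃ : δ₃ = 1 ∨ δ₃ = -1
  inj : Function.Injective χ'
  ne₁ : χ₁ ≠ oneChar G
  ne₂ : χ₂ ≠ oneChar G
  ne₃ : χ₃ ≠ oneChar G
  ne₁₂ : χ₁ ≠ χ₂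
  ne₁₃ : χ₁ ≠ χ₃
  ne₂₃ : χ₂ ≠ χ₃
  ne' : ∀ j, χ' j ≠ χ₁ ∧ χ' j ≠ χ₂ ∧ χ' j ≠ χ₃ ∧ χ' j ≠ oneChar G
  block : principalBlock M G =
    {χ : IrrCharacter G | χ = oneChar G ∨ χ = χ₁ ∨ χ = χ₂ ∨ χ = χ₃ ∨ ∃ j, χ = χ' j}
  val : ∀ l : ℕ, 0 < l → l < 2 * h → (χ₁ : G → ℂ) (σ ^ l) = δ₁ ∧
    (χ₂ : G → ℂ) (σ ^ l) = δ₂ * (-1) ^ (l + 1) ∧ (χ₃ : G → ℂ) (σ ^ l) = δ₃ * (-1) ^ (l + 1) ∧
    ∀ j : Fin (h - 1), (χ' j : G → ℂ) (σ ^ l) =
      δ₁ * (ζ ^ (((j : ℕ) + 1) * l) + (ζ ^ (((j : ℕ) + 1) * l))⁻¹)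
  rel₁ : ∀ ρ : G, ¬ 2 ∣ orderOf ρ →
    1 + δ₁ * (χ₁ : G → ℂ) ρ = -δ₂ * (χ₂ : G → ℂ) ρ - δ₃ * (χ₃ : G → ℂ) ρ
  rel₂ : ∀ ρ : G, ¬ 2 ∣ orderOf ρ → ∀ j, 1 + δ₁ * (χ₁ : G → ℂ) ρ = δ₁ * (χ' j : G → ℂ) ρ

variable {P : Sylow 2 G} {σ τ : G} {h : ℕ} {M : Ideal AlgInt}

namespace Frame

variable (D : Frame P σ τ h) (hM : IsPModular 2 M)
include D hM

theorem blockDefect_eq {A : Type u} [Group A] [Finite A] :
    blockDefect 2 (principalBlock M A) = (Nat.card A).factorization 2 := by
  haveI := hM.2.1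
  rw [blockDefect, show sInf ((fun χ : IrrCharacter A =>
    (charDegree (χ : A → ℂ)).factorization 2) '' principalBlock M A) = 0 from ?_, Nat.sub_zero]
  refine Nat.le_zero.mp (Nat.sInf_le ⟨oneChar A, one_mem_principalBlock, ?_⟩)
  simp [oneChar, charDegree]

/-- No member of the principal block vanishes on the section of the central involution. -/
theorem value_J_ne_zero {χ : IrrCharacter G} (hχ : χ ∈ principalBlock M G) :
    (χ : G → ℂ) (σ ^ h) ≠ 0 := by
  classical
  intro h0
  haveI := hM.2.1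
  haveI : Fact (Nat.Prime 2) := ⟨Nat.prime_two⟩
  letI := Fintype.ofFinite G
  have := Fintype.ofFinite (IrrCharacter G)
  have := Fintype.ofFinite (ConjClasses G)
  set C := Subgroup.centralizer ({σ ^ h} : Set G) with hCdef
  have := Fintype.ofFinite C
  have := Fintype.ofFinite (IrrCharacter C)
  have := Fintype.ofFinite (ConjClasses C)
  have hC : ∀ t : G, t ∈ C ↔ Commute t (σ ^ h) := fun t => Subgroup.mem_centralizer_singleton_iff
  obtain ⟨k, hk⟩ := D.exists_order_pow h
  obtain ⟨B, hB⟩ := exists_induced_centralizer hM ⟨k, hk⟩ hC (isPBlock_principalBlock (M := M) (G := C))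
  obtain rfl := (isInducedBlock_principal_iff hM hB).mpr rfl
  have hd : blockDefect 2 (principalBlock M C) = blockDefect 2 (principalBlock M G) := by
    rw [D.blockDefect_eq hM, D.blockDefect_eq hM]
    refine Nat.pow_right_injective le_rfl ?_
    show 2 ^ _ = 2 ^ _
    rw [D.factorization_centralizer D.sigma_h_ne, if_pos dvd_rfl, ← P.card_eq_multiplicity]
    exact D.card.symm
  obtain ⟨L, hL, hL1, -⟩ := exists_major_lift hM hk hC hB hd hχ (one_mem_principalBlock (M := M) (G := G))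
  have hh0 : blockHeight 2 (principalBlock M G) (oneChar G : G → ℂ) = 0 := by
    simp [blockHeight, oneChar, charDegree]
  refine hL1 hh0 ?_
  have hz : secContrib 2 (σ ^ h) C (principalBlock M C) χ (oneChar G) = 0 := by
    rw [secContrib, Finset.sum_eq_zero fun y hy => ?_, mul_zero, mul_zero]
    have hy' := (Finset.mem_filter.1 hy).2
    rw [secFun, D.value_eq hM hχ D.sigma_h_ne (z := σ ^ h * (y : G))
      ⟨y, rfl, ((hC y).1 y.2).symm, ⟨k, hk⟩, by rwa [Subgroup.orderOf_coe]⟩, h0, zero_mul]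
  rw [hz] at hL
  have hL0 : L = 0 := Subtype.ext
    ((mul_eq_zero.1 hL.symm).resolve_left (pow_ne_zero _ (by norm_num)))
  rw [hL0, map_zero]

theorem exists_table {ζ : ℂ} (hζ : IsPrimitiveRoot ζ (2 * h)) :
    ∃ χ₁ χ₂ χ₃ χ' δ₁ δ₂ δ₃, Table M σ h ζ χ₁ χ₂ χ₃ χ' δ₁ δ₂ δ₃ := by
  classical
  haveI := hM.2.1
  haveI : Fact (Nat.Prime 2) := ⟨Nat.prime_two⟩
  letI := Fintype.ofFinite G
  have := Fintype.ofFinite (IrrCharacter G)
  have h2h := D.two_le
  haveI : NeZero (2 * h) := ⟨by omega⟩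
  set ψ : AddChar (ZMod (2 * h)) ℂ := AddChar.zmodChar (2 * h) hζ.pow_eq_one with hψ
  have hψp : ψ.IsPrimitive := AddChar.zmodChar_primitive_of_primitive_root (2 * h) hζ
  have hψv : ∀ n : ℕ, ψ (n : ZMod (2 * h)) = ζ ^ n := fun n => AddChar.zmodChar_apply' hζ.pow_eq_one n
  have hsum : ∀ b : ZMod (2 * h), ∑ y, ψ (y * b) = if b = 0 then (2 * h : ℂ) else 0 := by
    intro b
    rw [AddChar.sum_mulShift b hψp]
    split_ifs with hb <;> simp [ZMod.card]
  have hconjψ : ∀ y, conj (ψ y) = ψ (-y) := fun y => by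
    rw [AddChar.map_neg_eq_inv, ← Complex.inv_eq_conj]
    exact Complex.norm_eq_one_of_pow_eq_one (n := 2 * h) (by
      rw [← AddChar.map_nsmul_eq_pow, ZModModule.char_nsmul_eq_zero, AddChar.map_zero_eq_one]) (by omega)
  set R : ZMod (2 * h) → G := fun y => σ ^ y.val with hR
  have hRn : ∀ n : ℕ, R (n : ZMod (2 * h)) = σ ^ n := fun n => by
    simp only [hR, ZMod.val_natCast]
    rw [← D.orderσ, pow_mod_orderOf]
  have hRadd : ∀ y z, R (y + z) = R y * R z := fun y z => by
    rw [← ZMod.natCast_zmod_val y, ← ZMod.natCast_zmod_val z, ← Nat.cast_add, hRn, hRn, hRn, pow_add]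
  have hR0 : R 0 = 1 := by simp [hR]
  have hRneg : ∀ y, R (-y) = (R y)⁻¹ := fun y =>
    eq_inv_of_mul_eq_one_left (by rw [← hRadd, neg_add_cancel, hR0])
  have hR1 : ∀ y, y ≠ 0 → R y ≠ 1 := fun y hy e => hy (by
    have h1 := D.pow_eq_one.1 (show σ ^ y.val = 1 from e)
    exact (ZMod.val_eq_zero y).1 (Nat.eq_zero_of_dvd_of_lt h1 (ZMod.val_lt y)))
  have hRinj : Function.Injective R := fun y z e => by
    by_contra hne
    refine hR1 (y - z) (sub_ne_zero.2 hne) ?_
    rw [sub_eq_add_neg, hRadd, hRneg, e, mul_inv_cancel]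
  have hsym : ∀ (χ : IrrCharacter G) y, (χ : G → ℂ) (R (-y)) = (χ : G → ℂ) (R y) := fun χ y => by
    refine (Char.classFun_isConj (Char.isClassFunction_irr χ) (isConj_iff.2 ⟨τ, ?_⟩)).symm
    rw [hRneg]
    exact D.conjτ _
  -- multiplicities
  have hcoeff : ∀ χ : IrrCharacter G, ∃ a : ZMod (2 * h) → ℕ, ∀ y,
      (χ : G → ℂ) (R y) = ∑ x, (a x : ℂ) * ψ (x * y) := by
    intro χ
    obtain ⟨m, ρ, hρ, hχ⟩ := χ.2
    obtain ⟨b, μ, h1, -, h3⟩ := Char.exists_eigen_data ρ σ
    have hk : ∀ i, ∃ k : ℕ, ζ ^ k = μ i := fun i => by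
      obtain ⟨k, -, hk⟩ := hζ.eq_pow_of_pow_eq_one (by rw [← D.orderσ]; exact h1 i)
      exact ⟨k, hk⟩
    choose k hk using hk
    refine ⟨fun x => (Finset.univ.filter fun i => ((k i : ℕ) : ZMod (2 * h)) = x).card, fun y => ?_⟩
    rw [← hχ]
    simp only [hR]
    rw [h3, ← Finset.sum_fiberwise Finset.univ (fun i => ((k i : ℕ) : ZMod (2 * h)))]
    refine Finset.sum_congr rfl fun x _ => ?_
    rw [Finset.sum_congr rfl (g := fun _ => ψ (x * y)) fun i hi => ?_, Finset.sum_const, nsmul_eq_mul]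
    rw [← (Finset.mem_filter.1 hi).2, ← hk i]
    conv_rhs => rw [← ZMod.natCast_zmod_val y, ← Nat.cast_mul, hψv, pow_mul]
  choose a ha using hcoeff
  set w : IrrCharacter G → ZMod (2 * h) → ℤ := fun χ x => (a χ x : ℤ) - a χ 0 with hw
  have hinv : ∀ χ x, (2 * h : ℂ) * (a χ x : ℂ) = ∑ y, (χ : G → ℂ) (R y) * ψ (-(x * y)) := by
    intro χ x
    simp only [ha, Finset.sum_mul, mul_assoc, ← AddChar.map_add_eq_mul]
    rw [Finset.sum_comm]
    simp only [← Finset.mul_sum]
    rw [Finset.sum_eq_single x (fun z _ hz => ?_) (fun hh => absurd (Finset.mem_univ x) hh)]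
    · simp only [add_neg_cancel, AddChar.map_zero_eq_one, Finset.sum_const, Finset.card_univ, ZMod.card,
        nsmul_eq_mul, mul_one]
      push_cast; ring
    · rw [Finset.sum_congr rfl fun y _ => congrArg ψ (show z * y + -(x * y) = y * (z - x) by ring), hsum,
        if_neg (sub_ne_zero.2 hz), mul_zero]
  have hwN : ∀ χ x, (2 * h : ℂ) * (w χ x : ℂ) = ∑ y, (χ : G → ℂ) (R y) * (ψ (-(x * y)) - 1) := by
    intro χ x
    have h0 := hinv χ 0
    simp only [zero_mul, neg_zero, AddChar.map_zero_eq_one, mul_one] at h0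
    simp only [hw, mul_sub, Finset.sum_sub_distrib, mul_one, ← hinv, ← h0]
    push_cast; ring
  have hN0 : (2 * h : ℂ) ≠ 0 := by
    have : (h : ℂ) ≠ 0 := Nat.cast_ne_zero.2 (by omega)
    exact mul_ne_zero two_ne_zero this
  have hwsym : ∀ χ x, w χ (-x) = w χ x := fun χ x => by
    have e : (2 * h : ℂ) * (w χ (-x) : ℂ) = (2 * h : ℂ) * (w χ x : ℂ) := by
      rw [hwN, hwN]
      exact Fintype.sum_equiv (Equiv.neg _) _ _ fun y => by
        simp only [Equiv.neg_apply, hsym, neg_mul, mul_neg, neg_neg]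
    exact_mod_cast mul_left_cancel₀ hN0 e
  have hval : ∀ χ : IrrCharacter G, ∀ y, y ≠ 0 →
      (χ : G → ℂ) (R y) = ∑ x, (w χ x : ℂ) * ψ (x * y) := by
    intro χ y hy
    rw [ha χ y]
    simp only [hw]
    push_cast
    simp only [sub_mul, Finset.sum_sub_distrib, ← Finset.mul_sum]
    rw [hsum, if_neg hy, mul_zero, sub_zero]
  -- isometry and regular relation
  set B := Finset.univ.filter (fun χ : IrrCharacter G => χ ∈ principalBlock M G) with hB
  have hBsum : ∀ f : IrrCharacter G → ℂ, ∑ᶠ χ ∈ principalBlock M G, f χ = ∑ χ ∈ B, f χ := fun f => by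
    rw [finsum_mem_eq_toFinset_sum]
    exact Finset.sum_congr (by ext; simp [hB]) fun _ _ => rfl
  have hiso : ∀ x z, x ≠ 0 → z ≠ 0 → ∑ χ ∈ B, (w χ x * w χ z) =
      (if x = z then 1 else 0) + (if x = -z then 1 else 0) + 2 := by
    intro x z hx hz
    have hcz : ∀ χ, (2 * h : ℂ) * (w χ z : ℂ) = ∑ y, conj ((χ : G → ℂ) (R y)) * (ψ (z * y) - 1) := by
      intro χ
      have e := congrArg conj (hwN χ z)
      simp only [map_mul, map_sum, map_sub, map_one, hconjψ, neg_neg, map_intCast, map_natCast,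
        map_ofNat] at e
      exact e
    have key : (2 * h : ℂ) * (2 * h : ℂ) * ((∑ χ ∈ B, (w χ x * w χ z) : ℤ) : ℂ) =
        ∑ y, ∑ y', (ψ (-(x * y)) - 1) * (ψ (z * y') - 1) *
          ∑ χ ∈ B, (χ : G → ℂ) (R y) * conj ((χ : G → ℂ) (R y')) := by
      push_cast
      rw [Finset.mul_sum]
      simp only [Finset.mul_sum]
      rw [Finset.sum_comm_cycle]
      refine Finset.sum_congr rfl fun χ _ => ?_
      rw [show (2 * h : ℂ) * (2 * h : ℂ) * ((w χ x : ℂ) * (w χ z : ℂ)) =
        ((2 * h : ℂ) * (w χ x : ℂ)) * ((2 * h : ℂ) * (w χ z : ℂ)) by ring, hwN, hcz, Finset.sum_mul_sum]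
      exact Finset.sum_congr rfl fun y _ => Finset.sum_congr rfl fun y' _ => by ring
    have hinner : ∀ y, (∑ y', (ψ (-(x * y)) - 1) * (ψ (z * y') - 1) *
        ∑ χ ∈ B, (χ : G → ℂ) (R y) * conj ((χ : G → ℂ) (R y'))) =
        (ψ (-(x * y)) - 1) * ((ψ (z * y) - 1) + (ψ (-(z * y)) - 1)) * (2 * h : ℂ) := by
      intro y
      by_cases hy : y = 0
      · subst hy; simp
      have hcol : ∀ y', ∑ χ ∈ B, (χ : G → ℂ) (R y) * conj ((χ : G → ℂ) (R y')) =
          (2 * h : ℂ) * ((if y' = y then 1 else 0) + (if y' = -y then 1 else 0)) := by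
        intro y'
        rw [← hBsum, show R y = σ ^ y.val from rfl, show R y' = σ ^ y'.val from rfl,
          D.colSum hM (hR1 y hy)]
        congr 2
        · exact if_congr ⟨fun e => hRinj e, fun e => e ▸ rfl⟩ rfl rfl
        · exact if_congr ⟨fun e => hRinj (show R y' = R (-y) by rw [hRneg]; exact e),
            fun e => by rw [e]; exact hRneg y⟩ rfl rfl
      simp only [hcol, mul_add, mul_ite, mul_one, mul_zero, Finset.sum_add_distrib, Finset.sum_ite_eq',
        Finset.mem_univ, if_true, mul_neg]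
      ring
    rw [Finset.sum_congr rfl fun y _ => hinner y, ← Finset.sum_mul] at key
    have hexp : ∀ y, (ψ (-(x * y)) - 1) * ((ψ (z * y) - 1) + (ψ (-(z * y)) - 1)) =
        ψ (y * (z - x)) + ψ (y * (-z - x)) - 2 * ψ (y * -x) - ψ (y * z) - ψ (y * -z) + 2 * ψ (y * 0) := by
      intro y
      rw [show y * (z - x) = -(x * y) + z * y by ring, show y * (-z - x) = -(x * y) + -(z * y) by ring,
        AddChar.map_add_eq_mul, AddChar.map_add_eq_mul, mul_zero, AddChar.map_zero_eq_one,
        show y * -x = -(x * y) by ring, show y * z = z * y by ring, show y * -z = -(z * y) by ring]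
      ring
    simp only [hexp, Finset.sum_add_distrib, Finset.sum_sub_distrib, ← Finset.mul_sum, hsum,
      if_neg (neg_ne_zero.2 hx), if_neg hz, if_neg (neg_ne_zero.2 hz), if_pos] at key
    have e2 : ((∑ χ ∈ B, (w χ x * w χ z) : ℤ) : ℂ) =
        ((((if x = z then 1 else 0) + (if x = -z then 1 else 0) + 2) : ℤ) : ℂ) := by
      refine mul_left_cancel₀ (mul_ne_zero hN0 hN0) (key.trans ?_)
      push_cast [apply_ite (Int.cast : ℤ → ℂ)]
      simp only [sub_eq_zero, eq_comm (a := z) (b := x), eq_comm (a := -z) (b := x)]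
      split_ifs <;> ring
    exact_mod_cast e2
  have hreg : ∀ x, x ≠ 0 → ∀ ρ : G, ¬ 2 ∣ orderOf ρ →
      ∑ χ ∈ B, (w χ x : ℂ) * (χ : G → ℂ) ρ = 0 := by
    intro x hx ρ hρ
    refine (mul_eq_zero.1 (?_ : (2 * h : ℂ) * ∑ χ ∈ B, (w χ x : ℂ) * (χ : G → ℂ) ρ = 0)).resolve_left hN0
    rw [Finset.mul_sum, Finset.sum_congr rfl fun χ _ => by rw [← mul_assoc, hwN, Finset.sum_mul],
      Finset.sum_comm]
    refine Finset.sum_eq_zero fun y _ => ?_
    by_cases hy : y = 0
    · subst hy; simp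
    have h2 : 2 ∣ orderOf (R (-y)) := by
      obtain ⟨k, hk⟩ := D.exists_order_pow (-y).val
      show 2 ∣ orderOf (σ ^ (-y).val)
      rcases k with _ | k
      · exact absurd (orderOf_eq_one_iff.1 (by rw [hk, pow_zero])) (hR1 _ (neg_ne_zero.2 hy))
      · rw [hk]; exact dvd_pow_self 2 (Nat.succ_ne_zero k)
    have e := blockUnion_orthogonal_regular_singular hM
      (.of_isPBlock (isPBlock_principalBlock (M := M) (G := G))) hρ h2
    rw [hBsum] at e
    calc ∑ χ ∈ B, (χ : G → ℂ) (R y) * (ψ (-(x * y)) - 1) * (χ : G → ℂ) ρ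
        = (ψ (-(x * y)) - 1) * ∑ χ ∈ B, (χ : G → ℂ) ρ * conj ((χ : G → ℂ) (R (-y))) := by
          rw [Finset.mul_sum]
          refine Finset.sum_congr rfl fun χ _ => ?_
          rw [hRneg, Char.irr_inv, Complex.conj_conj]
          ring
      _ = 0 := by rw [e, mul_zero]
  -- the trivial character
  have hone : ∀ x, x ≠ 0 → w (oneChar G) x = -1 := by
    intro x hx
    have e := hwN (oneChar G) x
    simp only [oneChar, one_mul, Finset.sum_sub_distrib, Finset.sum_const, Finset.card_univ, ZMod.card,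
      nsmul_eq_mul, mul_one] at e
    rw [Finset.sum_congr rfl fun y _ => congrArg ψ (show -(x * y) = y * -x by ring), hsum,
      if_neg (neg_ne_zero.2 hx), zero_sub] at e
    have : ((w (oneChar G) x : ℤ) : ℂ) = ((-1 : ℤ) : ℂ) :=
      mul_left_cancel₀ hN0 (e.trans (by push_cast; ring))
    exact_mod_cast this
  -- the indices
  set hh : ZMod (2 * h) := (h : ZMod (2 * h)) with hhh
  set J : Fin (h - 1) → ZMod (2 * h) := fun j => (((j : ℕ) + 1 : ℕ) : ZMod (2 * h)) with hJ
  have hhv : hh.val = h := by rw [hhh, ZMod.val_natCast, Nat.mod_eq_of_lt (by omega)]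
  have hJv : ∀ j, (J j).val = (j : ℕ) + 1 := fun j => by
    rw [hJ, ZMod.val_natCast, Nat.mod_eq_of_lt (by have := j.2; omega)]
  have hJ0 : ∀ j, J j ≠ 0 := fun j e => by
    have := hJv j; rw [e, ZMod.val_zero] at this; omega
  have hJnv : ∀ j, (-J j).val = 2 * h - ((j : ℕ) + 1) := fun j => by
    haveI := NeZero.mk (hJ0 j)
    rw [ZMod.val_neg_of_ne_zero, hJv]
  have hh0 : hh ≠ 0 := fun e => by rw [e, ZMod.val_zero] at hhv; omega
  have hhneg : -hh = hh := by
    rw [neg_eq_iff_add_eq_zero, hhh, ← Nat.cast_add, ← two_mul, ZMod.natCast_self]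
  have hJh : ∀ j, J j ≠ hh ∧ J j ≠ -hh := fun j => by
    rw [hhneg]
    have := hJv j
    refine ⟨fun e => ?_, fun e => ?_⟩ <;> (rw [e, hhv] at this; have := j.2; omega)
  have hJJ : ∀ j k, (J j = J k → j = k) ∧ J j ≠ -J k := fun j k => by
    refine ⟨fun e => Fin.ext (by have := hJv j; rw [e, hJv k] at this; omega), fun e => ?_⟩
    have := hJv j
    rw [e, hJnv k] at this
    have := j.2; have := k.2; omega
  have hcases : ∀ x : ZMod (2 * h), x ≠ 0 → x = hh ∨ ∃ j, x = J j ∨ x = -J j := by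
    intro x hx
    have h1 : x.val ≠ 0 := fun e => hx ((ZMod.val_eq_zero x).1 e)
    have h2 := ZMod.val_lt x
    rcases lt_trichotomy x.val h with hl | hl | hl
    · refine Or.inr ⟨⟨x.val - 1, by omega⟩, Or.inl (ZMod.val_injective _ ?_)⟩
      rw [hJv]; simp only; omega
    · exact Or.inl (ZMod.val_injective _ (by rw [hl, hhv]))
    · refine Or.inr ⟨⟨2 * h - x.val - 1, by omega⟩, Or.inr (ZMod.val_injective _ ?_)⟩
      rw [hJnv]; simp only; omega
  -- the vectors off the trivial character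
  set S := B.erase (oneChar G) with hS
  have h1B : oneChar G ∈ B := Finset.mem_filter.2 ⟨Finset.mem_univ _, one_mem_principalBlock⟩
  have hpos : ∀ χ : ↥S, (0 : ℤ) < charDegree ((χ : IrrCharacter G) : G → ℂ) := fun χ => by
    exact_mod_cast Nat.pos_of_ne_zero (charDegree_eq (χ : IrrCharacter G)).2
  have hsplit : ∀ x z, x ≠ 0 → z ≠ 0 → ∑ χ : ↥S, w χ x * w χ z =
      (if x = z then 1 else 0) + (if x = -z then 1 else 0) + 1 := by
    intro x z hx hz
    have e := hiso x z hx hz
    rw [← Finset.add_sum_erase B _ h1B, hone x hx, hone z hz, ← hS] at e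
    rw [Finset.sum_coe_sort S (fun χ => w χ x * w χ z)]
    linarith
  have hdegsum : ∀ x, x ≠ 0 → ∑ χ : ↥S, w χ x * (charDegree ((χ : IrrCharacter G) : G → ℂ) : ℤ) = 1 := by
    intro x hx
    have e := hreg x hx 1 (by simp)
    rw [← Finset.add_sum_erase B _ h1B, hone x hx, ← hS] at e
    rw [Finset.sum_coe_sort S (fun χ => w χ x * (charDegree (χ : G → ℂ) : ℤ))]
    have e2 : ((∑ χ ∈ S, w χ x * (charDegree (χ : G → ℂ) : ℤ) : ℤ) : ℂ) = ((1 : ℤ) : ℂ) := by
      push_cast
      rw [Finset.sum_congr rfl fun χ _ => by rw [← (charDegree_eq χ).1]]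
      simp only [oneChar, mul_one] at e
      push_cast at e
      linear_combination e
    exact_mod_cast e2
  obtain ⟨k, hk0, hk⟩ := D.pow2
  have hn2 : h - 1 ≠ 2 := by
    intro e
    have h3 : 2 ^ k = 3 := by omega
    have : Even (2 ^ k) := Nat.even_pow.2 ⟨even_two, hk0.ne'⟩
    rw [h3] at this
    exact absurd this (by decide)
  obtain ⟨α, β, γ, x, s, t, v, hs, ht, hv, hab, hac, hbc, hxinj, hxne, hwh, hwj⟩ :=
    exists_config (n := h - 1) (by omega) hn2 (fun χ : ↥S => w χ hh) (fun j χ => w χ (J j))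
      (fun χ => (charDegree ((χ : IrrCharacter G) : G → ℂ) : ℤ)) hpos
      (by rw [hsplit hh hh hh0 hh0, if_pos rfl, if_pos hhneg.symm]; rfl)
      (fun j => by rw [hsplit _ _ (hJ0 j) (hJ0 j), if_pos rfl, if_neg (hJJ j j).2]; rfl)
      (fun j k hjk => by
        rw [hsplit _ _ (hJ0 j) (hJ0 k), if_neg fun e => hjk ((hJJ j k).1 e), if_neg (hJJ j k).2]; rfl)
      (fun j => by rw [hsplit _ _ (hJ0 j) hh0, if_neg (hJh j).1, if_neg (hJh j).2]; rfl)
      (hdegsum hh hh0) (fun j => hdegsum _ (hJ0 j))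
  have hmemS : ∀ χ : ↥S, (χ : IrrCharacter G) ∈ principalBlock M G ∧ (χ : IrrCharacter G) ≠ oneChar G :=
    fun χ => ⟨(Finset.mem_filter.1 (Finset.mem_erase.1 χ.2).2).2, (Finset.mem_erase.1 χ.2).1⟩
  -- all coefficients
  have hwall : ∀ (χ : ↥S) z, z ≠ 0 → w χ z =
      (if χ = α then s else 0) + (if z = hh then (if χ = β then t else 0) + (if χ = γ then v else 0) else 0)
        - ∑ j, (if z = J j ∨ z = -J j then (if χ = x j then s else 0) else 0) := by
    intro χ z hz
    rcases hcases z hz with rfl | ⟨j, hj⟩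
    · rw [if_pos rfl, hwh χ, Finset.sum_eq_zero fun j _ => if_neg fun e => ?_]
      · ring
      · rcases e with e | e
        · exact (hJh j).1 e.symm
        · exact (hJh j).2 (by rw [e, neg_neg])
    · have hwz : w χ z = w χ (J j) := by rcases hj with rfl | rfl; exacts [rfl, hwsym _ _]
      rw [hwz, hwj j χ, if_neg (show ¬ z = hh from ?_), Finset.sum_eq_single j, if_pos hj]
      · ring
      · intro i _ hi
        rw [if_neg]
        rintro (e | e) <;> rcases hj with hj | hj <;> rw [e] at hj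
        · exact hi ((hJJ i j).1 hj)
        · exact (hJJ i j).2 hj
        · exact (hJJ j i).2 hj.symm
        · exact hi ((hJJ i j).1 (neg_injective hj))
      · exact fun e => absurd (Finset.mem_univ j) e
      · intro e
        rcases hj with hj | hj <;> rw [e] at hj
        · exact (hJh j).1 hj.symm
        · exact (hJh j).2 (by rw [hj, neg_neg])
  have hψh : ∀ y : ZMod (2 * h), ψ (hh * y) = (-1) ^ y.val := by
    intro y
    conv_lhs => rw [← ZMod.natCast_zmod_val y, hhh, ← Nat.cast_mul, hψv, pow_mul]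
    rw [show ζ ^ h = -1 from (hζ.pow (by omega) (by ring)).eq_neg_one_of_two_right]
  have hvalS : ∀ (χ : ↥S) y, y ≠ 0 → ((χ : IrrCharacter G) : G → ℂ) (R y) =
      -(if χ = α then (s : ℂ) else 0) +
        ((if χ = β then (t : ℂ) else 0) + (if χ = γ then (v : ℂ) else 0)) * (-1) ^ y.val -
        ∑ j, (if χ = x j then (s : ℂ) else 0) * (ψ (J j * y) + ψ (-J j * y)) := by
    intro χ y hy
    have hw0 : w (χ : IrrCharacter G) 0 = 0 := by simp [hw]
    rw [hval _ y hy, ← Finset.add_sum_erase _ _ (Finset.mem_univ (0 : ZMod (2 * h))), hw0, Int.cast_zero,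
      zero_mul, zero_add, Finset.sum_congr rfl fun z hz => by
        rw [hwall χ z (Finset.mem_erase.1 hz).1]]
    push_cast [apply_ite (Int.cast : ℤ → ℂ)]
    simp only [add_mul, sub_mul, Finset.sum_mul, Finset.sum_add_distrib, Finset.sum_sub_distrib,
      ← Finset.mul_sum, ite_mul, zero_mul, Finset.sum_ite_eq', Finset.mem_erase, Finset.mem_univ, and_true,
      if_pos hh0, hψh]
    have hsum1 : ∑ z ∈ Finset.univ.erase (0 : ZMod (2 * h)), ψ (z * y) = -1 := by
      rw [Finset.sum_erase_eq_sub (Finset.mem_univ _), Finset.sum_congr rfl fun z _ => rfl,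
        hsum, if_neg hy, zero_mul, AddChar.map_zero_eq_one, zero_sub]
    congr 1
    · congr 1
      split_ifs with e
      · rw [← Finset.mul_sum, hsum1, mul_neg_one]
      · simp
    rw [Finset.sum_comm]
    refine Finset.sum_congr rfl fun j _ => ?_
    rw [← Finset.sum_filter, show (Finset.univ.erase (0 : ZMod (2 * h))).filter (fun z => z = J j ∨ z = -J j) =
      {J j, -J j} from ?_, Finset.sum_pair (hJJ j j).2]
    · split_ifs <;> ring
    · ext z
      simp only [Finset.mem_filter, Finset.mem_erase, Finset.mem_univ, and_true, Finset.mem_insert,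
        Finset.mem_singleton]
      constructor
      · exact fun e => e.2
      · rintro (rfl | rfl)
        · exact ⟨hJ0 j, Or.inl rfl⟩
        · exact ⟨neg_ne_zero.2 (hJ0 j), Or.inr rfl⟩
  refine ⟨α, β, γ, fun j => x j, -s, -t, -v, ?_⟩
  have hαx : ∀ j, α ≠ x j := fun j => (hxne j).1.symm
  have hβx : ∀ j, β ≠ x j := fun j => (hxne j).2.1.symm
  have hγx : ∀ j, γ ≠ x j := fun j => (hxne j).2.2.symm
  have hyl : ∀ l : ℕ, 0 < l → l < 2 * h → (l : ZMod (2 * h)) ≠ 0 ∧ (l : ZMod (2 * h)).val = l := by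
    intro l h0 hlt
    have : (l : ZMod (2 * h)).val = l := by rw [ZMod.val_natCast, Nat.mod_eq_of_lt hlt]
    exact ⟨fun e => by rw [e, ZMod.val_zero] at this; omega, this⟩
  have hrelS : ∀ z, z ≠ 0 → ∀ ρ : G, ¬ 2 ∣ orderOf ρ →
      ∑ χ : ↥S, (w χ z : ℂ) * ((χ : IrrCharacter G) : G → ℂ) ρ = 1 := by
    intro z hz ρ hρ
    have e := hreg z hz ρ hρ
    rw [← Finset.add_sum_erase B _ h1B, hone z hz, ← hS] at e
    rw [Finset.sum_coe_sort S (fun χ => (w χ z : ℂ) * (χ : G → ℂ) ρ)]
    simp only [oneChar, mul_one] at e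
    push_cast at e
    linear_combination e
  refine
    { sign₁ := by rcases hs with rfl | rfl <;> simp
      sign₂ := by rcases ht with rfl | rfl <;> simp
      sign₃ := by rcases hv with rfl | rfl <;> simp
      inj := fun i j e => hxinj (Subtype.ext e)
      ne₁ := (hmemS α).2
      ne₂ := (hmemS β).2
      ne₃ := (hmemS γ).2
      ne₁₂ := fun e => hab (Subtype.ext e)
      ne₁₃ := fun e => hac (Subtype.ext e)
      ne₂₃ := fun e => hbc (Subtype.ext e)
      ne' := fun j => ⟨fun e => (hxne j).1 (Subtype.ext e), fun e => (hxne j).2.1 (Subtype.ext e),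
        fun e => (hxne j).2.2 (Subtype.ext e), (hmemS (x j)).2⟩
      block := ?_
      val := ?_
      rel₁ := ?_
      rel₂ := ?_ }
  · ext χ
    simp only [Set.mem_setOf_eq]
    constructor
    · intro hχ
      by_contra hcon
      push Not at hcon
      obtain ⟨h0, h1, h2, h3, h4⟩ := hcon
      have hχS : χ ∈ S := Finset.mem_erase.2 ⟨h0, Finset.mem_filter.2 ⟨Finset.mem_univ _, hχ⟩⟩
      have e := hvalS ⟨χ, hχS⟩ hh hh0
      rw [if_neg fun e' => h1 (congrArg Subtype.val e'), if_neg fun e' => h2 (congrArg Subtype.val e'),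
        if_neg fun e' => h3 (congrArg Subtype.val e'), Finset.sum_eq_zero fun j _ => by
          rw [if_neg fun e' => h4 j (congrArg Subtype.val e'), zero_mul]] at e
      refine D.value_J_ne_zero hM hχ ?_
      rw [show σ ^ h = R hh by rw [hR]; simp only; rw [hhv]]
      simpa using e
    · rintro (rfl | rfl | rfl | rfl | ⟨j, rfl⟩)
      exacts [one_mem_principalBlock, (hmemS α).1, (hmemS β).1, (hmemS γ).1, (hmemS (x j)).1]
  · intro l h0 hlt
    obtain ⟨hy, hyv⟩ := hyl l h0 hlt
    rw [← hRn l]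
    refine ⟨?_, ?_, ?_, fun j => ?_⟩
    · rw [hvalS α _ hy]
      simp [hab, hac, hαx]
    · rw [hvalS β _ hy, hyv]
      simp [hab.symm, hbc, hβx, pow_succ]
    · rw [hvalS γ _ hy, hyv]
      simp [hac.symm, hbc.symm, hγx, pow_succ]
    · rw [hvalS (x j) _ hy, Finset.sum_eq_single j]
      · simp only [(hαx j).symm, (hβx j).symm, (hγx j).symm, if_false, if_true, neg_zero, add_zero, zero_mul,
          zero_sub]
        rw [neg_mul (J j), AddChar.map_neg_eq_inv, hJ, ← Nat.cast_mul, hψv]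
        push_cast; ring
      · intro i _ hi
        rw [if_neg fun e => hi (hxinj e).symm, zero_mul]
      · exact fun e => absurd (Finset.mem_univ j) e
  · intro ρ hρ
    have e := hrelS hh hh0 ρ hρ
    simp only [hwh] at e
    push_cast [apply_ite (Int.cast : ℤ → ℂ)] at e
    simp only [add_mul, ite_mul, zero_mul, Finset.sum_add_distrib, Finset.sum_ite_eq', Finset.mem_univ,
      if_true] at e
    push_cast
    linear_combination -e
  · intro ρ hρ j
    have e := hrelS _ (hJ0 j) ρ hρ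
    simp only [hwj] at e
    push_cast [apply_ite (Int.cast : ℤ → ℂ)] at e
    simp only [sub_mul, ite_mul, zero_mul, Finset.sum_sub_distrib, Finset.sum_ite_eq', Finset.mem_univ,
      if_true] at e
    push_cast
    linear_combination -e

end Frame

end CfsgLib.Block.Dihedral
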