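import Cfsg.Agent.Lib.Block.CycloNorm
import Cfsg.Agent.Lib.Block.Local
import Cfsg.Agent.Lib.Char.AutExtend

/-!
# The normalised trace on cyclotomic integers of `2`-power level

`dav k z` is the average of the conjugates of `z` in level `2 ^ (k + 1)`: an integer, congruent to
`z` modulo `M` when `z` is real; the average of `z * conj z` is a sum of squares of integers.
-/

open Finset
open scoped ComplexConjugate

set_option linter.unusedSectionVars false

namespace CfsgLib.Block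

open Cfsg

/-- The chosen root of unity of order `2 ^ (k + 1)`. -/
noncomputable def dyRoot (k : ℕ) : ℂ := Complex.exp (2 * Real.pi * Complex.I / ((2 ^ (k + 1) : ℕ) : ℕ))

theorem isPrimitiveRoot_dyRoot (k : ℕ) : IsPrimitiveRoot (dyRoot k) (2 ^ (k + 1)) :=
  Complex.isPrimitiveRoot_exp _ (pow_ne_zero _ two_ne_zero)

theorem dyRoot_pow_half (k : ℕ) : dyRoot k ^ 2 ^ k = -1 := by
  have h1 := (isPrimitiveRoot_dyRoot k).pow_eq_one
  rw [pow_succ, pow_mul] at h1
  rcases sq_eq_one_iff.mp h1 with h | h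
  · exfalso
    have := Nat.le_of_dvd (pow_pos two_pos k) ((isPrimitiveRoot_dyRoot k).dvd_of_pow_eq_one _ h)
    rw [pow_succ] at this
    have := pow_pos (two_pos (α := ℕ)) k
    omega
  · exact h

/-- The automorphism raising the roots of unity of level `2 ^ (k + 1)` to the power `2 i + 1`. -/
noncomputable def dyAut (k i : ℕ) : ℂ ≃+* ℂ :=
  (Char.exists_aut_fix_pow one_ne_zero (pow_ne_zero (k + 1) (two_ne_zero (α := ℕ)))
    (Nat.coprime_one_left _) (a := 2 * i + 1)
    ((Nat.Coprime.pow_right _ (Nat.coprime_two_right.mpr ⟨i, rfl⟩)))).choose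

theorem dyAut_root (k i : ℕ) {x : ℂ} (hx : x ^ 2 ^ (k + 1) = 1) : dyAut k i x = x ^ (2 * i + 1) := by
  obtain ⟨j, -, rfl⟩ := (isPrimitiveRoot_dyRoot k).eq_pow_of_pow_eq_one hx
  rw [map_pow, ← pow_mul, mul_comm, pow_mul]
  exact congrArg (· ^ j) (Char.exists_aut_fix_pow one_ne_zero (pow_ne_zero (k + 1) (two_ne_zero (α := ℕ)))
    (Nat.coprime_one_left _) (a := 2 * i + 1)
    ((Nat.Coprime.pow_right _ (Nat.coprime_two_right.mpr ⟨i, rfl⟩)))).choose_spec.2

/-- The average of the conjugates. -/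
noncomputable def dav (k : ℕ) (z : ℂ) : ℂ :=
  ((2 ^ k : ℕ) : ℂ)⁻¹ * ∑ i ∈ Finset.range (2 ^ k), dyAut k i z

theorem dav_add (k : ℕ) (z w : ℂ) : dav k (z + w) = dav k z + dav k w := by
  simp only [dav, map_add, Finset.sum_add_distrib, mul_add]

theorem dav_intCast_mul (k : ℕ) (a : ℤ) (z : ℂ) : dav k ((a : ℂ) * z) = (a : ℂ) * dav k z := by
  simp only [dav, map_mul, map_intCast, ← Finset.mul_sum]
  ring

theorem dav_natCast_mul (k : ℕ) (a : ℕ) (z : ℂ) : dav k ((a : ℂ) * z) = (a : ℂ) * dav k z := by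
  simpa using dav_intCast_mul k (a : ℤ) z

theorem dav_neg (k : ℕ) (z : ℂ) : dav k (-z) = -dav k z := by
  simpa using dav_intCast_mul k (-1) z

theorem dav_zero (k : ℕ) : dav k 0 = 0 := by simp [dav]

theorem dav_sum {ι : Type*} (k : ℕ) (s : Finset ι) (f : ι → ℂ) :
    dav k (∑ i ∈ s, f i) = ∑ i ∈ s, dav k (f i) := by
  classical
  induction s using Finset.induction_on with
  | empty => simp [dav_zero]
  | insert a s ha ih => rw [Finset.sum_insert ha, Finset.sum_insert ha, dav_add, ih]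

theorem dav_root (k : ℕ) {x : ℂ} (hx : x ^ 2 ^ (k + 1) = 1) :
    dav k x = if x ^ 2 = 1 then x else 0 := by
  rw [dav, Finset.sum_congr rfl fun i _ => by rw [dyAut_root k i hx, pow_succ, pow_mul, mul_comm],
    ← Finset.mul_sum]
  split_ifs with h
  · have : ((2 ^ k : ℕ) : ℂ) ≠ 0 := Nat.cast_ne_zero.mpr (pow_ne_zero _ two_ne_zero)
    simp only [h, one_pow, Finset.sum_const, Finset.card_range, nsmul_one]
    field_simp
  · rw [geom_sum_eq h, ← pow_mul, ← pow_succ', hx, sub_self, zero_div, mul_zero, mul_zero]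

theorem dav_one (k : ℕ) : dav k 1 = 1 := by rw [dav_root k (one_pow _), if_pos (one_pow 2)]

theorem dav_intCast (k : ℕ) (a : ℤ) : dav k (a : ℂ) = (a : ℂ) := by
  have h := dav_intCast_mul k a 1
  rwa [dav_one, mul_one] at h

/-- Cyclotomic integers of level `2 ^ (k + 1)` are combinations of the first `2 ^ k` powers. -/
theorem exists_coeff {k : ℕ} {z : ℂ} (hz : z ∈ cycInt (2 ^ (k + 1))) :
    ∃ a : ℕ → ℤ, z = ∑ j ∈ Finset.range (2 ^ k), (a j : ℂ) * dyRoot k ^ j := by
  have hroot : ∀ {x : ℂ}, x ^ 2 ^ (k + 1) = 1 →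
      ∃ a : ℕ → ℤ, x = ∑ j ∈ Finset.range (2 ^ k), (a j : ℂ) * dyRoot k ^ j := by
    intro x hx
    obtain ⟨i, hi, rfl⟩ := (isPrimitiveRoot_dyRoot k).eq_pow_of_pow_eq_one hx
    rw [pow_succ] at hi
    by_cases h : i < 2 ^ k
    · refine ⟨fun j => if j = i then 1 else 0, ?_⟩
      rw [Finset.sum_eq_single i (fun j _ hj => by simp [hj]) (fun h' => absurd (Finset.mem_range.mpr h) h')]
      simp
    · obtain ⟨m, rfl⟩ := Nat.exists_eq_add_of_le (not_lt.mp h)
      refine ⟨fun j => if j = m then -1 else 0, ?_⟩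
      rw [Finset.sum_eq_single m (fun j _ hj => by simp [hj])
        (fun h' => absurd (Finset.mem_range.mpr (by omega)) h'), pow_add, dyRoot_pow_half]
      simp
  have hadd : ∀ {x y : ℂ}, (∃ a : ℕ → ℤ, x = ∑ j ∈ Finset.range (2 ^ k), (a j : ℂ) * dyRoot k ^ j) →
      (∃ a : ℕ → ℤ, y = ∑ j ∈ Finset.range (2 ^ k), (a j : ℂ) * dyRoot k ^ j) →
      ∃ a : ℕ → ℤ, x + y = ∑ j ∈ Finset.range (2 ^ k), (a j : ℂ) * dyRoot k ^ j := by
    rintro x y ⟨a, rfl⟩ ⟨b, rfl⟩
    exact ⟨a + b, by simp only [Pi.add_apply, Int.cast_add, add_mul, Finset.sum_add_distrib]⟩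
  have hsmul : ∀ (c : ℤ) {x : ℂ}, (∃ a : ℕ → ℤ, x = ∑ j ∈ Finset.range (2 ^ k), (a j : ℂ) * dyRoot k ^ j) →
      ∃ a : ℕ → ℤ, (c : ℂ) * x = ∑ j ∈ Finset.range (2 ^ k), (a j : ℂ) * dyRoot k ^ j := by
    rintro c x ⟨a, rfl⟩
    exact ⟨fun j => c * a j, by simp only [Int.cast_mul, Finset.mul_sum, mul_assoc]⟩
  induction hz using Subring.closure_induction with
  | mem x hx => exact hroot hx
  | zero => exact ⟨0, by simp⟩
  | one => exact hroot (one_pow _)
  | add x y _ _ hx hy => exact hadd hx hy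
  | neg x _ hx => simpa using hsmul (-1) hx
  | mul x y _ _ hx hy =>
    obtain ⟨a, rfl⟩ := hx
    obtain ⟨b, rfl⟩ := hy
    rw [Finset.sum_mul_sum]
    refine Finset.sum_induction _ (fun x => ∃ a : ℕ → ℤ,
      x = ∑ j ∈ Finset.range (2 ^ k), (a j : ℂ) * dyRoot k ^ j) (fun _ _ => hadd) ⟨0, by simp⟩ fun i _ => ?_
    refine Finset.sum_induction _ (fun x => ∃ a : ℕ → ℤ,
      x = ∑ j ∈ Finset.range (2 ^ k), (a j : ℂ) * dyRoot k ^ j) (fun _ _ => hadd) ⟨0, by simp⟩ fun j _ => ?_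
    rw [show (a i : ℂ) * dyRoot k ^ i * ((b j : ℂ) * dyRoot k ^ j) =
      ((a i * b j : ℤ) : ℂ) * dyRoot k ^ (i + j) by push_cast; ring]
    exact hsmul _ (hroot (by
      rw [← pow_mul, mul_comm, pow_mul, (isPrimitiveRoot_dyRoot k).pow_eq_one, one_pow]))

theorem dav_conj {k : ℕ} {z : ℂ} (hz : z ∈ cycInt (2 ^ (k + 1))) : dav k (conj z) = dav k z := by
  obtain ⟨a, rfl⟩ := exists_coeff hz
  rw [map_sum, dav_sum, dav_sum]
  refine Finset.sum_congr rfl fun j _ => ?_
  rw [map_mul, map_intCast, dav_intCast_mul, dav_intCast_mul, map_pow]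
  congr 1
  have hx : (dyRoot k ^ j) ^ 2 ^ (k + 1) = 1 := by
    rw [← pow_mul, mul_comm, pow_mul, (isPrimitiveRoot_dyRoot k).pow_eq_one, one_pow]
  rw [← map_pow, dav_root k hx, dav_root k (by rw [← map_pow, hx, map_one])]
  by_cases h : (dyRoot k ^ j) ^ 2 = 1
  · rw [if_pos h, if_pos (by rw [← map_pow, h, map_one])]
    rcases sq_eq_one_iff.mp h with e | e <;> simp [e]
  · rw [if_neg h, if_neg fun h' => h ?_]
    have := congrArg conj h'
    rwa [← map_pow, Complex.conj_conj, map_one] at this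

/-- The coefficients are averages. -/
theorem dav_mul_pow_sub {k i : ℕ} (hi : i < 2 ^ k) (a : ℕ → ℤ) :
    dav k ((∑ j ∈ Finset.range (2 ^ k), (a j : ℂ) * dyRoot k ^ j) * dyRoot k ^ (2 ^ (k + 1) - i)) =
      (a i : ℂ) := by
  rw [Finset.sum_mul, dav_sum, Finset.sum_eq_single i]
  · rw [mul_assoc, ← pow_add, Nat.add_sub_cancel' (by rw [pow_succ]; omega),
      (isPrimitiveRoot_dyRoot k).pow_eq_one, mul_one, dav_intCast]
  · intro j hj hne
    rw [mul_assoc, dav_intCast_mul, ← pow_add, dav_root, if_neg, mul_zero]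
    · intro h
      rw [← pow_mul, (isPrimitiveRoot_dyRoot k).pow_eq_one_iff_dvd] at h
      obtain ⟨c, hc⟩ := h
      have hj' := Finset.mem_range.mp hj
      rw [pow_succ] at hc
      rcases Nat.lt_or_ge c 1 with h0 | h0
      · interval_cases c; omega
      rcases Nat.lt_or_ge c 2 with h0' | h0'
      · interval_cases c; omega
      rcases Nat.lt_or_ge c 3 with h0'' | h0''
      · interval_cases c; omega
      · have : 2 ^ k * 2 * 3 ≤ 2 ^ k * 2 * c := Nat.mul_le_mul_left _ h0''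
        omega
    · rw [← pow_mul, mul_comm, pow_mul, (isPrimitiveRoot_dyRoot k).pow_eq_one, one_pow]
  · exact fun h => absurd (Finset.mem_range.mpr hi) h

theorem exists_dav_int {k : ℕ} {z : ℂ} (hz : z ∈ cycInt (2 ^ (k + 1))) : ∃ A : ℤ, dav k z = A := by
  obtain ⟨a, rfl⟩ := exists_coeff hz
  refine ⟨a 0, ?_⟩
  have h := dav_mul_pow_sub (pow_pos two_pos k) a (i := 0)
  rwa [Nat.sub_zero, (isPrimitiveRoot_dyRoot k).pow_eq_one, mul_one] at h

theorem conj_dyRoot_pow {k i : ℕ} (hi : i ≤ 2 ^ (k + 1)) :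
    conj (dyRoot k ^ i) = dyRoot k ^ (2 ^ (k + 1) - i) := by
  have h0 : (dyRoot k ^ i) ^ 2 ^ (k + 1) = 1 := by
    rw [← pow_mul, mul_comm, pow_mul, (isPrimitiveRoot_dyRoot k).pow_eq_one, one_pow]
  rw [Char.conj_eq_inv_of_pow_eq_one (pow_ne_zero _ two_ne_zero) h0, inv_eq_of_mul_eq_one_right]
  rw [← pow_add, Nat.add_sub_cancel' hi, (isPrimitiveRoot_dyRoot k).pow_eq_one]

/-- The average of a squared absolute value is a sum of squares of integers, positive for a
non-zero element and at least the square of the average. -/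
theorem exists_dav_normSq {k : ℕ} {z : ℂ} (hz : z ∈ cycInt (2 ^ (k + 1))) :
    ∃ S : ℤ, dav k (z * conj z) = S ∧ 0 ≤ S ∧ (z ≠ 0 → 1 ≤ S) ∧
      ∀ A : ℤ, dav k z = A → A * A ≤ S := by
  obtain ⟨a, rfl⟩ := exists_coeff hz
  refine ⟨∑ j ∈ Finset.range (2 ^ k), a j * a j, ?_, Finset.sum_nonneg fun j _ => mul_self_nonneg _,
    fun hne => ?_, fun A hA => ?_⟩
  · rw [map_sum, Finset.mul_sum, dav_sum, Int.cast_sum]
    refine Finset.sum_congr rfl fun i hi => ?_
    have hi' := Finset.mem_range.mp hi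
    rw [map_mul, map_intCast, conj_dyRoot_pow (by rw [pow_succ]; omega), mul_left_comm,
      dav_intCast_mul, dav_mul_pow_sub hi', Int.cast_mul]
  · by_contra hlt
    refine hne (Finset.sum_eq_zero fun j hj => ?_)
    have h0 : ∑ j ∈ Finset.range (2 ^ k), a j * a j = 0 :=
      le_antisymm (by omega) (Finset.sum_nonneg fun j _ => mul_self_nonneg _)
    rw [mul_self_eq_zero.mp ((Finset.sum_eq_zero_iff_of_nonneg fun j _ => mul_self_nonneg _).mp h0 j hj),
      Int.cast_zero, zero_mul]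
  · have h := dav_mul_pow_sub (pow_pos two_pos k) a (i := 0)
    rw [Nat.sub_zero, (isPrimitiveRoot_dyRoot k).pow_eq_one, mul_one, hA] at h
    have : A = a 0 := by exact_mod_cast h
    rw [this]
    exact Finset.single_le_sum (f := fun j => a j * a j) (fun j _ => mul_self_nonneg _)
      (Finset.mem_range.mpr (pow_pos two_pos k))

variable {M : Ideal AlgInt} [M.IsMaximal]

theorem res_two_pow_root (hM : IsPModular 2 M) (k : ℕ) {l : ℂ} (hl : l ^ 2 ^ k = 1) :
    ∃ L : locRing M, (L : ℂ) = l ∧ res M L = 1 := by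
  have := charP_resField hM
  have : Fact (Nat.Prime 2) := ⟨Nat.prime_two⟩
  have hmem' : l ∈ locRing M :=
    integral_mem M (Char.isIntegral_of_pow_eq_one (pow_ne_zero _ two_ne_zero) hl)
  refine ⟨⟨l, hmem'⟩, rfl, sub_eq_zero.mp (eq_zero_of_pow_eq_zero (n := 2 ^ k) ?_)⟩
  rw [sub_pow_char_pow, one_pow, ← map_pow,
    show (⟨l, hmem'⟩ : locRing M) ^ (2 ^ k) = 1 from Subtype.ext (by simpa using hl), map_one, sub_self]

/-- A real element is congruent to its average. -/
theorem res_eq_dav (hM : IsPModular 2 M) {k : ℕ} {z : ℂ} (hz : z ∈ cycInt (2 ^ (k + 1)))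
    (hreal : conj z = z) (L : locRing M) (hL : (L : ℂ) = z) {A : ℤ} (hA : dav k z = A) :
    res M L = (A : ResField M) := by
  obtain ⟨a, ha⟩ := exists_coeff hz
  obtain ⟨R, hR, hR1⟩ := res_two_pow_root (M := M) hM (k + 1) (isPrimitiveRoot_dyRoot k).pow_eq_one
  have hA0 : A = a 0 := by
    have h := dav_mul_pow_sub (pow_pos two_pos k) a (i := 0)
    rw [Nat.sub_zero, (isPrimitiveRoot_dyRoot k).pow_eq_one, mul_one, ← ha, hA] at h
    exact_mod_cast h
  have hanti : ∀ j ∈ Finset.Ico 1 (2 ^ k), a (2 ^ k - j) = -a j := by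
    intro j hj
    obtain ⟨hj1, hj2⟩ := Finset.mem_Ico.mp hj
    have h1 : dav k (z * dyRoot k ^ j) = (a j : ℂ) := by
      have hmem : z * dyRoot k ^ j ∈ cycInt (2 ^ (k + 1)) :=
        Subring.mul_mem _ hz (Subring.pow_mem _ (mem_cycInt_of_pow (isPrimitiveRoot_dyRoot k).pow_eq_one) _)
      rw [← dav_conj hmem, map_mul (starRingEnd ℂ), hreal, conj_dyRoot_pow (by rw [pow_succ]; omega), ha,
        dav_mul_pow_sub hj2]
    have h2 := dav_mul_pow_sub (k := k) (i := 2 ^ k - j) (by omega) a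
    rw [← ha, show 2 ^ (k + 1) - (2 ^ k - j) = j + 2 ^ k by rw [pow_succ]; omega, pow_add,
      dyRoot_pow_half, mul_neg_one, mul_neg, dav_neg, h1] at h2
    exact_mod_cast h2.symm
  have hsum : ∑ j ∈ Finset.range (2 ^ k), a j = a 0 := by
    rw [Finset.range_eq_Ico, Finset.sum_eq_sum_Ico_succ_bot (pow_pos two_pos k), add_eq_left, zero_add]
    have h : ∑ j ∈ Finset.Ico 1 (2 ^ k), a j = -∑ j ∈ Finset.Ico 1 (2 ^ k), a j := by
      rw [← Finset.sum_neg_distrib]
      refine Finset.sum_bij' (fun j _ => 2 ^ k - j) (fun j _ => 2 ^ k - j) (fun j hj => ?_) (fun j hj => ?_)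
        (fun j hj => ?_) (fun j hj => ?_) (fun j hj => by rw [hanti j hj, neg_neg])
      all_goals simp only [Finset.mem_Ico] at hj ⊢; omega
    omega
  have e : L = ∑ j ∈ Finset.range (2 ^ k), (a j : locRing M) * R ^ j := Subtype.ext (by
    rw [hL, ha]
    simp [AddSubmonoidClass.coe_finsetSum, hR])
  rw [hA0, ← hsum, e, map_sum, Int.cast_sum]
  simp [hR1]

/-- Division by two inside the cyclotomic integers. -/
theorem mem_cycInt_of_two_mul (hM : IsPModular 2 M) {k : ℕ} {z : ℂ} (hz : z ∈ cycInt (2 ^ (k + 1)))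
    (w : locRing M) (hw : z = 2 * (w : ℂ)) : (w : ℂ) ∈ cycInt (2 ^ (k + 1)) := by
  classical
  have := charP_resField hM
  obtain ⟨R, hR, hR1⟩ := res_two_pow_root (M := M) hM (k + 1) (isPrimitiveRoot_dyRoot k).pow_eq_one
  have hζ : dyRoot k ∈ cycInt (2 ^ (k + 1)) := mem_cycInt_of_pow (isPrimitiveRoot_dyRoot k).pow_eq_one
  have hπ : res M (1 - R) = 0 := by rw [map_sub, map_one, hR1, sub_self]
  -- `2` is a unit times a power of `1 - ζ`
  have hchain : ∀ m, m ≤ k → ∃ v : locRing M, res M v = 1 ∧ (1 - R ^ 2 ^ m) = (1 - R) ^ 2 ^ m * v := by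
    intro m hm
    induction m with
    | zero => exact ⟨1, map_one _, by simp⟩
    | succ m ih =>
      obtain ⟨v, hv1, hv⟩ := ih (by omega)
      set X := R ^ 2 ^ m with hX
      set u := ∑ i ∈ Finset.range (1 + 2 ^ (k - m)), X ^ i with hu
      refine ⟨v * v * u, ?_, ?_⟩
      · rw [map_mul, map_mul, hv1, one_mul, one_mul, hu, map_sum]
        simp only [hX, map_pow, hR1, one_pow, Finset.sum_const, Finset.card_range, nsmul_one]
        rw [Nat.cast_add, Nat.cast_one, Nat.cast_pow, CharP.cast_eq_zero, zero_pow (by omega), add_zero]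
      · have h2 : 1 + X = (1 - X) * u := by
          rw [hu, mul_neg_geom_sum]
          apply Subtype.ext
          simp only [hX, Subring.coe_add, Subring.coe_one, Subring.coe_pow, AddSubgroupClass.coe_sub, hR]
          have : dyRoot k ^ (2 ^ m * (1 + 2 ^ (k - m))) = - dyRoot k ^ 2 ^ m := by
            rw [mul_add, mul_one, ← pow_add 2 m (k - m), Nat.add_sub_cancel' (by omega : m ≤ k), pow_add,
              dyRoot_pow_half, mul_neg_one]
          rw [← pow_mul, this, sub_neg_eq_add]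
        rw [pow_succ, pow_mul, pow_mul, ← hX, show 1 - X ^ 2 = (1 - X) * (1 + X) by ring, h2, hv]
        ring
  obtain ⟨v, hv1, hv⟩ := hchain k le_rfl
  have htwo : (2 : locRing M) = (1 - R) ^ 2 ^ k * v := by
    rw [← hv]
    apply Subtype.ext
    rw [AddSubgroupClass.coe_sub, Subring.coe_one, Subring.coe_pow, hR, dyRoot_pow_half]
    rw [sub_neg_eq_add, one_add_one_eq_two]
    rfl
  -- coefficients with respect to the powers of `1 - ζ`
  obtain ⟨a, ha⟩ := exists_coeff hz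
  obtain ⟨b, hb⟩ : ∃ b : ℕ → ℤ, z = ∑ j ∈ Finset.range (2 ^ k), (b j : ℂ) * (1 - dyRoot k) ^ j := by
    refine ⟨fun m => (-1) ^ m * ∑ j ∈ Finset.range (2 ^ k), a j * (j.choose m : ℤ), ?_⟩
    rw [ha]
    simp only [Int.cast_mul, Int.cast_sum, Int.cast_pow, Int.cast_neg, Int.cast_one, Int.cast_natCast,
      Finset.mul_sum, Finset.sum_mul]
    rw [Finset.sum_comm]
    refine Finset.sum_congr rfl fun j hj => ?_
    have hj' := Finset.mem_range.mp hj
    have hs : Finset.range (j + 1) ⊆ Finset.range (2 ^ k) := fun x hx =>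
      Finset.mem_range.mpr (by have := Finset.mem_range.mp hx; omega)
    conv_lhs => rw [show dyRoot k = (-(1 - dyRoot k)) + 1 by ring, add_pow]
    rw [Finset.mul_sum]
    refine Eq.trans (Finset.sum_congr rfl fun m _ => ?_) (Finset.sum_subset hs fun m _ hm => ?_)
    · rw [one_pow, mul_one, neg_pow (1 - dyRoot k)]; ring
    · rw [Nat.choose_eq_zero_of_lt (by simpa using hm)]; simp
  set E := (Finset.range (2 ^ k)).filter fun j => b j % 2 = 1 with hE
  set W : ℂ := ∑ j ∈ Finset.range (2 ^ k), ((b j / 2 : ℤ) : ℂ) * (1 - dyRoot k) ^ j with hW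
  have hsplit : z = 2 * W + ∑ j ∈ E, (1 - dyRoot k) ^ j := by
    rw [hb, hW, Finset.mul_sum, hE, Finset.sum_filter, ← Finset.sum_add_distrib]
    refine Finset.sum_congr rfl fun j _ => ?_
    rcases Int.emod_two_eq_zero_or_one (b j) with h | h
    · have e : b j = 2 * (b j / 2) := by omega
      rw [if_neg (by omega), add_zero, ← mul_assoc]
      conv_lhs => rw [e]
      push_cast
      rfl
    · have e : b j = 2 * (b j / 2) + 1 := by omega
      rw [if_pos h]
      conv_lhs => rw [e]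
      push_cast
      ring
  have hWmem : W ∈ cycInt (2 ^ (k + 1)) := Subring.sum_mem _ fun j _ =>
    Subring.mul_mem _ (intCast_mem _ _) (Subring.pow_mem _ (Subring.sub_mem _ (Subring.one_mem _) hζ) _)
  rcases E.eq_empty_or_nonempty with hemp | hne
  · rw [hemp, Finset.sum_empty, add_zero, hw] at hsplit
    rw [mul_left_cancel₀ two_ne_zero hsplit]
    exact hWmem
  exfalso
  set j₀ := E.min' hne with hj₀
  have hj₀N : j₀ < 2 ^ k := Finset.mem_range.mp (Finset.mem_filter.mp (E.min'_mem hne)).1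
  obtain ⟨Wl, hWl⟩ : ∃ Wl : locRing M, (Wl : ℂ) = W :=
    ⟨∑ j ∈ Finset.range (2 ^ k), ((b j / 2 : ℤ) : locRing M) * (1 - R) ^ j, by
      simp [hW, AddSubmonoidClass.coe_finsetSum, hR]⟩
  set U : locRing M := ∑ j ∈ E, (1 - R) ^ (j - j₀) with hU
  have hU1 : res M U = 1 := by
    rw [hU, map_sum, Finset.sum_eq_single j₀]
    · rw [Nat.sub_self, pow_zero, map_one]
    · intro j hj hne'
      have := E.min'_le j hj
      rw [map_pow, hπ, zero_pow (by omega)]
    · exact fun h => absurd (E.min'_mem hne) h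
  have hfac : (1 - R) ^ j₀ * U = (1 - R) ^ 2 ^ k * v * (w - Wl) := by
    rw [← htwo, hU, Finset.mul_sum]
    apply Subtype.ext
    simp only [AddSubmonoidClass.coe_finsetSum, Subring.coe_mul, Subring.coe_pow, AddSubgroupClass.coe_sub,
      Subring.coe_one, hR, hWl]
    rw [show ((2 : locRing M) : ℂ) = 2 from rfl]
    have : ∑ j ∈ E, (1 - dyRoot k) ^ j₀ * (1 - dyRoot k) ^ (j - j₀) = ∑ j ∈ E, (1 - dyRoot k) ^ j :=
      Finset.sum_congr rfl fun j hj => by rw [← pow_add, Nat.add_sub_cancel' (E.min'_le j hj)]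
    linear_combination this + (hw - hsplit)
  have hne0 : (1 - R) ^ j₀ ≠ 0 := pow_ne_zero _ fun h => by
    have h1 : dyRoot k = 1 := by
      have := congrArg Subtype.val h
      simp only [AddSubgroupClass.coe_sub, Subring.coe_one, hR, ZeroMemClass.coe_zero] at this
      linear_combination -this
    have := (isPrimitiveRoot_dyRoot k).eq_orderOf
    rw [h1, orderOf_one] at this
    have := pow_pos (two_pos (α := ℕ)) k
    rw [pow_succ] at *
    omega
  have hUeq : U = (1 - R) ^ (2 ^ k - j₀) * v * (w - Wl) := mul_left_cancel₀ hne0 (by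
    rw [hfac, ← mul_assoc, ← mul_assoc, ← pow_add, Nat.add_sub_cancel' hj₀N.le])
  rw [hUeq, map_mul, map_mul, map_pow, hπ, zero_pow (by omega), zero_mul, zero_mul] at hU1
  exact zero_ne_one hU1

theorem mem_cycInt_of_two_pow_mul (hM : IsPModular 2 M) {k : ℕ} (h : ℕ) {z : ℂ}
    (hz : z ∈ cycInt (2 ^ (k + 1))) (w : locRing M) (hw : z = (2 : ℂ) ^ h * (w : ℂ)) :
    (w : ℂ) ∈ cycInt (2 ^ (k + 1)) := by
  induction h generalizing w with
  | zero => rw [pow_zero, one_mul] at hw; exact hw ▸ hz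
  | succ h ih =>
    have h2 : (2 : ℂ) = ((2 : locRing M) : ℂ) := rfl
    have h1 : ((2 * w : locRing M) : ℂ) ∈ cycInt (2 ^ (k + 1)) := ih (2 * w) (by
      rw [hw, Subring.coe_mul, ← h2, pow_succ]; ring)
    exact mem_cycInt_of_two_mul hM h1 w (by rw [Subring.coe_mul, ← h2])

end CfsgLib.Block
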