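import Cfsg.Agent.Lib.Block.Contrib
import Cfsg.Agent.Lib.Block.DyadicAvg

/-!
# Averaged contributions of a subsection at the prime two

The averages of the diagonal contributions are integers with sum `2 ^ d(b) * l(b)`, odd at height zero,
and bounding the averaged squares of the other entries of their rows.
-/

open Finset
open scoped ComplexConjugate

set_option linter.unusedSectionVars false

namespace CfsgLib.Block

open Cfsg

open scoped Pair

universe u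

variable {M : Ideal AlgInt} [M.IsMaximal] {G : Type u} [Group G] [Fintype G] [DecidableEq G]
  [Fintype (IrrCharacter G)] {C : Subgroup G} [Fintype (IrrCharacter C)]

theorem cycInt_pow_succ_le (p k : ℕ) : cycInt (p ^ k) ≤ cycInt (p ^ (k + 1)) :=
  Subring.closure_le.mpr fun _ (hz : _ ^ p ^ k = 1) =>
    mem_cycInt_of_pow (by rw [pow_succ, pow_mul, hz, one_pow])

open scoped Classical in
/-- The averaged matrix of contributions. -/
theorem exists_avg_matrix (hM : IsPModular 2 M) {x : G} {k : ℕ} (hk : orderOf x = 2 ^ k)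
    (hC : ∀ t : G, t ∈ C ↔ Commute t x) {b : Set (IrrCharacter C)} {B : Set (IrrCharacter G)}
    (hb : IsInducedBlock M C b B) :
    ∃ (A : IrrCharacter G → ℤ) (S : IrrCharacter G → IrrCharacter G → ℤ),
      (∀ χ ψ, 0 ≤ S χ ψ) ∧ (∀ χ ψ, S χ ψ = S ψ χ) ∧ (∀ χ, 0 ≤ A χ) ∧
      (∀ χ ∈ B, A χ * A χ + ∑ ψ ∈ (Finset.univ.filter (· ∈ B)).erase χ, S χ ψ ≤
        (2 : ℤ) ^ blockDefect 2 b * A χ) ∧
      ∑ χ ∈ Finset.univ.filter (· ∈ B), A χ = (2 : ℤ) ^ blockDefect 2 b * blockRank 2 b ∧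
      (∀ χ ∈ B, blockHeight 2 B (χ : G → ℂ) = 0 → A χ % 2 = 1) ∧
      (∀ χ ∈ B, ∀ ψ ∈ B, blockHeight 2 B (χ : G → ℂ) = 0 → blockHeight 2 B (ψ : G → ℂ) = 0 →
        1 ≤ S χ ψ) ∧
      (blockDefect 2 b = blockDefect 2 B → ∀ χ ∈ B, 0 < blockHeight 2 B (χ : G → ℂ) →
        (2 : ℤ) ^ (blockHeight 2 B (χ : G → ℂ) + 1) ∣ A χ ∧
        ∀ ψ ∈ B, blockHeight 2 B (ψ : G → ℂ) = 0 → (4 : ℤ) ^ blockHeight 2 B (χ : G → ℂ) ≤ S χ ψ) := by
  have := charP_resField hM
  have hC' : ∀ t : C, Commute (t : G) x := fun t => (hC t).mp t.2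
  have hmem : ∀ χ ψ, secContrib 2 x C b χ ψ ∈ cycInt (2 ^ (k + 1)) := fun χ ψ =>
    cycInt_pow_succ_le 2 k (secContrib_mem_cycInt hM hk hC hb χ ψ)
  choose A hA using fun χ => exists_dav_int (hmem χ χ)
  choose S hS hS0 hS1 hS2 using fun χ ψ => exists_dav_normSq (hmem χ ψ)
  have hreal : ∀ χ, conj (secContrib 2 x C b χ χ) = secContrib 2 x C b χ χ := fun χ =>
    conj_secContrib hM hb.1 hC' χ χ
  have hq : ((2 : ℕ) : ℂ) ^ blockDefect 2 b = ((2 ^ blockDefect 2 b : ℕ) : ℂ) := (Nat.cast_pow 2 _).symm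
  have hrow : ∀ χ, ∑ ψ ∈ Finset.univ.filter (· ∈ B), S χ ψ = (2 : ℤ) ^ blockDefect 2 b * A χ := by
    intro χ
    have h := congrArg (dav k) (sum_secContrib_mul_conj hM hk hC hb χ).1
    rw [dav_sum, hq, dav_natCast_mul, hA, Finset.sum_congr rfl fun ψ _ => hS χ ψ, ← Int.cast_sum] at h
    exact_mod_cast h
  have hApos : ∀ χ, 0 ≤ A χ := fun χ => nonneg_of_mul_nonneg_right
    ((Finset.sum_nonneg fun ψ _ => hS0 χ ψ).trans_eq (hrow χ)) (by positivity)
  have hres : ∀ χ (L : locRing M), (L : ℂ) = secContrib 2 x C b χ χ → res M L = (A χ : ResField M) :=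
    fun χ L hL => res_eq_dav hM (hmem χ χ) (hreal χ) L hL (hA χ)
  refine ⟨A, S, hS0, fun χ ψ => ?_, hApos, fun χ hχ => ?_, ?_, fun χ hχ h0 => ?_,
    fun χ hχ ψ hψ h1 h2 => ?_, fun hd χ hχ hpos => ⟨?_, fun ψ hψ h0 => ?_⟩⟩
  · have h : (S χ ψ : ℂ) = (S ψ χ : ℂ) := by
      rw [← hS, ← hS, conj_secContrib hM hb.1 hC', conj_secContrib hM hb.1 hC', mul_comm]
    exact_mod_cast h
  · rw [← hrow χ, ← Finset.add_sum_erase _ _ (Finset.mem_filter.mpr ⟨Finset.mem_univ χ, hχ⟩)]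
    linarith [hS2 χ χ (A χ) (hA χ)]
  · obtain ⟨χ₀, hχ₀, -⟩ := exists_height_zero hM hb.2.1
    have h := congrArg (dav k) (sum_secContrib_mul_conj hM hk hC hb χ₀).2
    rw [dav_sum, hq, ← Nat.cast_mul, ← Int.cast_natCast, dav_intCast,
      Finset.sum_congr rfl fun χ _ => hA χ, ← Int.cast_sum] at h
    have h' := Int.cast_inj.mp h
    push_cast at h'
    exact h'
  · obtain ⟨κ, hκ, hr⟩ := exists_secContrib_res hM hk hC hb
    obtain ⟨L, -, hL, -, -⟩ := exists_lift_conj hM (secContrib_mem_cycInt hM hk hC hb χ χ)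
    have h := hr χ χ L hL
    rw [hres χ L hL] at h
    have hne : (A χ : ResField M) ≠ 0 := by
      rw [h]
      exact mul_ne_zero (mul_ne_zero hκ (secRes_ne_zero hM ⟨k, hk⟩ hC hb hχ h0))
        (secRes_ne_zero hM ⟨k, hk⟩ hC hb hχ h0)
    rw [Ne, CharP.intCast_eq_zero_iff (ResField M) 2] at hne
    push_cast at hne
    omega
  · obtain ⟨κ, hκ, hr⟩ := exists_secContrib_res hM hk hC hb
    obtain ⟨L, -, hL, -, -⟩ := exists_lift_conj hM (secContrib_mem_cycInt hM hk hC hb χ ψ)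
    refine hS1 χ ψ fun hz => ?_
    have h := hr χ ψ L hL
    rw [show L = 0 from Subtype.ext (hL.trans hz), map_zero] at h
    exact mul_ne_zero (mul_ne_zero hκ (secRes_ne_zero hM ⟨k, hk⟩ hC hb hχ h1))
      (secRes_ne_zero hM ⟨k, hk⟩ hC hb hψ h2) h.symm
  · obtain ⟨L, hL, -, hLp⟩ := exists_major_lift hM hk hC hb hd hχ hχ
    push_cast at hL
    have hLmem := mem_cycInt_of_two_pow_mul hM _ (hmem χ χ) L hL
    obtain ⟨a, ha⟩ := exists_dav_int hLmem
    have hLreal : conj (L : ℂ) = (L : ℂ) := by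
      have h := hreal χ
      rw [hL, map_mul, map_pow, map_ofNat] at h
      exact mul_left_cancel₀ (pow_ne_zero _ two_ne_zero) h
    have h1 := res_eq_dav hM hLmem hLreal L rfl ha
    rw [hLp hpos] at h1
    have h2 : (2 : ℤ) ∣ a := by
      have := (CharP.intCast_eq_zero_iff (ResField M) 2 a).mp h1.symm
      exact_mod_cast this
    have h3 : (A χ : ℂ) = ((2 ^ blockHeight 2 B (χ : G → ℂ) * a : ℤ) : ℂ) := by
      rw [← hA, hL, ← Nat.cast_ofNat, ← Nat.cast_pow, dav_natCast_mul, ha]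
      push_cast
      ring
    rw [Int.cast_inj.mp h3, pow_succ]
    exact mul_dvd_mul_left _ h2
  · obtain ⟨L, hL, hLne, -⟩ := exists_major_lift hM hk hC hb hd hχ hψ
    push_cast at hL
    have hLmem := mem_cycInt_of_two_pow_mul hM _ (hmem χ ψ) L hL
    obtain ⟨T, hT, -, hT1, -⟩ := exists_dav_normSq hLmem
    have hT1' : 1 ≤ T := hT1 fun hz => hLne h0 (by
      rw [show L = 0 from Subtype.ext hz, map_zero])
    have h3 : (S χ ψ : ℂ) = ((4 ^ blockHeight 2 B (χ : G → ℂ) * T : ℤ) : ℂ) := by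
      rw [← hS, hL, map_mul, map_pow, map_ofNat,
        show (2 : ℂ) ^ blockHeight 2 B (χ : G → ℂ) * L * (2 ^ blockHeight 2 B (χ : G → ℂ) * conj (L : ℂ)) =
          ((4 ^ blockHeight 2 B (χ : G → ℂ) : ℕ) : ℂ) * ((L : ℂ) * conj (L : ℂ)) by
          push_cast
          rw [show (4 : ℂ) = 2 * 2 by norm_num, mul_pow]
          ring,
        dav_natCast_mul, hT]
      push_cast
      ring
    rw [Int.cast_inj.mp h3]
    exact le_mul_of_one_le_right (by positivity) hT1'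

/-- The combinatorics behind the bounds for three summands. -/
theorem two_major_count {ι : Type*} [DecidableEq ι] (s : Finset ι) (h : ι → ℕ) (f : ι → ℤ)
    (R : ι → ι → ℤ) {q : ℤ} (hR : ∀ i j, 0 ≤ R i j)
    (hrow : ∀ i ∈ s, f i * f i + ∑ j ∈ s.erase i, R i j ≤ q * f i)
    (hodd : ∀ i ∈ s, h i = 0 → f i % 2 = 1) (hf : ∀ i ∈ s, 0 ≤ f i)
    (hdvd : ∀ i ∈ s, 0 < h i → (2 : ℤ) ^ (h i + 1) ∣ f i ∧ f i ≠ 0)
    (hR0 : ∀ i ∈ s, ∀ j ∈ s, h i = 0 → (4 : ℤ) ^ h j ≤ R i j)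
    (hsum : ∑ i ∈ s, f i ≤ 3 * q) :
    3 * (s.card : ℤ) ≤ 3 * ((s.filter fun i => h i = 0).card : ℤ) +
        2 * ∑ i ∈ s.filter (fun i => ¬ h i = 0), (2 : ℤ) ^ h i ∧
      3 * ((s.filter fun i => h i = 0).card : ℤ) +
        2 * ∑ i ∈ s.filter (fun i => ¬ h i = 0), (2 : ℤ) ^ h i ≤ 3 * q := by
  set Z := s.filter fun i => h i = 0 with hZ
  set P := s.filter fun i => ¬ h i = 0 with hP
  have hcard : (s.card : ℤ) = Z.card + P.card := by
    rw [← Nat.cast_add, hZ, hP, Finset.card_filter_add_card_filter_not]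
  have hsplit : ∀ g : ι → ℤ, ∑ i ∈ s, g i = ∑ i ∈ Z, g i + ∑ i ∈ P, g i := fun g =>
    (Finset.sum_filter_add_sum_filter_not s _ g).symm
  have hPle : 2 * (P.card : ℤ) ≤ ∑ i ∈ P, (2 : ℤ) ^ h i := by
    rw [mul_comm, ← nsmul_eq_mul, ← Finset.sum_const]
    exact Finset.sum_le_sum fun i hi => le_self_pow₀ (by norm_num) (Finset.mem_filter.mp hi).2
  refine ⟨by omega, ?_⟩
  by_cases hone : ∃ i ∈ Z, f i = 1
  · obtain ⟨i, hi, hfi⟩ := hone
    obtain ⟨his, hi0⟩ := Finset.mem_filter.mp hi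
    have h1 := hrow i his
    rw [hfi] at h1
    have hP4 : 2 * ∑ j ∈ P, (2 : ℤ) ^ h j ≤ 3 * ∑ j ∈ P, (4 : ℤ) ^ h j := by
      rw [Finset.mul_sum, Finset.mul_sum]
      refine Finset.sum_le_sum fun j _ => ?_
      have : (2 : ℤ) ^ h j ≤ 4 ^ h j := pow_le_pow_left₀ (by norm_num) (by norm_num) _
      have : (0 : ℤ) ≤ 2 ^ h j := by positivity
      omega
    have h2 : ∑ j ∈ s.erase i, (4 : ℤ) ^ h j ≤ ∑ j ∈ s.erase i, R i j :=
      Finset.sum_le_sum fun j hj => hR0 i his j (Finset.mem_of_mem_erase hj) hi0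
    have h3 := Finset.add_sum_erase s (fun j => (4 : ℤ) ^ h j) his
    simp only [hi0, pow_zero] at h3
    rw [hsplit, Finset.sum_congr rfl (s₁ := Z) (g := fun _ => (1 : ℤ)) fun j hj => by
      rw [(Finset.mem_filter.mp hj).2, pow_zero], Finset.sum_const, nsmul_eq_mul, mul_one] at h3
    omega
  · push Not at hone
    have hz : ∀ i ∈ Z, 3 ≤ f i := fun i hi => by
      have := hone i hi
      obtain ⟨his, hi0⟩ := Finset.mem_filter.mp hi
      have := hodd i his hi0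
      have := hf i his
      omega
    have hp : ∀ i ∈ P, 2 * (2 : ℤ) ^ h i ≤ f i := fun i hi => by
      obtain ⟨his, hi0⟩ := Finset.mem_filter.mp hi
      obtain ⟨hd, hne⟩ := hdvd i his (Nat.pos_of_ne_zero hi0)
      rw [← pow_succ']
      exact Int.le_of_dvd (lt_of_le_of_ne (hf i his) hne.symm) hd
    have h1 : ∑ _i ∈ Z, (3 : ℤ) ≤ ∑ i ∈ Z, f i := Finset.sum_le_sum hz
    have h2 : ∑ i ∈ P, 2 * (2 : ℤ) ^ h i ≤ ∑ i ∈ P, f i := Finset.sum_le_sum hp
    rw [Finset.sum_const, nsmul_eq_mul] at h1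
    rw [← Finset.mul_sum] at h2
    rw [hsplit] at hsum
    linarith

/-- The defect of a block of the centralizer of a central element of the defect group. -/
theorem major_defect_eq (hM : IsPModular 2 M) {B : Set (IrrCharacter G)} (hB : IsPBlock M B) {D : Subgroup G}
    (hD : IsDefectGroup 2 M B D) (hDC : D ≤ C) {b : Set (IrrCharacter C)} (hb : IsPBlock M b)
    (hbD : IsDefectGroup 2 M b (D.subgroupOf C)) : blockDefect 2 b = blockDefect 2 B := by
  refine Nat.pow_right_injective (le_refl 2) ?_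
  show 2 ^ _ = 2 ^ _
  rw [← defectGroup_card hM hB hD, ← defectGroup_card hM hb hbD]
  exact Nat.card_congr (Subgroup.subgroupOfEquivOfLe hDC).toEquiv

open scoped Classical in
/-- The count, with natural numbers. -/
theorem two_major_count_nat {B : Set (IrrCharacter G)} {d : ℕ}
    (h : 3 * ((Finset.univ.filter (· ∈ B)).card : ℤ) ≤
        3 * (((Finset.univ.filter (· ∈ B)).filter fun χ : IrrCharacter G => blockHeight 2 B (χ : G → ℂ) = 0).card : ℤ) +
        2 * ∑ χ ∈ (Finset.univ.filter (· ∈ B)).filter (fun χ : IrrCharacter G => ¬ blockHeight 2 B (χ : G → ℂ) = 0),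
          (2 : ℤ) ^ blockHeight 2 B (χ : G → ℂ) ∧
      3 * (((Finset.univ.filter (· ∈ B)).filter fun χ : IrrCharacter G => blockHeight 2 B (χ : G → ℂ) = 0).card : ℤ) +
        2 * ∑ χ ∈ (Finset.univ.filter (· ∈ B)).filter (fun χ : IrrCharacter G => ¬ blockHeight 2 B (χ : G → ℂ) = 0),
          (2 : ℤ) ^ blockHeight 2 B (χ : G → ℂ) ≤ 3 * (2 : ℤ) ^ d) :
    3 * Nat.card B ≤ 3 * Nat.card {χ : IrrCharacter G // χ ∈ B ∧ blockHeight 2 B (χ : G → ℂ) = 0} +
        2 * (∑ᶠ χ ∈ {χ : IrrCharacter G | χ ∈ B ∧ 1 ≤ blockHeight 2 B (χ : G → ℂ)},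
          2 ^ blockHeight 2 B (χ : G → ℂ)) ∧
      3 * Nat.card {χ : IrrCharacter G // χ ∈ B ∧ blockHeight 2 B (χ : G → ℂ) = 0} +
        2 * (∑ᶠ χ ∈ {χ : IrrCharacter G | χ ∈ B ∧ 1 ≤ blockHeight 2 B (χ : G → ℂ)},
          2 ^ blockHeight 2 B (χ : G → ℂ)) ≤ 3 * 2 ^ d := by
  have e1 : Nat.card B = (Finset.univ.filter (· ∈ B)).card := by
    rw [Nat.card_eq_fintype_card, Fintype.card_subtype]
  have e2 : Nat.card {χ : IrrCharacter G // χ ∈ B ∧ blockHeight 2 B (χ : G → ℂ) = 0} =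
      ((Finset.univ.filter (· ∈ B)).filter fun χ : IrrCharacter G => blockHeight 2 B (χ : G → ℂ) = 0).card := by
    rw [Nat.card_eq_fintype_card, Fintype.card_subtype, Finset.filter_filter]
  have e3 : (∑ᶠ χ ∈ {χ : IrrCharacter G | χ ∈ B ∧ 1 ≤ blockHeight 2 B (χ : G → ℂ)},
        2 ^ blockHeight 2 B (χ : G → ℂ)) =
      ∑ χ ∈ (Finset.univ.filter (· ∈ B)).filter (fun χ : IrrCharacter G => ¬ blockHeight 2 B (χ : G → ℂ) = 0),
        2 ^ blockHeight 2 B (χ : G → ℂ) := by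
    rw [finsum_mem_eq_finite_toFinset_sum _ (Set.toFinite _)]
    refine Finset.sum_congr ?_ fun _ _ => rfl
    ext χ
    simp [Nat.one_le_iff_ne_zero]
  rw [e1, e2, e3]
  exact_mod_cast h

end CfsgLib.Block
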