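import Cfsg.Agent.Lib.Block.BrauerChars
import Cfsg.Agent.Lib.Block.BlockCount
import Cfsg.Agent.Lib.Block.TraceFun
import Cfsg.Agent.Lib.Block.CyclicDefect.Trace
import Cfsg.Agent.Lib.Block.StarLift

/-!
# Blocks all of whose members have one degree

`rows`: one irreducible Brauer character, `p ^ δ` members with the same regular values;
`exists_point`: a primitive idempotent at which every member takes the value one;
`eq_zero_of_trC`: the Brauer homomorphism at a defect group is injective on the centre of the block.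
-/

open Finset MonoidAlgebra
open scoped ComplexConjugate

set_option autoImplicit false
set_option linter.unusedSectionVars false
set_option linter.style.haveILetI false

namespace CfsgLib.Block.EqualDegree

open Cfsg CfsgLib.Block CfsgLib.Block.CyclicDefect

universe u

variable {p : ℕ} {M : Ideal AlgInt} [M.IsMaximal] {G : Type u} [Group G] [Fintype G] [DecidableEq G]
  [Fintype (IrrCharacter G)] {B : Set (IrrCharacter G)} {d : ℕ}

theorem height_zero (hd : ∀ χ ∈ B, charDegree (χ : G → ℂ) = d) {χ : IrrCharacter G} (hχ : χ ∈ B) :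
    blockHeight p B (χ : G → ℂ) = 0 := by
  rw [blockHeight_eq_zero_iff hχ]
  refine le_antisymm ?_ (minDeg_le hχ)
  refine le_csInf ⟨_, χ, hχ, rfl⟩ ?_
  rintro _ ⟨θ, hθ, rfl⟩
  simp only [degVal, hd χ hχ, hd θ hθ, le_refl]

theorem degree_ne (hB : IsPBlock M B) (hd : ∀ χ ∈ B, charDegree (χ : G → ℂ) = d) : d ≠ 0 := by
  obtain ⟨χ, hχ⟩ := isPBlock_nonempty hB
  exact hd χ hχ ▸ (charDegree_eq χ).2

/-- One Brauer character, a number of members equal to the order of a defect group. -/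
theorem rows (hM : IsPModular p M) (hB : IsPBlock M B)
    (hd : ∀ χ ∈ B, charDegree (χ : G → ℂ) = d) :
    blockRank p B = 1 ∧ Nat.card B = p ^ blockDefect p B ∧
      (∀ χ ∈ B, ∀ ψ ∈ B, ∀ g : G, ¬ p ∣ orderOf g → (χ : G → ℂ) g = (ψ : G → ℂ) g) ∧
      ∀ χ ∈ B, ∀ ψ ∈ B, regInner p χ ψ = ((p : ℂ) ^ blockDefect p B)⁻¹ := by
  classical
  have := Fintype.ofFinite (ConjClasses G)
  have hp : Fact p.Prime := ⟨hM.1⟩
  have hd0 : d ≠ 0 := degree_ne hB hd
  obtain ⟨dec, φ, m, c, hout, hreg, hm, hproj, hc, hindep⟩ := BrauerChars.exists_brauerChars hM hB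
  have h1 : ¬ p ∣ orderOf (1 : G) := by simp [hM.1.ne_one]
  have hmd : ∀ i, d ≤ m i := by
    intro i
    obtain ⟨hm1, hm0⟩ := hm i
    have h := hc i 1 h1
    rw [hm1, Finset.sum_congr rfl (g := fun χ => ((c i χ * (d : ℤ) : ℤ) : ℂ)) fun χ hχ => by
      rw [(charDegree_eq χ).1, hd χ ((Set.Finite.mem_toFinset _).mp hχ)]; push_cast; ring] at h
    have h2 : ((m i : ℤ)) = ∑ χ ∈ (Set.toFinite B).toFinset, c i χ * (d : ℤ) := by exact_mod_cast h
    rw [← Finset.sum_mul] at h2
    exact Nat.le_of_dvd hm0 (Int.natCast_dvd_natCast.mp (h2 ▸ dvd_mul_left _ _))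
  have hdeg : ∀ χ ∈ B, d = ∑ i, dec χ i * m i := by
    intro χ hχ
    have h := hreg χ hχ 1 h1
    rw [(charDegree_eq χ).1, hd χ hχ, Finset.sum_congr rfl fun i _ => by rw [(hm i).1]] at h
    exact_mod_cast h
  have hone : ∀ χ ∈ B, ∃ i, ∀ j, dec χ j = if j = i then 1 else 0 := by
    intro χ hχ
    obtain ⟨i, -, hi⟩ := Finset.exists_ne_zero_of_sum_ne_zero ((hdeg χ hχ) ▸ hd0)
    have hdi : dec χ i ≠ 0 := left_ne_zero_of_mul hi
    have hsplit := (Finset.add_sum_erase Finset.univ (fun j => dec χ j * m j) (Finset.mem_univ i)).trans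
      (hdeg χ hχ).symm
    have h2 : dec χ i * d ≤ dec χ i * m i := Nat.mul_le_mul_left _ (hmd i)
    have h3 : 1 * d ≤ dec χ i * d := Nat.mul_le_mul_right _ (Nat.one_le_iff_ne_zero.mpr hdi)
    have h4 : dec χ i * d = 1 * d := by omega
    have h5 : ∑ j ∈ Finset.univ.erase i, dec χ j * m j = 0 := by omega
    refine ⟨i, fun j => ?_⟩
    by_cases hj : j = i
    · rw [if_pos hj, hj]
      exact Nat.eq_of_mul_eq_mul_right (Nat.pos_of_ne_zero hd0) h4
    · rw [if_neg hj]
      have := Finset.sum_eq_zero_iff.mp h5 j (Finset.mem_erase.mpr ⟨hj, Finset.mem_univ _⟩)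
      exact (Nat.mul_eq_zero.mp this).resolve_right (hm j).2.ne'
  obtain ⟨χ₀, hχ₀⟩ := isPBlock_nonempty hB
  obtain ⟨i₀, hi₀⟩ := hone χ₀ hχ₀
  set S : Finset (IrrCharacter G) := Finset.univ.filter fun χ => dec χ i₀ ≠ 0 with hS
  have hSB : ∀ χ ∈ S, χ ∈ B := fun χ hχ => by
    by_contra hn
    exact (Finset.mem_filter.mp hχ).2 (by rw [hout χ hn]; rfl)
  have hSrow : ∀ χ ∈ S, ∀ j, dec χ j = if j = i₀ then 1 else 0 := by
    intro χ hχ
    obtain ⟨i, hi⟩ := hone χ (hSB χ hχ)
    have := (Finset.mem_filter.mp hχ).2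
    rw [hi] at this
    simp only [ne_eq, ite_eq_right_iff, one_ne_zero, imp_false, not_not] at this
    exact this ▸ hi
  have hval : ∀ χ ∈ S, ∀ g, ¬ p ∣ orderOf g → (χ : G → ℂ) g = φ i₀ g := by
    intro χ hχ g hg
    rw [hreg χ (hSB χ hχ) g hg, Finset.sum_eq_single i₀]
    · rw [hSrow χ hχ, if_pos rfl, Nat.cast_one, one_mul]
    · intro j _ hj
      rw [hSrow χ hχ, if_neg hj, Nat.cast_zero, zero_mul]
    · simp
  have h0S : χ₀ ∈ S := Finset.mem_filter.mpr ⟨Finset.mem_univ _, by rw [hi₀]; simp⟩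
  have hsum : ∀ g, ∑ χ ∈ S, (χ : G → ℂ) g = (S.card : ℂ) * regFun p (χ₀ : G → ℂ) g := by
    intro g
    by_cases hg : p ∣ orderOf g
    · rw [regFun, if_pos hg, mul_zero, ← hproj i₀ g hg, hS, Finset.sum_filter]
      refine Finset.sum_congr rfl fun χ _ => ?_
      by_cases h : dec χ i₀ = 0
      · simp [h]
      · have hχS : χ ∈ S := Finset.mem_filter.mpr ⟨Finset.mem_univ _, h⟩
        rw [if_pos h, hSrow χ hχS, if_pos rfl, Nat.cast_one, one_mul]
    · rw [regFun, if_neg hg, Finset.sum_congr rfl fun χ hχ => hval χ hχ g hg, Finset.sum_const,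
        nsmul_eq_mul, hval χ₀ h0S g hg]
  have hinner : ∀ ψ : IrrCharacter G,
      (S.card : ℂ) * regInner p χ₀ ψ = if ψ ∈ S then 1 else 0 := by
    intro ψ
    have h : classInner (fun g => ∑ χ ∈ S, (χ : G → ℂ) g) (ψ : G → ℂ) =
        (S.card : ℂ) * regInner p χ₀ ψ := by
      simp only [classInner, regInner, hsum, Finset.mul_sum]
      exact Finset.sum_congr rfl fun g _ => by ring
    rw [← h, show (fun g => ∑ χ ∈ S, (χ : G → ℂ) g) = ∑ χ ∈ S, (χ : G → ℂ) from
      funext fun g => (Finset.sum_apply g S _).symm, Char.classInner_sum_left]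
    by_cases hψ : ψ ∈ S
    · rw [if_pos hψ, Finset.sum_eq_single ψ]
      · exact Char.classInner_irr_self ψ
      · exact fun χ _ hne => Char.classInner_irr_ne hne
      · exact fun h => absurd hψ h
    · rw [if_neg hψ]
      exact Finset.sum_eq_zero fun χ hχ => Char.classInner_irr_ne fun e : χ = ψ => hψ (e ▸ hχ)
  have hδ : (Nat.card G).factorization p - degVal p χ₀ = blockDefect p B := by
    have := degVal_add_blockDefect hM hB hχ₀ (height_zero hd hχ₀)
    omega
  obtain ⟨u, hu, hz⟩ := exists_regInner_int hM χ₀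
  have hnz : ∀ ψ ∈ B, regN p M χ₀ ψ ≠ 0 := fun ψ hψ => (regN_ne_zero_iff hM hB hχ₀ hψ).mpr
    fun θ hθ => by simp only [degVal, hd ψ hψ, hd θ hθ, le_refl]
  have hSall : ∀ ψ ∈ B, ψ ∈ S := by
    intro ψ hψ
    by_contra hn
    have h := hinner ψ
    rw [if_neg hn, mul_eq_zero, Nat.cast_eq_zero, Finset.card_eq_zero] at h
    obtain ⟨z, hz1, hz2⟩ := hz ψ
    rw [h.resolve_left (Finset.ne_empty_of_mem h0S), mul_zero, eq_comm, Int.cast_eq_zero] at hz1
    rw [hz1, Int.cast_zero] at hz2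
    exact hnz ψ hψ ((mul_eq_zero.mp hz2.symm).resolve_left hu)
  have hBS : Nat.card B = S.card := by
    rw [Nat.card_eq_fintype_card (α := B), Fintype.card_subtype]
    refine congrArg Finset.card (Finset.ext fun χ => ?_)
    simp only [Finset.mem_filter, Finset.mem_univ, true_and]
    exact ⟨hSall χ, hSB χ⟩
  have hS0 : (S.card : ℂ) ≠ 0 := Nat.cast_ne_zero.mpr (Finset.card_ne_zero.mpr ⟨χ₀, h0S⟩)
  have hcard : S.card = p ^ blockDefect p B := by
    obtain ⟨z, hz1, hz2⟩ := hz χ₀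
    have h := hinner χ₀
    rw [if_pos h0S] at h
    rw [hδ] at hz1
    have hzS : ((z * (S.card : ℤ) : ℤ) : ℂ) = ((p ^ blockDefect p B : ℕ) : ℤ) := by
      push_cast
      rw [← hz1, mul_assoc, mul_comm (regInner p χ₀ χ₀), h, mul_one]
    have hzS' : z * (S.card : ℤ) = ((p ^ blockDefect p B : ℕ) : ℤ) := by exact_mod_cast hzS
    have hzn : z.natAbs * S.card = p ^ blockDefect p B := by
      have := congrArg Int.natAbs hzS'
      rwa [Int.natAbs_mul, Int.natAbs_natCast, Int.natAbs_natCast] at this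
    obtain ⟨t, -, ht⟩ := (Nat.dvd_prime_pow hM.1).mp ⟨_, hzn.symm⟩
    rcases Nat.eq_zero_or_pos t with ht0 | ht0
    · rw [ht, ht0, pow_zero, one_mul] at hzn
      exact hzn
    · exfalso
      have := charP_resField hM
      have hdvd : (p : ℤ) ∣ z := Int.natCast_dvd.mpr (ht ▸ dvd_pow_self p ht0.ne')
      rw [(CharP.intCast_eq_zero_iff (ResField M) p z).mpr hdvd] at hz2
      exact hnz χ₀ hχ₀ ((mul_eq_zero.mp hz2.symm).resolve_left hu)
  have hallreg : ∀ χ ∈ B, ∀ ψ ∈ B, ∀ g : G, ¬ p ∣ orderOf g → (χ : G → ℂ) g = (ψ : G → ℂ) g :=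
    fun χ hχ ψ hψ g hg => (hval χ (hSall χ hχ) g hg).trans (hval ψ (hSall ψ hψ) g hg).symm
  refine ⟨?_, hBS.trans hcard, hallreg, fun χ hχ ψ hψ => ?_⟩
  · have hle : blockRank p B ≤ 1 := by
      by_contra hlt
      obtain ⟨i, hi⟩ := Fintype.exists_ne_of_one_lt_card (by rw [Fintype.card_fin]; omega) i₀
      have h := hindep (Pi.single i 1) fun χ hχ => by
        rw [Finset.sum_eq_single i]
        · rw [hSrow χ (hSall χ hχ), if_neg hi, Nat.cast_zero, zero_mul]
        · intro j _ hj; simp [hj]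
        · simp
      simpa using congrFun h i
    have hpos : 0 < blockRank p B := Fin.pos i₀
    omega
  · have h := hinner ψ
    rw [if_pos (hSall ψ hψ), hcard, Nat.cast_pow] at h
    have he : regInner p χ ψ = regInner p χ₀ ψ := by
      simp only [regInner, classInner]
      refine congrArg _ (Finset.sum_congr rfl fun g _ => ?_)
      simp only [regFun]
      by_cases hg : p ∣ orderOf g
      · rw [if_pos hg, if_pos hg]
      · rw [if_neg hg, if_neg hg, hallreg χ hχ χ₀ hχ₀ g hg]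
    rw [he]
    exact eq_inv_of_mul_eq_one_right h

/-- The coefficient of the idempotent at a regular element. -/
theorem blockCoeff_eq (hM : IsPModular p M) (hB : IsPBlock M B)
    (hd : ∀ χ ∈ B, charDegree (χ : G → ℂ) = d) {η : IrrCharacter G} (hη : η ∈ B) {g : G}
    (hg : ¬ p ∣ orderOf g) :
    blockCoeff B g = (Nat.card G : ℂ)⁻¹ * ((d : ℂ) * (p : ℂ) ^ blockDefect p B) *
      (η : G → ℂ) g⁻¹ := by
  classical
  obtain ⟨-, hk, hreg, -⟩ := rows hM hB hd
  rw [blockCoeff, finsum_mem_eq_toFinset_sum, mul_assoc]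
  congr 1
  rw [Finset.sum_congr rfl (g := fun _ => (d : ℂ) * (η : G → ℂ) g⁻¹) fun χ hχ => ?_]
  · rw [Finset.sum_const, nsmul_eq_mul,
      show B.toFinset.card = Nat.card B by rw [Nat.card_eq_fintype_card (α := B), Set.toFinset_card],
      hk, Nat.cast_pow]
    ring
  · have hχB : χ ∈ B := Set.mem_toFinset.mp hχ
    rw [(charDegree_eq χ).1, hd χ hχB, ← Char.irr_inv, hreg χ hχB η hη g⁻¹ (by rwa [orderOf_inv])]

/-- A primitive idempotent at which every member takes the value one. -/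
theorem exists_point (hM : IsPModular p M) (hB : IsPBlock M B)
    (hd : ∀ χ ∈ B, charDegree (χ : G → ℂ) = d) :
    ∃ j : MonoidAlgebra (ResField M) G, Points.IsPt j ∧ j * eK M B = j ∧
      ∀ χ ∈ B, idemVal χ j = 1 := by
  classical
  have := Fintype.ofFinite (ConjClasses G)
  obtain ⟨hl, hk, hreg, hinner⟩ := rows hM hB hd
  obtain ⟨j, hj, hjB⟩ := CyclicDefect.exists_point hM hB
  obtain ⟨η, hη⟩ := isPBlock_nonempty hB
  have hS := IsBlockUnion.of_isPBlock hB
  obtain ⟨g, hg⟩ : ∃ g, (eK M B).coeff g ≠ 0 := by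
    by_contra hall
    push Not at hall
    exact eK_ne_zero hM hB (ga_ext fun g => by simp [hall g])
  have hgreg : ¬ p ∣ orderOf g := regular_of_coeffRes_ne_zero hM hS (S := B) (g := g) (by
    rwa [eK, coeff_toK] at hg)
  have hdef := degVal_add_blockDefect hM hB hη (height_zero hd hη)
  rw [degVal, hd η hη] at hdef
  set n := (Nat.card G).factorization p with hn
  have hG0 : Nat.card G ≠ 0 := Nat.card_pos.ne'
  have hG' : ¬ p ∣ ordCompl[p] (Nat.card G) := Nat.not_dvd_ordCompl hM.1 hG0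
  have eG : (Nat.card G : ℂ) = (p : ℂ) ^ n * (ordCompl[p] (Nat.card G) : ℕ) := by
    exact_mod_cast (Nat.ordProj_mul_ordCompl_eq_self (Nat.card G) p).symm
  have ed : (d : ℂ) = (p : ℂ) ^ d.factorization p * (ordCompl[p] d : ℕ) := by
    exact_mod_cast (Nat.ordProj_mul_ordCompl_eq_self d p).symm
  have hnd : ¬ p ∣ idemVal η j := by
    refine not_dvd_idemVal hM hB hl hj hjB hη
      (c := (ordCompl[p] d : locRing M) * invNat hM hG') hgreg hg ?_
    rw [coe_coeff_blockIdem hM hS, blockCoeff_eq hM hB hd hη hgreg, Subring.coe_mul,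
      Subring.coe_natCast, show ((invNat hM hG' : locRing M) : ℂ) =
        ((ordCompl[p] (Nat.card G) : ℕ) : ℂ)⁻¹ from rfl]
    congr 1
    rw [eG, ed, ← hdef, pow_add]
    have hpp : (p : ℂ) ≠ 0 := Nat.cast_ne_zero.mpr hM.1.ne_zero
    field_simp
  refine ⟨j, hj, hjB, fun χ hχ => ?_⟩
  rw [idemVal_congr_regular hM (hreg χ hχ η hη) hj.idem]
  exact idemVal_point_eq_one hM hB hl hj hjB hη (hinner η hη η hη) hnd

end CfsgLib.Block.EqualDegree
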