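import Cfsg.Agent.Lib.Block.EqualDegree

/-!
# Injectivity of the Brauer homomorphism on the centre of a block with equal degrees

`eq_zero_of_trC`: the coefficient form at the identity, read through the relative trace from a defect
group, is nondegenerate on the centre and factors through the Brauer homomorphism.
-/

open Finset MonoidAlgebra
open scoped ComplexConjugate

set_option autoImplicit false
set_option linter.unusedSectionVars false
set_option linter.style.haveILetI false

namespace CfsgLib.Block.EqualDegree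

open Cfsg CfsgLib.Block CfsgLib.Block.CyclicDefect

universe u

variable {p : ℕ} {M : Ideal AlgInt} [M.IsMaximal] {G : Type u} [Group G] [Fintype G] [DecidableEq G]
  [Fintype (IrrCharacter G)] {B : Set (IrrCharacter G)} {P : Subgroup G} {d : ℕ}

theorem evalGA_eq_trace (ψ : IrrCharacter G) {n : ℕ} (ρ : Representation ℂ G (Fin n → ℂ))
    (hψ : ρ.character = (ψ : G → ℂ)) (w : MonoidAlgebra (locRing M) G) :
    evalGA (ψ : G → ℂ) w = LinearMap.trace ℂ _ (ρ.asAlgebraHom (toC M w)) := by
  rw [Representation.asAlgebraHom_def, MonoidAlgebra.lift_apply,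
    Finsupp.sum_fintype _ _ (fun g => by simp), map_sum, evalGA]
  exact Finset.sum_congr rfl fun t _ => by rw [map_smul, smul_eq_mul, coeff_toC, ← hψ]; rfl

/-- A class element multiplies values by its central character. -/
theorem evalGA_central_mul (ψ : IrrCharacter G) {z : MonoidAlgebra (locRing M) G} (hz : IsClassElt z)
    (X : MonoidAlgebra (locRing M) G) :
    evalGA (ψ : G → ℂ) (z * X) = omega (ψ : G → ℂ) (toC M z) * evalGA (ψ : G → ℂ) X := by
  obtain ⟨n, ρ, hρ, hψ⟩ := ψ.2
  have he := rho_classElt ρ (show IsClassElt (toC M z) from hz.map _)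
  rw [hψ] at he
  rw [evalGA_eq_trace ψ ρ hψ, evalGA_eq_trace ψ ρ hψ, map_mul, map_mul, he,
    Algebra.algebraMap_eq_smul_one, smul_mul_assoc, one_mul, map_smul, smul_eq_mul]

theorem omega_toC_mul (ψ : IrrCharacter G) {a b : MonoidAlgebra (locRing M) G} (ha : IsClassElt a)
    (hb : IsClassElt b) : omega (ψ : G → ℂ) (toC M (a * b)) =
      omega (ψ : G → ℂ) (toC M a) * omega (ψ : G → ℂ) (toC M b) := by
  rw [map_mul]
  exact omega_mul ψ.2 (ha.map _) (hb.map _)

/-- The coefficient at the identity. -/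
theorem coeff_one_eq (X : MonoidAlgebra (locRing M) G) :
    ((X.coeff 1 : locRing M) : ℂ) =
      (Nat.card G : ℂ)⁻¹ * ∑ χ : IrrCharacter G, (χ : G → ℂ) 1 * evalGA (χ : G → ℂ) X := by
  have hG : (Nat.card G : ℂ) ≠ 0 := Nat.cast_ne_zero.mpr Nat.card_pos.ne'
  have h : ∀ t : G, ∑ χ : IrrCharacter G, (χ : G → ℂ) 1 * (χ : G → ℂ) t =
      if t = 1 then (Nat.card G : ℂ) else 0 := fun t => by
    rw [← Char.regular_char t, Char.regular_char_expand, Finset.sum_apply]
    rfl
  simp only [evalGA, Finset.mul_sum]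
  rw [Finset.sum_comm, Finset.sum_eq_single (1 : G)]
  · rw [Finset.sum_congr rfl (g := fun χ : IrrCharacter G => (Nat.card G : ℂ)⁻¹ * (X.coeff 1 : ℂ) *
      ((χ : G → ℂ) 1 * (χ : G → ℂ) 1)) fun χ _ => by ring, ← Finset.mul_sum, h, if_pos rfl]
    field_simp
  · intro t _ ht
    rw [Finset.sum_congr rfl (g := fun χ : IrrCharacter G => (Nat.card G : ℂ)⁻¹ * (X.coeff t : ℂ) *
      ((χ : G → ℂ) 1 * (χ : G → ℂ) t)) fun χ _ => by ring, ← Finset.mul_sum, h, if_neg ht, mul_zero]
  · simp

/-- On the corner of an idempotent of value one the values multiply. -/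
theorem evalGA_mul_corner (χ : IrrCharacter G) {c : MonoidAlgebra (locRing M) G} (hc : c * c = c)
    (h1 : evalGA (χ : G → ℂ) c = 1) (x y : MonoidAlgebra (locRing M) G) :
    evalGA (χ : G → ℂ) (c * x * c * (c * y * c)) =
      evalGA (χ : G → ℂ) (c * x * c) * evalGA (χ : G → ℂ) (c * y * c) := by
  obtain ⟨n, ρ, hρ, hψ⟩ := χ.2
  set P := ρ.asAlgebraHom (toC M c) with hP
  have hPP : P * P = P := by rw [hP, ← map_mul, ← map_mul, hc]
  rw [evalGA_eq_trace χ ρ hψ] at h1
  have hfr : Module.finrank ℂ (LinearMap.range P) = 1 := by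
    have h := LinearMap.IsProj.trace ((LinearMap.isProj_range_iff_isIdempotentElem P).mpr hPP)
    rw [h1] at h
    exact_mod_cast h.symm
  obtain ⟨v, -, hv⟩ := finrank_eq_one_iff'.mp hfr
  have hs : ∀ X : Module.End ℂ (Fin n → ℂ), ∃ a : ℂ, P * X * P = a • P := by
    intro X
    obtain ⟨a, ha⟩ := hv ⟨P (X v), LinearMap.mem_range_self _ _⟩
    refine ⟨a, LinearMap.ext fun w => ?_⟩
    obtain ⟨b, hb⟩ := hv ⟨P w, LinearMap.mem_range_self _ _⟩
    have ha' : a • (v : Fin n → ℂ) = P (X v) := congrArg Subtype.val ha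
    have hb' : b • (v : Fin n → ℂ) = P w := congrArg Subtype.val hb
    simp only [Module.End.mul_apply, LinearMap.smul_apply]
    rw [← hb', map_smul, map_smul, ← ha', smul_comm]
  obtain ⟨a, ha⟩ := hs (ρ.asAlgebraHom (toC M x))
  obtain ⟨b, hb⟩ := hs (ρ.asAlgebraHom (toC M y))
  simp only [evalGA_eq_trace χ ρ hψ, map_mul, ← hP, ha, hb, smul_mul_assoc, mul_smul_comm, hPP,
    map_smul, smul_eq_mul] at *
  rw [h1]
  ring

theorem coeff_one_mul_comm {R : Type*} [CommRing R] (a b : MonoidAlgebra R G) :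
    (a * b).coeff 1 = (b * a).coeff 1 := by
  rw [coeff_mul_sum, coeff_mul_sum]
  exact Fintype.sum_equiv (Equiv.inv G) _ _ fun h => by simp [mul_comm]

/-- The sum of the conjugates over the cosets of a fixed element is a class element. -/
theorem isClassElt_relTrace {R : Type*} [CommRing R] [Fintype (G ⧸ P)] {u : MonoidAlgebra R G}
    (hu : ∀ s ∈ P, Commute (single s (1 : R)) u) :
    IsClassElt (∑ q : G ⧸ P, single q.out (1 : R) * u * single q.out⁻¹ 1) := by
  refine (isClassElt_iff _).mpr fun s => ?_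
  rw [commute_iff_eq, Finset.mul_sum, Finset.sum_mul]
  refine Fintype.sum_equiv (MulAction.toPerm s : Equiv.Perm (G ⧸ P)) _ _ fun q => ?_
  rw [MulAction.toPerm_apply]
  have hmem : (s • q).out⁻¹ * (s * q.out) ∈ P := by
    rw [← QuotientGroup.eq, QuotientGroup.out_eq']
    conv_lhs => rw [← QuotientGroup.out_eq' q]
    rfl
  obtain ⟨r, hr⟩ : ∃ r, r = (s • q).out⁻¹ * (s * q.out) := ⟨_, rfl⟩
  rw [← hr] at hmem
  have h1 : s * q.out = (s • q).out * r := by rw [hr, mul_inv_cancel_left]
  have h2 : q.out⁻¹ = r⁻¹ * (s • q).out⁻¹ * s := by rw [hr]; group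
  calc single s (1 : R) * (single q.out 1 * u * single q.out⁻¹ 1)
      = single (s * q.out) 1 * u * single q.out⁻¹ 1 := by
        rw [← mul_assoc, ← mul_assoc, MonoidAlgebra.single_mul_single, one_mul]
    _ = single (s • q).out 1 * (single r 1 * u) * single q.out⁻¹ 1 := by
        rw [h1, ← mul_assoc, MonoidAlgebra.single_mul_single, one_mul]
    _ = single (s • q).out 1 * u * (single r 1 * single q.out⁻¹ 1) := by
        rw [(hu r hmem).eq]
        simp only [mul_assoc]
    _ = single (s • q).out 1 * u * single (s • q).out⁻¹ 1 * single s 1 := by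
        rw [MonoidAlgebra.single_mul_single, one_mul, h2, mul_assoc (_ * u),
          MonoidAlgebra.single_mul_single, one_mul]
        congr 2
        group

theorem omega_mul_blockIdem (hM : IsPModular p M) (hB : IsPBlock M B) [DecidablePred (· ∈ B)]
    (ψ : IrrCharacter G) {z : MonoidAlgebra (locRing M) G} (hz : IsClassElt z) :
    omega (ψ : G → ℂ) (toC M (z * (blockIdem M B : MonoidAlgebra (locRing M) G))) =
      if ψ ∈ B then omega (ψ : G → ℂ) (toC M z) else 0 := by
  have hS := IsBlockUnion.of_isPBlock hB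
  rw [omega_toC_mul ψ hz (mem_center_iff_isClassElt.mp (blockIdem M B).2), toC_blockIdem hM hS,
    omega_gaOfFun_blockCoeff]
  by_cases h : ψ ∈ B <;> simp [h]

/-- The Brauer homomorphism at a defect group is injective on the centre of the block. -/
theorem eq_zero_of_trC (hM : IsPModular p M) (hB : IsPBlock M B) (hP : IsDefectGroup p M B P)
    (hd : ∀ χ ∈ B, charDegree (χ : G → ℂ) = d) {z : MonoidAlgebra (ResField M) G}
    (hzc : IsClassElt z) (hze : z * eK M B = z) (htr : trC P z = 0) : z = 0 := by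
  classical
  have := Fintype.ofFinite (ConjClasses G)
  have := Fintype.ofFinite (G ⧸ P)
  have hPp := isPGroup_defectGroup hM hB hP
  have hS := IsBlockUnion.of_isPBlock hB
  obtain ⟨hl, hk, hreg, hinner⟩ := rows hM hB hd
  obtain ⟨j, hj, hjB, hval⟩ := exists_point hM hB hd
  choose l hl' using fun r : ResField M => res_surjective (M := M) r
  let lift : MonoidAlgebra (ResField M) G → MonoidAlgebra (locRing M) G :=
    fun y => gaOfFun fun g => l (y.coeff g)
  have hlift : ∀ y, toK M (lift y) = y := fun y => ga_ext fun g => by simp [lift, hl']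
  set eO := (blockIdem M B : MonoidAlgebra (locRing M) G) with heO
  have heK : toK M eO = eK M B := rfl
  have hee : eO * eO = eO := congrArg Subtype.val (blockIdem_mul_self hM hS)
  have hecl : IsClassElt eO := mem_center_iff_isClassElt.mp (blockIdem M B).2
  obtain ⟨c, hcc, hcK, hec, hce⟩ := exists_lift_below (c := eO) hee (s := j) hj.idem
    (by rw [heK, (commute_eK j).eq, hjB]) (by rw [heK, hjB])
  have hc1 : ∀ χ ∈ B, evalGA (χ : G → ℂ) c = 1 := fun χ hχ => by
    rw [idemVal_spec hM hcc hcK χ, hval χ hχ, Nat.cast_one]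
  obtain ⟨n, a, b, haj, hjb, hab⟩ := exists_full hM hB hl hj hjB
  obtain ⟨u, huP, -, husum⟩ := exists_trace hM hB hP
  have hud : ∀ s ∈ P, Commute (single s (1 : locRing M)) (lift u) := fun s hs => by
    rw [commute_single_iff]
    intro g
    simp only [lift, coeff_gaOfFun]
    rw [(commute_single_iff u s).mp (huP s hs) g]
  obtain ⟨E, hE⟩ : ∃ E, E = ∑ q : G ⧸ P, single q.out (1 : locRing M) * lift u * single q.out⁻¹ 1 :=
    ⟨_, rfl⟩
  have hEcl : IsClassElt E := hE ▸ isClassElt_relTrace hud
  have hEK : toK M E = eK M B := by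
    rw [← husum, hE, map_sum]
    refine Finset.sum_congr rfl fun q _ => ?_
    rw [map_mul, map_mul, hlift, toK, mapRingHom_single, mapRingHom_single, map_one]
  have hG : (Nat.card G : ℂ) ≠ 0 := Nat.cast_ne_zero.mpr Nat.card_pos.ne'
  have hd0 : (d : ℂ) ≠ 0 := Nat.cast_ne_zero.mpr (degree_ne hB hd)
  have hX : ∀ X : MonoidAlgebra (locRing M) G, ((((eO * X).coeff 1 : locRing M)) : ℂ) =
      (Nat.card G : ℂ)⁻¹ *
        ∑ χ ∈ Finset.univ.filter (· ∈ B), (d : ℂ) * evalGA (χ : G → ℂ) X := by
    intro X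
    rw [coeff_one_eq, Finset.sum_filter]
    congr 1
    refine Finset.sum_congr rfl fun χ _ => ?_
    rw [(hecl.commute X).eq, TwoChar.evalGA_mul_blockIdem hM hS]
    by_cases h : χ ∈ B
    · rw [if_pos h, if_pos h, (charDegree_eq χ).1, hd χ h]
    · rw [if_neg h, if_neg h, mul_zero]
  -- the members take the values of the block at elements of the corner
  have hcorner : ∀ (g : G), ∃ H : MonoidAlgebra (locRing M) G, ∀ χ ∈ B,
      evalGA (χ : G → ℂ) (c * H * c) = (χ : G → ℂ) g := by
    intro g
    set A := fun r => lift (a r) with hA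
    set Bf := fun r => lift (b r) with hBf
    set X := ∑ r, A r * c * Bf r with hXdef
    have hXK : toK M X = eK M B := by
      rw [hXdef, map_sum, ← hab]
      exact Finset.sum_congr rfl fun r _ => by simp only [A, Bf, map_mul, hcK, hlift, haj]
    obtain ⟨w, hw⟩ := (isUnit_of_toK_eq_one (x := X * eO + (1 - eO)) (by
      rw [map_add, map_mul, map_sub, map_one, hXK, heK, eK_idem hM hB, add_sub_cancel])).exists_right_inv
    have hXw : eO = X * (eO * w) := by
      have h1 := congrArg (fun y => eO * y) hw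
      simp only [mul_one] at h1
      rw [← mul_assoc eO, mul_add, mul_sub, mul_one, hee, sub_self, add_zero, ← mul_assoc,
        (hecl.commute X).eq, mul_assoc X, hee, mul_assoc] at h1
      exact h1.symm
    refine ⟨∑ r, Bf r * (eO * w) * single g 1 * A r, fun χ hχ => ?_⟩
    have h2 : (χ : G → ℂ) g = evalGA (χ : G → ℂ) (single g 1 * eO) := by
      rw [TwoChar.evalGA_mul_blockIdem hM hS, if_pos hχ, evalGA, Finset.sum_eq_single g]
      · simp
      · intro t _ ht
        simp [Ne.symm ht]
      · simp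
    rw [h2]
    conv_rhs => rw [hXw, hXdef, Finset.sum_mul, Finset.mul_sum]
    rw [Finset.mul_sum, Finset.sum_mul]
    have hadd : ∀ (f : Fin n → MonoidAlgebra (locRing M) G),
        evalGA (χ : G → ℂ) (∑ r, f r) = ∑ r, evalGA (χ : G → ℂ) (f r) := fun f =>
      map_sum (AddMonoidHom.mk' (evalGA (χ : G → ℂ)) (TwoChar.evalGA_add _)) f _
    rw [hadd, hadd]
    refine Finset.sum_congr rfl fun r _ => ?_
    rw [show c * (Bf r * (eO * w) * single g 1 * A r) * c =
        c * (Bf r * (eO * w)) * (single g 1 * A r * c) by simp only [mul_assoc],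
      evalGA_mul_comm (Char.isClassFunction_irr χ),
      show single g 1 * A r * c * (c * (Bf r * (eO * w))) =
        single g 1 * (A r * (c * c) * Bf r * (eO * w)) by simp only [mul_assoc], hcc]
  choose H hH using hcorner
  by_contra hz0
  have hzc' : ∀ y, Commute z y := fun y => hzc.commute y
  have hzj : z * j ≠ 0 := fun h0 => hz0 (by
    rw [← hze, ← hab, Finset.mul_sum]
    refine Finset.sum_eq_zero fun r _ => ?_
    rw [← haj r, ← mul_assoc, ← mul_assoc, (hzc' (a r)).eq, mul_assoc (a r), h0, mul_zero, zero_mul])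
  obtain ⟨g₀, hg₀⟩ : ∃ g₀, (z * j).coeff g₀ ≠ 0 := by
    by_contra hall
    push Not at hall
    exact hzj (ga_ext fun g => by simp [hall g])
  set x₀ : MonoidAlgebra (ResField M) G := single g₀⁻¹ 1 with hx₀
  set y := c * lift x₀ * c with hy
  -- the class element with central characters the values at `y`
  set f : G → locRing M := fun g => (eO * (y * (c * H g⁻¹ * c))).coeff 1 with hf
  have hfv : ∀ g, (f g : ℂ) = (Nat.card G : ℂ)⁻¹ * ∑ χ ∈ Finset.univ.filter (· ∈ B),
      (d : ℂ) * (evalGA (χ : G → ℂ) y * conj ((χ : G → ℂ) g)) := by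
    intro g
    rw [hf, hX]
    congr 1
    refine Finset.sum_congr rfl fun χ hχ => ?_
    rw [hy, evalGA_mul_corner χ hcc (hc1 χ (Finset.mem_filter.mp hχ).2),
      hH g⁻¹ χ (Finset.mem_filter.mp hχ).2, Char.irr_inv]
  set z' : MonoidAlgebra (locRing M) G := gaOfFun f with hz'
  have hz'c : IsClassElt z' := fun g h => by
    simp only [hz', coeff_gaOfFun]
    refine Subtype.ext ?_
    simp only [hfv, Char.isClassFunction_irr _ g h]
  have hωz' : ∀ χ ∈ B, omega (χ : G → ℂ) (toC M z') = evalGA (χ : G → ℂ) y := by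
    intro χ hχ
    rw [omega]
    simp only [coeff_toC, hz', coeff_gaOfFun, hfv, Finset.mul_sum, Finset.sum_mul]
    rw [Finset.sum_comm, Finset.sum_eq_single χ]
    · have h := Char.classInner_irr_self χ
      rw [classInner] at h
      rw [Finset.sum_congr rfl (g := fun g => (d : ℂ) * evalGA (χ : G → ℂ) y *
        ((Nat.card G : ℂ)⁻¹ * ((χ : G → ℂ) g * conj ((χ : G → ℂ) g)))) fun g _ => by ring,
        ← Finset.mul_sum, ← Finset.mul_sum, h, mul_one, (charDegree_eq χ).1, hd χ hχ]
      field_simp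
    · intro ψ _ hne
      have h := Char.classInner_irr_ne (Ne.symm hne)
      rw [classInner] at h
      rw [Finset.sum_congr rfl (g := fun g => (d : ℂ) * evalGA (ψ : G → ℂ) y *
        ((Nat.card G : ℂ)⁻¹ * ((χ : G → ℂ) g * conj ((ψ : G → ℂ) g)))) fun g _ => by ring,
        ← Finset.mul_sum, ← Finset.mul_sum, h, mul_zero]
    · exact fun h => absurd (Finset.mem_filter.mpr ⟨Finset.mem_univ _, hχ⟩) h
  set z₀ := lift z with hz₀def
  have hz₀c : IsClassElt z₀ := fun g h => by simp only [z₀, lift, coeff_gaOfFun, hzc g h]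
  set Z := z₀ * z' with hZdef
  have hZc : IsClassElt Z := hz₀c.mul hz'c
  have hωZ : ∀ χ ∈ B, omega (χ : G → ℂ) (toC M Z) =
      omega (χ : G → ℂ) (toC M z₀) * evalGA (χ : G → ℂ) y := fun χ hχ => by
    rw [hZdef, omega_toC_mul χ hz₀c hz'c, hωz' χ hχ]
  -- the two values of the form
  have h1 : ((eO * (Z * E * c)).coeff 1 : ℂ) = ((eO * (z₀ * E * y)).coeff 1 : ℂ) := by
    rw [hX, hX]
    congr 1
    refine Finset.sum_congr rfl fun χ hχ => ?_
    have hχB := (Finset.mem_filter.mp hχ).2
    congr 1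
    rw [evalGA_central_mul χ (hZc.mul hEcl), evalGA_central_mul χ (hz₀c.mul hEcl),
      omega_toC_mul χ hZc hEcl, omega_toC_mul χ hz₀c hEcl, hωZ χ hχB,
      hc1 χ hχB]
    ring
  have h2 : ((eO * (Z * E)).coeff 1 : ℂ) = (d : ℂ) * ((eO * (Z * E * c)).coeff 1 : ℂ) := by
    rw [hX, hX, mul_left_comm (d : ℂ) ((Nat.card G : ℂ)⁻¹)]
    refine congrArg ((Nat.card G : ℂ)⁻¹ * ·) ?_
    rw [Finset.mul_sum]
    refine Finset.sum_congr rfl fun χ hχ => ?_
    have hχB := (Finset.mem_filter.mp hχ).2
    rw [evalGA_central_mul χ hZc E, evalGA_central_mul χ (hZc.mul hEcl),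
      omega_toC_mul χ hZc hEcl, hc1 χ hχB]
    have hE1 : evalGA (χ : G → ℂ) E = omega (χ : G → ℂ) (toC M E) * (d : ℂ) := by
      have h := evalGA_central_mul χ hEcl 1
      rw [mul_one] at h
      rw [h]
      congr 1
      rw [evalGA, Finset.sum_eq_single (1 : G)]
      · rw [MonoidAlgebra.one_def, MonoidAlgebra.coeff_single, Finsupp.single_eq_same, OneMemClass.coe_one,
          one_mul, (charDegree_eq χ).1, hd χ hχB]
      · intro t _ ht
        simp [MonoidAlgebra.one_def, Ne.symm ht]
      · simp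
    rw [hE1]
    ring
  have h3 : (eO * (Z * E)).coeff 1 = (P.index : locRing M) * (eO * Z * lift u).coeff 1 := by
    rw [← mul_assoc, hE, Finset.mul_sum, coeff_sum_apply,
      Finset.sum_congr rfl (g := fun _ : G ⧸ P => (eO * Z * lift u).coeff 1) fun q _ => ?_,
      Finset.sum_const, nsmul_eq_mul, Finset.card_univ, ← Nat.card_eq_fintype_card, Subgroup.index]
    rw [← mul_assoc, ← mul_assoc, ((hecl.mul hZc).commute (single q.out 1)).eq,
      coeff_one_mul_comm, ← mul_assoc, ← mul_assoc, MonoidAlgebra.single_mul_single,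
      inv_mul_cancel, one_mul, ← MonoidAlgebra.one_def, one_mul]
  -- the ratio of the index and the degree is a unit
  obtain ⟨η, hη⟩ := isPBlock_nonempty hB
  have hdef := degVal_add_blockDefect hM hB hη (height_zero hd hη)
  rw [degVal, hd η hη] at hdef
  have hcardP := defectGroup_card hM hB hP
  have hidx : P.index = p ^ d.factorization p * ordCompl[p] (Nat.card G) := by
    refine Nat.eq_of_mul_eq_mul_left (pow_pos hM.1.pos (blockDefect p B)) ?_
    rw [← mul_assoc, ← pow_add, add_comm (blockDefect p B), hdef, Nat.ordProj_mul_ordCompl_eq_self,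
      ← hcardP, Subgroup.card_mul_index]
  have hkey : (ordCompl[p] d : locRing M) * (eO * (Z * E * c)).coeff 1 =
      (ordCompl[p] (Nat.card G) : locRing M) * (eO * Z * lift u).coeff 1 := by
    apply Subtype.ext
    have hpp : ((p : ℂ) ^ d.factorization p) ≠ 0 :=
      pow_ne_zero _ (Nat.cast_ne_zero.mpr hM.1.ne_zero)
    refine mul_left_cancel₀ hpp ?_
    have e1 := congrArg (fun r : locRing M => (r : ℂ)) h3
    simp only [Subring.coe_mul, Subring.coe_natCast] at e1
    rw [h2, hidx] at e1
    simp only [Subring.coe_mul, Subring.coe_natCast]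
    rw [← mul_assoc ((p : ℂ) ^ d.factorization p),
      show (p : ℂ) ^ d.factorization p * ((ordCompl[p] d : ℕ) : ℂ) = (d : ℂ) by
        exact_mod_cast Nat.ordProj_mul_ordCompl_eq_self d p, e1]
    push_cast
    ring
  have hkey' := congrArg (res M) hkey
  rw [map_mul, map_mul, map_natCast, map_natCast, Subtype.ext h1] at hkey'
  -- the right side vanishes through the Brauer homomorphism
  have hcinv : ∀ {w : MonoidAlgebra (ResField M) G}, IsClassElt w → CInv P w :=
    fun hw s _ g => hw g s
  have hR : res M ((eO * Z * lift u).coeff 1) = 0 := by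
    rw [← coeff_toK, map_mul, map_mul, heK, hlift, hZdef, map_mul, hlift,
      (commute_eK (z * toK M z')).eq]
    have hrest : CInv P (toK M z' * eK M B * u) :=
      ((hcinv (hz'c.map _)).mul (hcinv (hecl.map _))).mul
        (cinv_of_commute fun s hs => huP s hs)
    rw [show z * toK M z' * eK M B * u = z * (toK M z' * eK M B * u) by simp only [mul_assoc],
      ← coeff_trC (R := P) _ (Subgroup.one_mem _), trC_mul hM hPp (hcinv hzc) hrest, htr, zero_mul]
    simp
  rw [hR, mul_zero] at hkey'
  have hne : ((ordCompl[p] d : ℕ) : ResField M) ≠ 0 := by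
    have := charP_resField hM
    rw [Ne, CharP.cast_eq_zero_iff (ResField M) p]
    exact Nat.not_dvd_ordCompl hM.1 (degree_ne hB hd)
  have hL := (mul_eq_zero.mp hkey').resolve_left hne
  rw [← coeff_toK, map_mul, map_mul, map_mul, heK, hEK, hlift, hy, map_mul, map_mul, hcK,
    hlift] at hL
  have e2 : eK M B * (z * eK M B * (j * x₀ * j)) = z * j * x₀ * j := by
    have hj' : eK M B * j = j := by rw [(commute_eK j).eq, hjB]
    calc eK M B * (z * eK M B * (j * x₀ * j)) = eK M B * (z * (eK M B * j) * x₀ * j) := by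
          simp only [mul_assoc]
      _ = z * (eK M B * j) * x₀ * j := by
          rw [hj', ← mul_assoc, ← mul_assoc, ← mul_assoc, (commute_eK z).eq, hze]
      _ = _ := by rw [hj']
  rw [e2, coeff_one_mul_comm, show j * (z * j * x₀) = z * (j * j) * x₀ by
    simp only [← mul_assoc, (hzc' j).symm.eq], hj.idem, hx₀, coeff_mul_single'] at hL
  simp only [inv_inv, one_mul, mul_one] at hL
  exact hg₀ hL

end CfsgLib.Block.EqualDegree
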