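import Cfsg.Agent.Lib.Block.SourceIdem
import Cfsg.Agent.Lib.Block.Fusion

/-!
# Local points and pairs

A primitive idempotent of the fixed algebra of a `p`-group `P` with nonzero Brauer image in the block `e`
of `C(P)` has, at every subgroup of `P`, its Brauer image in the block of the pair below `(P, e)`.
-/

open Finset MonoidAlgebra Polynomial
open scoped ComplexConjugate

set_option linter.unusedSectionVars false

namespace CfsgLib.Block

open Cfsg
open scoped Pair

universe u

variable {p : ℕ} {M : Ideal AlgInt} [M.IsMaximal] {G : Type u} [Group G] [Fintype G] [DecidableEq G]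
  {P Q : Subgroup G} {e : Set (IrrCharacter (CQ P))} {i : MonoidAlgebra (ResField M) G}

variable (M) in
/-- A local point of `P` in the block `e`. -/
structure IsLocPt (P : Subgroup G) (e : Set (IrrCharacter (CQ P)))
    (i : MonoidAlgebra (ResField M) G) : Prop where
  idem : i * i = i
  cinv : CInv P i
  br : trC P i * eG M e = trC P i
  ne : trC P i ≠ 0
  prim : ∀ ε, ε * ε = ε → CInv P ε → ε * i = ε → i * ε = ε → ε = 0 ∨ ε = i

/-- Elements of the corner killed by the Brauer map are nilpotent. -/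
theorem IsLocPt.isNilpotent (hM : IsPModular p M) (h : IsLocPt M P e i)
    (hP : IsPGroup p P) {y : MonoidAlgebra (ResField M) G} (hy : CInv P y) (hiy : i * y = y)
    (hyi : y * i = y) (hbr : trC P y = 0) : IsNilpotent y := by
  obtain ⟨q, hq, hnil⟩ := exists_idem_aeval (k := ResField M) y
  have hε : aeval y (X * q) = y * aeval y q := by rw [map_mul, aeval_X]
  have hcomm : y * aeval y q = aeval y q * y := by
    rw [← hε, mul_comm X q, map_mul, aeval_X]
  rcases h.prim _ hq (cinv_aeval hy _) (by rw [hε, hcomm, mul_assoc, hyi])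
    (by rw [hε, ← mul_assoc, hiy]) with h0 | h0
  · exact hnil h0
  · refine absurd ?_ h.ne
    rw [← h0, hε, trC_mul hM hP hy (cinv_aeval hy q), hbr, zero_mul]

/-- The truncation of a source idempotent at a subgroup lies in the block of the pair below. -/
theorem IsLocPt.br_block (hM : IsPModular p M) (h : IsLocPt M P e i)
    (he : IsBrauerPair p M P e) :
    ∀ {Q : Subgroup G} {f : Set (IrrCharacter (CQ Q))}, SubpairLE p M Q f P e →
      trC Q i * eG M f = trC Q i := by
  classical
  have hpf : Fact p.Prime := ⟨hM.1⟩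
  intro Q f hle
  induction hn : Nat.card P - Nat.card Q using Nat.strong_induction_on generalizing Q with
  | _ n ih =>
  have hQP := SubpairLE.le hle
  rcases hQP.eq_or_lt with rfl | hlt
  · rw [SubpairLE.eq_of_eq hM hle]; exact h.br
  have hQ : IsPGroup p Q := he.1.to_le hQP
  set N := Subgroup.normalizer (Q : Set G) ⊓ P
  obtain ⟨gN, hgN, -⟩ := SubpairLE.exists_nSub_mid hM he hle
    (le_inf Subgroup.le_normalizer hQP) inf_le_right inf_le_left
  have hiN : CInv N (trC Q i) := (h.cinv.mono inf_le_right).trC inf_le_left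
  have hfN : CInv N (eG M f) := hgN.stab
  set b := trC Q i with hbdef
  have hbb : b * b = b := by
    rw [hbdef, ← trC_mul hM hQ (h.cinv.mono hQP) (h.cinv.mono hQP), h.idem]
  have hcomm : Commute b (eG M f) := (eG_commute f (suppIn_trC i)).symm
  have hff : eG M f * eG M f = eG M f := eG_mul_self hM hgN.pairL.2
  set a := b - b * eG M f with hadef
  suffices a = 0 from (sub_eq_zero.mp this).symm
  have hasupp : SuppIn (CQ Q) a := suppIn_sub (suppIn_trC i) ((suppIn_trC i).mul (suppIn_eG f))
  have haN : CInv N a := cinv_sub hiN (hiN.mul hfN)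
  have hba : b * a = a := by rw [hadef, mul_sub, hbb, ← mul_assoc, hbb]
  have hab : a * b = a := by rw [hadef, sub_mul, hbb, mul_assoc, ← hcomm.eq, ← mul_assoc, hbb]
  have haa : a * a = a := by
    have hfb : b * eG M f * a = 0 := by
      rw [hadef, mul_sub, mul_assoc b, hcomm.symm.eq, ← mul_assoc, hbb, ← mul_assoc,
        mul_assoc b (eG M f), hcomm.symm.eq, ← mul_assoc b, hbb, mul_assoc b, hff, sub_self]
    rw [hadef, sub_mul, ← hadef, hba, hfb, sub_zero]
  -- the truncations at larger subgroups vanish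
  have hvanish : ∀ S : Subgroup G, Q < S → S ≤ N → trC S a = 0 := by
    intro S hQS hSN
    obtain ⟨gS, hgS, hgSle⟩ := SubpairLE.exists_nSub_mid hM he hle hQS.le
      (hSN.trans inf_le_right) (hSN.trans inf_le_left)
    have hS : IsPGroup p S := hgS.pairR.1
    have hcard : Nat.card Q < Nat.card S :=
      (Subgroup.card_le_of_le hQS.le).lt_of_ne fun heq =>
        hQS.ne (Subgroup.eq_of_le_of_card_ge hQS.le heq.ge)
    have hSP : Nat.card S ≤ Nat.card P := Subgroup.card_le_of_le (hSN.trans inf_le_right)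
    have h1 : trC S i * eG M gS = trC S i := ih (Nat.card P - Nat.card S) (by omega) hgSle rfl
    have htr : trC S b = trC S i := by
      refine ga_ext fun x => ?_
      by_cases hx : x ∈ CQ S
      · rw [coeff_trC _ hx, coeff_trC _ hx, hbdef, coeff_trC _ (cq_mono hQS.le hx)]
      · rw [suppIn_trC _ x hx, suppIn_trC _ x hx]
    have h2 : trC S i * trC S (eG M f) = trC S i := by
      conv_lhs => rw [← h1]
      rw [mul_assoc, (eG_commute gS (suppIn_trC (eG M f))).eq, hgS.trC_mul_eG hM, h1]
    have hsub : trC S (b - b * eG M f) = trC S b - trC S (b * eG M f) := by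
      refine ga_ext fun x => ?_
      by_cases hx : x ∈ CQ S <;> simp [coeff_trC, suppIn_trC _ _, hx]
    rw [hadef, hsub, trC_mul hM hS (hiN.mono hSN) hgS.stab, htr, h2, sub_self]
  -- elements of the support have stabilizer `Q`
  have hstab : ∀ g, a.coeff g ≠ 0 → P ⊓ Subgroup.centralizer ({g} : Set G) = Q := by
    intro g hg
    have hgQ : g ∈ CQ Q := by_contra fun h' => hg (hasupp g h')
    have hQle : Q ≤ P ⊓ Subgroup.centralizer ({g} : Set G) := le_inf hQP fun u hu =>
      Subgroup.mem_centralizer_singleton_iff.mpr (Subgroup.mem_centralizer_iff.mp hgQ u hu)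
    refine le_antisymm ?_ hQle
    by_contra hnot
    have hlt' : Q < P ⊓ Subgroup.centralizer ({g} : Set G) := lt_of_le_not_ge hQle hnot
    have hS := lt_normalizer_inf (he.1.to_le inf_le_left) hlt'
    refine hg ?_
    have hgS : g ∈ CQ (Subgroup.normalizer (Q : Set G) ⊓ (P ⊓ Subgroup.centralizer ({g} : Set G))) :=
      Subgroup.mem_centralizer_iff.mpr fun u hu =>
        Subgroup.mem_centralizer_singleton_iff.mp hu.2.2
    have := congrArg (fun w : MonoidAlgebra (ResField M) G => w.coeff g)
      (hvanish _ hS (inf_le_inf_left _ inf_le_left))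
    rwa [coeff_trC _ hgS] at this
  -- the orbit extension of `a`
  let T : MonoidAlgebra (ResField M) G := gaOfFun fun x =>
    if hx : ∃ n ∈ P, a.coeff (n⁻¹ * x * n) ≠ 0 then a.coeff (hx.choose⁻¹ * x * hx.choose) else 0
  have hN : ∀ {g g' m : G}, a.coeff g ≠ 0 → a.coeff g' ≠ 0 → m ∈ P → m * g * m⁻¹ = g' → m ∈ N := by
    intro g g' m hg hg' hm hgg
    refine ⟨Subgroup.mem_normalizer_iff.mpr fun u => ?_, hm⟩
    have e1 := SetLike.ext_iff.mp (hstab g hg) u
    have e2 := SetLike.ext_iff.mp (hstab g' hg') (m * u * m⁻¹)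
    rw [← e1, ← e2, Subgroup.mem_inf, Subgroup.mem_inf, Subgroup.mem_centralizer_singleton_iff,
      Subgroup.mem_centralizer_singleton_iff]
    refine and_congr ⟨fun hu => P.mul_mem (P.mul_mem hm hu) (P.inv_mem hm), fun hu => ?_⟩ ?_
    · have := P.mul_mem (P.mul_mem (P.inv_mem hm) hu) hm
      simpa [mul_assoc] using this
    · rw [← hgg]
      constructor
      · intro hu
        calc m * u * m⁻¹ * (m * g * m⁻¹) = m * (u * g) * m⁻¹ := by group
          _ = m * (g * u) * m⁻¹ := by rw [hu]
          _ = m * g * m⁻¹ * (m * u * m⁻¹) := by group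
      · intro hu
        have := congrArg (fun w => m⁻¹ * w * m) hu
        simpa [mul_assoc] using this
  have hT : ∀ x n, n ∈ P → a.coeff (n⁻¹ * x * n) ≠ 0 → T.coeff x = a.coeff (n⁻¹ * x * n) := by
    intro x n hn' hne
    have hx : ∃ n ∈ P, a.coeff (n⁻¹ * x * n) ≠ 0 := ⟨n, hn', hne⟩
    simp only [T, coeff_gaOfFun, dif_pos hx]
    have hm := hN hne hx.choose_spec.2 (m := hx.choose⁻¹ * n)
      (P.mul_mem (P.inv_mem hx.choose_spec.1) hn') (by group)
    have := haN _ hm (n⁻¹ * x * n)
    rw [← this]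
    congr 1
    group
  have hT0 : ∀ x, (∀ n ∈ P, a.coeff (n⁻¹ * x * n) = 0) → T.coeff x = 0 := by
    intro x hall
    simp only [T, coeff_gaOfFun]
    exact dif_neg fun ⟨n, hn', hne⟩ => hne (hall n hn')
  have hTP : CInv P T := by
    intro s hs x
    by_cases hx : ∃ n ∈ P, a.coeff (n⁻¹ * x * n) ≠ 0
    · obtain ⟨n, hn', hne⟩ := hx
      have e : (s * n)⁻¹ * (s * x * s⁻¹) * (s * n) = n⁻¹ * x * n := by group
      rw [hT x n hn' hne, hT _ (s * n) (P.mul_mem hs hn') (by rwa [e]), e]
    · push Not at hx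
      rw [hT0 x hx, hT0]
      intro n hn'
      rw [show n⁻¹ * (s * x * s⁻¹) * n = (s⁻¹ * n)⁻¹ * x * (s⁻¹ * n) by group]
      exact hx _ (P.mul_mem (P.inv_mem hs) hn')
  have hTQ : trC Q T = a := by
    refine ga_ext fun x => ?_
    by_cases hxQ : x ∈ CQ Q
    swap
    · rw [suppIn_trC _ x hxQ, hasupp x hxQ]
    rw [coeff_trC _ hxQ]
    by_cases hax : a.coeff x = 0
    · rw [hax]
      by_cases hx : ∃ n ∈ P, a.coeff (n⁻¹ * x * n) ≠ 0
      · obtain ⟨n, hn', hne⟩ := hx
        exfalso
        apply hne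
        -- `Q` and `n⁻¹ Q n` both fix the element of the support
        have hsub : cjS n⁻¹ Q ≤ Q := by
          intro u hu
          rw [mem_cjS, inv_inv] at hu
          rw [← hstab _ hne]
          refine ⟨?_, Subgroup.mem_centralizer_singleton_iff.mpr ?_⟩
          · have := P.mul_mem (P.mul_mem (P.inv_mem hn') (hQP hu)) hn'
            simpa [mul_assoc] using this
          · have h1 := Subgroup.mem_centralizer_iff.mp hxQ _ hu
            calc u * (n⁻¹ * x * n) = n⁻¹ * ((n * u * n⁻¹) * x) * n := by group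
              _ = n⁻¹ * (x * (n * u * n⁻¹)) * n := by rw [h1]
              _ = n⁻¹ * x * n * u := by group
        have heq : cjS n⁻¹ Q = Q := Subgroup.eq_of_le_of_card_ge hsub (card_cjS _ _).ge
        have hnN : n⁻¹ ∈ N := ⟨mem_normalizer_of_cjS_eq heq, P.inv_mem hn'⟩
        have := haN _ hnN x
        rw [inv_inv] at this
        rw [this, hax]
      · push Not at hx
        exact hT0 x hx
    · have := hT x 1 P.one_mem (by simpa using hax)
      simpa using this
  have hTbr : trC P T = 0 := by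
    refine ga_ext fun x => ?_
    by_cases hxP : x ∈ CQ P
    swap
    · rw [suppIn_trC _ x hxP]; simp
    rw [coeff_trC _ hxP, hT0 x]
    · simp
    intro n hn'
    by_contra hne
    refine hlt.ne ((hstab _ hne).symm.trans (inf_eq_left.mpr fun u hu => ?_))
    rw [Subgroup.mem_centralizer_singleton_iff, show n⁻¹ * x * n = x by
      rw [mul_assoc, ← Subgroup.mem_centralizer_iff.mp hxP n hn', inv_mul_cancel_left]]
    exact Subgroup.mem_centralizer_iff.mp hxP u hu
  set y := i * T * i with hy
  have hyP : CInv P y := (h.cinv.mul hTP).mul h.cinv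
  obtain ⟨m, hm⟩ := h.isNilpotent hM he.1 hyP (by rw [hy, ← mul_assoc, ← mul_assoc, h.idem])
    (by rw [hy, mul_assoc, h.idem]) (by
      rw [hy, trC_mul hM he.1 (h.cinv.mul hTP) h.cinv, trC_mul hM he.1 h.cinv hTP, hTbr, mul_zero,
        zero_mul])
  have hyQ : trC Q y = a := by
    rw [hy, trC_mul hM hQ ((h.cinv.mul hTP).mono hQP) (h.cinv.mono hQP),
      trC_mul hM hQ (h.cinv.mono hQP) (hTP.mono hQP), hTQ, hba, hab]
  have hpow : ∀ l, trC Q (y ^ (l + 1)) = a := by
    intro l
    induction l with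
    | zero => rw [pow_one, hyQ]
    | succ l ihl =>
      have hyl : CInv Q (y ^ (l + 1)) :=
        cinv_of_commute fun s hs => ((hyP.mono hQP).commute hs).pow_right _
      rw [pow_succ, trC_mul hM hQ hyl (hyP.mono hQP), ihl, hyQ, haa]
  rw [← hpow m, pow_succ, hm, zero_mul]
  exact ga_ext fun x => by by_cases hx : x ∈ CQ Q <;> simp [coeff_trC, suppIn_trC _ _, hx]


/-- A primitive idempotent with nonzero Brauer image is a local point of some pair. -/
theorem exists_isLocPt (hM : IsPModular p M) (hP : IsPGroup p P) (hi : i * i = i) (hc : CInv P i)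
    (hne : trC P i ≠ 0)
    (hprim : ∀ ε, ε * ε = ε → CInv P ε → ε * i = ε → i * ε = ε → ε = 0 ∨ ε = i) :
    ∃ e : Set (IrrCharacter (CQ P)), IsBrauerPair p M P e ∧ IsLocPt M P e i := by
  classical
  set b := trC P i with hb
  have hbb : b * b = b := by rw [hb, ← trC_mul hM hP hc hc, hi]
  obtain ⟨f, -, hf⟩ : ∃ f ∈ (Finset.univ : Finset (BlockT M P)), b * eG M f.1 ≠ 0 := by
    refine Finset.exists_ne_zero_of_sum_ne_zero ?_
    rw [← Finset.mul_sum, sum_eG_eq_one hM, mul_one]
    exact hne
  refine ⟨f.1, ⟨hP, f.2⟩, hi, hc, ?_, hne, hprim⟩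
  set ε := b * eG M f.1 with hε
  have hcomm : Commute (eG M f.1) b := eG_commute f.1 (suppIn_trC i)
  have hεε : ε * ε = ε := by
    rw [hε, hcomm.mul_mul_mul_comm, hbb, eG_mul_self hM f.2]
  have hbε : b * ε = ε := by rw [hε, ← mul_assoc, hbb]
  have hεb : ε * b = ε := by rw [hε, mul_assoc, hcomm.eq, ← mul_assoc, hbb]
  have hεs : SuppIn (CQ P) ε := (suppIn_trC i).mul (suppIn_eG f.1)
  set y := i * ε * i with hy
  have hyP : CInv P y := (hc.mul (cinv_of_suppIn hεs)).mul hc
  have hiy : i * y = y := by rw [hy, ← mul_assoc, ← mul_assoc, hi]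
  have hyi : y * i = y := by rw [hy, mul_assoc, hi]
  have hytr : trC P y = ε := by
    rw [hy, trC_mul hM hP (hc.mul (cinv_of_suppIn hεs)) hc, trC_mul hM hP hc (cinv_of_suppIn hεs),
      trC_eq_self hεs, hbε, hεb]
  obtain ⟨q, hq, hnil⟩ := exists_idem_aeval (k := ResField M) y
  have hqy : aeval y (X * q) = y * aeval y q := by rw [map_mul, aeval_X]
  have hqcomm : y * aeval y q = aeval y q * y := by rw [← hqy, mul_comm X q, map_mul, aeval_X]
  rcases hprim _ hq (cinv_aeval hyP _) (by rw [hqy, hqcomm, mul_assoc, hyi])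
    (by rw [hqy, ← mul_assoc, hiy]) with h0 | h0
  · exfalso
    obtain ⟨m, hm⟩ := hnil h0
    have hpow : ∀ l, trC P (y ^ (l + 1)) = ε := by
      intro l
      induction l with
      | zero => rw [pow_one, hytr]
      | succ l ihl =>
        rw [pow_succ, trC_mul hM hP (cinv_of_commute fun s hs => (hyP.commute hs).pow_right _) hyP,
          ihl, hytr, hεε]
    refine hf ((hpow m).symm.trans ?_)
    rw [pow_succ, hm, zero_mul]
    exact ga_ext fun x => by by_cases hx : x ∈ CQ P <;> simp [coeff_trC, suppIn_trC _ _, hx]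
  · have h1 : ε * trC P (aeval y q) = b := by
      rw [← hytr, ← trC_mul hM hP hyP (cinv_aeval hyP q), ← hqy, h0]
    show b * eG M f.1 = b
    calc b * eG M f.1 = eG M f.1 * (ε * trC P (aeval y q)) := by rw [h1, hcomm.eq]
      _ = ε * trC P (aeval y q) := by
        rw [← mul_assoc, show eG M f.1 * ε = ε by
          rw [hε, ← mul_assoc, hcomm.eq, mul_assoc, eG_mul_self hM f.2]]
      _ = b := h1

end CfsgLib.Block
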