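import Cfsg.Agent.Lib.Block.FusedSum
import Cfsg.Agent.Lib.Block.PointPair
import Cfsg.Agent.Lib.Block.Points
import Cfsg.Agent.Lib.Block.StarLift
import Cfsg.Agent.Lib.Char.Virtual
import Cfsg.Agent.Lib.Char.ExtendChar
import Mathlib.GroupTheory.IndexNormal

/-!
# Weighted values at idempotents fixed by a `p`-group

For weights `w` on the pairs at cyclic `p`-subgroups that are equivariant and linear below every pair,
`u ↦ ∑ b, w u b * liftVal χ u (Br_u(z) e_b)` is a generalized character of every `p`-group fixing `z`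
(after Broué and Puig; the divisibility at relative traces is `Points.dvd_of_relTrace`).
-/

open Finset MonoidAlgebra
open scoped ComplexConjugate

set_option linter.unusedSectionVars false

namespace CfsgLib.Block

open Cfsg
open scoped Pair

universe u

variable {p : ℕ} {M : Ideal AlgInt} [M.IsMaximal] {G : Type u} [Group G] [Fintype G] [DecidableEq G]

variable (M) in
/-- The pairs on the subgroup generated by an element. -/
noncomputable def pairsAt (u : G) : Finset (BrauerPairIdx G) :=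
  ({a : BrauerPairIdx G | a.1 = Subgroup.zpowers u ∧ IsPBlock M a.2} : Set _).toFinite.toFinset

theorem mem_pairsAt {u : G} {a : BrauerPairIdx G} :
    a ∈ pairsAt M u ↔ a.1 = Subgroup.zpowers u ∧ IsPBlock M a.2 := by simp [pairsAt]

/-- The weighted value. -/
noncomputable def locVal (w : G → BrauerPairIdx G → ℂ) (χ : IrrCharacter G) (u : G)
    (z : MonoidAlgebra (ResField M) G) : ℂ :=
  ∑ a ∈ pairsAt M u, w u a * liftVal χ u (trC (Subgroup.zpowers u) z * eG M a.2)

variable (p M) in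
/-- Weights: equivariant, and linear below each pair. -/
structure IsWeight (w : G → BrauerPairIdx G → ℂ) : Prop where
  equivariant : ∀ (g u : G) (a : BrauerPairIdx G), a.1 = Subgroup.zpowers u → IsPBlock M a.2 →
    w (g * u * g⁻¹) (cjP g a) = w u a
  lin : ∀ (R : Subgroup G) (f : Set (IrrCharacter (CQ R))), IsBrauerPair p M R f →
    ∃ μ : R →* ℂˣ, ∀ (u : R) (a : BrauerPairIdx G), a.1 = Subgroup.zpowers (u : G) →
      Below p M R f a → w (u : G) a = (μ u : ℂ)

theorem trC_cj {S : Type*} [CommRing S] (n : G) (R : Subgroup G) (y : MonoidAlgebra S G) :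
    trC (cjS n R) (cj n y) = cj n (trC R y) := by
  refine ga_ext fun g => ?_
  rw [coeff_cj]
  have hback : n⁻¹ * g * n ∈ CQ R ↔ g ∈ CQ (cjS n R) := by
    rw [cq_cjS_iff n R]
    simp [mul_assoc]
  by_cases hg : g ∈ CQ (cjS n R)
  · rw [coeff_trC _ hg, coeff_trC _ (hback.mpr hg), coeff_cj]
  · rw [suppIn_trC _ g hg, suppIn_trC _ _ (mt hback.mp hg)]

variable (M) in
/-- The elements fixed by a subgroup. -/
noncomputable def fixAlg (Q : Subgroup G) : Subalgebra (ResField M) (MonoidAlgebra (ResField M) G) where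
  carrier := {z | CInv Q z}
  mul_mem' := CInv.mul
  one_mem' := cinv_one
  add_mem' := fun ha hb => cinv_of_commute fun _ hs => (ha.commute hs).add_right (hb.commute hs)
  zero_mem' := cinv_of_commute fun _ _ => Commute.zero_right _
  algebraMap_mem' := fun c => cinv_of_commute fun _ _ => Algebra.commute_algebraMap_right _ _

theorem mem_fixAlg {Q : Subgroup G} {z : MonoidAlgebra (ResField M) G} :
    z ∈ fixAlg M Q ↔ CInv Q z := Iff.rfl

instance instFiniteGA : FiniteDimensional (ResField M) (MonoidAlgebra (ResField M) G) :=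
  Module.Finite.of_basis (MonoidAlgebra.basis G (ResField M))

theorem CInv.cj_of_conj {S : Type*} [CommRing S] {Q : Subgroup G} {n : G} {z : MonoidAlgebra S G}
    (hn : ∀ s ∈ Q, n⁻¹ * s * n ∈ Q) (hz : CInv Q z) : CInv Q (cj n z) := by
  intro s hs g
  rw [coeff_cj, coeff_cj]
  conv_rhs => rw [← hz _ (hn s hs) (n⁻¹ * g * n)]
  congr 1
  group

variable (M) in
/-- Conjugation on the fixed algebra. -/
noncomputable def cjFix (Q : Subgroup G) (n : G) (hn : ∀ s ∈ Q, n⁻¹ * s * n ∈ Q)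
    (hn' : ∀ s ∈ Q, n * s * n⁻¹ ∈ Q) : fixAlg M Q ≃ₐ[ResField M] fixAlg M Q where
  toFun z := ⟨cj n z.1, CInv.cj_of_conj hn z.2⟩
  invFun z := ⟨cj n⁻¹ z.1, CInv.cj_of_conj (by simpa using hn') z.2⟩
  left_inv z := Subtype.ext (by simp only [cj_cj, inv_mul_cancel, cj_one])
  right_inv z := Subtype.ext (by simp only [cj_cj, mul_inv_cancel, cj_one])
  map_mul' x y := Subtype.ext (cj_mul n x.1 y.1)
  map_add' x y := Subtype.ext (ga_ext fun g => by simp [coeff_cj])
  commutes' c := Subtype.ext (by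
    show cj n (algebraMap (ResField M) (MonoidAlgebra (ResField M) G) c) = algebraMap _ _ c
    refine ga_ext fun g => ?_
    simp only [Algebra.algebraMap_eq_smul_one, coeff_cj, MonoidAlgebra.coeff_smul, Finsupp.smul_apply,
      MonoidAlgebra.one_def, MonoidAlgebra.coeff_single, Finsupp.single_apply]
    by_cases h : (1 : G) = g
    · subst h; simp
    · rw [if_neg h, if_neg fun e : (1 : G) = n⁻¹ * g * n => h (by
        calc (1 : G) = n * (n⁻¹ * g * n) * n⁻¹ := by rw [← e]; group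
          _ = g := by group)])

theorem coe_cjFix_iterate {Q : Subgroup G} {n : G} (hn : ∀ s ∈ Q, n⁻¹ * s * n ∈ Q)
    (hn' : ∀ s ∈ Q, n * s * n⁻¹ ∈ Q) (l : ℕ) (z : fixAlg M Q) :
    (((cjFix M Q n hn hn')^[l] z : fixAlg M Q) : MonoidAlgebra (ResField M) G) = cj (n ^ l) z.1 := by
  induction l with
  | zero => rw [Function.iterate_zero_apply, pow_zero, cj_one]
  | succ l ih =>
    rw [Function.iterate_succ_apply', pow_succ', ← cj_cj, ← ih]
    rfl

theorem below_of_mem (hM : IsPModular p M) {R : Subgroup G} {f : Set (IrrCharacter (CQ R))}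
    (hf : IsBrauerPair p M R f) {u : G} (hu : u ∈ R) :
    ∃ a ∈ pairsAt M u, Below p M R f a := by
  obtain ⟨b, hb, hle⟩ := exists_subpairLE hM hf (Subgroup.zpowers u) (Subgroup.zpowers_le.mpr hu)
  exact ⟨⟨_, b⟩, mem_pairsAt.mpr ⟨rfl, hb.2⟩, hle⟩

theorem commute_single_of_mem {Q : Subgroup G} {z : MonoidAlgebra (ResField M) G} (hz : CInv Q z)
    {u : G} (hu : u ∈ Q) : Commute (single u (1 : ResField M)) z := hz.commute hu

section values

variable [Fintype (IrrCharacter G)] {w : G → BrauerPairIdx G → ℂ} {χ : IrrCharacter G}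

theorem isPGroup_zpowers_of {u : G} (hu : ∃ k : ℕ, orderOf u = p ^ k) :
    IsPGroup p (Subgroup.zpowers u) :=
  IsPGroup.of_card (n := hu.choose) ((Nat.card_zpowers u).trans hu.choose_spec)

theorem piece_spec (hM : IsPModular p M) {u : G} (hu : ∃ k : ℕ, orderOf u = p ^ k)
    {z : MonoidAlgebra (ResField M) G} (hz : z * z = z) (hzu : CInv (Subgroup.zpowers u) z)
    {a : BrauerPairIdx G} (ha : a ∈ pairsAt M u) :
    (trC (Subgroup.zpowers u) z * eG M a.2) * (trC (Subgroup.zpowers u) z * eG M a.2) =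
        trC (Subgroup.zpowers u) z * eG M a.2 ∧
      Commute (single u (1 : ResField M)) (trC (Subgroup.zpowers u) z * eG M a.2) := by
  obtain ⟨Q, b⟩ := a
  obtain ⟨hQ, hb⟩ := mem_pairsAt.mp ha
  dsimp only at hQ hb
  subst hQ
  have hR := isPGroup_zpowers_of hu
  refine ⟨?_, ?_⟩
  · rw [(eG_commute b (suppIn_trC z)).mul_mul_mul_comm, eG_mul_self hM hb,
      ← trC_mul hM hR hzu hzu, hz]
  · exact (cinv_of_suppIn ((suppIn_trC z).mul (suppIn_eG b))).commute (Subgroup.mem_zpowers u)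

theorem locVal_zero_of_trC (hM : IsPModular p M) {u : G} (hu : ∃ k : ℕ, orderOf u = p ^ k)
    {z : MonoidAlgebra (ResField M) G} (h : trC (Subgroup.zpowers u) z = 0) :
    locVal w χ u z = 0 :=
  Finset.sum_eq_zero fun a _ => by rw [h, zero_mul, liftVal_zero hM hu, mul_zero]

theorem locVal_add (hM : IsPModular p M) {u : G} (hu : ∃ k : ℕ, orderOf u = p ^ k)
    {e f : MonoidAlgebra (ResField M) G} (he : e * e = e) (hf : f * f = f) (hef : e * f = 0)
    (hfe : f * e = 0) (heu : CInv (Subgroup.zpowers u) e) (hfu : CInv (Subgroup.zpowers u) f) :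
    locVal w χ u (e + f) = locVal w χ u e + locVal w χ u f := by
  rw [locVal, locVal, locVal, ← Finset.sum_add_distrib]
  refine Finset.sum_congr rfl fun a ha => ?_
  obtain ⟨e1, e2⟩ := piece_spec hM hu he heu ha
  obtain ⟨f1, f2⟩ := piece_spec hM hu hf hfu ha
  obtain ⟨Q, b⟩ := a
  obtain ⟨hQ, hb⟩ := mem_pairsAt.mp ha
  dsimp only at hQ hb e1 e2 f1 f2 ⊢
  subst hQ
  have hR := isPGroup_zpowers_of hu
  have key : ∀ x y : MonoidAlgebra (ResField M) G, CInv (Subgroup.zpowers u) x →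
      CInv (Subgroup.zpowers u) y → x * y = 0 →
      trC (Subgroup.zpowers u) x * eG M b * (trC (Subgroup.zpowers u) y * eG M b) = 0 := by
    intro x y hx hy hxy
    rw [(eG_commute b (suppIn_trC y)).mul_mul_mul_comm, ← trC_mul hM hR hx hy, hxy, trC_zero, zero_mul]
  rw [trC_add, add_mul, liftVal_add hM hu e1 f1 (key e f heu hfu hef) (key f e hfu heu hfe) e2 f2,
    mul_add]

theorem locVal_equiv (hM : IsPModular p M) {u : G} (hu : ∃ k : ℕ, orderOf u = p ^ k)
    {e f a b : MonoidAlgebra (ResField M) G} (he : e * e = e) (hea : e * a = a) (hbe : b * e = b)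
    (hab : a * b = e) (hba : b * a = f) (heu : CInv (Subgroup.zpowers u) e)
    (hau : CInv (Subgroup.zpowers u) a) (hbu : CInv (Subgroup.zpowers u) b) :
    locVal w χ u e = locVal w χ u f := by
  refine Finset.sum_congr rfl fun c hc => congrArg _ ?_
  obtain ⟨e1, e2⟩ := piece_spec hM hu he heu hc
  obtain ⟨Q, g⟩ := c
  obtain ⟨hQ, hg⟩ := mem_pairsAt.mp hc
  dsimp only at hQ hg e1 e2 ⊢
  subst hQ
  have hR := isPGroup_zpowers_of hu
  have key : ∀ x y : MonoidAlgebra (ResField M) G, CInv (Subgroup.zpowers u) x →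
      CInv (Subgroup.zpowers u) y →
      trC (Subgroup.zpowers u) x * eG M g * (trC (Subgroup.zpowers u) y * eG M g) =
        trC (Subgroup.zpowers u) (x * y) * eG M g := by
    intro x y hx hy
    rw [(eG_commute g (suppIn_trC y)).mul_mul_mul_comm, eG_mul_self hM hg, ← trC_mul hM hR hx hy]
  have hs : ∀ x : MonoidAlgebra (ResField M) G,
      Commute (single u (1 : ResField M)) (trC (Subgroup.zpowers u) x * eG M g) := fun x =>
    (cinv_of_suppIn ((suppIn_trC x).mul (suppIn_eG g))).commute (Subgroup.mem_zpowers u)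
  exact liftVal_equiv hM hu e1 (by rw [key e a heu hau, hea]) (by rw [key b e hbu heu, hbe])
    (by rw [key a b hau hbu, hab]) (by rw [key b a hbu hau, hba]) (hs a) (hs b) (hs e) χ

theorem locVal_cj (hM : IsPModular p M) (hw : IsWeight p M w) (n : G) {u : G}
    (hu : ∃ k : ℕ, orderOf u = p ^ k) {z : MonoidAlgebra (ResField M) G} (hz : z * z = z)
    (hzu : CInv (Subgroup.zpowers u) z) :
    locVal w χ (n * u * n⁻¹) (cj n z) = locVal w χ u z := by
  refine (Finset.sum_nbij' (fun a => cjP n a) (fun a => cjP n⁻¹ a) (fun a ha => ?_) (fun a ha => ?_)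
    (fun a ha => ?_) (fun a ha => ?_) fun a ha => ?_).symm
  · obtain ⟨h1, h2⟩ := mem_pairsAt.mp ha
    refine mem_pairsAt.mpr ⟨?_, isPBlock_conjBlock n h2⟩
    show cjS n a.1 = _
    rw [h1, cjS_zpowers]
  · obtain ⟨h1, h2⟩ := mem_pairsAt.mp ha
    refine mem_pairsAt.mpr ⟨?_, isPBlock_conjBlock n⁻¹ h2⟩
    show cjS n⁻¹ a.1 = _
    rw [h1, cjS_zpowers]
    congr 1
    group
  · exact conjBlock_inv hM n (mem_pairsAt.mp ha).2
  · show cjP n (cjP n⁻¹ a) = a
    rw [cjP_mul hM _ _ (mem_pairsAt.mp ha).2, mul_inv_cancel]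
    exact cjP_one hM (mem_pairsAt.mp ha).2
  · obtain ⟨e1, e2⟩ := piece_spec hM hu hz hzu ha
    obtain ⟨h1, h2⟩ := mem_pairsAt.mp ha
    show w u a * _ = w (n * u * n⁻¹) (cjP n a) *
      liftVal χ (n * u * n⁻¹) (trC (Subgroup.zpowers (n * u * n⁻¹)) (cj n z) * eG M (cjP n a).2)
    rw [hw.equivariant n u a h1 h2, ← cjS_zpowers, trC_cj, show eG M (cjP n a).2 = cj n (eG M a.2) from
      eG_conjBlock n a.2, ← cj_mul, liftVal_conj hM hu e1 e2 n χ]

theorem isClassFunction_locVal (hM : IsPModular p M) (hw : IsWeight p M w) {Q : Subgroup G}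
    (hQ : IsPGroup p Q) {z : MonoidAlgebra (ResField M) G} (hz : z * z = z) (hzQ : CInv Q z) :
    IsClassFunction Q (fun u : Q => locVal w χ (u : G) z) := by
  intro u v
  have hu : ∃ k : ℕ, orderOf (u : G) = p ^ k := by
    have hpf : Fact p.Prime := ⟨hM.1⟩
    obtain ⟨k, hk⟩ := IsPGroup.iff_orderOf.mp hQ u
    exact ⟨k, by rw [Subgroup.orderOf_coe, hk]⟩
  show locVal w χ ((v * u * v⁻¹ : Q) : G) z = locVal w χ (u : G) z
  conv_lhs => rw [← cinv_iff_cj.mp hzQ (v : G) v.2]
  rw [Subgroup.coe_mul, Subgroup.coe_mul, InvMemClass.coe_inv]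
  exact locVal_cj hM hw _ hu hz (hzQ.mono (Subgroup.zpowers_le.mpr u.2))

/-- At a local point only the pair below contributes. -/
theorem locVal_locPt (hM : IsPModular p M) {R : Subgroup G} {f : Set (IrrCharacter (CQ R))}
    (hf : IsBrauerPair p M R f) {i : MonoidAlgebra (ResField M) G} (hi : IsLocPt M R f i) {u : G}
    (hu : ∃ k : ℕ, orderOf u = p ^ k) (huR : u ∈ R) {a : BrauerPairIdx G} (ha : a ∈ pairsAt M u)
    (hle : Below p M R f a) : locVal w χ u i = w u a * liftVal χ u i := by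
  obtain ⟨Q, b⟩ := a
  obtain ⟨hQ, hb⟩ := mem_pairsAt.mp ha
  dsimp only at hQ hb
  subst hQ
  have hbr := hi.br_block hM hf hle
  rw [locVal, Finset.sum_eq_single (⟨_, b⟩ : BrauerPairIdx G) (fun c hc hne => ?_)
    (fun h => absurd ha h), hbr, liftVal_trC hM hu hi.idem (commute_single_of_mem hi.cinv huR)]
  obtain ⟨Q', b'⟩ := c
  obtain ⟨hQ', hb'⟩ := mem_pairsAt.mp hc
  dsimp only at hQ' hb' ⊢
  subst hQ'
  rw [← hbr, mul_assoc, eG_mul_eq_zero hM hb hb' (fun e => hne (by rw [e])), mul_zero,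
    liftVal_zero hM hu, mul_zero]

end values

/-- The weighted value is a generalized character. -/
theorem isGeneralized_locVal (hM : IsPModular p M) [Fintype (IrrCharacter G)]
    {w : G → BrauerPairIdx G → ℂ} (hw : IsWeight p M w) (χ : IrrCharacter G) :
    ∀ (Q : Subgroup G), IsPGroup p Q → ∀ z : MonoidAlgebra (ResField M) G, z * z = z → CInv Q z →
      IsGeneralizedCharacter Q (fun u : Q => locVal w χ (u : G) z) := by
  classical
  have hpf : Fact p.Prime := ⟨hM.1⟩
  have := charP_resField hM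
  have := isAlgClosed_resField (M := M)
  intro Q
  induction hn : Nat.card Q using Nat.strong_induction_on generalizing Q with
  | _ n ih =>
  intro hQ z hz hzQ
  have hord : ∀ u ∈ Q, ∃ k : ℕ, orderOf u = p ^ k := fun u hu => by
    obtain ⟨k, hk⟩ := IsPGroup.iff_orderOf.mp hQ ⟨u, hu⟩
    exact ⟨k, by rw [← hk, ← Subgroup.orderOf_coe]⟩
  -- decompose into primitive idempotents
  obtain ⟨m, s, hs, horth, hsum, hin⟩ := Points.exists_decomp (k := ResField M)
    (⟨z, hzQ⟩ : fixAlg M Q) (Subtype.ext hz)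
  suffices hpt : ∀ j : fixAlg M Q, Points.IsPt j →
      IsGeneralizedCharacter Q (fun u : Q => locVal w χ (u : G) j.1) by
    have hsplit : ∀ (t : Finset (Fin m)) (u : Q),
        locVal w χ (u : G) (∑ r ∈ t, s r : fixAlg M Q).1 = ∑ r ∈ t, locVal w χ (u : G) (s r).1 := by
      intro t u
      induction t using Finset.induction_on with
      | empty =>
        rw [Finset.sum_empty, Finset.sum_empty]
        exact locVal_zero_of_trC hM (hord _ u.2) trC_zero
      | insert r t hr iht =>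
        have hidem : (∑ x ∈ t, s x) * (∑ x ∈ t, s x) = ∑ x ∈ t, s x := by
          rw [Finset.sum_mul]
          refine Finset.sum_congr rfl fun x hx => ?_
          rw [Finset.mul_sum, Finset.sum_eq_single x (fun y _ hy => horth x y (Ne.symm hy))
            (fun h => absurd hx h), (hs x).idem]
        have h1 : s r * (∑ x ∈ t, s x) = 0 := by
          rw [Finset.mul_sum]
          exact Finset.sum_eq_zero fun x hx => horth r x fun e => hr (e ▸ hx)
        have h2 : (∑ x ∈ t, s x) * s r = 0 := by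
          rw [Finset.sum_mul]
          exact Finset.sum_eq_zero fun x hx => horth x r fun e => hr (e ▸ hx)
        rw [Finset.sum_insert hr, Finset.sum_insert hr, ← iht]
        exact locVal_add hM (hord _ u.2) (congrArg Subtype.val (hs r).idem) (congrArg Subtype.val hidem)
          (congrArg Subtype.val h1) (congrArg Subtype.val h2)
          ((s r).2.mono (Subgroup.zpowers_le.mpr u.2))
          ((∑ x ∈ t, s x : fixAlg M Q).2.mono (Subgroup.zpowers_le.mpr u.2))
    have e : (fun u : Q => locVal w χ (u : G) z) = ∑ r, fun u : Q => locVal w χ (u : G) (s r).1 := by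
      funext u
      rw [Finset.sum_apply, ← hsplit, hsum]
    rw [e]
    exact Char.isGeneralizedCharacter_sum _ _ fun r _ => hpt _ (hs r)
  intro j hj
  have hjj : j.1 * j.1 = j.1 := congrArg Subtype.val hj.idem
  have hprim : ∀ ε, ε * ε = ε → CInv Q ε → ε * j.1 = ε → j.1 * ε = ε → ε = 0 ∨ ε = j.1 := by
    intro ε h1 h2 h3 h4
    rcases hj.prim ⟨ε, h2⟩ (Subtype.ext h1) (Subtype.ext h4) (Subtype.ext h3) with e | e
    · exact Or.inl (congrArg Subtype.val e)
    · exact Or.inr (congrArg Subtype.val e)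
  by_cases htr : trC Q j.1 = 0
  swap
  · -- a local point
    obtain ⟨f, hf, hpt⟩ := exists_isLocPt hM hQ hjj j.2 htr hprim
    obtain ⟨μ, hμ⟩ := hw.lin Q f hf
    obtain ⟨c, hc, hcj, hcom⟩ := exists_lift_idem_commute (S := (Q : Set G)) hjj fun g hg x =>
      j.2 g hg x
    have e : (fun u : Q => locVal w χ (u : G) j.1) =
        (fun u : Q => (μ u : ℂ)) * fun u : Q => sval c χ (u : G) := by
      funext u
      obtain ⟨a, ha, hle⟩ := below_of_mem hM hf u.2
      rw [locVal_locPt hM hf hpt (hord _ u.2) u.2 ha hle, hμ u a (mem_pairsAt.mp ha).1 hle,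
        ← hcj, liftVal_eq hM (hord _ u.2) hc (hcom _ u.2)]
      rfl
    rw [e]
    exact Char.isGeneralizedCharacter_mul
      (Char.isGeneralizedCharacter_of_isCharacter (Char.isCharacter_hom μ))
      (Char.isGeneralizedCharacter_of_isCharacter (isCharacter_sval c hc hcom χ))
  -- a relative trace from a maximal subgroup
  let st : Setoid G := ⟨fun x y => ∃ q ∈ Q, q * x * q⁻¹ = y, ⟨fun x => ⟨1, Q.one_mem, by simp⟩,
    fun {x y} ⟨q, hq, h⟩ => ⟨q⁻¹, Q.inv_mem hq, by rw [← h]; group⟩,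
    fun {x y z} ⟨q, hq, h⟩ ⟨r, hr, h'⟩ => ⟨r * q, Q.mul_mem hr hq, by rw [← h', ← h]; group⟩⟩⟩
  obtain ⟨N, hN⟩ := IsPGroup.iff_card.mp hQ
  have hmax : ∀ r : G, j.1.coeff r ≠ 0 → ∃ (T : Subgroup G) (γ : G), T ≤ Q ∧ γ ∈ Q ∧ γ ∉ T ∧
      Nat.card Q = p * Nat.card T ∧ (∀ s ∈ Q, ∀ t ∈ T, s * t * s⁻¹ ∈ T) ∧
      Q ⊓ Subgroup.centralizer ({r} : Set G) ≤ T := by
    intro r hr
    set S : Subgroup Q := (Q ⊓ Subgroup.centralizer ({r} : Set G)).subgroupOf Q with hS
    obtain ⟨k, hk⟩ := IsPGroup.iff_card.mp (hQ.to_subgroup S)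
    have hSne : S ≠ ⊤ := fun h => by
      refine hr ?_
      have hrC : r ∈ CQ Q := Subgroup.mem_centralizer_iff.mpr fun s hs => by
        have h1 : (⟨s, hs⟩ : Q) ∈ S := h ▸ Subgroup.mem_top _
        exact Subgroup.mem_centralizer_singleton_iff.mp (Subgroup.mem_subgroupOf.mp h1).2
      rw [← coeff_trC _ hrC, htr]
      simp
    have hkN : k < N := by
      have h1 : S < ⊤ := lt_top_iff_ne_top.mpr hSne
      have h2 := Nat.le_of_dvd Nat.card_pos (Subgroup.card_subgroup_dvd_card S)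
      rcases lt_or_eq_of_le h2 with h3 | h3
      · rw [hk, hN] at h3
        exact (Nat.pow_lt_pow_iff_right hpf.out.one_lt).mp h3
      · exact absurd (Subgroup.eq_top_of_card_eq S h3) hSne
    obtain ⟨T0, hT0, hST0⟩ := Sylow.exists_subgroup_card_pow_prime_le p (m := N - 1)
      (hN ▸ pow_dvd_pow p (Nat.sub_le N 1)) S hk (by omega)
    have hidx : T0.index = p := by
      have h1 := T0.card_mul_index
      rw [hT0, hN, ← Nat.sub_add_cancel (show 1 ≤ N by omega), pow_succ, Nat.sub_add_cancel (by omega)] at h1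
      exact Nat.eq_of_mul_eq_mul_left (pow_pos hpf.out.pos _) h1
    have hT0n : T0.Normal := Subgroup.normal_of_index_eq_minFac_card (by
      rw [hidx, hN, Nat.pow_minFac (by omega), hpf.out.minFac_eq])
    obtain ⟨γ, hγ⟩ : ∃ γ : Q, γ ∉ T0 := by
      by_contra hall
      push Not at hall
      have h1 := Subgroup.index_top (G := Q)
      rw [← (Subgroup.eq_top_iff' T0).mpr hall, hidx] at h1
      exact hpf.out.one_lt.ne' h1
    refine ⟨T0.map Q.subtype, γ, Subgroup.map_subtype_le _, γ.2,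
      fun h => hγ (by simpa using h), ?_, ?_, ?_⟩
    · rw [Subgroup.card_map_of_injective Q.subtype_injective, mul_comm, ← hidx, T0.card_mul_index]
    · rintro s hs _ ⟨t, ht, rfl⟩
      exact ⟨⟨s, hs⟩ * t * ⟨s, hs⟩⁻¹, hT0n.conj_mem t ht _, by simp⟩
    · intro s hs
      exact ⟨⟨s, hs.1⟩, hST0 (Subgroup.mem_subgroupOf.mpr hs), rfl⟩
  choose! T γ hTQ hγQ hγT hTc hTn hST using hmax
  -- the orbit of each representative as a relative trace
  let R : Finset G := Finset.univ.filter fun r => j.1.coeff r ≠ 0 ∧ (Quotient.mk st r).out = r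
  let A : G → MonoidAlgebra (ResField M) G := fun r => gaOfFun fun x =>
    if ∃ t ∈ T r, t * r * t⁻¹ = x then j.1.coeff r else 0
  have hjinv : ∀ x q, q ∈ Q → j.1.coeff (q * x * q⁻¹) = j.1.coeff x := fun x q hq => j.2 q hq x
  have hAfix : ∀ r ∈ R, CInv (T r) (A r) := by
    intro r hr t ht x
    simp only [A, coeff_gaOfFun]
    refine if_congr ⟨?_, ?_⟩ rfl rfl
    · rintro ⟨t', ht', e⟩
      exact ⟨t⁻¹ * t', (T r).mul_mem ((T r).inv_mem ht) ht', by
        rw [show t⁻¹ * t' * r * (t⁻¹ * t')⁻¹ = t⁻¹ * (t' * r * t'⁻¹) * t by group, e]; group⟩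
    · rintro ⟨t', ht', e⟩
      exact ⟨t * t', (T r).mul_mem ht ht', by rw [← e]; group⟩
  have hgen : ∀ r ∈ R, ∀ q ∈ Q, ∃ l < p, (γ r ^ l)⁻¹ * q ∈ T r := by
    intro r hr q hq
    have hr' := (Finset.mem_filter.mp hr).2.1
    set T1 := (T r).subgroupOf Q with hT1
    have hTn1 : T1.Normal := ⟨fun x hx g => Subgroup.mem_subgroupOf.mpr (by
      simpa using hTn r hr' g g.2 x (Subgroup.mem_subgroupOf.mp hx))⟩
    have hidx : Nat.card (Q ⧸ T1) = p := by
      have h1 := T1.index_mul_card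
      rw [Nat.card_congr (Subgroup.subgroupOfEquivOfLe (hTQ r hr')).toEquiv, hTc r hr'] at h1
      exact Nat.eq_of_mul_eq_mul_right Nat.card_pos h1
    have hg1 : ((⟨γ r, hγQ r hr'⟩ : Q) : Q ⧸ T1) ≠ 1 := fun h =>
      hγT r hr' (Subgroup.mem_subgroupOf.mp ((QuotientGroup.eq_one_iff _).mp h))
    have hord' : orderOf ((⟨γ r, hγQ r hr'⟩ : Q) : Q ⧸ T1) = p :=
      (hpf.out.eq_one_or_self_of_dvd _ (hidx ▸ orderOf_dvd_natCard _)).resolve_left
        fun h => hg1 (orderOf_eq_one_iff.mp h)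
    have hmem := mem_zpowers_of_prime_card hidx hg1 (g' := ((⟨q, hq⟩ : Q) : Q ⧸ T1))
    obtain ⟨l, hl, he⟩ := Finset.mem_image.mp
      ((isOfFinOrder_of_finite _).mem_zpowers_iff_mem_range_orderOf.mp hmem)
    refine ⟨l, hord' ▸ Finset.mem_range.mp hl, ?_⟩
    have h2 : ((((⟨γ r, hγQ r hr'⟩ : Q) ^ l)⁻¹ * ⟨q, hq⟩ : Q) : Q ⧸ T1) = 1 := by
      rw [QuotientGroup.mk_mul, QuotientGroup.mk_inv, QuotientGroup.mk_pow, he, inv_mul_cancel]
    simpa using Subgroup.mem_subgroupOf.mp ((QuotientGroup.eq_one_iff _).mp h2)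
  have hdecomp : j.1 = ∑ r ∈ R, ∑ l ∈ Finset.range p, cj (γ r ^ l) (A r) := by
    refine ga_ext fun x => ?_
    simp only [coeff_sum_apply, coeff_cj, A, coeff_gaOfFun]
    by_cases hx : j.1.coeff x = 0
    · rw [hx]
      refine (Finset.sum_eq_zero fun r hr => Finset.sum_eq_zero fun l _ => ?_).symm
      rw [if_neg]
      rintro ⟨t, ht, e⟩
      refine (Finset.mem_filter.mp hr).2.1 ?_
      rw [← hx, show x = γ r ^ l * t * r * (γ r ^ l * t)⁻¹ by
        rw [show γ r ^ l * t * r * (γ r ^ l * t)⁻¹ = γ r ^ l * (t * r * t⁻¹) * (γ r ^ l)⁻¹ by group, e]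
        group]
      exact (hjinv r _ (Q.mul_mem (Q.pow_mem (hγQ r (Finset.mem_filter.mp hr).2.1) l)
        (hTQ r (Finset.mem_filter.mp hr).2.1 ht))).symm
    set r := (Quotient.mk st x).out with hrdef
    obtain ⟨q, hq, hqx⟩ : ∃ q ∈ Q, q * r * q⁻¹ = x := Quotient.exact (Quotient.mk st x).out_eq
    have hrj : j.1.coeff r = j.1.coeff x := by rw [← hqx, hjinv r q hq]
    have hrR : r ∈ R := Finset.mem_filter.mpr ⟨Finset.mem_univ _, hrj ▸ hx, by rw [Quotient.out_eq]⟩
    have hr' := (Finset.mem_filter.mp hrR).2.1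
    obtain ⟨l, hl, hlt⟩ := hgen r hrR q hq
    rw [Finset.sum_eq_single r (fun r' hr'R hne => Finset.sum_eq_zero fun l' _ => ?_)
      (fun h => absurd hrR h), Finset.sum_eq_single l (fun l' hl' hne => ?_)
      (fun h => absurd (Finset.mem_range.mpr hl) h), if_pos ⟨(γ r ^ l)⁻¹ * q, hlt, by
        rw [← hqx]; group⟩]
    · exact hrj.symm
    · rw [if_neg]
      rintro ⟨t, ht, e⟩
      refine hne ?_
      have hstab : ((γ r ^ l')⁻¹ * q)⁻¹ * t ∈ T r := hST r hr' ⟨Q.mul_mem (Q.inv_mem (Q.mul_mem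
          (Q.inv_mem (Q.pow_mem (hγQ r hr') _)) hq)) (hTQ r hr' ht), by
        show _ ∈ Subgroup.centralizer ({r} : Set G)
        rw [Subgroup.mem_centralizer_singleton_iff]
        calc ((γ r ^ l')⁻¹ * q)⁻¹ * t * r
            = q⁻¹ * γ r ^ l' * (t * r * t⁻¹) * t := by group
          _ = q⁻¹ * γ r ^ l' * ((γ r ^ l')⁻¹ * (q * r * q⁻¹) * γ r ^ l') * t := by rw [e, hqx]
          _ = r * (((γ r ^ l')⁻¹ * q)⁻¹ * t) := by group⟩
      have h1 : (γ r ^ l')⁻¹ * q ∈ T r := by
        have := (T r).mul_mem ht ((T r).inv_mem hstab)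
        simpa [mul_assoc] using this
      have h2 : (γ r ^ l')⁻¹ * γ r ^ l ∈ T r := by
        have := (T r).mul_mem h1 ((T r).inv_mem hlt)
        simpa [mul_assoc] using this
      by_contra hne'
      obtain ⟨d, hd0, hdp, hd⟩ : ∃ d, 0 < d ∧ d < p ∧ γ r ^ d ∈ T r := by
        rcases lt_or_gt_of_ne hne' with h | h
        · refine ⟨l - l', by omega, by omega, ?_⟩
          rwa [show γ r ^ (l - l') = (γ r ^ l')⁻¹ * γ r ^ l by
            rw [eq_inv_mul_iff_mul_eq, ← pow_add, Nat.add_sub_cancel' h.le]]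
        · refine ⟨l' - l, by omega, by have := Finset.mem_range.mp hl'; omega, ?_⟩
          have h3 := (T r).inv_mem h2
          rw [mul_inv_rev, inv_inv] at h3
          rwa [show γ r ^ (l' - l) = (γ r ^ l)⁻¹ * γ r ^ l' by
            rw [eq_inv_mul_iff_mul_eq, ← pow_add, Nat.add_sub_cancel' h.le]]
      obtain ⟨i, hi⟩ := exists_pow_eq_self_of_coprime (x := γ r) (n := d) (by
        obtain ⟨k, hk⟩ := hord _ (hγQ r hr')
        rw [hk]
        exact ((hpf.out.coprime_iff_not_dvd.mpr fun h => absurd (Nat.le_of_dvd hd0 h) (by omega)).symm).pow_right k)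
      exact hγT r hr' (hi ▸ (T r).pow_mem hd i)
    · rw [if_neg]
      rintro ⟨t, ht, e⟩
      refine hne ?_
      obtain ⟨-, hr'0, hout⟩ := Finset.mem_filter.mp hr'R
      rw [← hout, hrdef]
      congr 1
      exact Quotient.sound ⟨γ r' ^ l' * t, Q.mul_mem (Q.pow_mem (hγQ r' hr'0) _) (hTQ r' hr'0 ht), by
        rw [show γ r' ^ l' * t * r' * (γ r' ^ l' * t)⁻¹ = γ r' ^ l' * (t * r' * t⁻¹) * (γ r' ^ l')⁻¹ by
          group, e]; group⟩
  -- one summand is invertible in the corner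
  let O : G → MonoidAlgebra (ResField M) G := fun r => ∑ l ∈ Finset.range p, cj (γ r ^ l) (A r)
  have hOfix : ∀ r ∈ R, CInv Q (O r) := by
    intro r hr q hq x
    have key : ∀ y, (O r).coeff y = if ∃ s ∈ Q, s * r * s⁻¹ = y then j.1.coeff r else 0 := by
      intro y
      have hr' := (Finset.mem_filter.mp hr).2.1
      by_cases hy : ∃ s ∈ Q, s * r * s⁻¹ = y
      · rw [if_pos hy]
        obtain ⟨s, hs, hsy⟩ := hy
        have hout : (Quotient.mk st y).out = r := by
          rw [← (Finset.mem_filter.mp hr).2.2]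
          congr 1
          exact Eq.symm (Quotient.sound (s := st) ⟨s, hs, hsy⟩)
        have hjy : j.1.coeff y = j.1.coeff r := by rw [← hsy, hjinv r s hs]
        rw [← hjy]
        conv_rhs => rw [hdecomp, coeff_sum_apply]
        rw [Finset.sum_eq_single r (fun r' hr'' hne => ?_) (fun h => absurd hr h)]
        simp only [coeff_sum_apply, coeff_cj, A, coeff_gaOfFun]
        refine Finset.sum_eq_zero fun l _ => if_neg ?_
        rintro ⟨t, ht, e⟩
        obtain ⟨-, hr'0, hout'⟩ := Finset.mem_filter.mp hr''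
        refine hne ?_
        rw [← hout', ← hout]
        congr 1
        exact Quotient.sound ⟨γ r' ^ l * t, Q.mul_mem (Q.pow_mem (hγQ r' hr'0) _) (hTQ r' hr'0 ht), by
          rw [show γ r' ^ l * t * r' * (γ r' ^ l * t)⁻¹ = γ r' ^ l * (t * r' * t⁻¹) * (γ r' ^ l)⁻¹ by
            group, e]; group⟩
      · rw [if_neg hy]
        simp only [O, coeff_sum_apply, coeff_cj, A, coeff_gaOfFun]
        refine Finset.sum_eq_zero fun l _ => if_neg ?_
        rintro ⟨t, ht, e⟩
        exact hy ⟨γ r ^ l * t, Q.mul_mem (Q.pow_mem (hγQ r hr') l) (hTQ r hr' ht), by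
          rw [show γ r ^ l * t * r * (γ r ^ l * t)⁻¹ = γ r ^ l * (t * r * t⁻¹) * (γ r ^ l)⁻¹ by group, e]
          group⟩
    rw [key, key]
    refine if_congr ⟨?_, ?_⟩ rfl rfl
    · rintro ⟨s, hs, e⟩
      exact ⟨q⁻¹ * s, Q.mul_mem (Q.inv_mem hq) hs, by
        rw [show q⁻¹ * s * r * (q⁻¹ * s)⁻¹ = q⁻¹ * (s * r * s⁻¹) * q by group, e]; group⟩
    · rintro ⟨s, hs, e⟩
      exact ⟨q * s, Q.mul_mem hq hs, by rw [← e]; group⟩
  let Oe : {r // r ∈ R} → fixAlg M Q := fun r => ⟨O r, hOfix r r.2⟩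
  obtain ⟨r0, hr0⟩ : ∃ r : {r // r ∈ R}, Points.val (ResField M) hj (Oe r) ≠ 0 := by
    by_contra hall
    push Not at hall
    have h1 : ∑ r, Oe r = j := Subtype.ext (by
      rw [AddSubmonoidClass.coe_finsetSum, Finset.sum_coe_sort R O]
      exact hdecomp.symm)
    have h2 := Points.val_self (k := ResField M) hj
    conv_lhs at h2 => arg 2; rw [← h1]
    rw [map_sum, Finset.sum_eq_zero fun r _ => hall r] at h2
    exact zero_ne_one h2
  obtain ⟨v, hjv, hvj, hv⟩ := (Points.exists_val (k := ResField M) hj).choose_spec.2.2.2.2 _ hr0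
  obtain ⟨r, hr⟩ := r0
  obtain ⟨hrne, -⟩ := (Finset.mem_filter.mp hr).2
  set Tr := T r with hTr
  set g0 := γ r with hg0
  have hTQ' : Tr ≤ Q := hTQ r hrne
  have hgQ : g0 ∈ Q := hγQ r hrne
  have hn1 : ∀ s ∈ Tr, g0⁻¹ * s * g0 ∈ Tr := fun s hs => by
    simpa using hTn r hrne g0⁻¹ (Q.inv_mem hgQ) s hs
  have hn2 : ∀ s ∈ Tr, g0 * s * g0⁻¹ ∈ Tr := fun s hs => hTn r hrne g0 hgQ s hs
  set a' := j.1 * A r * (j.1 * v.1) with ha'
  have ha'T : CInv Tr a' := ((j.2.mono hTQ').mul (hAfix r hr)).mul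
    ((j.2.mono hTQ').mul (v.2.mono hTQ'))
  have hjeq : ∑ l ∈ Finset.range p, cj (g0 ^ l) a' = j.1 := by
    have h1 := congrArg Subtype.val hv
    simp only [Subalgebra.coe_mul] at h1
    rw [Finset.sum_congr rfl (g := fun l => j.1 * cj (g0 ^ l) (A r) * (j.1 * v.1)) fun l _ => by
      rw [ha', cj_mul, cj_mul, cj_mul, cinv_iff_cj.mp j.2 _ (Q.pow_mem hgQ l),
        cinv_iff_cj.mp v.2 _ (Q.pow_mem hgQ l)],
      ← Finset.sum_mul, ← Finset.mul_sum, ← mul_assoc]
    exact h1
  -- the values vanish outside the subgroup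
  have hout : ∀ u ∈ Q, u ∉ Tr → locVal w χ u j.1 = 0 := by
    intro u hu huT
    refine locVal_zero_of_trC hM (hord u hu) ?_
    refine ga_ext fun x => ?_
    by_cases hx : x ∈ CQ (Subgroup.zpowers u)
    swap
    · rw [suppIn_trC _ x hx]; simp
    rw [coeff_trC _ hx, ← hjeq, coeff_sum_apply]
    simp only [coeff_cj]
    obtain ⟨d, hd, hdT⟩ := hgen r hr u hu
    have hd0 : d ≠ 0 := fun h => huT (by simpa [h] using hdT)
    set f : ℕ → ResField M := fun l => a'.coeff ((g0 ^ l)⁻¹ * x * g0 ^ l) with hf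
    have hux : u * x * u⁻¹ = x := by
      rw [← (mem_cq_zpowers_iff.mp hx).eq, mul_inv_cancel_right]
    have hshift : ∀ l, f (l + d) = f l := by
      intro l
      have ht : (g0 ^ (l + d))⁻¹ * u * g0 ^ l ∈ Tr := by
        rw [show (g0 ^ (l + d))⁻¹ * u * g0 ^ l = (g0 ^ l)⁻¹ * ((g0 ^ d)⁻¹ * u) * g0 ^ l by
          rw [pow_add]; group]
        have := hTn r hrne (g0 ^ l)⁻¹ (Q.inv_mem (Q.pow_mem hgQ l)) _ hdT
        simpa using this
      simp only [hf]
      conv_lhs => rw [← hux]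
      rw [show (g0 ^ (l + d))⁻¹ * (u * x * u⁻¹) * g0 ^ (l + d) =
        ((g0 ^ (l + d))⁻¹ * u * g0 ^ l) * ((g0 ^ l)⁻¹ * x * g0 ^ l) *
          ((g0 ^ (l + d))⁻¹ * u * g0 ^ l)⁻¹ by group, ha'T _ ht]
    have hgp : g0 ^ p ∈ Tr := by
      obtain ⟨l, hl, hlT⟩ := hgen r hr (g0 ^ p) (Q.pow_mem hgQ p)
      rcases Nat.eq_zero_or_pos l with h | h
      · simpa [h] using hlT
      exfalso
      obtain ⟨i, hi⟩ := exists_pow_eq_self_of_coprime (x := g0) (n := p - l) (by
        obtain ⟨k, hk⟩ := hord _ hgQ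
        rw [hk]
        exact ((hpf.out.coprime_iff_not_dvd.mpr fun h' => absurd (Nat.le_of_dvd (by omega) h')
          (by omega)).symm).pow_right k)
      refine hγT r hrne ?_
      show g0 ∈ Tr
      rw [← hi]
      refine Tr.pow_mem ?_ i
      rwa [show g0 ^ (p - l) = (g0 ^ l)⁻¹ * g0 ^ p by
        rw [eq_inv_mul_iff_mul_eq, ← pow_add, Nat.add_sub_cancel' hl.le]]
    have hper : ∀ l, f (l + p) = f l := by
      intro l
      simp only [hf]
      rw [show (g0 ^ (l + p))⁻¹ * x * g0 ^ (l + p) =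
        (g0 ^ p)⁻¹ * ((g0 ^ l)⁻¹ * x * g0 ^ l) * (g0 ^ p)⁻¹⁻¹ by rw [pow_add]; group,
        ha'T _ (Tr.inv_mem hgp)]
    have hmul : ∀ m l, f (l + m * d) = f l := by
      intro m
      induction m with
      | zero => intro l; simp
      | succ m ihm => intro l; rw [Nat.succ_mul, ← Nat.add_assoc, hshift, ihm]
    have hmulp : ∀ m l, f (l + m * p) = f l := by
      intro m
      induction m with
      | zero => intro l; simp
      | succ m ihm => intro l; rw [Nat.succ_mul, ← Nat.add_assoc, hper, ihm]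
    obtain ⟨e0, -, he0⟩ := Nat.exists_mul_mod_eq_one_of_coprime
      ((hpf.out.coprime_iff_not_dvd.mpr fun h' => absurd (Nat.le_of_dvd (Nat.pos_of_ne_zero hd0) h')
        (by omega)).symm) hpf.out.one_lt
    have hconst : ∀ l, f l = f 0 := by
      intro l
      induction l with
      | zero => rfl
      | succ l ihl =>
        rw [← hmulp (d * e0 / p) (l + 1), ← ihl, ← hmul e0 l]
        congr 1
        have := Nat.div_add_mod (d * e0) p
        rw [he0] at this
        rw [mul_comm e0 d, mul_comm (d * e0 / p) p]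
        omega
    show ∑ l ∈ Finset.range p, f l = _
    rw [Finset.sum_congr rfl fun l _ => hconst l, Finset.sum_const, Finset.card_range, nsmul_eq_mul,
      CharP.cast_eq_zero, zero_mul]
    simp
  -- divisibility on the subgroup
  have hTcard : Nat.card Tr < n := by
    rw [← hn, hTc r hrne]
    exact lt_mul_left Nat.card_pos hpf.out.one_lt
  have hTp : IsPGroup p Tr := hQ.to_le hTQ'
  have := Fintype.ofFinite (IrrCharacter Q)
  refine Char.isGeneralizedCharacter_of_int_inner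
    (isClassFunction_locVal hM hw hQ hjj j.2) fun μ => ?_
  let μT : Tr → ℂ := fun t => (μ : Q → ℂ) ⟨t, hTQ' t.2⟩
  have hμT : IsCharacter Tr μT :=
    Char.isCharacter_comp (Char.isCharacter_irr μ) (Subgroup.inclusion hTQ')
  have hint : ∀ e : fixAlg M Tr, e * e = e → ∃ m : ℤ,
      classInner (fun t : Tr => locVal w χ (t : G) e.1) μT = m := fun e he =>
    Char.classInner_generalized_int (ih _ hTcard Tr rfl hTp e.1 (congrArg Subtype.val he) e.2)
      (Char.isGeneralizedCharacter_of_isCharacter hμT)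
  let ν : fixAlg M Tr → ℤ := fun e => if h : e * e = e then (hint e h).choose else 0
  have hν : ∀ e : fixAlg M Tr, e * e = e →
      classInner (fun t : Tr => locVal w χ (t : G) e.1) μT = (ν e : ℂ) := fun e he => by
    simp only [ν, dif_pos he]
    exact (hint e he).choose_spec
  have hordT : ∀ t : Tr, ∃ k : ℕ, orderOf (t : G) = p ^ k := fun t => hord _ (hTQ' t.2)
  let jT : fixAlg M Tr := ⟨j.1, j.2.mono hTQ'⟩
  have hjT : jT * jT = jT := Subtype.ext hjj
  have hdvd : (p : ℤ) ∣ ν jT := by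
    refine Points.dvd_of_relTrace (cjFix M Tr g0 hn1 hn2) (fun x => Subtype.ext ?_) hjT
      (Subtype.ext (cinv_iff_cj.mp j.2 g0 hgQ)) (a := ⟨a', ha'T⟩) (Subtype.ext ?_) ν ?_ ?_ ?_
    · rw [coe_cjFix_iterate]
      refine cinv_iff_cj.mp x.2 _ ?_
      obtain ⟨l, hl, hlT⟩ := hgen r hr (g0 ^ p) (Q.pow_mem hgQ p)
      rcases Nat.eq_zero_or_pos l with h | h
      · simpa [h] using hlT
      exfalso
      obtain ⟨i, hi⟩ := exists_pow_eq_self_of_coprime (x := g0) (n := p - l) (by
        obtain ⟨k, hk⟩ := hord _ hgQ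
        rw [hk]
        exact ((hpf.out.coprime_iff_not_dvd.mpr fun h' => absurd (Nat.le_of_dvd (by omega) h')
          (by omega)).symm).pow_right k)
      refine hγT r hrne ?_
      show g0 ∈ Tr
      rw [← hi]
      refine Tr.pow_mem ?_ i
      rwa [show g0 ^ (p - l) = (g0 ^ l)⁻¹ * g0 ^ p by
        rw [eq_inv_mul_iff_mul_eq, ← pow_add, Nat.add_sub_cancel' hl.le]]
    · rw [AddSubmonoidClass.coe_finsetSum]
      simp only [coe_cjFix_iterate]
      exact hjeq
    · intro e f he hf hef hfe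
      have hef' : (e + f) * (e + f) = e + f := by
        rw [add_mul, mul_add, mul_add, he, hf, hef, hfe, add_zero, zero_add]
      have h1 : (fun t : Tr => locVal w χ (t : G) (e + f).1) =
          (fun t : Tr => locVal w χ (t : G) e.1) + fun t : Tr => locVal w χ (t : G) f.1 := by
        funext t
        exact locVal_add hM (hordT t) (congrArg Subtype.val he) (congrArg Subtype.val hf)
          (congrArg Subtype.val hef) (congrArg Subtype.val hfe)
          (e.2.mono (Subgroup.zpowers_le.mpr t.2)) (f.2.mono (Subgroup.zpowers_le.mpr t.2))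
      have h2 := hν _ hef'
      rw [h1, Char.classInner_add_left, hν e he, hν f hf] at h2
      exact_mod_cast h2.symm
    · intro e f hef
      obtain ⟨a, b, h1, h2, h3, h4, h5, h6⟩ := hef
      have he : e * e = e := by
        conv_lhs => arg 2; rw [← h5]
        rw [← mul_assoc, h1, h5]
      have hf : f * f = f := by
        conv_lhs => arg 2; rw [← h6]
        rw [← mul_assoc, h3, h6]
      have h : (fun t : Tr => locVal w χ (t : G) e.1) = fun t : Tr => locVal w χ (t : G) f.1 := by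
        funext t
        exact locVal_equiv hM (hordT t) (congrArg Subtype.val he) (congrArg Subtype.val h1)
          (congrArg Subtype.val h4) (congrArg Subtype.val h5) (congrArg Subtype.val h6)
          (e.2.mono (Subgroup.zpowers_le.mpr t.2)) (a.2.mono (Subgroup.zpowers_le.mpr t.2))
          (b.2.mono (Subgroup.zpowers_le.mpr t.2))
      have e1 := hν e he
      rw [h, hν f hf] at e1
      exact_mod_cast e1.symm
    · intro e he
      have he' : cjFix M Tr g0 hn1 hn2 e * cjFix M Tr g0 hn1 hn2 e = cjFix M Tr g0 hn1 hn2 e := by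
        rw [← map_mul, he]
      have e1 := hν _ he'
      suffices h : classInner (fun t : Tr => locVal w χ (t : G) (cjFix M Tr g0 hn1 hn2 e).1) μT =
          classInner (fun t : Tr => locVal w χ (t : G) e.1) μT by
        rw [h, hν e he] at e1
        exact_mod_cast e1.symm
      simp only [classInner]
      congr 1
      refine (Fintype.sum_equiv
        ({ toFun := fun t => ⟨g0 * t * g0⁻¹, hn2 t t.2⟩
           invFun := fun t => ⟨g0⁻¹ * t * g0, hn1 t t.2⟩
           left_inv := fun t => Subtype.ext (by group)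
           right_inv := fun t => Subtype.ext (by group) } : Tr ≃ Tr) _ _ fun t => ?_).symm
      show _ = locVal w χ (g0 * (t : G) * g0⁻¹) (cj g0 e.1) * conj (μT ⟨g0 * t * g0⁻¹, hn2 t t.2⟩)
      rw [locVal_cj hM hw g0 (hordT t) (congrArg Subtype.val he)
        (e.2.mono (Subgroup.zpowers_le.mpr t.2))]
      congr 2
      show _ = (μ : Q → ℂ) (⟨g0, hgQ⟩ * ⟨(t : G), hTQ' t.2⟩ * (⟨g0, hgQ⟩ : Q)⁻¹)
      rw [Char.isClassFunction_irr μ]
  obtain ⟨m, hm⟩ := hdvd
  refine ⟨m, ?_⟩
  have hres := hν jT hjT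
  rw [hm] at hres
  simp only [classInner] at hres ⊢
  have hsum' : ∑ u : Q, locVal w χ (u : G) j.1 * conj ((μ : Q → ℂ) u) =
      ∑ t : Tr, locVal w χ (t : G) jT.1 * conj (μT t) := by
    rw [← Finset.sum_subset (Finset.subset_univ (Finset.univ.filter (fun u : Q => (u : G) ∈ Tr)))
      fun u _ hu => by rw [hout u u.2 (by simpa using hu), zero_mul]]
    refine Finset.sum_bij' (fun u hu => ⟨u, (Finset.mem_filter.mp hu).2⟩)
      (fun t _ => ⟨t, hTQ' t.2⟩) (fun _ _ => Finset.mem_univ _)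
      (fun t _ => Finset.mem_filter.mpr ⟨Finset.mem_univ _, t.2⟩) (fun _ _ => rfl) (fun _ _ => rfl)
      fun _ _ => rfl
  have hc0 : (Nat.card Tr : ℂ) ≠ 0 := Nat.cast_ne_zero.mpr Nat.card_pos.ne'
  have hp0 : (p : ℂ) ≠ 0 := Nat.cast_ne_zero.mpr hpf.out.ne_zero
  rw [inv_mul_eq_iff_eq_mul₀ hc0] at hres
  rw [hsum', hres, hTc r hrne]
  push_cast
  field_simp
  rw [hTr]

end CfsgLib.Block
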