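import Cfsg.Agent.Lib.Block.EqualDegreeCenter
import Cfsg.Agent.Lib.Block.CenterDim
import Cfsg.Agent.Lib.Block.FreeInertial.Local
import Cfsg.Agent.Lib.Block.NilpotentBijection

/-!
# Abelian defect group and equal degrees: nilpotency, and conversely

`isNilpotentBlock_of_equal_degrees` (Okuyama–Tsushima): the Brauer homomorphism embeds the centre of
the block in the functions on the defect group that are constant on the inertial orbits.
`equal_degrees_of_nilpotent`: the converse.
-/

open Finset MonoidAlgebra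
open scoped ComplexConjugate

set_option autoImplicit false
set_option linter.unusedSectionVars false
set_option linter.style.haveILetI false

namespace CfsgLib.Block.EqualDegree

open Cfsg CfsgLib.Block CfsgLib.Block.CyclicDefect CfsgLib.Block.CenterDim

universe u

variable {p : ℕ} {M : Ideal AlgInt} [M.IsMaximal] {G : Type u} [Group G] [Fintype G] [DecidableEq G]
  [Fintype (IrrCharacter G)] {B : Set (IrrCharacter G)} {d : ℕ}

theorem card_irr_of_comm {A : Type u} [Group A] [Finite A] (h : ∀ a b : A, a * b = b * a) :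
    Nat.card (IrrCharacter A) = Nat.card A := by
  have := Fintype.ofFinite A
  have := Fintype.ofFinite (IrrCharacter A)
  rw [Char.card_irr_eq_card_conjClasses]
  refine (Nat.card_eq_of_bijective (ConjClasses.mk (α := A)) ⟨fun a b hab => ?_,
    ConjClasses.mk_surjective⟩).symm
  obtain ⟨c, hc⟩ := isConj_iff.mp (ConjClasses.mk_eq_mk_iff_isConj.mp hab)
  rwa [h c a, mul_inv_cancel_right] at hc

/-- A product with a central `p`-element is regular only if the element is trivial. -/
theorem eq_one_of_regular [Fact p.Prime] {w s : G} (hc : Commute w s) {a : ℕ}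
    (hw : orderOf w = p ^ a) (hs : ¬ p ∣ orderOf s) (h : ¬ p ∣ orderOf (w * s)) : w = 1 := by
  have hco : (orderOf w).Coprime (orderOf s) := by
    rw [hw]
    exact Nat.Coprime.pow_left _ ((Fact.out : p.Prime).coprime_iff_not_dvd.mpr hs)
  rw [hc.orderOf_mul_eq_mul_orderOf_of_coprime hco, hw] at h
  rcases Nat.eq_zero_or_pos a with rfl | ha
  · exact orderOf_eq_one_iff.mp (by simpa using hw)
  · exact absurd ((dvd_pow_self p ha.ne').mul_right _) h

/-- In a block with a central defect group with as many members as its order the centre is spanned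
by the translates of the idempotent. -/
theorem exists_expansion [Fintype (ConjClasses G)] (hM : IsPModular p M) {Z : Subgroup G} [Fintype Z]
    (hZp : IsPGroup p Z) (hZc : ∀ y ∈ Z, ∀ t : G, Commute t y) (hB : IsPBlock M B)
    (hk : Nat.card B = Nat.card Z) {X : MonoidAlgebra (ResField M) G} (hX : IsClassElt X)
    (hXe : X * eK M B = X) :
    ∃ c : Z → ResField M, (X = ∑ y : Z, c y • (single (y : G) 1 * eK M B)) ∧
      ∀ (y : Z) (s : G), ¬ p ∣ orderOf s → X.coeff ((y : G) * s) = c y * (eK M B).coeff s := by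
  classical
  haveI : Fact p.Prime := ⟨hM.1⟩
  have hecl : IsClassElt (eK M B) := (mem_center_iff_isClassElt.mp (blockIdem M B).2).map _
  have hvanish : ∀ g : G, p ∣ orderOf g → (eK M B).coeff g = 0 := fun g hg => by
    by_contra hne
    rw [eK, coeff_toK] at hne
    exact regular_of_coeffRes_ne_zero hM (IsBlockUnion.of_isPBlock hB) hne hg
  have hdelta : ∀ (y y' : Z) (s : G), ¬ p ∣ orderOf s →
      (single (y : G) (1 : ResField M) * eK M B).coeff ((y' : G) * s) =
        if y = y' then (eK M B).coeff s else 0 := by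
    intro y y' s hs
    rw [coeff_single_mul', one_mul, ← mul_assoc]
    split_ifs with h
    · rw [h, inv_mul_cancel, one_mul]
    · refine hvanish _ ?_
      by_contra hreg
      refine h (Subtype.ext ?_)
      obtain ⟨a, ha⟩ := IsPGroup.iff_orderOf.mp hZp (y⁻¹ * y')
      have := eq_one_of_regular (p := p) (hZc _ (y⁻¹ * y').2 s).symm
        (a := a) (by rw [Subgroup.orderOf_coe, ha]) hs hreg
      exact inv_mul_eq_one.mp this
  set W := LinearMap.range ((classMat M B).map (res M)).mulVecLin with hW
  have hmem : ∀ Y : MonoidAlgebra (ResField M) G, IsClassElt Y → Y * eK M B = Y →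
      (fun C => Y.coeff (rep C)) ∈ W := by
    intro Y hY hYe
    refine ⟨fun C => Y.coeff (rep C), funext fun C' => ?_⟩
    have hz : zOf (fun C : ConjClasses G => Y.coeff (rep C)) = Y := ga_ext fun g => by
      rw [zOf, coeff_gaOfFun]
      exact hY.apply_eq_of_isConj (isConj_rep g)
    rw [Matrix.mulVecLin_apply, Matrix.mulVec, dotProduct]
    have h := coeff_zOf_mul (fun C : ConjClasses G => Y.coeff (rep C)) (eK M B) (rep C')
    rw [hz, hYe] at h
    rw [h]
    refine Finset.sum_congr rfl fun C _ => ?_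
    rw [Matrix.map_apply, classMat, Matrix.of_apply, eK, toK, ← map_classSum (res M), ← map_mul,
      coeff_mapRingHom]
  let v : Z → ConjClasses G → ResField M := fun y C => (single (y : G) 1 * eK M B).coeff (rep C)
  have hvcl : ∀ y : Z, IsClassElt (single (y : G) (1 : ResField M) * eK M B) := fun y =>
    IsClassElt.mul ((isClassElt_iff _).mpr fun t => by
      rw [commute_iff_eq, MonoidAlgebra.single_mul_single, MonoidAlgebra.single_mul_single,
        (hZc _ y.2 t).eq]) hecl
  have hvW : ∀ y, v y ∈ W := fun y => hmem _ (hvcl y) (by rw [mul_assoc, eK_idem hM hB])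
  obtain ⟨s₀, hs₀⟩ : ∃ s, (eK M B).coeff s ≠ 0 := by
    by_contra hall
    push Not at hall
    exact eK_ne_zero hM hB (ga_ext fun g => by simp [hall g])
  have hs₀r : ¬ p ∣ orderOf s₀ := fun h => hs₀ (hvanish _ h)
  have hli : LinearIndependent (ResField M) v := by
    rw [Fintype.linearIndependent_iff]
    intro c hc y'
    have h := congrFun hc (ConjClasses.mk ((y' : G) * s₀))
    rw [Finset.sum_apply, Pi.zero_apply, Finset.sum_eq_single y'] at h
    · simp only [Pi.smul_apply, smul_eq_mul, v] at h
      rw [(hvcl y').apply_eq_of_isConj (isConj_rep _), hdelta _ _ _ hs₀r, if_pos rfl] at h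
      exact (mul_eq_zero.mp h).resolve_right hs₀
    · intro y _ hne
      simp only [Pi.smul_apply, smul_eq_mul, v]
      rw [(hvcl y).apply_eq_of_isConj (isConj_rep _), hdelta _ _ _ hs₀r, if_neg hne, mul_zero]
    · simp
  have hspan : Submodule.span (ResField M) (Set.range v) = W := by
    refine Submodule.eq_of_le_of_finrank_eq (Submodule.span_le.mpr ?_) ?_
    · rintro _ ⟨y, rfl⟩
      exact hvW y
    · rw [finrank_span_eq_card hli, hW, finrank_range_classMat hM (IsBlockUnion.of_isPBlock hB), hk,
        Nat.card_eq_fintype_card]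
  obtain ⟨c, hc⟩ := (Submodule.mem_span_range_iff_exists_fun _).mp (hspan ▸ hmem X hX hXe)
  have hXsum : X = ∑ y : Z, c y • (single (y : G) 1 * eK M B) := ga_ext fun g => by
    rw [← hX.apply_eq_of_isConj (isConj_rep g), coeff_sum_apply]
    have h := congrFun hc (ConjClasses.mk g)
    rw [Finset.sum_apply] at h
    rw [← h]
    refine Finset.sum_congr rfl fun y _ => ?_
    simp only [Pi.smul_apply, smul_eq_mul, v, MonoidAlgebra.coeff_smul, Finsupp.smul_apply]
    rw [(hvcl y).apply_eq_of_isConj (isConj_rep g)]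
  refine ⟨c, hXsum, fun y' s hs => ?_⟩
  conv_lhs => rw [hXsum]
  rw [coeff_sum_apply, Finset.sum_eq_single y']
  · rw [MonoidAlgebra.coeff_smul, Finsupp.smul_apply, smul_eq_mul, hdelta _ _ _ hs, if_pos rfl]
  · intro y _ hne
    rw [MonoidAlgebra.coeff_smul, Finsupp.smul_apply, smul_eq_mul, hdelta _ _ _ hs, if_neg hne,
      mul_zero]
  · simp

variable {P : Subgroup G} {e : Set (IrrCharacter (CQ P))}

/-- The block at the top pair of an abelian defect group has as many members as the group has
elements. -/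
theorem card_top_block (hM : IsPModular p M) (hmax : IsMaximalBrauerPair p M B P e)
    (hab : ∀ x ∈ P, ∀ y ∈ P, x * y = y * x) : Nat.card e = Nat.card P := by
  classical
  have := Fintype.ofFinite (IrrCharacter (CQ P))
  have hPC := AbelianDefect.le_cq hab le_rfl
  have hloc := AbelianDefect.isMaximal_local hM hmax hab Relation.ReflTransGen.refl
  have hnil : IsNilpotentBlock p M e := by
    refine FreeInertial.isNilpotentBlock_of_stab_le hM hloc
      (fun x hx y hy => Subtype.ext (hab _ (Subgroup.mem_subgroupOf.mp hx) _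
        (Subgroup.mem_subgroupOf.mp hy))) fun g _ _ => ?_
    exact Subgroup.mem_centralizer_iff.mpr fun y hy => Subtype.ext
      (Subgroup.mem_centralizer_iff.mp g.2 _ (Subgroup.mem_subgroupOf.mp hy))
  obtain ⟨Φ, -⟩ := exists_height_bijection hM hloc hnil
  rw [Nat.card_congr Φ, card_irr_of_comm fun a b => Subtype.ext (Subtype.ext
      (hab _ (Subgroup.mem_subgroupOf.mp a.2) _ (Subgroup.mem_subgroupOf.mp b.2)))]
  exact Nat.card_congr (Subgroup.subgroupOfEquivOfLe hPC).toEquiv

/-- Okuyama–Tsushima: equal degrees force nilpotency for an abelian defect group. -/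
theorem isNilpotentBlock_of_equal_degrees (hM : IsPModular p M) (hB : IsPBlock M B)
    (hP : IsDefectGroup p M B P) (hab : ∀ x ∈ P, ∀ y ∈ P, x * y = y * x)
    (hd : ∀ χ ∈ B, charDegree (χ : G → ℂ) = d) : IsNilpotentBlock p M B := by
  classical
  have := Fintype.ofFinite (ConjClasses G)
  obtain ⟨e, hmax⟩ := exists_maximalPair_at hM hB hP
  have hp : Fact p.Prime := ⟨hM.1⟩
  refine FreeInertial.isNilpotentBlock_of_stab_le hM hmax hab fun t htN htS => ?_
  by_contra htC
  obtain ⟨y₀, hy₀, hne⟩ : ∃ y₀ ∈ P, y₀ * t ≠ t * y₀ := by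
    rw [Subgroup.mem_centralizer_iff] at htC
    push Not at htC
    exact htC
  have he := hmax.1.1
  have hPp := he.1
  have hPC := AbelianDefect.le_cq hab le_rfl
  have := Fintype.ofFinite (IrrCharacter (CQ P))
  have := Fintype.ofFinite (ConjClasses (CQ P))
  set P₀ := P.subgroupOf (CQ P) with hP₀
  have := Fintype.ofFinite P₀
  have hexp : ∀ {X : MonoidAlgebra (ResField M) (CQ P)}, IsClassElt X → X * eK M e = X →
      ∃ c : P₀ → ResField M, (X = ∑ y : P₀, c y • (single (y : CQ P) 1 * eK M e)) ∧
        ∀ (y : P₀) (s : CQ P), ¬ p ∣ orderOf s → X.coeff ((y : CQ P) * s) = c y * (eK M e).coeff s :=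
    fun {X} hX hXe => exists_expansion hM
      (hPp.of_equiv (Subgroup.subgroupOfEquivOfLe hPC).symm)
      (fun y hy s => Subtype.ext
        (Subgroup.mem_centralizer_iff.mp s.2 _ (Subgroup.mem_subgroupOf.mp hy)).symm) he.2
      (by rw [card_top_block hM hmax hab]
          exact (Nat.card_congr (Subgroup.subgroupOfEquivOfLe hPC).toEquiv).symm) hX hXe
  have hstab : cj t (eG M e) = eG M e := (stabilizesBlock_iff hM htN he.2).mp htS
  obtain ⟨s, hs⟩ : ∃ s, (eK M e).coeff s ≠ 0 := by
    by_contra hall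
    push Not at hall
    exact eK_ne_zero hM he.2 (ga_ext fun g => by simp [hall g])
  have hsreg : ¬ p ∣ orderOf s := by
    rw [eK, coeff_toK] at hs
    exact regular_of_coeffRes_ne_zero hM (IsBlockUnion.of_isPBlock he.2) hs
  have htCQ : ∀ k : CQ P, t * (k : G) * t⁻¹ ∈ CQ P := fun k =>
    (mem_centralizer_conj_iff htN).mpr k.2
  set W := LinearMap.range ((classMat M B).map (res M)).mulVecLin with hW
  let Xof : (ConjClasses G → ResField M) → MonoidAlgebra (ResField M) (CQ P) := fun v =>
    resTo (CQ P) (zOf v) * eK M e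
  let L : (ConjClasses G → ResField M) →ₗ[ResField M] (P₀ → ResField M) :=
    { toFun := fun v y => (Xof v).coeff ((y : CQ P) * s)
      map_add' := fun v w => by
        funext y
        have h : resTo (CQ P) (zOf (v + w)) = resTo (CQ P) (zOf v) + resTo (CQ P) (zOf w) :=
          ga_ext fun g => by simp [zOf]
        simp only [Xof, h, add_mul, MonoidAlgebra.coeff_add, Finsupp.add_apply, Pi.add_apply]
      map_smul' := fun a v => by
        funext y
        have h : resTo (CQ P) (zOf (a • v)) = a • resTo (CQ P) (zOf v) := ga_ext fun g => by simp [zOf]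
        simp only [Xof, h, smul_mul_assoc, MonoidAlgebra.coeff_smul, Finsupp.smul_apply, Pi.smul_apply,
          smul_eq_mul, RingHom.id_apply] }
  have hXcl : ∀ v, IsClassElt (Xof v) := fun v =>
    IsClassElt.mul (fun g h => by
      simp only [coeff_resTo, Subgroup.coe_mul, InvMemClass.coe_inv]
      exact isClassElt_zOf v _ _) ((mem_center_iff_isClassElt.mp (blockIdem M e).2).map _)
  have hXe : ∀ v, Xof v * eK M e = Xof v := fun v => by
    simp only [Xof, mul_assoc, eK_idem hM he.2]
  have hemb : ∀ v, (emb (Xof v) : MonoidAlgebra (ResField M) G) = trC P (zOf v) * eG M e := by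
    intro v
    rw [show Xof v = resTo (CQ P) (trC P (zOf v)) * eK M e by
      simp only [Xof]
      congr 1
      exact ga_ext fun g => by rw [coeff_resTo, coeff_resTo, coeff_trC _ g.2], emb_mul,
      ← eq_emb_of_suppIn (suppIn_trC _)]
    rfl
  have hinv : ∀ (v : ConjClasses G → ResField M), ∀ n ∈ Subgroup.normalizer (P : Set G), cj n (trC P (zOf v)) = trC P (zOf v) := by
    intro v n hn
    exact cinv_iff_cj.mp ((show CInv (Subgroup.normalizer (P : Set G)) (zOf v) from
      fun a _ g => isClassElt_zOf v g a).trC (R := P) le_rfl) n hn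
  let y₁ : P₀ := ⟨⟨y₀, hPC hy₀⟩, Subgroup.mem_subgroupOf.mpr hy₀⟩
  let y₂ : P₀ := ⟨⟨t * y₀ * t⁻¹, htCQ ⟨y₀, hPC hy₀⟩⟩,
    Subgroup.mem_subgroupOf.mpr ((Subgroup.mem_normalizer_iff.mp htN _).mp hy₀)⟩
  have hy12 : y₁ ≠ y₂ := fun h => hne (by
    have h' : y₀ = t * y₀ * t⁻¹ := congrArg (fun y : P₀ => ((y : CQ P) : G)) h
    calc y₀ * t = (t * y₀ * t⁻¹) * t := by rw [← h']
      _ = t * y₀ := by group)
  have hconst : ∀ v, L v y₂ = L v y₁ := by
    intro v
    obtain ⟨c, -, hc⟩ := hexp (hXcl v) (hXe v)
    show (Xof v).coeff ((y₂ : CQ P) * s) = (Xof v).coeff ((y₁ : CQ P) * s)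
    set s' : CQ P := ⟨t * (s : G) * t⁻¹, htCQ s⟩ with hs'
    have hs'r : ¬ p ∣ orderOf s' := by
      rw [← Subgroup.orderOf_coe, hs', orderOf_conj_eq, Subgroup.orderOf_coe]
      exact hsreg
    have hes : (eK M e).coeff s' = (eK M e).coeff s := by
      have h := congrArg (fun w : MonoidAlgebra (ResField M) G => w.coeff (s' : G)) hstab
      rw [coeff_cj, show t⁻¹ * (s' : G) * t = (s : G) by simp only [hs']; group, coeff_eG,
        coeff_eG] at h
      rw [eK, coeff_toK, coeff_toK]
      exact h.symm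
    have hmove : (Xof v).coeff ((y₂ : CQ P) * s') = (Xof v).coeff ((y₁ : CQ P) * s) := by
      rw [← coeff_emb_coe (Xof v), ← coeff_emb_coe (Xof v), hemb]
      have h := congrArg (fun w : MonoidAlgebra (ResField M) G => w.coeff ((((y₂ : CQ P) * s' : CQ P)) : G))
        (show cj t (trC P (zOf v) * eG M e) = trC P (zOf v) * eG M e by
          rw [cj_mul, hinv v t htN, hstab])
      rw [coeff_cj] at h
      rw [← h]
      congr 1
      simp only [Subgroup.coe_mul, hs', y₁, y₂]
      group
    rw [hc _ _ hsreg, hc _ _ hsreg] at *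
    rw [hc _ _ hs'r, hes] at hmove
    exact hmove
  have hinj : ∀ v ∈ W, L v = 0 → v = 0 := by
    intro v hv hLv
    obtain ⟨c, hX, hc⟩ := hexp (hXcl v) (hXe v)
    have hc0 : ∀ y, c y = 0 := fun y => by
      have h := congrFun hLv y
      rw [Pi.zero_apply, show L v y = (Xof v).coeff ((y : CQ P) * s) from rfl, hc y s hsreg] at h
      exact (mul_eq_zero.mp h).resolve_right hs
    have h0 : trC P (zOf v) * eG M e = 0 := by
      rw [← hemb, hX, Finset.sum_eq_zero fun y _ => by rw [hc0 y, zero_smul]]
      exact ga_ext fun g => by simp [emb]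
    have hz : zOf v * eK M B = zOf v := mul_eK_of_mem_range hM hB hv
    have hbb : (blockBar M B : MonoidAlgebra (ResField M) G) = eK M B := rfl
    have htr : trC P (zOf v) = 0 := by
      rw [← hz, ← hbb, trC_mul hM hPp (fun a _ g => isClassElt_zOf v g a) (cinv_of_central (blockBar M B) P),
        trC_blockBar_eq hM hmax, eO, Finset.mul_sum]
      refine Finset.sum_eq_zero fun f hf => ?_
      obtain ⟨n, hn, hnf⟩ := mem_orbitN.mp hf
      rw [← hnf, eG_conjN hn, ← hinv v n hn, ← cj_mul]
      refine Eq.trans (congrArg (cj n) ?_) (ga_ext fun g => by simp : cj n 0 = 0)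
      convert h0
    have h := eq_zero_of_trC hM hB hP hd (isClassElt_zOf v) hz htr
    funext C
    have h' := congrArg (fun w : MonoidAlgebra (ResField M) G => w.coeff (rep C)) h
    simpa [zOf, mk_rep] using h'
  let π : (P₀ → ResField M) →ₗ[ResField M] ResField M := LinearMap.proj (R := ResField M) (φ := fun _ : P₀ => ResField M) y₂ - LinearMap.proj y₁
  have hπne : LinearMap.ker π ≠ ⊤ := fun htop => by
    have h : Pi.single y₂ (1 : ResField M) ∈ LinearMap.ker π := htop ▸ Submodule.mem_top
    simp [π, hy12] at h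
  let L' : W →ₗ[ResField M] LinearMap.ker π :=
    (L.comp W.subtype).codRestrict _ fun v => by
      simp [π, hconst]
  have hL' : Function.Injective L' := by
    rw [injective_iff_map_eq_zero]
    intro v hv
    exact Subtype.ext (hinj v v.2 (congrArg Subtype.val hv))
  have h1 := LinearMap.finrank_le_finrank_of_injective hL'
  have h2 := Submodule.finrank_lt hπne
  rw [finrank_range_classMat hM (IsBlockUnion.of_isPBlock hB), (rows hM hB hd).2.1,
    ← defectGroup_card hM hB hP] at h1
  rw [Module.finrank_pi, ← Nat.card_eq_fintype_card,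
    Nat.card_congr (Subgroup.subgroupOfEquivOfLe hPC).toEquiv] at h2
  omega

/-- The members of a nilpotent block with an abelian defect group have one degree. -/
theorem equal_degrees_of_nilpotent (hM : IsPModular p M) (hP : IsDefectGroup p M B P)
    (hab : ∀ x ∈ P, ∀ y ∈ P, x * y = y * x) (hnil : IsNilpotentBlock p M B) :
    ∃ d : ℕ, ∀ χ ∈ B, charDegree (χ : G → ℂ) = d := by
  classical
  have hB := hnil.1
  obtain ⟨e, hmax⟩ := exists_maximalPair_at hM hB hP
  obtain ⟨η₀, hη₀, hrow, hnorm⟩ := isNilpotentBlock_unitRow hM hnil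
  obtain ⟨Φ, -⟩ := exists_height_bijection hM hmax hnil
  have hk : Nat.card B = p ^ blockDefect p B := by
    rw [Nat.card_congr Φ, card_irr_of_comm fun a b => Subtype.ext (hab _ a.2 _ b.2),
      defectGroup_card hM hB hP]
  choose! m hm using hrow
  have hp0 : ((p : ℂ) ^ blockDefect p B) ≠ 0 := pow_ne_zero _ (Nat.cast_ne_zero.mpr hM.1.ne_zero)
  set r := regInner p η₀ η₀ with hr
  have hr' : r = ((p : ℂ) ^ blockDefect p B)⁻¹ := eq_inv_of_mul_eq_one_left hnorm
  have hrm : ∀ ψ ∈ B, regInner p ψ η₀ = (m ψ : ℂ) * r := by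
    intro ψ hψ
    simp only [hr, regInner, classInner, Finset.mul_sum]
    refine Finset.sum_congr rfl fun g _ => ?_
    simp only [regFun]
    by_cases hg : p ∣ orderOf g
    · simp [hg]
    · rw [if_neg hg, if_neg hg, hm ψ hψ g hg]
      ring
  have hsq : ∑ ψ ∈ Finset.univ.filter (· ∈ B), (m ψ : ℂ) ^ 2 = (p : ℂ) ^ blockDefect p B := by
    have h := sum_regInner_mul_regInner p η₀ η₀
    rw [← Finset.sum_subset (Finset.subset_univ (Finset.univ.filter (· ∈ B))) fun ψ _ hψ => by
      rw [regInner_eq_zero_of_not_mem hM (IsBlockUnion.of_isPBlock hB) hη₀ (by simpa using hψ),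
        zero_mul],
      Finset.sum_congr rfl (g := fun ψ => (m ψ : ℂ) ^ 2 * r ^ 2) fun ψ hψ => by
        have hψB := (Finset.mem_filter.mp hψ).2
        rw [hrm ψ hψB, ← conj_regInner p ψ η₀, hrm ψ hψB, map_mul, map_natCast,
          show conj r = r from conj_regInner p η₀ η₀]
        ring,
      ← Finset.sum_mul, ← hr, hr'] at h
    field_simp at h
    linear_combination h
  have hm1 : ∀ ψ ∈ B, 1 ≤ m ψ := by
    intro ψ hψ
    refine Nat.one_le_iff_ne_zero.mpr fun h0 => Char.irr_one_ne_zero ψ ?_
    rw [hm ψ hψ 1 (by simp [hM.1.ne_one]), h0, Nat.cast_zero, zero_mul]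
  have hsqN : ∑ ψ ∈ Finset.univ.filter (· ∈ B), m ψ ^ 2 =
      ∑ ψ ∈ Finset.univ.filter (· ∈ B), 1 := by
    rw [Finset.sum_const, smul_eq_mul, mul_one,
      show (Finset.univ.filter (· ∈ B)).card = Nat.card B by
        rw [Nat.card_eq_fintype_card (α := B), Fintype.card_subtype], hk]
    exact_mod_cast hsq
  have hall : ∀ ψ ∈ Finset.univ.filter (· ∈ B), 1 = m ψ ^ 2 :=
    (Finset.sum_eq_sum_iff_of_le fun ψ hψ =>
      Nat.one_le_pow _ _ (hm1 ψ (Finset.mem_filter.mp hψ).2)).mp hsqN.symm
  refine ⟨charDegree (η₀ : G → ℂ), fun χ hχ => ?_⟩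
  have h1 : m χ = 1 :=
    ((pow_eq_one_iff.mp (hall χ (Finset.mem_filter.mpr ⟨Finset.mem_univ _, hχ⟩)).symm)).resolve_right two_ne_zero
  have h := hm χ hχ 1 (by simp [hM.1.ne_one])
  rw [(charDegree_eq χ).1, h1, Nat.cast_one, one_mul, (charDegree_eq η₀).1] at h
  exact_mod_cast h

end CfsgLib.Block.EqualDegree
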