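import Cfsg.Agent.Lib.Block.IsoBlocks
import Cfsg.Agent.Lib.Char.ExtendChar
import Cfsg.Agent.Lib.Char.InvariantAbove

/-!
# Extensions in the principal block over a normal subgroup supplemented by a Sylow centralizer

For `G = N C(P)`, `P` Sylow in `N`, and an irreducible representation of `G` irreducible on `N` with
character in the principal block of `N`, the scalars of the `N`-invariant elements of a coset are,
modulo the maximal ideal, the augmentation times a linear character.  Dividing by its lift gives an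
extension in the principal block of every overgroup of `N`.
-/

open Finset MonoidAlgebra
open scoped ComplexConjugate

set_option linter.unusedSectionVars false

namespace CfsgLib.Block.ExtensionPrincipal

open Cfsg CfsgLib.Block CfsgLib.Block.Iso

universe u

variable {p : ℕ} {M : Ideal AlgInt} [M.IsMaximal] {G : Type u} [Group G] [Fintype G] [DecidableEq G]
  {N : Subgroup G} [N.Normal] [Fintype N]

theorem isIrreducible_of_comp {A : Type*} [Group A] {V : Type*} [AddCommGroup V] [Module ℂ V]
    (σ : Representation ℂ G V) (f : A →* G)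
    [hρ : Representation.IsIrreducible (σ.comp f)] : σ.IsIrreducible := by
  let r : Subrepresentation σ → Subrepresentation (σ.comp f) := fun S =>
    ⟨S.toSubmodule, fun a v hv => S.apply_mem_toSubmodule (f a) hv⟩
  have hV := Char.nontrivial_of_irreducible (σ.comp f : Representation ℂ A V)
  have hne : Nontrivial (Subrepresentation σ) := by
    refine ⟨⊥, ⊤, fun e => ?_⟩
    have e' : (⊥ : Submodule ℂ V) = ⊤ := congrArg Subrepresentation.toSubmodule e
    obtain ⟨v, hv⟩ := exists_ne (0 : V)
    exact hv ((Submodule.mem_bot ℂ).mp (e' ▸ Submodule.mem_top))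
  refine { toNontrivial := hne, eq_bot_or_eq_top := fun S => ?_ }
  rcases eq_bot_or_eq_top (r S) with h | h
  · exact Or.inl (Subrepresentation.toSubmodule_injective (congrArg Subrepresentation.toSubmodule h :))
  · exact Or.inr (Subrepresentation.toSubmodule_injective (congrArg Subrepresentation.toSubmodule h :))

variable (N) in
/-- The integral group algebra elements commuting with `N`. -/
noncomputable def invRing : Subring (MonoidAlgebra ℤ G) :=
  Subring.centralizer ((fun n => single n (1 : ℤ)) '' (N : Set G))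

theorem mem_invRing {z : MonoidAlgebra ℤ G} : z ∈ invRing N ↔ CInv N z := by
  rw [invRing, Subring.mem_centralizer_iff]
  exact ⟨fun h => cinv_of_commute fun s hs => h _ ⟨s, hs, rfl⟩,
    fun h _ ⟨s, hs, e⟩ => e ▸ (h.commute hs).eq⟩

variable {d : ℕ} (σ : Representation ℂ G (Fin d → ℂ))
  [hσ : Representation.IsIrreducible (σ.comp N.subtype)]

include hσ in
theorem character_one_ne_zero : σ.character 1 ≠ 0 := by
  have := Char.nontrivial_of_irreducible (σ.comp N.subtype : Representation ℂ N (Fin d → ℂ))
  rw [Representation.char_one, Nat.cast_ne_zero]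
  exact Module.finrank_pos.ne'

include hσ in
theorem rho_inv {z : MonoidAlgebra ℂ G} (hz : CInv N z) :
    σ.asAlgebraHom z = algebraMap ℂ (Module.End ℂ (Fin d → ℂ)) (omega σ.character z) := by
  let T : (Fin d → ℂ) →ₗ[ℂ] (Fin d → ℂ) := σ.asAlgebraHom z
  obtain ⟨c, hc⟩ := Char.schur_scalar (σ.comp N.subtype : Representation ℂ N (Fin d → ℂ)) T
    fun x => by
      show T * σ (x : G) = σ (x : G) * T
      simp only [T, ← Representation.asAlgebraHom_single_one, ← map_mul]
      rw [(hz.commute x.2).eq]
  have htr : LinearMap.trace ℂ _ T = ∑ g, z.coeff g * σ.character g := by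
    have hz' : z = ∑ g, single g (z.coeff g) := ga_ext fun g => by
      rw [coeff_sum_apply, Finset.sum_eq_single g] <;> simp +contextual
    conv_lhs => rw [show T = σ.asAlgebraHom (∑ g, single g (z.coeff g)) by rw [← hz']]
    simp [Representation.character]
  have h1 := character_one_ne_zero (N := N) σ
  have homega : omega σ.character z = c := by
    rw [omega, ← htr, hc, map_smul, LinearMap.trace_id, smul_eq_mul]
    rw [Representation.char_one] at h1 ⊢
    field_simp
  rw [homega]
  show T = _
  rw [hc]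
  rfl

/-- The scalar of an integral invariant element. -/
noncomputable def omI (z : MonoidAlgebra ℤ G) : ℂ :=
  omega σ.character (mapRingHom G (Int.castRingHom ℂ) z)

theorem cinv_map {z : MonoidAlgebra ℤ G} (hz : CInv N z) :
    CInv N (mapRingHom G (Int.castRingHom ℂ) z) := fun s hs g => by simp [hz s hs g]

include hσ in
theorem isIntegral_omI {z : MonoidAlgebra ℤ G} (hz : CInv N z) : IsIntegral ℤ (omI σ z) := by
  have := Char.nontrivial_of_irreducible (σ.comp N.subtype : Representation ℂ N (Fin d → ℂ))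
  have : Module.Finite ℤ (MonoidAlgebra ℤ G) := inferInstance
  have h := map_isIntegral_int (σ.asAlgebraHom.toRingHom.comp (mapRingHom G (Int.castRingHom ℂ)))
    (IsIntegral.of_finite ℤ z)
  rw [RingHom.comp_apply, AlgHom.toRingHom_eq_coe, RingHom.coe_coe,
    rho_inv (N := N) σ (cinv_map hz)] at h
  exact (isIntegral_algebraMap_iff (RingHom.injective _)).mp h

variable (M N) in
/-- The reduced scalar, on the invariant elements. -/
noncomputable def scal : invRing N →+* ResField M :=
  (res M).comp
    { toFun := fun z => ⟨omI σ z, integral_mem M (isIntegral_omI σ (mem_invRing.mp z.2))⟩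
      map_one' := Subtype.ext (by
        have h1 := character_one_ne_zero (N := N) σ
        show omI σ (1 : MonoidAlgebra ℤ G) = 1
        rw [omI, map_one, omega, Finset.sum_eq_single 1]
        · simp [MonoidAlgebra.one_def, h1, -Representation.char_one]
        · intro g _ hg; simp [MonoidAlgebra.one_def, Finsupp.single_eq_of_ne hg]
        · simp)
      map_zero' := Subtype.ext (by simp [omI, omega])
      map_add' := fun a b => Subtype.ext (by simp [omI, omega_add])
      map_mul' := fun a b => Subtype.ext (by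
        have := Char.nontrivial_of_irreducible (σ.comp N.subtype : Representation ℂ N (Fin d → ℂ))
        show omI σ ((a : MonoidAlgebra ℤ G) * b) = omI σ a * omI σ b
        apply (algebraMap ℂ (Module.End ℂ (Fin d → ℂ))).injective
        simp only [omI, map_mul]
        rw [← rho_inv σ ((cinv_map (mem_invRing.mp a.2)).mul (cinv_map (mem_invRing.mp b.2))),
          ← rho_inv σ (cinv_map (mem_invRing.mp a.2)), ← rho_inv σ (cinv_map (mem_invRing.mp b.2)),
          map_mul]) }

variable (M N) in
/-- The reduced augmentation, on the invariant elements. -/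
noncomputable def augR : invRing N →+* ResField M where
  toFun z := (aug (z : MonoidAlgebra ℤ G) : ℤ)
  map_one' := by simp [aug, MonoidAlgebra.one_def, Finsupp.single_apply]
  map_zero' := by simp [aug]
  map_add' a b := by simp [aug, Finset.sum_add_distrib]
  map_mul' a b := by
    show (((aug ((a : MonoidAlgebra ℤ G) * (b : MonoidAlgebra ℤ G))) : ℤ) : ResField M) = _
    rw [aug_mul, Int.cast_mul]

/-- On elements supported in `N` the scalar is the augmentation. -/
theorem scal_eq_augR {θ : IrrCharacter N} (hθ : θ ∈ principalBlock M N)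
    (hval : ∀ n : N, σ.character n = (θ : N → ℂ) n) (z : invRing N)
    (hz : SuppIn N (z : MonoidAlgebra ℤ G)) : scal M N σ z = augR M N z := by
  classical
  let w : ZL M N := ⟨mapRingHom N (Int.castRingHom (locRing M)) (resTo N (z : MonoidAlgebra ℤ G)),
    mem_center_iff_isClassElt.mpr fun a b => by
      simp [mem_invRing.mp z.2 b b.2 a]⟩
  have h1 := RingHom.congr_fun
    (omegaBar_eq_of_mem isPBlock_principalBlock hθ one_mem_principalBlock) (toKC M w)
  rw [omegaBar_oneChar_eq_aug, omegaBar_toKC] at h1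
  have hsum : ∀ {S : Type} [AddCommMonoid S] (f : G → S), (∀ g, g ∉ N → f g = 0) →
      ∑ g, f g = ∑ n : N, f n := fun f hf => by
    rw [← Finset.sum_subset (Finset.subset_univ (Finset.univ.filter fun g : G => g ∈ N))
      fun g _ hg => hf g (by simpa using hg),
      Finset.sum_subtype (p := fun g => g ∈ N) _ (fun g => by simp)]
  have h2 : scal M N σ z = omegaRes M θ w := by
    rw [omegaRes, RingHom.comp_apply, scal, RingHom.comp_apply]
    congr 1
    apply Subtype.ext
    show omI σ z = _
    rw [coe_omegaLoc, omI, omega, omega, hsum _ fun g hg => by simp [hz g hg],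
      ← OneMemClass.coe_one N, hval 1]
    congr 1
    exact Finset.sum_congr rfl fun n _ => by simp [w, hval]
  rw [h2, h1]
  show _ = ((aug (z : MonoidAlgebra ℤ G) : ℤ) : ResField M)
  simp only [aug, coe_toKC, coeff_toK]
  rw [hsum _ fun g hg => hz g hg, Int.cast_sum]
  exact Finset.sum_congr rfl fun n _ => by simp [w]

variable (N) in
/-- The sum of the `N`-conjugates of an element. -/
noncomputable def orb (x : G) : invRing N :=
  ⟨gaOfFun fun y => @ite ℤ (∃ n ∈ N, n * x * n⁻¹ = y) (Classical.propDecidable _) 1 0,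
    mem_invRing.mpr fun s hs y => by
      simp only [coeff_gaOfFun]
      have : (∃ n ∈ N, n * x * n⁻¹ = s * y * s⁻¹) ↔ ∃ n ∈ N, n * x * n⁻¹ = y := by
        constructor
        · rintro ⟨n, hn, e⟩
          exact ⟨s⁻¹ * n, N.mul_mem (N.inv_mem hs) hn, by
            rw [show s⁻¹ * n * x * (s⁻¹ * n)⁻¹ = s⁻¹ * (n * x * n⁻¹) * s by group, e]; group⟩
        · rintro ⟨n, hn, rfl⟩
          exact ⟨s * n, N.mul_mem hs hn, by group⟩
      by_cases h : ∃ n ∈ N, n * x * n⁻¹ = y
      · rw [if_pos (this.mpr h), if_pos h]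
      · rw [if_neg (mt this.mp h), if_neg h]⟩

theorem suppCoset_orb (x : G) : SuppCoset N (x : G ⧸ N) (orb N x : MonoidAlgebra ℤ G) := by
  intro g hg
  simp only [orb, coeff_gaOfFun]
  rw [if_neg]
  rintro ⟨n, hn, rfl⟩
  exact hg (by rw [QuotientGroup.mk_mul, QuotientGroup.mk_mul, QuotientGroup.mk_inv,
    (QuotientGroup.eq_one_iff n).mpr hn, one_mul, inv_one, mul_one])

theorem augR_orb_ne_zero (hM : IsPModular p M) {Q : Subgroup G} (hQ : ¬ p ∣ (Q.subgroupOf N).index)
    {x : G} (hx : x ∈ Subgroup.centralizer (Q : Set G)) : augR M N (orb N x) ≠ 0 := by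
  classical
  have hchar := charP_resField hM
  set K : Subgroup N := (Subgroup.centralizer ({x} : Set G)).subgroupOf N
  have hle : Q.subgroupOf N ≤ K := fun u hu =>
    Subgroup.mem_subgroupOf.mpr (Subgroup.mem_centralizer_singleton_iff.mpr
      (Subgroup.mem_centralizer_iff.mp hx _ (Subgroup.mem_subgroupOf.mp hu)))
  have hcard : aug (orb N x : MonoidAlgebra ℤ G) = (K.index : ℤ) := by
    simp only [aug, orb, coeff_gaOfFun]
    trans ((Finset.univ.filter fun y : G => ∃ n ∈ N, n * x * n⁻¹ = y).card : ℤ)
    · rw [← Finset.sum_boole]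
      congr!
    congr 1
    rw [Subgroup.index, ← Fintype.card_subtype, ← Nat.card_eq_fintype_card]
    refine (Nat.card_congr (Equiv.ofBijective
      (fun q : N ⧸ K => (⟨Quotient.liftOn' q (fun n : N => (n : G) * x * (n : G)⁻¹) ?_, ?_⟩ :
        {y // ∃ n ∈ N, n * x * n⁻¹ = y})) ⟨?_, ?_⟩)).symm
    · intro a b hab
      rw [QuotientGroup.leftRel_apply] at hab
      have h := Subgroup.mem_centralizer_singleton_iff.mp (Subgroup.mem_subgroupOf.mp hab)
      rw [Subgroup.coe_mul, Subgroup.coe_inv] at h
      calc (a : G) * x * (a : G)⁻¹ = a * (x * ((a : G)⁻¹ * b)) * (b : G)⁻¹ := by group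
        _ = a * ((a : G)⁻¹ * b * x) * (b : G)⁻¹ := by rw [h]
        _ = b * x * (b : G)⁻¹ := by group
    · induction q using Quotient.inductionOn' with
      | h n => exact ⟨n, n.2, rfl⟩
    · intro a b hab
      induction a using Quotient.inductionOn' with
      | h a =>
        induction b using Quotient.inductionOn' with
        | h b =>
          have e : (a : G) * x * (a : G)⁻¹ = b * x * (b : G)⁻¹ := congrArg Subtype.val hab
          refine QuotientGroup.eq.mpr (Subgroup.mem_subgroupOf.mpr
            (Subgroup.mem_centralizer_singleton_iff.mpr ?_))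
          rw [Subgroup.coe_mul, Subgroup.coe_inv]
          calc (a : G)⁻¹ * b * x = (a : G)⁻¹ * (b * x * (b : G)⁻¹) * b := by group
            _ = (a : G)⁻¹ * (a * x * (a : G)⁻¹) * b := by rw [e]
            _ = x * ((a : G)⁻¹ * b) := by group
    · rintro ⟨y, n, hn, rfl⟩
      exact ⟨Quotient.mk'' ⟨n, hn⟩, rfl⟩
  show ((aug (orb N x : MonoidAlgebra ℤ G) : ℤ) : ResField M) ≠ 0
  rw [hcard, Int.cast_natCast]
  exact fun e => hQ (((CharP.cast_eq_zero_iff _ p _).mp e).trans (Subgroup.index_dvd_of_le hle))

variable (M N) in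
/-- The ratio of scalar and augmentation on the orbit of `x`. -/
noncomputable def ratio (x : G) : ResField M := scal M N σ (orb N x) / augR M N (orb N x)

variable {θ : IrrCharacter N} {Q : Subgroup G}

/-- On a coset the scalar is a multiple of the augmentation. -/
theorem scal_eq_ratio_mul (hM : IsPModular p M) (hθ : θ ∈ principalBlock M N)
    (hval : ∀ n : N, σ.character n = (θ : N → ℂ) n) (hQ : ¬ p ∣ (Q.subgroupOf N).index)
    {x : G} (hx : x ∈ Subgroup.centralizer (Q : Set G)) {a : invRing N}
    (ha : SuppCoset N (x : G ⧸ N) (a : MonoidAlgebra ℤ G)) :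
    scal M N σ a = ratio M N σ x * augR M N a := by
  have key : ∀ b : invRing N, SuppCoset N (x : G ⧸ N) (b : MonoidAlgebra ℤ G) →
      scal M N σ b * scal M N σ (orb N x⁻¹) = augR M N b * augR M N (orb N x⁻¹) := by
    intro b hb
    rw [← map_mul, ← map_mul]
    refine scal_eq_augR σ hθ hval _ (suppCoset_one_iff.mp ?_)
    have := hb.mul (suppCoset_orb (N := N) x⁻¹)
    rwa [QuotientGroup.mk_inv, mul_inv_cancel] at this
  have hA := augR_orb_ne_zero hM hQ hx
  have hA' := augR_orb_ne_zero hM hQ (Subgroup.inv_mem _ hx)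
  have h0 := key _ (suppCoset_orb x)
  have hW : scal M N σ (orb N x⁻¹) ≠ 0 := fun e => by
    rw [e, mul_zero] at h0
    exact mul_ne_zero hA hA' h0.symm
  apply mul_right_cancel₀ hW
  rw [key a ha, ratio, div_mul_eq_mul_div, div_mul_eq_mul_div, eq_div_iff hA]
  linear_combination (-(augR M N a)) * h0

/-- The ratio is a linear character of the quotient, lifted to a root of unity. -/
theorem exists_lift_hom [Fact p.Prime] (hM : IsPModular p M) (hθ : θ ∈ principalBlock M N)
    (hval : ∀ n : N, σ.character n = (θ : N → ℂ) n) (hQ : ¬ p ∣ (Q.subgroupOf N).index)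
    (hsup : N ⊔ Subgroup.centralizer (Q : Set G) = ⊤) :
    ∃ lam : G →* locRing M, (∀ n : N, lam n = 1) ∧
      ∀ (g : G) (a : invRing N), SuppCoset N (g : G ⧸ N) (a : MonoidAlgebra ℤ G) →
        scal M N σ a = res M (lam g) * augR M N a := by
  classical
  have hchar := charP_resField hM
  have hrep : ∀ g : G, ∃ c ∈ Subgroup.centralizer (Q : Set G), (c : G ⧸ N) = g := by
    intro g
    obtain ⟨n, hn, c, hc, rfl⟩ := Subgroup.mem_sup_of_normal_left.mp
      (hsup.symm ▸ Subgroup.mem_top g : g ∈ N ⊔ _)
    exact ⟨c, hc, by rw [QuotientGroup.mk_mul, (QuotientGroup.eq_one_iff n).mpr hn, one_mul]⟩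
  choose c hc hcg using hrep
  set R : G → ResField M := fun g => ratio M N σ (c g) with hR
  have hmain : ∀ (g : G) (a : invRing N), SuppCoset N (g : G ⧸ N) (a : MonoidAlgebra ℤ G) →
      scal M N σ a = R g * augR M N a :=
    fun g a ha => scal_eq_ratio_mul σ hM hθ hval hQ (hc g) (hcg g ▸ ha)
  have hmul : ∀ g h, R (g * h) = R g * R h := fun g h => by
    have hA := augR_orb_ne_zero hM hQ (hc g)
    have hB := augR_orb_ne_zero hM hQ (hc h)
    have hs := (suppCoset_orb (N := N) (c g)).mul (suppCoset_orb (N := N) (c h))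
    rw [hcg, hcg, ← QuotientGroup.mk_mul] at hs
    have e := hmain (g * h) (orb N (c g) * orb N (c h)) hs
    rw [map_mul, map_mul, hmain g _ (by rw [← hcg g]; exact suppCoset_orb (c g)),
      hmain h _ (by rw [← hcg h]; exact suppCoset_orb (c h))] at e
    exact mul_right_cancel₀ (mul_ne_zero hA hB) (by linear_combination -e)
  have hN : ∀ n : N, R n = 1 := fun n => by
    have hs : SuppCoset N (((n : G) : G ⧸ N)) ((1 : invRing N) : MonoidAlgebra ℤ G) := by
      intro g hg
      show (1 : MonoidAlgebra ℤ G).coeff g = 0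
      rw [(QuotientGroup.eq_one_iff (n : G)).mpr n.2] at hg
      have : (1 : G) ≠ g := fun e => hg (by rw [← e]; rfl)
      simp [MonoidAlgebra.one_def, Finsupp.single_eq_of_ne (Ne.symm this)]
    have e := hmain n 1 hs
    rw [map_one, map_one, mul_one] at e
    exact e.symm
  have h1 : R 1 = 1 := hN 1
  have hpow : ∀ (g : G) (k : ℕ), R (g ^ k) = R g ^ k := fun g k => by
    induction k with
    | zero => simp [h1]
    | succ k ih => rw [pow_succ, hmul, ih, pow_succ]
  set o := ordCompl[p] (Nat.card G) with ho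
  have hop : ¬ p ∣ o := Nat.not_dvd_ordCompl (Fact.out : p.Prime) Nat.card_pos.ne'
  have hRo : ∀ g, R g ^ o = 1 := fun g => by
    refine sub_eq_zero.mp (eq_zero_of_pow_eq_zero (n := p ^ (Nat.card G).factorization p) ?_)
    rw [sub_pow_char_pow, one_pow, ← pow_mul, mul_comm, Nat.ordProj_mul_ordCompl_eq_self, ← hpow,
      pow_card_eq_one', h1, sub_self]
  have hlift : ∀ g, ∃ z : locRing M, z ^ o = 1 ∧ res M z = R g := fun g => by
    have hne : R g ≠ 0 := fun e => by
      have := hRo g
      rw [e, zero_pow (fun h => hop (by rw [h]; exact dvd_zero p))] at this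
      exact zero_ne_one this
    obtain ⟨m, z, hm, hz, hzx⟩ := exists_rootOfUnity_lift hM hne
    refine ⟨z, res_rootOfUnity_injective hM hm (by rw [← pow_mul, mul_comm, pow_mul, hz, one_pow])
      (one_pow m) (by rw [map_pow, hzx, hRo, map_one]), hzx⟩
  choose l hl hlR using hlift
  have huniq : ∀ (g : G) (z : locRing M), z ^ o = 1 → res M z = R g → l g = z :=
    fun g z hz hzR => res_rootOfUnity_injective hM hop (hl g) hz (by rw [hlR, hzR])
  refine ⟨⟨⟨l, huniq 1 1 (one_pow o) (by rw [map_one, h1])⟩, fun g h =>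
    huniq _ _ (by rw [mul_pow, hl, hl, mul_one]) (by rw [map_mul, hlR, hlR, hmul])⟩,
    fun n => huniq _ 1 (one_pow o) (by rw [map_one, hN]), fun g a ha => ?_⟩
  show _ = res M (l g) * _
  rw [hlR]
  exact hmain g a ha

/-- An extension lying in the principal block of every overgroup, given by monomorphisms. -/
theorem exists_principal_extension [Fact p.Prime] (hM : IsPModular p M) {θ : IrrCharacter N}
    (hθ : θ ∈ principalBlock M N) {ψ : IrrCharacter G}
    (hψ : ∀ n : N, (ψ : G → ℂ) n = (θ : N → ℂ) n) (hQ : ¬ p ∣ (Q.subgroupOf N).index)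
    (hsup : N ⊔ Subgroup.centralizer (Q : Set G) = ⊤) :
    ∃ χ : IrrCharacter G, (∀ n : N, (χ : G → ℂ) n = (θ : N → ℂ) n) ∧
      ∀ {A : Type u} [Group A] [Finite A] (f : A →* G), Function.Injective f →
        N ≤ f.range → ∃ ξ : IrrCharacter A, ξ ∈ principalBlock M A ∧
          ∀ a, (ξ : A → ℂ) a = (χ : G → ℂ) (f a) := by
  classical
  obtain ⟨d, ρ, hρ, hθc⟩ := θ.2
  haveI := hρ
  obtain ⟨σ, hσ, hσc⟩ := Char.exists_rep_extension_top N ρ (Char.isCharacter_irr ψ)
    (fun n => (hψ n).trans (congrFun hθc n).symm)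
  haveI hσi : Representation.IsIrreducible (σ.comp N.subtype) := by
    rw [show (σ.comp N.subtype) = ρ from MonoidHom.ext hσ]
    exact hρ
  have hval : ∀ n : N, σ.character n = (θ : N → ℂ) n := fun n => by rw [hσc]; exact hψ n
  obtain ⟨lam, hlamN, hlam⟩ := exists_lift_hom σ hM hθ hval hQ hsup
  let L : G →* ℂˣ := ((locRing M).subtype.toMonoidHom.comp lam).toHomUnits
  have hL : ∀ g, (L g : ℂ) = (lam g : ℂ) := fun g => rfl
  have hLinv : ∀ g, ((L⁻¹ g : ℂˣ) : ℂ) = (lam g⁻¹ : ℂ) := fun g => by
    rw [MonoidHom.inv_apply, ← map_inv, hL]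
  refine ⟨Char.linMul L⁻¹ ψ, fun n => ?_, fun {A} _ _ f hf hNf => ?_⟩
  · show ((L⁻¹ (n : G) : ℂˣ) : ℂ) * (ψ : G → ℂ) n = _
    rw [hLinv, ← Subgroup.coe_inv, hlamN, hψ]
    simp
  haveI := Fintype.ofFinite A
  let τ : Representation ℂ G (Fin d → ℂ) := Char.twistRep σ L⁻¹
  let τf : Representation ℂ A (Fin d → ℂ) := τ.comp f
  have hτc : ∀ g, τ.character g = ((L⁻¹ g : ℂˣ) : ℂ) * (ψ : G → ℂ) g := fun g => by
    show LinearMap.trace ℂ _ (((L⁻¹ g : ℂˣ) : ℂ) • σ g) = _
    rw [map_smul, smul_eq_mul, ← hσc]
    rfl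
  have hirr : Representation.IsIrreducible (τ.comp f) := by
    let i : N →* A := (MonoidHom.ofInjective hf).symm.toMonoidHom.comp (Subgroup.inclusion hNf)
    have hi : ∀ n, f (i n) = n := fun n => by
      show f ((MonoidHom.ofInjective hf).symm _) = _
      rw [MonoidHom.apply_ofInjective_symm]
      rfl
    haveI : Representation.IsIrreducible ((τ.comp f).comp i) := by
      rw [show (τ.comp f).comp i = ρ from MonoidHom.ext fun n => by
        show ((L⁻¹ (f (i n)) : ℂˣ) : ℂ) • σ (f (i n)) = ρ n
        rw [hi, hLinv, ← Subgroup.coe_inv, hlamN, hσ]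
        simp]
      exact hρ
    exact isIrreducible_of_comp (G := A) (τ.comp f) i
  refine ⟨⟨τf.character, d, τf, hirr, rfl⟩, ?_, fun a => hτc (f a)⟩
  refine sameBlock_iff_centralRes (χ := oneChar A).mpr fun a => ?_
  have := Fintype.ofFinite (G ⧸ N)
  -- the class sum in the big group algebra
  let z : MonoidAlgebra ℤ G := gaOfFun fun g => if ∃ b, IsConj a b ∧ f b = g then 1 else 0
  have hz : CInv N z := by
    intro s hs g
    simp only [z, coeff_gaOfFun]
    obtain ⟨b₀, rfl⟩ := hNf hs
    congr 1
    refine propext ⟨?_, ?_⟩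
    · rintro ⟨b, hb, e⟩
      exact ⟨b₀⁻¹ * b * b₀⁻¹⁻¹, hb.trans (isConj_iff.mpr ⟨b₀⁻¹, rfl⟩), by
        simp only [map_mul, map_inv, inv_inv, e]; group⟩
    · rintro ⟨b, hb, rfl⟩
      exact ⟨b₀ * b * b₀⁻¹, hb.trans (isConj_iff.mpr ⟨b₀, rfl⟩), by simp⟩
  have hzsum : ∀ F : G → ℂ, ∑ g, (z.coeff g : ℂ) * F g =
      ∑ b ∈ Finset.univ.filter (fun b => IsConj a b), F (f b) := by
    intro F
    rw [← Finset.sum_image (g := f) fun _ _ _ _ e => hf e]
    simp only [z, coeff_gaOfFun, Int.cast_ite, Int.cast_one, Int.cast_zero, ite_mul, one_mul,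
      zero_mul, ← Finset.sum_filter]
    refine Finset.sum_congr ?_ fun _ _ => rfl
    ext g
    simp
  have hd : (d : ℂ) ≠ 0 := by
    have := character_one_ne_zero (N := N) σ
    rwa [Representation.char_one, Module.finrank_fin_fun] at this
  have hcent : ∀ (F : A → ℂ), IsClassFunction A F →
      centralChar F a = (∑ b ∈ Finset.univ.filter (fun b => IsConj a b), F b) / F 1 := by
    intro F hF
    rw [← omega_classSum hF, omega]
    simp only [classSum, coeff_gaOfFun, ite_mul, one_mul, zero_mul, ← Finset.sum_filter]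
  let c : G ⧸ N → invRing N := fun q => ⟨Iso.comp q z, mem_invRing.mpr (cinv_comp hz q)⟩
  have hmem : ∀ q, omI σ (c q) ∈ locRing M := fun q =>
    integral_mem M (isIntegral_omI σ (mem_invRing.mp (c q).2))
  -- the twisted scalar, coset by coset
  have hkey : centralChar τf.character a =
      ∑ q : G ⧸ N, (lam q.out⁻¹ : ℂ) * omI σ (c q) := by
    have hcf : IsClassFunction A τf.character :=
      Char.isClassFunction_irr ⟨_, d, τf, hirr, rfl⟩
    rw [hcent _ hcf]
    show (∑ b ∈ _, τ.character (f b)) / τ.character (f 1) = _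
    rw [← hzsum fun g => τ.character g]
    rw [map_one]
    conv_lhs => rw [← sum_comp (N := N) z]
    simp only [coeff_sum_apply, Int.cast_sum, Finset.sum_mul]
    rw [Finset.sum_comm, Finset.sum_div]
    refine Finset.sum_congr rfl fun q _ => ?_
    have e1 : τ.character 1 = σ.character 1 := by
      rw [Representation.char_one, Representation.char_one]
    rw [e1, omI, omega, mul_div, Finset.mul_sum]
    congr 1
    refine Finset.sum_congr rfl fun g _ => ?_
    simp only [c, coeff_mapRingHom, eq_intCast]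
    by_cases hg : (g : G ⧸ N) = q
    · have el : lam g⁻¹ = lam q.out⁻¹ := by
        have e2 : (q.out * g⁻¹) ∈ N := by
          rw [← QuotientGroup.eq_one_iff, QuotientGroup.mk_mul, QuotientGroup.mk_inv,
            QuotientGroup.out_eq', hg, mul_inv_cancel]
        rw [show g⁻¹ = q.out⁻¹ * (⟨_, e2⟩ : N) by simp, map_mul, hlamN, mul_one]
      rw [hτc, hLinv, el, ← hσc]
      ring
    · rw [suppCoset_comp (N := N) q z g hg]
      simp
  have hone : centralRes M (oneChar A) a = ((aug z : ℤ) : ResField M) := by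
    rw [centralRes, ← map_intCast (res M)]
    congr 1
    apply Subtype.ext
    show centralChar (fun _ : A => (1 : ℂ)) a = ((aug z : ℤ) : ℂ)
    rw [hcent _ (fun _ _ => rfl), div_one, ← hzsum fun _ => 1, aug, Int.cast_sum]
    exact Finset.sum_congr rfl fun g _ => mul_one _
  rw [hone]
  refine ((congrArg (res M) (a₂ := ∑ q : G ⧸ N, lam q.out⁻¹ * ⟨omI σ (c q), hmem q⟩)
    (Subtype.ext ?_)).trans ?_).symm
  · show centralChar τf.character a = _
    rw [hkey, AddSubmonoidClass.coe_finsetSum]
    rfl
  rw [map_sum]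
  conv_rhs => rw [← sum_comp (N := N) z]
  rw [show aug (∑ q : G ⧸ N, Iso.comp q z) = ∑ q : G ⧸ N, aug (Iso.comp q z) by
    simp only [aug, coeff_sum_apply]; exact Finset.sum_comm, Int.cast_sum]
  refine Finset.sum_congr rfl fun q _ => ?_
  rw [map_mul]
  have h := hlam q.out (c q) (by rw [QuotientGroup.out_eq']; exact suppCoset_comp q z)
  have h' : res M (⟨omI σ (c q), hmem q⟩ : locRing M) = scal M N σ (c q) := rfl
  rw [h', h, ← mul_assoc, ← map_mul, ← map_mul, inv_mul_cancel, map_one, map_one, one_mul]
  rfl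

end CfsgLib.Block.ExtensionPrincipal
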