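import Cfsg.Agent.Lib.Char.Degree
import Cfsg.Agent.Lib.Char.Counting
import Cfsg.Agent.Lib.PGroup.JordanCover
import Cfsg.Agent.Lib.PGroup.PSolvable
import Cfsg.Agent.Lib.Coprime.Solvable
import Cfsg.Agent.Lib.Block.Defect

/-!
# The Ito-Michler theorem for `p`-solvable groups

If no irreducible degree of a `p`-solvable group is divisible by `p`, then a Sylow `p`-subgroup is
normal and abelian.
-/

set_option autoImplicit false
set_option linter.unusedSectionVars false
set_option linter.style.haveILetI false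

namespace CfsgLib.Block.ItoMichler

open Cfsg CfsgLib

universe u

variable {G : Type u} [Group G]

theorem one_eq_cast [Finite G] (χ : IrrCharacter G) :
    (χ : G → ℂ) 1 = (charDegree (χ : G → ℂ) : ℂ) := by
  obtain ⟨d, -, hd⟩ := Char.isIrrCharacter_degree χ.2
  simp [charDegree, hd]

theorem exists_irr_over [Fintype G] (N : Subgroup G) [Fintype N] (θ : IrrCharacter N) :
    ∃ χ : IrrCharacter G, classInner (fun n : N => (χ : G → ℂ) n) (θ : N → ℂ) ≠ 0 := by
  classical
  have := Fintype.ofFinite (IrrCharacter G)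
  by_contra hall
  push Not at hall
  have h2 : indFun N (θ : N → ℂ) = 0 := by
    rw [Char.classFun_expand (Char.isClassFunction_indFun N (θ : N → ℂ))]
    refine Finset.sum_eq_zero fun χ _ => ?_
    rw [Char.classInner_indFun N (θ : N → ℂ) _ (Char.isClassFunction_irr χ), ← Char.classInner_conj,
      hall χ, map_zero, zero_smul]
  have h3 := congrFun h2 1
  rw [Char.indFun_one, Pi.zero_apply, mul_eq_zero] at h3
  exact h3.elim (Nat.cast_ne_zero.mpr Subgroup.index_ne_zero_of_finite) (Char.irr_one_ne_zero θ)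

/-- The degree of a constituent and the index of its inertia group divide the degree. -/
theorem dvd_of_constituent [Fintype G] (N : Subgroup G) [N.Normal] [Fintype N] (χ : IrrCharacter G)
    (θ : IrrCharacter N) (h : classInner (fun n : N => (χ : G → ℂ) n) (θ : N → ℂ) ≠ 0) :
    charDegree (θ : N → ℂ) ∣ charDegree (χ : G → ℂ) ∧
      (Char.inertia N (θ : N → ℂ)).index ∣ charDegree (χ : G → ℂ) := by
  obtain ⟨e, he⟩ := Char.classInner_isCharacter
    (Char.isCharacter_comp (Char.isCharacter_irr χ) N.subtype) (Char.isCharacter_irr θ)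
  have he' : classInner (fun n : N => (χ : G → ℂ) n) (θ : N → ℂ) = (e : ℂ) := he
  have h1 := Char.clifford_degree N χ.2 θ.2 h
  rw [he', one_eq_cast, one_eq_cast, ← Nat.cast_mul, ← Nat.cast_mul, Nat.cast_inj] at h1
  exact ⟨⟨e * (Char.inertia N (θ : N → ℂ)).index, by rw [h1]; ring⟩,
    ⟨e * charDegree (θ : N → ℂ), by rw [h1]; ring⟩⟩

/-- The degrees of a normal subgroup are prime to `p` if those of the group are. -/
theorem not_dvd_normal [Finite G] {p : ℕ}
    (hdeg : ∀ χ : IrrCharacter G, ¬ p ∣ charDegree (χ : G → ℂ)) (N : Subgroup G) [N.Normal]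
    (θ : IrrCharacter N) : ¬ p ∣ charDegree (θ : N → ℂ) := by
  classical
  have := Fintype.ofFinite G
  have := Fintype.ofFinite N
  obtain ⟨χ, hχ⟩ := exists_irr_over N θ
  exact fun h => hdeg χ (h.trans (dvd_of_constituent N χ θ hχ).1)

/-- A `p`-group fixing every irreducible character of a normal `p'`-subgroup centralizes it. -/
theorem le_centralizer_of_fixes [Finite G] {p : ℕ} [Fact p.Prime] (N : Subgroup G) [hN : N.Normal]
    (hNp : ¬ p ∣ Nat.card N) (P : Subgroup G) (hP : IsPGroup p P)
    (hfix : ∀ x ∈ P, ∀ θ : IrrCharacter N, Char.conjFun N (θ : N → ℂ) x = (θ : N → ℂ)) :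
    N ≤ Subgroup.centralizer (P : Set G) := by
  classical
  have hclass : ∀ (x : P) (h : N),
      ConjClasses.mk ((MulAut.conjNormal (x : G) : N ≃* N) h) = ConjClasses.mk h := by
    intro x h
    set α : N ≃* N := MulAut.conjNormal (x : G)
    have hall : ∀ χ : IrrCharacter N, (χ : N → ℂ) ∘ α = (χ : N → ℂ) := fun χ => by
      have h1 := hfix _ x.2 χ
      have e : (χ : N → ℂ) ∘ α = Char.conjFun N (χ : N → ℂ) (x : G) := funext fun n => by
        simp only [Function.comp_apply, Char.conjFun]
        exact congrArg _ (Subtype.ext (MulAut.conjNormal_apply _ _))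
      rw [e, h1]
    have hcard := Char.card_fixed_classes_aut α
    rw [Nat.card_congr (Equiv.subtypeUnivEquiv hall), Char.card_irr_eq_card_conjClasses] at hcard
    exact ((Function.Injective.bijective_of_nat_card_le Subtype.val_injective hcard.ge).2
      (ConjClasses.mk h)).elim fun C hC => by
        have h2 := C.2
        rw [hC] at h2
        exact h2
  have hfixpt : ∀ h : N, ∃ c : N, c⁻¹ * h * c ∈ (Subgroup.centralizer (P : Set G)).subgroupOf N := by
    intro h
    let X := {k : N // ConjClasses.mk k = ConjClasses.mk h}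
    letI : MulAction P X :=
      { smul := fun x k => ⟨(MulAut.conjNormal ((x : P) : G) : N ≃* N) k.1, (hclass x k.1).trans k.2⟩
        one_smul := fun k => Subtype.ext (by
          show (MulAut.conjNormal ((1 : P) : G) : N ≃* N) k.1 = k.1
          simp)
        mul_smul := fun a b k => Subtype.ext (by
          show (MulAut.conjNormal ((a * b : P) : G) : N ≃* N) k.1 =
            (MulAut.conjNormal (a : G) : N ≃* N) ((MulAut.conjNormal (b : G) : N ≃* N) k.1)
          simp [map_mul]) }
    have hX : ¬ p ∣ Nat.card X := by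
      intro hdvd
      refine hNp (hdvd.trans ?_)
      have e : Nat.card X = (MulAction.stabilizer (ConjAct N) h).index := by
        rw [MulAction.index_stabilizer, ← Nat.card_coe_set_eq]
        refine Nat.card_congr (Equiv.subtypeEquivRight fun k => ?_)
        rw [ConjAct.mem_orbit_conjAct, ConjClasses.mk_eq_mk_iff_isConj]
      rw [e]
      exact (Subgroup.index_dvd_card _).trans (Nat.card_congr ConjAct.toConjAct.toEquiv).symm.dvd
    obtain ⟨⟨k, hk⟩, hkfix⟩ := hP.nonempty_fixed_point_of_prime_not_dvd_card X hX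
    obtain ⟨c, hc⟩ := isConj_iff.1 (ConjClasses.mk_eq_mk_iff_isConj.1 hk.symm)
    refine ⟨c⁻¹, ?_⟩
    rw [inv_inv, hc, Subgroup.mem_subgroupOf, Subgroup.mem_centralizer_iff]
    intro y hy
    have h2 : y * (k : G) * y⁻¹ = (k : G) := by
      have := congrArg (fun z : X => ((z.1 : N) : G)) (hkfix ⟨y, hy⟩)
      exact (MulAut.conjNormal_apply y k).symm.trans this
    calc y * (k : G) = y * (k : G) * y⁻¹ * y := by group
      _ = (k : G) * y := by rw [h2]
  exact Subgroup.subgroupOf_eq_top.1 (CfsgLib.PGroup.eq_top_of_forall_conj_mem _ hfixpt)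

/-- In `P N`, with `N` a normal `p'`-subgroup, all degrees prime to `p` force `P` central on `N`. -/
theorem le_centralizer_of_degrees [Finite G] {p : ℕ} [hp : Fact p.Prime] (N : Subgroup G) [N.Normal]
    (hNp : ¬ p ∣ Nat.card N) (P : Subgroup G) (hP : IsPGroup p P) [(P ⊔ N).Normal]
    (hdeg : ∀ χ : IrrCharacter G, ¬ p ∣ charDegree (χ : G → ℂ)) :
    N ≤ Subgroup.centralizer (P : Set G) := by
  classical
  set K := N.subgroupOf (P ⊔ N)
  have hKp : ¬ p ∣ Nat.card K := by
    rwa [Nat.card_congr (Subgroup.subgroupOfEquivOfLe le_sup_right).toEquiv]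
  have hKidx : ∃ m, K.index = p ^ m := by
    obtain ⟨a, ha⟩ := IsPGroup.iff_card.mp hP
    have h1 : N.relIndex P ∣ Nat.card P := Subgroup.index_dvd_card _
    rw [← Subgroup.relIndex_sup_right, ha] at h1
    obtain ⟨m, -, hm⟩ := (Nat.dvd_prime_pow hp.out).1 h1
    exact ⟨m, hm⟩
  have hfix : ∀ x : ↥(P ⊔ N), ∀ θ : IrrCharacter K,
      Char.conjFun K (θ : K → ℂ) x = (θ : K → ℂ) := by
    intro x θ
    have := Fintype.ofFinite ↥(P ⊔ N)
    have := Fintype.ofFinite K
    obtain ⟨χ, hχ⟩ := exists_irr_over K θ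
    have h1 := (dvd_of_constituent K χ θ hχ).2
    have h2 : (Char.inertia K (θ : K → ℂ)).index ∣ K.index :=
      Subgroup.index_dvd_of_le (Char.le_inertia K (Char.isClassFunction_irr θ))
    obtain ⟨m, hm⟩ := hKidx
    rw [hm] at h2
    obtain ⟨j, -, hj⟩ := (Nat.dvd_prime_pow hp.out).1 h2
    have htop : Char.inertia K (θ : K → ℂ) = ⊤ := by
      rw [← Subgroup.index_eq_one, hj]
      rcases Nat.eq_zero_or_pos j with rfl | hj0
      · rfl
      · exact absurd ((dvd_pow_self p hj0.ne').trans (hj ▸ h1)) (not_dvd_normal hdeg (P ⊔ N) χ)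
    exact (Char.mem_inertia K _ x).1 (htop ▸ Subgroup.mem_top x)
  have h3 := le_centralizer_of_fixes K hKp (P.subgroupOf (P ⊔ N))
    (hP.of_equiv (Subgroup.subgroupOfEquivOfLe le_sup_left).symm) fun x _ θ => hfix x θ
  intro n hn
  rw [Subgroup.mem_centralizer_iff]
  intro y hy
  have := Subgroup.mem_centralizer_iff.1
    (h3 (show (⟨n, Subgroup.mem_sup_right hn⟩ : ↥(P ⊔ N)) ∈ K from hn))
    ⟨y, Subgroup.mem_sup_left hy⟩ hy
  exact congrArg Subtype.val this

theorem degrees_quotient [Finite G] {p : ℕ}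
    (hdeg : ∀ χ : IrrCharacter G, ¬ p ∣ charDegree (χ : G → ℂ)) (N : Subgroup G) [N.Normal]
    (θ : IrrCharacter (G ⧸ N)) : ¬ p ∣ charDegree (θ : G ⧸ N → ℂ) :=
  hdeg ⟨fun g => (θ : G ⧸ N → ℂ) g, Char.isIrrCharacter_comp_surjective θ.2 (QuotientGroup.mk' N)
    (QuotientGroup.mk'_surjective N)⟩

/-- The Sylow subgroup is normal. -/
theorem normal_sylow {p : ℕ} [hp : Fact p.Prime] : ∀ (G : Type u) [Group G] [Finite G],
    IsPSolvable p G → (∀ χ : IrrCharacter G, ¬ p ∣ charDegree (χ : G → ℂ)) →
      ∀ P : Sylow p G, (P : Subgroup G).Normal := by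
  intro G _ _ hsolv hdeg P
  induction hn : Nat.card G using Nat.strong_induction_on generalizing G with
  | _ m ih =>
    subst hn
    rcases subsingleton_or_nontrivial G with hs | hnt
    · exact ⟨fun n hn g => by rwa [Subsingleton.elim (g * n * g⁻¹) n]⟩
    have step : ∀ N : Subgroup G, N.Normal → N ≠ ⊥ → ((P : Subgroup G) ⊔ N).Normal := by
      intro N hN hne
      have hlt : Nat.card (G ⧸ N) < Nat.card G := by
        rw [Subgroup.card_eq_card_quotient_mul_card_subgroup N]
        exact lt_mul_of_one_lt_right Nat.card_pos (Subgroup.one_lt_card_iff_ne_bot N |>.mpr hne)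
      have := ih _ hlt (G ⧸ N) (CfsgLib.PGroup.isPSolvable_quotient hp.out hsolv N)
        (degrees_quotient hdeg N) (P.mapSurjective (QuotientGroup.mk'_surjective N)) rfl
      rw [Sylow.coe_mapSurjective] at this
      have h2 := this.comap (QuotientGroup.mk' N)
      rwa [Subgroup.comap_map_eq, QuotientGroup.ker_mk'] at h2
    by_cases hp' : Cfsg.pPrimeCore p G = ⊥
    · have hQ := (CfsgLib.PGroup.pCore_ne_bot_or_pPrimeCore_ne_bot hsolv).resolve_right (· hp')
      have := step _ (CfsgLib.Coprime.pCore_normal' p) hQ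
      rwa [sup_eq_left.mpr (CfsgLib.Coprime.pCore_le_sylow P)] at this
    · set N := Cfsg.pPrimeCore p G
      have : N.Characteristic := CfsgLib.Coprime.pPrimeCore_characteristic p
      have hNn : N.Normal := inferInstance
      have := step N hNn hp'
      have hNp : ¬ p ∣ Nat.card N := CfsgLib.Coprime.pPrimeCore_not_dvd hp.out
      have hcent := le_centralizer_of_degrees N hNp P P.2 hdeg
      have hM : (P : Subgroup G) ⊔ N ≤ Subgroup.normalizer ((P : Subgroup G) : Set G) :=
        sup_le Subgroup.le_normalizer (hcent.trans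
          (Subgroup.centralizer_le_normalizer _))
      refine ⟨fun x hx g => ?_⟩
      set C := (P : Subgroup G).map (MulAut.conj g).toMonoidHom
      have hC : C ≤ (P : Subgroup G) ⊔ N := by
        rintro _ ⟨y, hy, rfl⟩
        exact this.conj_mem y (Subgroup.mem_sup_left hy) g
      have hPC : IsPGroup p ↥((P : Subgroup G) ⊔ C) :=
        P.2.to_sup_of_normal_left' (P.2.map _) (hC.trans hM)
      rw [← P.is_maximal' hPC le_sup_left]
      exact Subgroup.mem_sup_right ⟨x, hx, rfl⟩

/-- A normal `p`-subgroup is abelian if the degrees are prime to `p`. -/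
theorem comm_of_degrees [Finite G] {p : ℕ} [hp : Fact p.Prime]
    (hdeg : ∀ χ : IrrCharacter G, ¬ p ∣ charDegree (χ : G → ℂ)) (Q : Subgroup G) [Q.Normal]
    (hQ : IsPGroup p Q) : IsMulCommutative Q := by
  have := Fintype.ofFinite Q
  refine ⟨⟨Char.comm_of_degree_one fun θ => ?_⟩⟩
  rw [one_eq_cast]
  obtain ⟨a, ha⟩ := IsPGroup.iff_card.mp hQ
  have h1 : charDegree (θ : Q → ℂ) ∣ p ^ a := ha ▸ Char.degree_dvd_card θ (one_eq_cast θ)
  obtain ⟨j, -, hj⟩ := (Nat.dvd_prime_pow hp.out).1 h1
  rcases Nat.eq_zero_or_pos j with rfl | hj0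
  · rw [hj, pow_zero, Nat.cast_one]
  · exact absurd (hj ▸ dvd_pow_self p hj0.ne') (not_dvd_normal hdeg Q θ)

/-- Itô, for a normal abelian subgroup of index prime to `p`. -/
theorem degrees_of_abelian [Finite G] {p : ℕ} (A : Subgroup G) [A.Normal]
    (hA : ∀ a ∈ A, ∀ b ∈ A, a * b = b * a) (hidx : ¬ p ∣ A.index) (χ : IrrCharacter G) :
    ¬ p ∣ charDegree (χ : G → ℂ) :=
  fun h => hidx (h.trans (Char.degree_dvd_index_abelian G A hA _ χ.2 _ (one_eq_cast χ)))

end CfsgLib.Block.ItoMichler
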