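import Cfsg.Agent.Lib.Block.DefectCentral
import Cfsg.Agent.Lib.Block.CentralDefect
import Cfsg.Agent.Lib.Block.LocalDefect
import Cfsg.Agent.Lib.Block.Covering
import Cfsg.Agent.Lib.Block.ItoMichler
import Cfsg.Agent.Lib.Char.DegreeRatio
import Cfsg.Agent.Lib.Char.InducedSet
import Cfsg.Agent.Lib.Char.DefectZero

/-!
# A weight makes a Brauer pair centric and radical
-/

set_option autoImplicit false
set_option linter.unusedSectionVars false
set_option linter.style.haveILetI false

namespace CfsgLib.Block.Weight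

open Cfsg CfsgLib CfsgLib.Block
open scoped ComplexConjugate

universe u

theorem sum_blockCoeff_mul {A : Type u} [Group A] [Fintype A] [Fintype (IrrCharacter A)]
    (S : Set (IrrCharacter A)) [DecidablePred (· ∈ S)] (ψ : A → ℂ) :
    ∑ g : A, blockCoeff S g * ψ g =
      ∑ θ ∈ Finset.univ.filter (· ∈ S), (θ : A → ℂ) 1 * classInner ψ (θ : A → ℂ) := by
  simp only [blockCoeff, finsum_mem_eq_toFinset_sum, Set.toFinset, classInner]
  rw [Finset.sum_congr rfl fun g _ => by rw [mul_assoc, Finset.sum_mul], ← Finset.mul_sum,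
    Finset.sum_comm, Finset.mul_sum]
  refine Finset.sum_congr (by ext; simp) fun θ _ => ?_
  simp only [Finset.mul_sum]
  exact Finset.sum_congr rfl fun g _ => by ring

theorem sum_comp_surjective {A : Type u} [Group A] [Fintype A] {B : Type u} [Group B] [Fintype B]
    (π : A →* B) (hπ : Function.Surjective π) (f : B → ℂ) :
    ∑ a : A, f (π a) = (Nat.card π.ker : ℂ) * ∑ b : B, f b := by
  classical
  rw [← Finset.sum_fiberwise_of_maps_to (g := π) (t := Finset.univ) fun a _ => Finset.mem_univ _,
    Finset.mul_sum]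
  refine Finset.sum_congr rfl fun b _ => ?_
  rw [Finset.sum_congr rfl (g := fun _ => f b) fun a ha => by rw [(Finset.mem_filter.1 ha).2],
    Finset.sum_const, nsmul_eq_mul]
  congr 2
  obtain ⟨a₀, rfl⟩ := hπ b
  rw [Nat.card_eq_fintype_card, ← Finset.card_univ]
  refine Finset.card_bij (fun a ha => (⟨a₀⁻¹ * a, by
    rw [MonoidHom.mem_ker, map_mul, map_inv, (Finset.mem_filter.1 ha).2, inv_mul_cancel]⟩ : π.ker))
    (fun a ha => Finset.mem_univ _) (fun a ha b hb e => by simpa using congrArg Subtype.val e)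
    fun k _ => ⟨a₀ * k, Finset.mem_filter.2 ⟨Finset.mem_univ _, by
      rw [map_mul, MonoidHom.mem_ker.1 k.2, mul_one]⟩, Subtype.ext (inv_mul_cancel_left _ _)⟩

theorem classInner_comp_surjective {A : Type u} [Group A] [Fintype A] {B : Type u} [Group B] [Fintype B]
    (π : A →* B) (hπ : Function.Surjective π) (f h : B → ℂ) :
    classInner (fun a => f (π a)) (fun a => h (π a)) = classInner f h := by
  rw [classInner, classInner, sum_comp_surjective π hπ fun b => f b * conj (h b)]
  have hcard : Nat.card A = Nat.card B * Nat.card π.ker := by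
    rw [Subgroup.card_eq_card_quotient_mul_card_subgroup π.ker,
      Nat.card_congr (QuotientGroup.quotientKerEquivOfSurjective π hπ).toEquiv]
  rw [hcard, Nat.cast_mul, mul_inv, ← mul_assoc, mul_assoc (Nat.card B : ℂ)⁻¹,
    inv_mul_cancel₀ (by exact_mod_cast Nat.card_pos.ne'), mul_one]

theorem normal_p_eq_bot {A : Type u} [Group A] [Finite A] {p : ℕ} [hp : Fact p.Prime]
    (χ : IrrCharacter A) (hdeg : (Nat.card A).factorization p ≤ (charDegree (χ : A → ℂ)).factorization p)
    (R : Subgroup A) [hR : R.Normal] (hRp : IsPGroup p R) : R = ⊥ := by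
  classical
  have := Fintype.ofFinite A
  have := Fintype.ofFinite R
  set n := (Nat.card A).factorization p
  have hn : p ^ n ∣ Nat.card A := Nat.ordProj_dvd _ _
  have hn' : ¬ p ^ (n + 1) ∣ Nat.card A := fun h => by
    have := (hp.out.pow_dvd_iff_le_factorization Nat.card_pos.ne').1 h
    omega
  have hdd : p ^ n ∣ charDegree (χ : A → ℂ) := (pow_dvd_pow p hdeg).trans (Nat.ordProj_dvd _ _)
  have hvan : ∀ r : R, r ≠ 1 → (χ : A → ℂ) r = 0 := fun r hr => by
    refine Char.char_defect_zero_vanishes χ hn hn' (ItoMichler.one_eq_cast χ) hdd ?_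
    obtain ⟨k, hk⟩ := hRp r
    obtain ⟨j, -, hj⟩ := (Nat.dvd_prime_pow hp.out).1 (orderOf_dvd_of_pow_eq_one hk)
    rw [Subgroup.orderOf_coe, hj]
    refine dvd_pow_self p fun h0 => hr (orderOf_eq_one_iff.1 ?_)
    rw [hj, h0, pow_zero]
  have hres : classInner (fun r : R => (χ : A → ℂ) r) (fun _ => 1) =
      (Nat.card R : ℂ)⁻¹ * (χ : A → ℂ) 1 := by
    rw [classInner, Finset.sum_eq_single (1 : R) (fun r _ hr => by rw [hvan r hr, zero_mul]) (by simp)]
    simp
  by_contra hne
  obtain ⟨r, hr, hr1⟩ := R.bot_or_exists_ne_one.resolve_left hne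
  have h0 : classInner (fun r : R => (χ : A → ℂ) r) (fun _ => 1) ≠ 0 := by
    rw [hres]
    exact mul_ne_zero (inv_ne_zero (by exact_mod_cast Nat.card_pos.ne')) (Char.irr_one_ne_zero χ)
  have hsm := Char.clifford_smul R χ.2 (Char.isIrrCharacter_one (G := R)) h0
  have hconst : ∀ x : R, Char.conjFun R (fun _ : R => (1 : ℂ)) = fun _ => fun _ : R => (1 : ℂ) := fun x => rfl
  have hind : ∀ x : R, indFun R (fun _ : R => (1 : ℂ)) (x : A) = indFun R (fun _ : R => (1 : ℂ)) ((1 : R) : A) := by
    intro x
    have h1 := congrFun (Char.restrict_indFun R (fun _ : R => (1 : ℂ))) x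
    have h2 := congrFun (Char.restrict_indFun R (fun _ : R => (1 : ℂ))) 1
    rw [h1, h2]
    simp only [Pi.smul_apply, Finset.sum_apply, Char.conjFun]
  have hK : (Nat.card (Char.inertia R fun _ : R => (1 : ℂ)) : ℂ) ≠ 0 := by exact_mod_cast Nat.card_pos.ne'
  have h3 := congrFun hsm ⟨r, hr⟩
  have h4 := congrFun hsm 1
  simp only [Pi.smul_apply, smul_eq_mul] at h3 h4
  rw [hind ⟨r, hr⟩, ← h4] at h3
  have h5 := mul_left_cancel₀ hK h3
  rw [hvan ⟨r, hr⟩ fun h => hr1 (congrArg Subtype.val h), OneMemClass.coe_one] at h5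
  exact Char.irr_one_ne_zero χ h5.symm

variable {G : Type u} [Group G] [Fintype G] {p : ℕ} [hp : Fact p.Prime] {M : Ideal AlgInt}

theorem main (hM : IsPModular p M) (Q : Subgroup G) (hQ : IsPGroup p Q)
    (C : Subgroup G)
    (hC : C = Subgroup.centralizer (Q : Set G)) (e : Set (IrrCharacter C))
    (he : IsPBlock M e) (T : Subgroup G)
    (hQT : Q ≤ T) (hCT : C ≤ T) (hTN : T ≤ Subgroup.normalizer (Q : Set G))
    (F' : Set (IrrCharacter T))
    (hF'e : ∀ t : T, blockCoeff F' t = subgroupBlockCoeff C e (t : G))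
    (χ : IrrCharacter T) (hχ : χ ∈ F')
    (hχQ : ∀ q : G, q ∈ Q → ∀ t : T, ∀ t' : T, (t' : G) = q * (t : G) → (χ : T → ℂ) t' = (χ : T → ℂ) t)
    (hdeg : (charDegree (χ : T → ℂ)).factorization p + (Nat.card Q).factorization p =
      (Nat.card T).factorization p) :
    IsDefectGroup p M e ((Q ⊓ C).subgroupOf C) ∧
      ∀ R : Subgroup G, R ≤ T → IsPGroup p R → (∀ t ∈ T, t ∈ Subgroup.normalizer (R : Set G)) → R ≤ Q := by
  classical
  haveI := hM.2.1
  have := Fintype.ofFinite C
  have := Fintype.ofFinite T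
  let Q' := Q.subgroupOf T
  haveI hQ'n : Q'.Normal := ⟨fun q hq t => by
    rw [Subgroup.mem_subgroupOf] at hq ⊢
    exact (Subgroup.mem_normalizer_iff.1 (hTN t.2) _).1 hq⟩
  have := Fintype.ofFinite (T ⧸ Q')
  obtain ⟨η, hη⟩ := exists_deflate (N := Q') χ fun z hz => by
    have := hχQ z (Subgroup.mem_subgroupOf.1 hz) 1 z (by simp)
    exact this
  have hcardQ : Nat.card Q' = Nat.card Q := Nat.card_congr (Subgroup.subgroupOfEquivOfLe hQT).toEquiv
  have hdη : (Nat.card (T ⧸ Q')).factorization p = (charDegree (η : T ⧸ Q' → ℂ)).factorization p := by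
    have hd : charDegree (η : T ⧸ Q' → ℂ) = charDegree (χ : T → ℂ) := by
      have := hη 1
      rw [QuotientGroup.mk_one, ItoMichler.one_eq_cast, ItoMichler.one_eq_cast] at this
      exact_mod_cast this
    have h1 := vCard_eq (N := Q') hp.out
    rw [hcardQ] at h1
    rw [hd]
    omega
  refine ⟨?_, ?_⟩
  · -- the centralizer
    have hCmem : ∀ t : T, (t : G) ∈ C → ∀ s : T, ((s * t * s⁻¹ : T) : G) ∈ C := fun t ht s => by
      rw [hC, Subgroup.mem_centralizer_iff] at ht ⊢
      intro q hq
      have hq' : (s : G)⁻¹ * q * (s : G) ∈ (Q : Set G) := (Subgroup.mem_normalizer_iff''.1 (hTN s.2) q).1 hq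
      have h2 := ht _ hq'
      push_cast
      calc q * ((s : G) * t * (s : G)⁻¹) = (s : G) * (((s : G)⁻¹ * q * s) * t) * (s : G)⁻¹ := by group
        _ = (s : G) * (t * ((s : G)⁻¹ * q * s)) * (s : G)⁻¹ := by rw [h2]
        _ = (s : G) * t * (s : G)⁻¹ * q := by group
    let π : C →* T ⧸ Q' := (QuotientGroup.mk' Q').comp (Subgroup.inclusion hCT)
    haveI hNn : π.range.Normal := ⟨fun x hx y => by
      obtain ⟨c, rfl⟩ := hx
      obtain ⟨s, rfl⟩ := QuotientGroup.mk_surjective y
      exact ⟨⟨_, hCmem (Subgroup.inclusion hCT c) c.2 s⟩, rfl⟩⟩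
    have := Fintype.ofFinite π.range
    have hres : IsCharacter π.range fun x : π.range => (η : T ⧸ Q' → ℂ) x :=
      Char.isCharacter_comp (Char.isCharacter_irr η) π.range.subtype
    obtain ⟨θb, hθb⟩ := exists_constituent (N := π.range) η
    let θ : IrrCharacter C := ⟨fun c => (θb : π.range → ℂ) (π.rangeRestrict c),
      Char.isIrrCharacter_comp_surjective θb.2 π.rangeRestrict π.rangeRestrict_surjective⟩
    have hχC : IsCharacter C fun c : C => (χ : T → ℂ) (Subgroup.inclusion hCT c) :=
      Char.isCharacter_comp (Char.isCharacter_irr χ) (Subgroup.inclusion hCT)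
    have hθχ : classInner (fun c : C => (χ : T → ℂ) (Subgroup.inclusion hCT c)) (θ : C → ℂ) ≠ 0 := by
      have h1 := classInner_comp_surjective π.rangeRestrict π.rangeRestrict_surjective
        (fun x : π.range => (η : T ⧸ Q' → ℂ) x) (θb : π.range → ℂ)
      rw [← h1] at hθb
      convert hθb using 3 with c
      exact (hη _).symm
    -- all constituents lie in `e`
    have hθe : θ ∈ e := by
      have := Fintype.ofFinite (IrrCharacter C)
      have := Fintype.ofFinite (IrrCharacter T)
      have h1 := sum_blockCoeff_mul F' (χ : T → ℂ)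
      have h2 := sum_blockCoeff_mul e (fun c : C => (χ : T → ℂ) (Subgroup.inclusion hCT c))
      have h3 : ∑ g : T, blockCoeff F' g * (χ : T → ℂ) g =
          ∑ c : C, blockCoeff e c * (χ : T → ℂ) (Subgroup.inclusion hCT c) := by
        rw [← Finset.sum_filter_add_sum_filter_not Finset.univ (fun t : T => (t : G) ∈ C),
          Finset.sum_eq_zero (s := Finset.univ.filter fun t : T => ¬ (t : G) ∈ C) fun t ht => by
            rw [hF'e, subgroupBlockCoeff_of_notMem e (Finset.mem_filter.1 ht).2, zero_mul], add_zero]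
        symm
        refine Finset.sum_bij (fun c _ => Subgroup.inclusion hCT c) (fun c _ => ?_) (fun a _ b _ h => ?_)
          (fun t ht => ?_) (fun c _ => ?_)
        · exact Finset.mem_filter.2 ⟨Finset.mem_univ _, c.2⟩
        · exact Subtype.ext (congrArg (fun z : T => (z : G)) h)
        · exact ⟨⟨(t : G), (Finset.mem_filter.1 ht).2⟩, Finset.mem_univ _, Subtype.ext rfl⟩
        · rw [hF'e]
          exact congrArg (· * _) (subgroupBlockCoeff_coe e c).symm
      have h4 : ∑ ψ ∈ Finset.univ.filter (· ∈ F'), (ψ : T → ℂ) 1 * classInner (χ : T → ℂ) (ψ : T → ℂ) =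
          (χ : T → ℂ) 1 := by
        rw [Finset.sum_eq_single χ]
        · rw [Char.classInner_irr_self, mul_one]
        · intro ψ _ hne
          rw [Char.classInner_irr_ne hne.symm, mul_zero]
        · simp [hχ]
      rw [h1, h4] at h3
      rw [h2] at h3
      have h5 := congrFun (Char.classFun_expand (Char.isClassFunction_of_isCharacter hχC)) 1
      simp only [Finset.sum_apply, Pi.smul_apply, smul_eq_mul, map_one] at h5
      have hcomm : ∀ s : Finset (IrrCharacter C),
          ∑ ψ ∈ s, (ψ : C → ℂ) 1 * classInner (fun c : C => (χ : T → ℂ) (Subgroup.inclusion hCT c)) (ψ : C → ℂ) =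
            ∑ ψ ∈ s, classInner (fun c : C => (χ : T → ℂ) (Subgroup.inclusion hCT c)) (ψ : C → ℂ) * (ψ : C → ℂ) 1 :=
        fun s => Finset.sum_congr rfl fun ψ _ => mul_comm _ _
      rw [h3, hcomm, ← Finset.sum_filter_add_sum_filter_not Finset.univ (· ∈ e)] at h5
      choose m hm using fun ψ : IrrCharacter C => Char.classInner_char_irr_nat hχC ψ
      by_contra hn
      have h6 : ∑ ψ ∈ Finset.univ.filter (fun ψ : IrrCharacter C => ¬ ψ ∈ e),
          classInner (fun c : C => (χ : T → ℂ) (Subgroup.inclusion hCT c)) (ψ : C → ℂ) * (ψ : C → ℂ) 1 = 0 := by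
        linear_combination -h5
      simp only [hm, ItoMichler.one_eq_cast] at h6
      norm_cast at h6
      have h7 := Finset.sum_eq_zero_iff.1 h6 θ (Finset.mem_filter.2 ⟨Finset.mem_univ _, hn⟩)
      rcases Nat.mul_eq_zero.1 h7 with h8 | h8
      · exact hθχ (by rw [hm θ, h8, Nat.cast_zero])
      · exact Char.irr_one_ne_zero θ (by rw [ItoMichler.one_eq_cast θ, h8, Nat.cast_zero])
    let D := (Q ⊓ C).subgroupOf C
    have hDp : IsPGroup p D :=
      (hQ.to_le inf_le_left).of_equiv (Subgroup.subgroupOfEquivOfLe inf_le_right).symm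
    have hDZ : D ≤ Subgroup.center C := fun d hd => Subgroup.mem_center_iff.2 fun c => Subtype.ext
      ((Subgroup.mem_centralizer_iff.1 (hC.le c.2) _ (Subgroup.mem_subgroupOf.1 hd).1).symm)
    haveI hDn : D.Normal := ⟨fun d hd c => by
      rwa [Subgroup.mem_center_iff.1 (hDZ hd) c, mul_inv_cancel_right]⟩
    have hker : π.ker = D := by
      ext c
      show ((Subgroup.inclusion hCT c : T) : T ⧸ Q') = 1 ↔ _
      rw [QuotientGroup.eq_one_iff, Subgroup.mem_subgroupOf, Subgroup.mem_subgroupOf]
      exact ⟨fun h => ⟨h, c.2⟩, fun h => h.1⟩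
    have hdθ : charDegree (θ : C → ℂ) = charDegree (θb : π.range → ℂ) := by
      show charDegree (fun c : C => (θb : π.range → ℂ) (π.rangeRestrict c)) = _
      simp only [charDegree, map_one]
    have hdegθ : degVal p θ + (Nat.card D).factorization p = (Nat.card C).factorization p := by
      refine le_antisymm (degVal_add_le hp.out θ fun z hz => ?_) ?_
      · show (θb : π.range → ℂ) (π.rangeRestrict z) = (θb : π.range → ℂ) (π.rangeRestrict 1)
        rw [map_one]
        have hz1 : π.rangeRestrict z = 1 := Subtype.ext (MonoidHom.mem_ker.1 (hker ▸ hz : z ∈ π.ker))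
        rw [hz1]
      · obtain ⟨hd1, hd2⟩ := Char.ratio_dvd_index π.range η.2 θb.2 hθb (ItoMichler.one_eq_cast η)
          (ItoMichler.one_eq_cast θb)
        have hη0 : charDegree (η : T ⧸ Q' → ℂ) ≠ 0 := fun h0 => Char.irr_one_ne_zero η (by
          rw [ItoMichler.one_eq_cast η, h0, Nat.cast_zero])
        have hθ0 : charDegree (θb : π.range → ℂ) ≠ 0 := fun h0 => Char.irr_one_ne_zero θb (by
          rw [ItoMichler.one_eq_cast θb, h0, Nat.cast_zero])
        obtain ⟨k, hk⟩ := hd1
        rw [hk, Nat.mul_div_cancel_left _ (Nat.pos_of_ne_zero hθ0)] at hd2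
        have hk0 : k ≠ 0 := fun h0 => hη0 (by rw [hk, h0, mul_zero])
        have h1 := (Nat.factorization_le_iff_dvd hk0 Subgroup.index_ne_zero_of_finite).2 hd2 p
        have h2 : (charDegree (η : T ⧸ Q' → ℂ)).factorization p =
            (charDegree (θb : π.range → ℂ)).factorization p + k.factorization p := by
          rw [hk, Nat.factorization_mul hθ0 hk0, Finsupp.add_apply]
        have h3 : (Nat.card (T ⧸ Q')).factorization p =
            (Nat.card π.range).factorization p + π.range.index.factorization p := by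
          rw [← π.range.card_mul_index, Nat.factorization_mul Nat.card_pos.ne'
            Subgroup.index_ne_zero_of_finite, Finsupp.add_apply]
        have h4 : (Nat.card C).factorization p =
            (Nat.card π.range).factorization p + (Nat.card D).factorization p := by
          rw [← hker, Subgroup.card_eq_card_quotient_mul_card_subgroup π.ker,
            Nat.card_congr (QuotientGroup.quotientKerEquivRange π).toEquiv,
            Nat.factorization_mul Nat.card_pos.ne' Nat.card_pos.ne', Finsupp.add_apply]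
        show _ ≤ (charDegree (θ : C → ℂ)).factorization p + _
        rw [hdθ]
        omega
    have := isDefectGroup_of_deg hM hDp hDZ θ hdegθ
    rwa [← isPBlock_eq_blockOf he hθe] at this
  · intro R hRT hRp hRn
    haveI : (R.subgroupOf T).Normal := ⟨fun r hr t => by
      rw [Subgroup.mem_subgroupOf] at hr ⊢
      exact (Subgroup.mem_normalizer_iff.1 (hRn t t.2) _).1 hr⟩
    haveI : ((R.subgroupOf T).map (QuotientGroup.mk' Q')).Normal :=
      Subgroup.Normal.map inferInstance _ (QuotientGroup.mk'_surjective Q')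
    have h := normal_p_eq_bot η hdη.le ((R.subgroupOf T).map (QuotientGroup.mk' Q'))
      ((hRp.of_equiv (Subgroup.subgroupOfEquivOfLe hRT).symm).map _)
    intro r hr
    have h2 : ((⟨r, hRT hr⟩ : T) : T ⧸ Q') = 1 := by
      rw [← Subgroup.mem_bot, ← h]
      exact ⟨⟨r, hRT hr⟩, hr, rfl⟩
    exact Subgroup.mem_subgroupOf.1 ((QuotientGroup.eq_one_iff _).1 h2)

end CfsgLib.Block.Weight
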