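import Cfsg.Agent.Lib.Char.Linear

/-!
# Twisting an irreducible character by a linear character
-/

set_option linter.unusedSectionVars false

namespace CfsgLib.Block

open Cfsg

universe u

variable {G : Type u} [Group G]

theorem exists_linear_twist (χ : IrrCharacter G) (lam : G →* ℂˣ) :
    ∃ ψ : IrrCharacter G, ∀ g, (ψ : G → ℂ) g = (lam g : ℂ) * (χ : G → ℂ) g := by
  obtain ⟨χ, n, ρ, hρ, rfl⟩ := χ
  let σ : Representation ℂ G (Fin n → ℂ) :=
    { toFun := fun g => (lam g : ℂ) • ρ g
      map_one' := by simp
      map_mul' := fun a b => by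
        ext v
        simp [smul_smul, mul_comm, Module.End.mul_apply] }
  refine ⟨⟨σ.character, n, σ, ?_, rfl⟩, fun g => ?_⟩
  · let e : Subrepresentation σ ≃o Subrepresentation ρ :=
      { toFun := fun S => ⟨S.toSubmodule, fun g v hv => by
          have h : ((lam g : ℂ)⁻¹) • σ g v ∈ S.toSubmodule :=
            S.toSubmodule.smul_mem _ (S.apply_mem_toSubmodule g hv)
          simpa [σ, smul_smul] using h⟩
        invFun := fun S => ⟨S.toSubmodule, fun g v hv =>
          S.toSubmodule.smul_mem _ (S.apply_mem_toSubmodule g hv)⟩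
        left_inv := fun S => rfl
        right_inv := fun S => rfl
        map_rel_iff' := Iff.rfl }
    exact e.isSimpleOrder
  · show LinearMap.trace ℂ _ ((lam g : ℂ) • ρ g) = _
    rw [map_smul, smul_eq_mul]
    rfl

/-- A linear character that is non-trivial at a prescribed element outside the derived group. -/
theorem exists_linear_ne_one [Finite G] {g : G} (hg : g ∉ commutator G) :
    ∃ lam : G →* ℂˣ, lam g ≠ 1 := by
  have : NeZero (Monoid.exponent (Abelianization G)) := ⟨Monoid.exponent_ne_zero_of_finite⟩
  obtain ⟨φ, hφ⟩ := CommGroup.exists_apply_ne_one_of_hasEnoughRootsOfUnity (Abelianization G) ℂ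
    (a := Abelianization.of g) (fun h => hg ((QuotientGroup.eq_one_iff g).mp h))
  exact ⟨φ.comp Abelianization.of, hφ⟩

end CfsgLib.Block
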