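import Cfsg.Agent.Lib.Block.FirstMain
import Cfsg.Agent.Lib.Block.Rank
import Cfsg.Agent.Lib.Fusion.PComplement
import Cfsg.Prelude.Def_BlockFusion

/-!
# Brauer pairs of the principal block: fusion and nilpotency
-/

open Finset MonoidAlgebra
open scoped ComplexConjugate

set_option linter.unusedSectionVars false

namespace CfsgLib.Block

open Cfsg

open scoped Pair

universe u

variable {p : ℕ} {M : Ideal AlgInt} [M.IsMaximal] {G : Type u} [Group G] [Fintype G] [DecidableEq G]
  {Q P : Subgroup G}

theorem isBrauerPairOf_principal (hM : IsPModular p M) (hQ : IsPGroup p Q) :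
    IsBrauerPairOf p M (principalBlock M G) Q (principalBlock M (CQ Q)) :=
  (isBrauerPairOf_principal_iff hM hQ isPBlock_principalBlock).mpr rfl

theorem eq_principal_of_pair (hM : IsPModular p M) {f : Set (IrrCharacter (CQ Q))}
    (h : IsBrauerPairOf p M (principalBlock M G) Q f) : f = principalBlock M (CQ Q) :=
  (isBrauerPairOf_principal_iff hM h.1.1 h.1.2).mp h

theorem subpairLE_principal (hM : IsPModular p M) (hP : IsPGroup p P) (hQP : Q ≤ P) :
    SubpairLE p M Q (principalBlock M (CQ Q)) P (principalBlock M (CQ P)) := by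
  obtain ⟨f, -, hle⟩ := exists_subpairLE hM (isBrauerPairOf_principal hM hP).1 Q hQP
  rwa [← eq_principal_of_pair hM
    ((SubpairLE.isBrauerPairOf_iff hM hle).mp (isBrauerPairOf_principal hM hP))]

theorem conjBlock_principal (hM : IsPModular p M) (hQ : IsPGroup p Q) (g : G) :
    conjBlock Q g (principalBlock M (CQ Q)) = principalBlock M (CQ (cjS g Q)) :=
  eq_principal_of_pair hM (IsBrauerPairOf.conj hM g (isBrauerPairOf_principal hM hQ))

theorem stabilizesBlock_principal (hM : IsPModular p M) (hQ : IsPGroup p Q) {g : G}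
    (hg : g ∈ Subgroup.normalizer (Q : Set G)) :
    StabilizesBlock (CQ Q) (principalBlock M (CQ Q)) g := by
  rw [stabilizesBlock_iff hM hg isPBlock_principalBlock, ← eG_conjN hg]
  congr 1
  refine eq_principal_of_pair hM ?_
  have h := IsBrauerPairOf.conj hM g (isBrauerPairOf_principal (M := M) hM hQ)
  have e := cjP_eq_of_mem (Q := Q) hM hg (isPBlock_principalBlock (M := M) (G := CQ Q))
  have : ∀ a b : BrauerPairIdx G, a = b → IsBrauerPairOf p M (principalBlock M G) a.1 a.2 →
      IsBrauerPairOf p M (principalBlock M G) b.1 b.2 := fun a b h => by subst h; exact id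
  exact this _ _ e h

theorem isMaximalBrauerPair_sylow (hM : IsPModular p M) (S : Sylow p G) :
    IsMaximalBrauerPair p M (principalBlock M G) (S : Subgroup G)
      (principalBlock M (CQ (S : Subgroup G))) := by
  refine ⟨isBrauerPairOf_principal hM S.isPGroup', fun R g hR hle => ?_⟩
  exact S.is_maximal' hR.1.1 (SubpairLE.le hle)

theorem hom_eq_groupFusion (hM : IsPModular p M) (S : Sylow p G) (F : FusionSystem (S : Subgroup G))
    (hF : IsBlockFusionSystemOn p M (principalBlock M G) (S : Subgroup G)
      (principalBlock M (CQ (S : Subgroup G))) F) (Q : Subgroup G) :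
    F.Hom Q = (groupFusionSystem (S : Subgroup G)).Hom Q := by
  ext φ
  rw [hF.2 Q φ]
  constructor
  · rintro ⟨hQ, g, hg, hle, -⟩
    exact ⟨hQ, fun x => hg x ▸ hle (conj_mem_cjS.mpr x.2), g, hg⟩
  · rintro ⟨hQ, hφ, g, hg⟩
    have hle : cjS g Q ≤ (S : Subgroup G) := by
      intro y hy
      have := hφ ⟨_, mem_cjS.mp hy⟩
      rw [hg] at this
      simpa [mul_assoc] using this
    have hQp : IsPGroup p Q := S.isPGroup'.to_le hQ
    refine ⟨hQ, g, hg, hle, principalBlock M (CQ Q), subpairLE_principal hM S.isPGroup' hQ, ?_⟩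
    rw [conjBlock_principal hM hQp g]
    exact subpairLE_principal hM S.isPGroup' hle

theorem isNilpotentBlock_principal_iff (hM : IsPModular p M) :
    IsNilpotentBlock p M (principalBlock M G) ↔ Cfsg.HasNormalPComplement p G := by
  have hpf : Fact p.Prime := ⟨hM.1⟩
  constructor
  · intro h
    obtain ⟨S⟩ : Nonempty (Sylow p G) := inferInstance
    refine CfsgLib.Fusion.hasNormalPComplement_of_locallyPNilpotentAction S ?_
    intro Q hQ g hg hgc
    refine h.2 Q (principalBlock M (CQ Q)) (isBrauerPairOf_principal hM (S.isPGroup'.to_le hQ)) g hg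
      (stabilizesBlock_principal hM (S.isPGroup'.to_le hQ) hg) ?_
    rw [IsPRegular, ← hM.1.coprime_iff_not_dvd]
    exact Nat.Coprime.symm hgc
  · intro h
    refine ⟨isPBlock_principalBlock, fun Q e he x hx _ hxr => ?_⟩
    refine CfsgLib.Fusion.locallyPNilpotentAction_of_hasNormalPComplement Q
      (fun R _ _ => CfsgLib.Fusion.hasNormalPComplement_subgroup _ h) he.1.1 Q le_rfl x hx ?_
    rw [Nat.coprime_comm, hM.1.coprime_iff_not_dvd]
    exact hxr

end CfsgLib.Block
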