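import Cfsg.Agent.Lib.Block.Sections
import Cfsg.Agent.Lib.Char.Degree
import Cfsg.Agent.Lib.Char.ExtendChar

/-!
# Characters of height zero

A character of height zero takes a value prime to `M` at a defect class, so its restriction to a
defect group has a linear constituent (Murai).
-/

open Finset Module
open scoped ComplexConjugate

set_option linter.unusedSectionVars false

namespace CfsgLib.Block

open Cfsg

universe u

variable {p : ℕ} {M : Ideal AlgInt} [M.IsMaximal] {G : Type u} [Group G] [Fintype G] [DecidableEq G]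

/-- The restriction to a defect group of a character of height zero has a linear constituent. -/
theorem exists_linear_of_height_zero (hM : IsPModular p M) {B : Set (IrrCharacter G)}
    (hB : IsPBlock M B) {D : Subgroup G} (hD : IsDefectGroup p M B D)
    {χ : IrrCharacter G} (hχ : χ ∈ B) (h0 : blockHeight p B (χ : G → ℂ) = 0) :
    ∃ μ : D →* ℂˣ, ∀ (a : ℂ) (u : D), ‖a‖ = 1 →
      (χ : G → ℂ) (u : G) = (χ : G → ℂ) 1 * a → (μ u : ℂ) = a := by
  classical
  have hpf : Fact p.Prime := ⟨hM.1⟩
  obtain ⟨g, hDg, hgc, hgω⟩ := exists_isSylowCent_of_isDefectGroup hM hB hD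
  have hne := res_irr_ne_zero_of_height_zero hM hB hgc hgω hχ h0 (Commute.one_left g) (k := 0)
    (one_pow _)
  rw [one_mul] at hne
  -- the subgroup `D⟨g⟩`
  set H := D ⊔ Subgroup.zpowers g with hH
  have hHg : H ≤ Subgroup.centralizer ({g} : Set G) := sup_le hDg.le
    ((Subgroup.zpowers_le).mpr (Subgroup.mem_centralizer_singleton_iff.mpr rfl))
  let g' : H := ⟨g, (le_sup_right : _ ≤ H) (Subgroup.mem_zpowers g)⟩
  have hgz : g' ∈ Subgroup.center H := Subgroup.mem_center_iff.mpr fun x =>
    Subtype.ext (Subgroup.mem_centralizer_singleton_iff.mp (hHg x.2))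
  have hindex : ∃ k, (Subgroup.center H).index = p ^ k := by
    let S := (D.subgroupOf H)
    have hsup : S ⊔ Subgroup.center H = ⊤ := by
      rw [eq_top_iff]
      rintro x -
      have hx : (x : G) ∈ D ⊔ Subgroup.zpowers g := x.2
      have : Subgroup.map H.subtype (S ⊔ Subgroup.center H) ≥ D ⊔ Subgroup.zpowers g := by
        refine sup_le (fun u hu => ⟨⟨u, (le_sup_left : _ ≤ H) hu⟩, Subgroup.mem_sup_left hu, rfl⟩)
          (Subgroup.zpowers_le.mpr ⟨g', Subgroup.mem_sup_right hgz, rfl⟩)
      obtain ⟨y, hy, hy'⟩ := this hx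
      rwa [← Subtype.ext hy']
    have hrel : (Subgroup.center H).index ∣ Nat.card S := by
      have h1 : (Subgroup.center H).relIndex (S ⊔ Subgroup.center H) ∣ Nat.card S := by
        rw [Subgroup.relIndex_sup_right]
        exact Subgroup.relIndex_dvd_card _ _
      rwa [hsup, Subgroup.relIndex_top_right] at h1
    have hS : IsPGroup p S :=
      (hDg.isPGroup).of_equiv (Subgroup.subgroupOfEquivOfLe (le_sup_left : D ≤ H)).symm
    obtain ⟨n, hn⟩ := IsPGroup.iff_card.mp hS
    obtain ⟨k, -, hk⟩ := (Nat.dvd_prime_pow hM.1).mp (hn ▸ hrel)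
    exact ⟨k, hk⟩
  obtain ⟨k, hk⟩ := hindex
  have : Fintype H := Fintype.ofFinite H
  -- decompose the restriction
  obtain ⟨l, hl⟩ := Char.exists_list_irr
    (Char.isCharacter_comp (Char.isCharacter_irr χ) H.subtype)
  have hval : ∀ x : H, (χ : G → ℂ) x = (l.map fun ψ : IrrCharacter H => (ψ : H → ℂ) x).sum := by
    intro x
    have h := congrFun hl x
    simp only [Subgroup.coe_subtype, Function.comp_def] at h
    rw [h]
    clear h hl
    induction l with
    | nil => rfl
    | cons b t ih => simp_all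
  -- some constituent is linear
  have hlin : ∃ ψ ∈ l, (ψ : H → ℂ) 1 = 1 := by
    by_contra hall
    push Not at hall
    apply hne
    have hz : ∀ ψ ∈ l, res M (irrLoc M ψ g') = 0 := by
      intro ψ hψ
      obtain ⟨n, ρ, hirr, hρ⟩ := ψ.2
      obtain ⟨c, hc⟩ := Char.exists_scalar_of_mem_center ρ hgz
      have hdim := Char.finrank_dvd_index_center ρ
      rw [hk, Module.finrank_fin_fun] at hdim
      obtain ⟨j, -, hj⟩ := (Nat.dvd_prime_pow hM.1).mp hdim
      have h1 : (ψ : H → ℂ) 1 = (n : ℂ) := by
        rw [← hρ, Representation.char_one, Module.finrank_fin_fun]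
      have hj0 : j ≠ 0 := fun h => hall ψ hψ (by rw [h1, hj, h, pow_zero, Nat.cast_one])
      have hg1 : (ψ : H → ℂ) g' = (n : ℂ) * c := by
        rw [← hρ, Representation.character, hc, map_smul, LinearMap.trace_id,
          Module.finrank_fin_fun, smul_eq_mul, mul_comm]
      have hcint : c ∈ locRing M := by
        have hn0 : 0 < n := by
          rw [hj]; exact pow_pos hM.1.pos _
        obtain ⟨b, μ, h1μ, h2μ, -⟩ := Char.exists_eigen_data ρ g'
        have hi : Fin (finrank ℂ (Fin n → ℂ)) := ⟨0, by rw [Module.finrank_fin_fun]; exact hn0⟩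
        have h3 := h2μ 1 hi
        rw [pow_one, pow_one] at h3
        rw [hc, LinearMap.smul_apply, LinearMap.id_apply] at h3
        have h4 : c = μ hi := smul_left_injective ℂ (b.ne_zero hi) h3
        rw [h4]
        exact integral_mem M
          (Char.isIntegral_of_pow_eq_one (orderOf_pos g').ne' (h1μ hi))
      have : irrLoc M ψ g' = (n : locRing M) * ⟨c, hcint⟩ := by
        apply Subtype.ext
        simp [hg1]
      rw [this, map_mul, map_natCast, hj, Nat.cast_pow]
      have := charP_resField hM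
      rw [CharP.cast_eq_zero, zero_pow hj0, zero_mul]
    have heq : irrLoc M χ g = (l.map fun ψ : IrrCharacter H => irrLoc M ψ g').sum := by
      apply Subtype.ext
      rw [coe_irrLoc, AddSubmonoidClass.coe_list_sum, List.map_map]
      exact (hval g').trans rfl
    rw [heq, map_list_sum, List.map_map]
    exact List.sum_eq_zero fun z hz' => by
      obtain ⟨ψ, hψ, rfl⟩ := List.mem_map.mp hz'
      exact hz ψ hψ
  obtain ⟨ψ, hψ, hψ1⟩ := hlin
  obtain ⟨f, hf⟩ := Char.exists_hom_of_linear (Char.isCharacter_irr ψ) hψ1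
  refine ⟨f.comp (Subgroup.inclusion (le_sup_left : D ≤ H)), fun a u ha hu => ?_⟩
  set x : H := Subgroup.inclusion (le_sup_left : D ≤ H) u with hx
  show (f x : ℂ) = a
  have h1 : (l.map fun φ : IrrCharacter H => (φ : H → ℂ) 1).sum * a =
      (l.map fun φ : IrrCharacter H => (φ : H → ℂ) x).sum := by
    rw [← hval, ← hval]
    exact hu.symm
  have haa : a * conj a = 1 := by
    rw [Complex.mul_conj, Complex.normSq_eq_norm_sq, ha]; simp
  have hgen : ∀ L : List (IrrCharacter H),
      (L.map fun φ : IrrCharacter H => ((φ : H → ℂ) 1 - (φ : H → ℂ) x * conj a).re).sum =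
        ((L.map fun φ : IrrCharacter H => (φ : H → ℂ) 1).sum -
          (L.map fun φ : IrrCharacter H => (φ : H → ℂ) x).sum * conj a).re := by
    intro L
    induction L with
    | nil => simp
    | cons b t ih => simp only [List.map_cons, List.sum_cons, ih, ← Complex.add_re]; congr 1; ring
  have h2 := hgen l
  rw [← h1, mul_assoc, haa, mul_one, sub_self, Complex.zero_re] at h2
  have hnonneg : ∀ φ : IrrCharacter H, 0 ≤ ((φ : H → ℂ) 1 - (φ : H → ℂ) x * conj a).re := by
    intro φ
    obtain ⟨n, ρ, -, hρ⟩ := φ.2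
    have h1' : (φ : H → ℂ) 1 = (n : ℂ) := by
      rw [← hρ, Representation.char_one, Module.finrank_fin_fun]
    have hle : ‖(φ : H → ℂ) x * conj a‖ ≤ n := by
      rw [norm_mul, RCLike.norm_conj, ha, mul_one, ← hρ]
      simpa [Module.finrank_fin_fun] using Char.norm_char_le ρ x
    rw [Complex.sub_re, h1', Complex.natCast_re, sub_nonneg]
    exact (Complex.re_le_norm _).trans hle
  have hψ0 : ((ψ : H → ℂ) 1 - (ψ : H → ℂ) x * conj a).re = 0 := by
    refine le_antisymm (h2 ▸ List.single_le_sum ?_ _ (List.mem_map.mpr ⟨ψ, hψ, rfl⟩)) (hnonneg ψ)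
    intro z hz
    obtain ⟨φ, -, rfl⟩ := List.mem_map.mp hz
    exact hnonneg φ
  have hnorm : ‖(f x : ℂ)‖ = 1 := Char.norm_eq_one_of_pow_eq_one' (orderOf_pos x).ne'
    (by rw [← Units.val_pow_eq_pow_val, ← map_pow, pow_orderOf_eq_one, map_one, Units.val_one])
  rw [hψ1, congrFun hf x, Complex.sub_re, Complex.one_re, sub_eq_zero] at hψ0
  have hn1 : ‖(f x : ℂ) * conj a‖ = 1 := by rw [norm_mul, RCLike.norm_conj, ha, hnorm, mul_one]
  have hone : (f x : ℂ) * conj a = 1 := by
    apply Complex.ext
    · rw [← hψ0, Complex.one_re]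
    · have := Complex.sq_norm ((f x : ℂ) * conj a)
      rw [hn1, Complex.normSq_apply, ← hψ0] at this
      rw [Complex.one_im]
      nlinarith [this]
  calc (f x : ℂ) = f x * (conj a * a) := by rw [mul_comm (conj a), haa, mul_one]
    _ = a := by rw [← mul_assoc, hone, one_mul]

end CfsgLib.Block
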