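import Cfsg.Agent.Lib.Block.NormalSupport
import Cfsg.Agent.Lib.Block.Fusion
import Cfsg.Agent.Lib.Block.RealBlocks
import Cfsg.Agent.Lib.Block.RegularIndicator

/-!
# The number of blocks with a normal defect group

The matrix of pairs with quotient in a Sylow subgroup, divided by `p ^ (a - d)`, reduces to
`diag(unit) * E * L` with `E` the idempotent coefficients and `L` the reduced central characters of
the blocks with defect group `D`, and `L * E = 1`.
-/

open Finset MonoidAlgebra
open scoped ComplexConjugate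

set_option linter.unusedSectionVars false

namespace CfsgLib.Block.NormalDefectCount

open Cfsg CfsgLib.Block
open scoped Pair

universe u

theorem rank_map_field {m : Type*} [Fintype m] [DecidableEq m] {R L : Type*} [Field R] [Field L]
    (A : Matrix m m R) (f : R →+* L) : (A.map f).rank = A.rank := by
  classical
  obtain ⟨V, U, e, hV, hU, h⟩ := A.exists_rank_normal_form
  have key : ∀ (K : Type _) [Field K] (g : R →+* K), (A.map g).rank = A.rank := by
    intro K _ g
    have hV' : IsUnit (V.map g).det :=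
      (Matrix.isUnit_iff_isUnit_det _).1 (hV.map g.mapMatrix)
    have hU' : IsUnit (U.map g).det :=
      (Matrix.isUnit_iff_isUnit_det _).1 (hU.map g.mapMatrix)
    have h1 : V.map g * A.map g * U.map g =
        (Matrix.diagonal (Sum.elim (fun _ : Fin A.rank => (1 : K))
          (fun _ : Fin (Fintype.card m - A.rank) => (0 : K)))).submatrix e e := by
      rw [← Matrix.map_mul, ← Matrix.map_mul, h]
      ext i j
      rw [Matrix.map_apply, Matrix.submatrix_apply, Matrix.submatrix_apply, Matrix.diagonal_apply]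
      rcases e i with a | a <;> rcases e j with b | b <;>
        simp [Matrix.one_apply, apply_ite g]
    rw [← Matrix.rank_mul_eq_right_of_isUnit_det (V.map g) (A.map g) hV',
      ← Matrix.rank_mul_eq_left_of_isUnit_det (U.map g) (V.map g * A.map g) hU', h1,
      Matrix.rank_submatrix, Matrix.rank_diagonal]
    refine (Fintype.card_congr ?_).trans (Fintype.card_fin A.rank)
    exact
      { toFun := fun i => match i with
          | ⟨Sum.inl a, _⟩ => a
          | ⟨Sum.inr _, hb⟩ => absurd rfl hb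
        invFun := fun a => ⟨Sum.inl a, one_ne_zero⟩
        left_inv := by rintro ⟨a | a, hb⟩ <;> first | rfl | exact absurd rfl hb
        right_inv := fun a => rfl }
  exact key L f

variable {p : ℕ} [Fact p.Prime] {M : Ideal AlgInt} [M.IsMaximal] {G : Type u} [Group G] [Fintype G]
  [DecidableEq G]

theorem pow_dvd_of_eq_mul (hM : IsPModular p M) {N k : ℕ} {z : ℂ} (hz : z ∈ locRing M)
    (h : (N : ℂ) = (p : ℂ) ^ k * z) : p ^ k ∣ N := by
  induction k generalizing N with
  | zero => rw [pow_zero]; exact one_dvd N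
  | succ k ih =>
    have := charP_resField (M := M) hM
    have h1 : (N : locRing M) = (p : locRing M) * ((p : locRing M) ^ k * ⟨z, hz⟩) := Subtype.ext (by
      push_cast; rw [h, pow_succ]; ring)
    have h2 := congrArg (res M) h1
    rw [map_mul, res_natCast, res_natCast, CharP.cast_eq_zero (ResField M) p, zero_mul,
      CharP.cast_eq_zero_iff (ResField M) p] at h2
    obtain ⟨n, rfl⟩ := h2
    rw [pow_succ']
    refine mul_dvd_mul_left p (ih ?_)
    have hp : (p : ℂ) ≠ 0 := Nat.cast_ne_zero.mpr hM.1.ne_zero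
    refine mul_left_cancel₀ hp ?_
    push_cast at h
    rw [h, pow_succ]
    ring

/-- Summing over conjugates. -/
theorem sum_conj_eq (x : G) [DecidablePred fun y => IsConj x y] (f : G → ℂ) :
    ∑ v : G, f (v * x * v⁻¹) = (Nat.card (Subgroup.centralizer ({x} : Set G)) : ℂ) *
      ∑ y ∈ Finset.univ.filter (fun y => IsConj x y), f y := by
  classical
  rw [← Finset.sum_fiberwise_of_maps_to (g := fun v => v * x * v⁻¹)
    (t := Finset.univ.filter fun y => IsConj x y)
    (fun v _ => Finset.mem_filter.mpr ⟨Finset.mem_univ _, isConj_iff.mpr ⟨v, rfl⟩⟩), Finset.mul_sum]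
  refine Finset.sum_congr rfl fun y hy => ?_
  obtain ⟨v₀, hv₀⟩ := isConj_iff.mp (Finset.mem_filter.mp hy).2
  rw [Finset.sum_congr rfl (g := fun _ => f y) (fun v hv => by rw [(Finset.mem_filter.mp hv).2]),
    Finset.sum_const, nsmul_eq_mul, ← Fintype.card_subtype, ← Nat.card_eq_fintype_card]
  congr 2
  exact Nat.card_congr
    { toFun := fun v => ⟨v₀⁻¹ * v.1, Subgroup.mem_centralizer_singleton_iff.mpr (by
        have hh : v.1 * x * v.1⁻¹ = v₀ * x * v₀⁻¹ := v.2.trans hv₀.symm
        calc v₀⁻¹ * v.1 * x = v₀⁻¹ * (v.1 * x * v.1⁻¹) * v.1 := by group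
          _ = x * (v₀⁻¹ * v.1) := by rw [hh]; group)⟩
      invFun := fun c => ⟨v₀ * c.1, by
        have hh := Subgroup.mem_centralizer_singleton_iff.mp c.2
        calc v₀ * c.1 * x * (v₀ * c.1)⁻¹ = v₀ * (c.1 * x) * c.1⁻¹ * v₀⁻¹ := by group
          _ = v₀ * (x * c.1) * c.1⁻¹ * v₀⁻¹ := by rw [hh]
          _ = v₀ * x * v₀⁻¹ := by group
          _ = y := hv₀⟩
      left_inv := fun v => Subtype.ext (by simp)
      right_inv := fun c => Subtype.ext (by simp) }

/-- The pairs in two classes with quotient in a subgroup, by characters. -/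
theorem pairs_formula [Fintype (IrrCharacter G)] (x y : G) (S : Subgroup G) :
    (Nat.card (Subgroup.centralizer ({x} : Set G)) : ℂ) *
      (Nat.card {yz : G × G // yz.1 ∈ (ConjClasses.mk x).carrier ∧ yz.2 ∈ (ConjClasses.mk y).carrier ∧
        yz.2 * yz.1⁻¹ ∈ S} : ℂ) =
      ∑ ψ : IrrCharacter G,
        centralChar (ψ : G → ℂ) y⁻¹ * ((ψ : G → ℂ) x * ∑ s : S, (ψ : G → ℂ) s) := by
  classical
  have e : {yz : G × G // yz.1 ∈ (ConjClasses.mk x).carrier ∧ yz.2 ∈ (ConjClasses.mk y).carrier ∧
        yz.2 * yz.1⁻¹ ∈ S} ≃ {su : S × G // IsConj x su.2 ∧ IsConj y ((su.1 : G) * su.2)} :=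
    { toFun := fun w => ⟨(⟨w.1.2 * w.1.1⁻¹, w.2.2.2⟩, w.1.1),
        ⟨(ConjClasses.mk_eq_mk_iff_isConj.mp (ConjClasses.mem_carrier_iff_mk_eq.mp w.2.1)).symm, by
          simpa using (ConjClasses.mk_eq_mk_iff_isConj.mp
            (ConjClasses.mem_carrier_iff_mk_eq.mp w.2.2.1)).symm⟩⟩
      invFun := fun w => ⟨(w.1.2, (w.1.1 : G) * w.1.2),
        ConjClasses.mem_carrier_iff_mk_eq.mpr (ConjClasses.mk_eq_mk_iff_isConj.mpr w.2.1.symm),
        ConjClasses.mem_carrier_iff_mk_eq.mpr (ConjClasses.mk_eq_mk_iff_isConj.mpr w.2.2.symm),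
        by simp⟩
      left_inv := fun w => Subtype.ext (Prod.ext rfl (by simp))
      right_inv := fun w => Subtype.ext (Prod.ext (Subtype.ext (by simp)) rfl) }
  have hcount : (Nat.card {yz : G × G // yz.1 ∈ (ConjClasses.mk x).carrier ∧
      yz.2 ∈ (ConjClasses.mk y).carrier ∧ yz.2 * yz.1⁻¹ ∈ S} : ℂ) =
      ∑ s : S, ∑ u ∈ Finset.univ.filter (fun u => IsConj x u),
        if IsConj y ((s : G) * u) then (1 : ℂ) else 0 := by
    rw [Nat.card_congr e, Nat.card_eq_fintype_card, Fintype.card_subtype, Finset.natCast_card_filter,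
      Fintype.sum_prod_type]
    refine Finset.sum_congr rfl fun s _ => ?_
    rw [Finset.sum_filter]
    exact Finset.sum_congr rfl fun u _ => by
      by_cases hu : IsConj x u <;> by_cases hs : IsConj y ((s : G) * u) <;> simp only [hu, hs, and_self, and_true, and_false, false_and, ↓reduceIte]
  set cy := (Nat.card (Subgroup.centralizer ({y} : Set G)) : ℂ) with hcy
  have hcy0 : cy ≠ 0 := Nat.cast_ne_zero.mpr Nat.card_pos.ne'
  have hind : ∀ g : G, cy * (if IsConj y g then (1 : ℂ) else 0) =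
      ∑ ψ : IrrCharacter G, conj ((ψ : G → ℂ) y) * (ψ : G → ℂ) g := by
    intro g
    have h := congrArg conj (Char.sum_irr_mul_conj y g)
    rw [map_sum, apply_ite conj, map_natCast, map_zero] at h
    rw [mul_ite, mul_one, mul_zero, hcy, ← h]
    exact Finset.sum_congr rfl fun ψ _ => by rw [map_mul, Complex.conj_conj]
  refine mul_left_cancel₀ hcy0 ?_
  rw [hcount, Finset.mul_sum, Finset.mul_sum,
    Finset.sum_congr rfl fun s (_ : s ∈ (Finset.univ : Finset S)) => show
      cy * ((Nat.card (Subgroup.centralizer ({x} : Set G)) : ℂ) *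
          ∑ u ∈ Finset.univ.filter (fun u => IsConj x u),
            if IsConj y ((s : G) * u) then (1 : ℂ) else 0) =
        ∑ ψ : IrrCharacter G, conj ((ψ : G → ℂ) y) *
          ((Nat.card G : ℂ) * (ψ : G → ℂ) s * (ψ : G → ℂ) x / (ψ : G → ℂ) 1) by
      rw [← sum_conj_eq x (fun u => if IsConj y ((s : G) * u) then (1 : ℂ) else 0), Finset.mul_sum,
        Finset.sum_congr rfl fun v _ => hind _, Finset.sum_comm]
      exact Finset.sum_congr rfl fun ψ _ => by rw [← Finset.mul_sum, sum_conj_char],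
    Finset.sum_comm, Finset.mul_sum]
  refine Finset.sum_congr rfl fun ψ _ => ?_
  rw [centralChar, centralizer_inv_singleton, Char.irr_inv, ← mul_assoc, Finset.mul_sum,
    Finset.mul_sum]
  refine Finset.sum_congr rfl fun s _ => ?_
  have hG : (Nat.card G : ℂ) = cy * ((Subgroup.centralizer ({y} : Set G)).index : ℂ) := by
    rw [hcy, ← Nat.cast_mul, Subgroup.card_mul_index]
  rw [hG]
  have := Char.irr_one_ne_zero ψ
  field_simp

theorem isSylowCent_inv {x : G} {D : Subgroup G} (h : IsSylowCent p x D) :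
    IsSylowCent p x⁻¹ D :=
  ⟨fun u hu => (h.commute u hu).inv_right, by rw [centralizer_inv_singleton]; exact h.card_eq⟩

theorem eq_of_conjLE_normal {D E : Subgroup G} [D.Normal] (h : ConjLE E D)
    (hc : Nat.card D ≤ Nat.card E) : E = D := by
  obtain ⟨g, hg⟩ := conjLE_iff.mp h
  refine Subgroup.eq_of_le_of_card_ge (fun u hu => ?_) hc
  simpa [mul_assoc] using Subgroup.Normal.conj_mem inferInstance _ (hg u hu) g⁻¹

variable {D : Subgroup G} [hDn : D.Normal]

/-- Only blocks with defect group `D` see two classes with Sylow centralizer `D`. -/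
theorem isDefectGroup_of_ne_zero (hM : IsPModular p M) (hD : IsPGroup p D)
    {B : Set (IrrCharacter G)} (hB : IsPBlock M B) {x y : G} (hx : IsSylowCent p x D)
    (hy : IsSylowCent p y D) (hc : coeffRes M B x ≠ 0) {χ : IrrCharacter G} (hχ : χ ∈ B)
    (hω : centralRes M χ y ≠ 0) : IsDefectGroup p M B D := by
  obtain ⟨D', hD'⟩ := exists_defectGroup hM hB
  obtain ⟨g, hg, hgc, -⟩ := exists_isSylowCent_of_isDefectGroup hM hB hD'
  exact isDefectGroup_of_conjLE_card hM hB hD'
    (coeff_ne_zero_le_defect hM hB hD' hD hc hx.commute)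
    (sylowCent_conjLE hM hB hgc hχ hω hg hy).card_le

/-- The two vanishing conditions put the Sylow centralizer at `D`. -/
theorem isSylowCent_of_ne_zero (hM : IsPModular p M) {B B' : Set (IrrCharacter G)}
    (hB : IsPBlock M B) (hBD : IsDefectGroup p M B D) (hB' : IsPBlock M B')
    (hB'D : IsDefectGroup p M B' D) {c : G} (hc : coeffRes M B c ≠ 0) {χ : IrrCharacter G}
    (hχ : χ ∈ B') (hω : centralRes M χ c ≠ 0) : IsSylowCent p c D := by
  obtain ⟨E, hE⟩ := exists_isSylowCent p c
  obtain ⟨g, hg, hgc, -⟩ := exists_isSylowCent_of_isDefectGroup hM hB' hB'D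
  rwa [← eq_of_conjLE_normal (coeff_ne_zero_le_defect hM hB hBD hE.isPGroup hc hE.commute)
    (sylowCent_conjLE hM hB' hgc hχ hω hg hE).card_le]

theorem sum_blockwise [Fintype (IrrCharacter G)] [Fintype {B : Set (IrrCharacter G) // IsPBlock M B}]
    {A : Type*} [AddCommMonoid A] (f : IrrCharacter G → A)
    [∀ B : Set (IrrCharacter G), DecidablePred (· ∈ B)] :
    ∑ ψ, f ψ = ∑ B : {B : Set (IrrCharacter G) // IsPBlock M B},
      ∑ ψ ∈ Finset.univ.filter (· ∈ B.1), f ψ := by
  classical
  rw [← Finset.sum_fiberwise Finset.univ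
    (fun ψ : IrrCharacter G => (⟨blockOf M (ψ : G → ℂ), isPBlock_blockOf ψ⟩ :
      {B : Set (IrrCharacter G) // IsPBlock M B})) f]
  refine Finset.sum_congr rfl fun B _ => Finset.sum_congr ?_ fun _ _ => rfl
  ext ψ
  simp only [Finset.mem_filter, Finset.mem_univ, true_and, Subtype.ext_iff]
  exact ⟨fun h => h ▸ self_mem_blockOf ψ, fun h => (isPBlock_eq_blockOf B.2 h).symm⟩

/-- The residue of the normalised number of pairs. -/
theorem pairs_residue (hM : IsPModular p M) (hD : IsPGroup p D) (S : Sylow p G) {x y : G}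
    (hxr : ¬ p ∣ orderOf x) (hx : IsSylowCent p x D) (hy : IsSylowCent p y D)
    [Fintype {B : Set (IrrCharacter G) // IsPBlock M B ∧ IsDefectGroup p M B D}]
    (χ : {B : Set (IrrCharacter G) // IsPBlock M B ∧ IsDefectGroup p M B D} → IrrCharacter G)
    (hχ : ∀ B, χ B ∈ B.1) :
    ∃ u : ResField M, u ≠ 0 ∧ (∀ y' : G, IsSylowCent p y' D →
      ((Nat.card {yz : G × G // yz.1 ∈ (ConjClasses.mk x).carrier ∧
          yz.2 ∈ (ConjClasses.mk y').carrier ∧ yz.2 * yz.1⁻¹ ∈ (S : Subgroup G)} /
        p ^ ((Nat.card G).factorization p - (Nat.card D).factorization p) : ℕ) : ResField M) =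
      u * ∑ B, coeffRes M B.1 x⁻¹ * centralRes M (χ B) y'⁻¹) := by
  classical
  have := Fintype.ofFinite (IrrCharacter G)
  have := Fintype.ofFinite {B : Set (IrrCharacter G) // IsPBlock M B}
  have := charP_resField (M := M) hM
  have hp : p.Prime := Fact.out
  set a := (Nat.card G).factorization p with ha
  set C := Subgroup.centralizer ({x} : Set G) with hC
  have hd : (Nat.card C).factorization p = (Nat.card D).factorization p := by
    have h := hx.card_eq
    rw [h, Nat.Prime.factorization_pow hp, Finsupp.single_eq_same]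
  set d := (Nat.card D).factorization p with hd'
  have hSc : Nat.card (S : Subgroup G) = p ^ a := S.card_eq_multiplicity
  have hda : d ≤ a := by
    rw [← hd, ha]
    exact (Nat.factorization_le_iff_dvd Nat.card_pos.ne' Nat.card_pos.ne').mpr
      (Subgroup.card_subgroup_dvd_card C) p
  set r := Nat.card C / p ^ d with hr
  have hCr : Nat.card C = p ^ d * r := by
    rw [hr, ← hd]
    exact (Nat.ordProj_mul_ordCompl_eq_self _ p).symm
  have hrp : ¬ p ∣ r := by
    rw [hr, ← hd]
    exact Nat.not_dvd_ordCompl hp Nat.card_pos.ne'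
  set g' := Nat.card G / p ^ a with hg'
  have hGg : Nat.card G = p ^ a * g' := (Nat.ordProj_mul_ordCompl_eq_self _ p).symm
  have hgp : ¬ p ∣ g' := Nat.not_dvd_ordCompl hp Nat.card_pos.ne'
  refine ⟨res M (invNat hM hrp) * (g' : ResField M), mul_ne_zero (res_invNat_ne_zero hM hrp)
    (fun h => hgp ((CharP.cast_eq_zero_iff (ResField M) p g').mp h)), fun y' hy' => ?_⟩
  choose m hm using fun ψ : IrrCharacter G => Char.classInner_char_irr_nat
    (Char.isCharacter_comp (Char.isCharacter_irr ψ) (S : Subgroup G).subtype) (oneChar (S : Subgroup G))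
  have hsumS : ∀ ψ : IrrCharacter G,
      ∑ s : (S : Subgroup G), (ψ : G → ℂ) s = (p : ℂ) ^ a * (m ψ : ℂ) := fun ψ => by
    have h := hm ψ
    rw [classInner, inv_mul_eq_iff_eq_mul₀ (Nat.cast_ne_zero.mpr Nat.card_pos.ne'), hSc] at h
    push_cast at h
    rw [← h]
    exact Finset.sum_congr rfl fun s _ => by simp [oneChar]
  set N := Nat.card {yz : G × G // yz.1 ∈ (ConjClasses.mk x).carrier ∧
    yz.2 ∈ (ConjClasses.mk y').carrier ∧ yz.2 * yz.1⁻¹ ∈ (S : Subgroup G)} with hN
  let z : IrrCharacter G → locRing M := fun ψ =>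
    (⟨_, centralChar_mem ψ y'⁻¹⟩ : locRing M) * (invNat hM hrp * (irrLoc M (ψ : IrrCharacter G) x * (m ψ : locRing M)))
  have hNz : (N : ℂ) = (p : ℂ) ^ (a - d) * ((∑ ψ, z ψ : locRing M) : ℂ) := by
    refine mul_left_cancel₀ (Nat.cast_ne_zero.mpr (Nat.card_pos (α := C)).ne') ?_
    rw [hN, hC, pairs_formula, ← hC, hCr, AddSubmonoidClass.coe_finsetSum, Finset.mul_sum,
      Finset.mul_sum]
    refine Finset.sum_congr rfl fun ψ _ => ?_
    have hri : (r : ℂ) * (invNat hM hrp : ℂ) = 1 := by
      have h := congrArg Subtype.val (invNat_mul hM hrp)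
      push_cast at h
      rw [mul_comm]; exact h
    rw [hsumS]
    simp only [z, Subring.coe_mul, coe_irrLoc, SubringClass.coe_natCast]
    push_cast
    calc _ = centralChar (ψ : G → ℂ) y'⁻¹ *
          ((ψ : G → ℂ) x * ((p : ℂ) ^ (d + (a - d)) * (m ψ : ℂ))) * ((r : ℂ) * (invNat hM hrp : ℂ)) := by
          rw [hri, mul_one, Nat.add_sub_cancel' hda]
      _ = _ := by rw [pow_add]; ring
  have hdvd : p ^ (a - d) ∣ N := pow_dvd_of_eq_mul hM (SetLike.coe_mem _) hNz
  have hq : ((N / p ^ (a - d) : ℕ) : locRing M) = ∑ ψ, z ψ := by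
    refine Subtype.ext (mul_left_cancel₀ (pow_ne_zero (a - d) (Nat.cast_ne_zero.mpr hp.ne_zero : (p : ℂ) ≠ 0)) ?_)
    rw [← hNz, SubringClass.coe_natCast, ← Nat.cast_pow, ← Nat.cast_mul, Nat.mul_div_cancel' hdvd]
  rw [← res_natCast, hq, map_sum, sum_blockwise (M := M)]
  have hblock : ∀ (B : Set (IrrCharacter G)) (hB : IsPBlock M B) (ψ₀ : IrrCharacter G), ψ₀ ∈ B →
      ∑ ψ ∈ Finset.univ.filter (· ∈ B), res M (z ψ) =
        res M (invNat hM hrp) * (g' : ResField M) * (coeffRes M B x⁻¹ * centralRes M ψ₀ y'⁻¹) := by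
    intro B hB ψ₀ hψ₀
    have hU := IsBlockUnion.of_isPBlock hB
    have hsum : ∑ ψ ∈ Finset.univ.filter (· ∈ B), irrLoc M ψ x * (m ψ : locRing M) =
        (g' : locRing M) * (blockIdem M B : MonoidAlgebra (locRing M) G).coeff x⁻¹ := by
      refine Subtype.ext ?_
      rw [AddSubmonoidClass.coe_finsetSum, Subring.coe_mul, SubringClass.coe_natCast,
        coe_coeff_blockIdem hM hU]
      refine mul_left_cancel₀ (pow_ne_zero a (Nat.cast_ne_zero.mpr hp.ne_zero : (p : ℂ) ≠ 0)) ?_
      rw [Finset.mul_sum, blockCoeff, ← mul_assoc, ← Nat.cast_pow, ← Nat.cast_mul, ← hGg, ← mul_assoc,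
        mul_inv_cancel₀ (Nat.cast_ne_zero.mpr Nat.card_pos.ne'), one_mul,
        finsum_mem_eq_toFinset_sum, Nat.cast_pow]
      rw [Finset.sum_congr rfl fun ψ (_ : ψ ∈ Finset.univ.filter (· ∈ B)) => show
          (p : ℂ) ^ a * ((irrLoc M ψ x * (m ψ : locRing M) : locRing M) : ℂ) =
            ∑ s : (S : Subgroup G), (ψ : G → ℂ) x * (ψ : G → ℂ) s by
          rw [← Finset.mul_sum, hsumS]; push_cast [coe_irrLoc]; ring,
        Finset.sum_comm, Finset.sum_eq_single (1 : (S : Subgroup G))]
      · refine Finset.sum_congr (by ext; simp) fun ψ _ => ?_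
        rw [OneMemClass.coe_one, Char.irr_inv, Complex.conj_conj, mul_comm]
      · intro s _ hs
        obtain ⟨k, hk⟩ := IsPGroup.iff_orderOf.mp S.isPGroup' s
        have hps : p ∣ orderOf ((s : G)⁻¹) := by
          rw [orderOf_inv, Subgroup.orderOf_coe, hk]
          refine dvd_pow_self p fun h0 => hs (orderOf_eq_one_iff.mp ?_)
          rw [hk, h0, pow_zero]
        have h := blockUnion_orthogonal_regular_singular hM hU hxr hps
        rw [finsum_mem_eq_toFinset_sum] at h
        rw [← h]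
        exact Finset.sum_congr (by ext; simp) fun ψ _ => by rw [Char.irr_inv, Complex.conj_conj]
      · exact fun h => absurd (Finset.mem_univ _) h
    rw [Finset.sum_congr rfl fun ψ (hψ : ψ ∈ Finset.univ.filter (· ∈ B)) => show res M (z ψ) =
      centralRes M ψ₀ y'⁻¹ * res M (invNat hM hrp) * res M (irrLoc M ψ x * (m ψ : locRing M)) by
        rw [← centralRes_eq_of_mem hB (Finset.mem_filter.mp hψ).2 hψ₀ y'⁻¹]
        simp only [z, map_mul, centralRes]
        ring, ← Finset.mul_sum, ← map_sum, hsum, map_mul, res_natCast]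
    rw [coeffRes]
    ring
  rw [Finset.sum_congr rfl fun B _ => hblock B.1 B.2 (isPBlock_nonempty B.2).some
    (isPBlock_nonempty B.2).some_mem, ← Finset.mul_sum]
  congr 1
  set f : {B : Set (IrrCharacter G) // IsPBlock M B} → ResField M :=
    fun B => coeffRes M B.1 x⁻¹ * centralRes M (isPBlock_nonempty B.2).some y'⁻¹ with hf
  show ∑ B, f B = _
  have hfilt : ∑ B ∈ Finset.univ.filter (fun B : {B : Set (IrrCharacter G) // IsPBlock M B} =>
      IsDefectGroup p M B.1 D), f B = ∑ B, f B :=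
    Finset.sum_filter_of_ne fun B _ hne =>
      isDefectGroup_of_ne_zero hM hD B.2 (isSylowCent_inv hx) (isSylowCent_inv hy')
        (left_ne_zero_of_mul hne) (isPBlock_nonempty B.2).some_mem (right_ne_zero_of_mul hne)
  rw [← hfilt]
  refine Finset.sum_bij' (fun B hB => ⟨B.1, B.2, (Finset.mem_filter.mp hB).2⟩)
    (fun B _ => ⟨B.1, B.2.1⟩) (fun _ _ => Finset.mem_univ _)
    (fun B _ => Finset.mem_filter.mpr ⟨Finset.mem_univ _, B.2.2⟩) (fun _ _ => rfl) (fun _ _ => rfl)
    fun B hB => ?_
  simp only [hf]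
  rw [centralRes_eq_of_mem B.2 (isPBlock_nonempty B.2).some_mem
    (hχ ⟨B.1, B.2, (Finset.mem_filter.mp hB).2⟩)]

end CfsgLib.Block.NormalDefectCount

namespace CfsgLib.Block.NormalDefectCount

open Cfsg CfsgLib.Block
open scoped Pair

variable {p : ℕ} [Fact p.Prime] {M : Ideal AlgInt} [M.IsMaximal] {G : Type*} [Group G] [Fintype G]
  [DecidableEq G] {D : Subgroup G} [hDn : D.Normal]

/-- The idempotent coefficients and the central characters on the classes with Sylow centralizer
`D` are dual. -/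
theorem sum_coeffRes_centralRes (hM : IsPModular p M) {ι : Type*} [Fintype ι]
    (x : ι → G) (hinj : ∀ i j, IsConj (x i) (x j) → i = j)
    (hall : ∀ c : G, ¬ p ∣ orderOf c → IsSylowCent p c D → ∃ i, IsConj (x i) c)
    {B B' : Set (IrrCharacter G)} (hB : IsPBlock M B) (hBD : IsDefectGroup p M B D)
    (hB' : IsPBlock M B') (hB'D : IsDefectGroup p M B' D) {χ : IrrCharacter G} (hχ : χ ∈ B')
    [Decidable (B = B')] :
    ∑ i, coeffRes M B (x i)⁻¹ * centralRes M χ (x i)⁻¹ = if B = B' then 1 else 0 := by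
  classical
  have := Fintype.ofFinite (ConjClasses G)
  have htot : ∑ C : ConjClasses G, coeffRes M B (rep C) * centralRes M χ (rep C) =
      if B = B' then 1 else 0 := by
    have h := omegaBar_blockBar hM (.of_isPBlock hB) (χ := χ)
    rw [zk_eq_sum (blockBar M B), map_sum] at h
    simp only [omegaBar_smul, omegaBar_classBar, coeff_blockBar] at h
    rw [h]
    exact if_congr ⟨fun hc => isPBlock_eq_of_mem hB hB' hc hχ, fun e => e ▸ hχ⟩ rfl rfl
  rw [← htot]
  refine Finset.sum_bij_ne_zero (fun i _ _ => ConjClasses.mk (x i)⁻¹) (fun i _ _ => Finset.mem_univ _)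
    (fun i _ _ j _ _ e => ?_) (fun C _ hC => ?_) fun i _ _ => ?_
  · refine hinj i j ?_
    obtain ⟨c, hc⟩ := isConj_iff.mp (ConjClasses.mk_eq_mk_iff_isConj.mp e)
    refine isConj_iff.mpr ⟨c, inv_injective ?_⟩
    rw [← hc]; group
  · have hreg := regular_of_coeffRes_ne_zero hM (.of_isPBlock hB) (left_ne_zero_of_mul hC)
    obtain ⟨i, hi⟩ := hall (rep C)⁻¹ (by rwa [orderOf_inv]) (isSylowCent_inv
      (isSylowCent_of_ne_zero hM hB hBD hB' hB'D (left_ne_zero_of_mul hC) hχ (right_ne_zero_of_mul hC)))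
    have hic : IsConj (x i)⁻¹ (rep C) := by
      obtain ⟨c, hc⟩ := isConj_iff.mp hi
      exact isConj_iff.mpr ⟨c, by rw [← inv_inv (rep C), ← hc]; group⟩
    refine ⟨i, Finset.mem_univ _, ?_, ?_⟩
    · rwa [coeffRes_isConj B hic, show centralRes M χ (x i)⁻¹ = centralRes M χ (rep C) from
        congrArg (res M) (Subtype.ext (centralChar_of_isConj χ hic))]
    · rw [← mk_rep C]
      exact ConjClasses.mk_eq_mk_iff_isConj.mpr hic
  · have hr := isConj_rep (x i)⁻¹
    rw [coeffRes_isConj B hr, show centralRes M χ (rep (ConjClasses.mk (x i)⁻¹)) =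
      centralRes M χ (x i)⁻¹ from congrArg (res M) (Subtype.ext (centralChar_of_isConj χ hr))]

/-- The number of blocks with defect group `D` as the rank of the matrix. -/
theorem card_blocks_eq_rank (hM : IsPModular p M) (hD : IsPGroup p D) (S : Sylow p G)
    {ι : Type*} [Fintype ι] [DecidableEq ι] (x : ι → G) (hinj : ∀ i j, IsConj (x i) (x j) → i = j)
    (hxr : ∀ i, ¬ p ∣ orderOf (x i)) (hx : ∀ i, IsSylowCent p (x i) D)
    (hall : ∀ c : G, ¬ p ∣ orderOf c → IsSylowCent p c D → ∃ i, IsConj (x i) c) :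
    Nat.card {B : Set (IrrCharacter G) // IsPBlock M B ∧ IsDefectGroup p M B D} =
      (Matrix.of fun i j : ι => ((Nat.card {yz : G × G // yz.1 ∈ (ConjClasses.mk (x i)).carrier ∧
          yz.2 ∈ (ConjClasses.mk (x j)).carrier ∧ yz.2 * yz.1⁻¹ ∈ (S : Subgroup G)} /
        p ^ ((Nat.card G).factorization p - (Nat.card D).factorization p) : ℕ) : ZMod p)).rank := by
  classical
  have := Fintype.ofFinite {B : Set (IrrCharacter G) // IsPBlock M B ∧ IsDefectGroup p M B D}
  have := charP_resField (M := M) hM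
  set β := {B : Set (IrrCharacter G) // IsPBlock M B ∧ IsDefectGroup p M B D}
  let χ : β → IrrCharacter G := fun B => (isPBlock_nonempty B.2.1).some
  have hχ : ∀ B : β, χ B ∈ B.1 := fun B => (isPBlock_nonempty B.2.1).some_mem
  choose u hu hu' using fun i => pairs_residue (x := x i) (y := x i) hM hD S (hxr i) (hx i) (hx i) χ hχ
  set A : Matrix ι ι (ZMod p) := Matrix.of fun i j : ι => ((Nat.card {yz : G × G //
      yz.1 ∈ (ConjClasses.mk (x i)).carrier ∧ yz.2 ∈ (ConjClasses.mk (x j)).carrier ∧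
        yz.2 * yz.1⁻¹ ∈ (S : Subgroup G)} /
      p ^ ((Nat.card G).factorization p - (Nat.card D).factorization p) : ℕ) : ZMod p) with hA
  set E₀ : Matrix ι β (ResField M) := Matrix.of fun i B => coeffRes M B.1 (x i)⁻¹ with hE₀
  set L : Matrix β ι (ResField M) := Matrix.of fun B j => centralRes M (χ B) (x j)⁻¹ with hL
  have hmap : A.map (ZMod.castHom (dvd_refl p) (ResField M)) = Matrix.diagonal u * (E₀ * L) := by
    ext i j
    rw [Matrix.map_apply, Matrix.diagonal_mul, Matrix.mul_apply, hA, Matrix.of_apply, map_natCast,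
      hu' i (x j) (hx j)]
    rfl
  have hLE : L * E₀ = 1 := by
    ext B' B
    rw [Matrix.mul_apply, Matrix.one_apply, Finset.sum_congr rfl fun i _ => mul_comm _ _]
    simp only [hL, hE₀, Matrix.of_apply]
    rw [sum_coeffRes_centralRes hM x hinj hall B.2.1 B.2.2 B'.2.1 B'.2.2 (hχ B')]
    exact if_congr ⟨fun e => Subtype.ext e.symm, fun e => by rw [e]⟩ rfl rfl
  rw [Nat.card_eq_fintype_card, ← rank_map_field A (ZMod.castHom (dvd_refl p) (ResField M)), hmap]
  refine le_antisymm ?_ ?_
  · calc Fintype.card β = (1 : Matrix β β (ResField M)).rank := Matrix.rank_one.symm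
      _ = ((L * Matrix.diagonal fun i => (u i)⁻¹) * (Matrix.diagonal u * (E₀ * L)) * E₀).rank := by
        rw [← Matrix.mul_assoc (L * _), Matrix.mul_assoc L, Matrix.diagonal_mul_diagonal,
          show (fun i => (u i)⁻¹ * u i) = fun _ => (1 : ResField M) from
            funext fun i => inv_mul_cancel₀ (hu i), Matrix.diagonal_one, Matrix.mul_one,
          ← Matrix.mul_assoc, hLE, Matrix.one_mul, hLE]
      _ ≤ _ := (Matrix.rank_mul_le_left _ _).trans (Matrix.rank_mul_le_right _ _)
  · exact ((Matrix.rank_mul_le_right _ _).trans (Matrix.rank_mul_le_left _ _)).trans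
      (Matrix.rank_le_card_width _)

end CfsgLib.Block.NormalDefectCount
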