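import Cfsg.Agent.Lib.Block.StarChar
import Cfsg.Agent.Lib.Block.NormalDefectCount
import Cfsg.Agent.Lib.Block.NilpotentBijection
import Cfsg.Agent.Lib.Block.FusionSat
import Cfsg.Agent.Lib.Fusion.System.FocalProper
import Mathlib.NumberTheory.LegendreSymbol.Basic
import Mathlib.GroupTheory.SpecificGroups.Cyclic

/-!
# The number of height zero characters when the defect group has a `p`-group of automorphisms
-/

open Finset

set_option linter.unusedSectionVars false
set_option linter.style.haveILetI false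

namespace CfsgLib.Block

open Cfsg
open scoped Pair

universe u

variable {p : ℕ} {M : Ideal AlgInt} [M.IsMaximal] {G : Type u} [Group G] [Fintype G] [DecidableEq G]
  [Fintype (IrrCharacter G)]

/-- The degree without the common power of `p`. -/
noncomputable def redDeg (p : ℕ) (B : Set (IrrCharacter G)) (χ : IrrCharacter G) : ℕ :=
  charDegree (χ : G → ℂ) / p ^ minDeg p B

theorem pow_minDeg_mul_redDeg (hM : IsPModular p M) {B : Set (IrrCharacter G)} {χ : IrrCharacter G}
    (hχ : χ ∈ B) : p ^ minDeg p B * redDeg p B χ = charDegree (χ : G → ℂ) :=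
  Nat.mul_div_cancel'
    ((hM.1.pow_dvd_iff_le_factorization (charDegree_eq χ).2).mpr (minDeg_le hχ))

theorem not_dvd_redDeg (hM : IsPModular p M) {B : Set (IrrCharacter G)} {χ : IrrCharacter G}
    (hχ : χ ∈ B) (h : blockHeight p B (χ : G → ℂ) = 0) : ¬ p ∣ redDeg p B χ := by
  rw [redDeg, ← (blockHeight_eq_zero_iff hχ).mp h]
  exact Nat.not_dvd_ordCompl hM.1 (charDegree_eq χ).2

theorem dvd_redDeg (hM : IsPModular p M) {B : Set (IrrCharacter G)} {χ : IrrCharacter G}
    (hχ : χ ∈ B) (h : blockHeight p B (χ : G → ℂ) ≠ 0) : p ∣ redDeg p B χ := by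
  have hlt : minDeg p B + 1 ≤ degVal p χ := by
    have := blockHeight_eq (p := p) B χ
    omega
  have h1 := (hM.1.pow_dvd_iff_le_factorization (charDegree_eq χ).2).mpr hlt
  rw [← pow_minDeg_mul_redDeg hM hχ, pow_succ] at h1
  exact (Nat.mul_dvd_mul_iff_left (pow_pos hM.1.pos _)).mp h1

/-- The height zero part of the squares of the reduced degrees is divisible by `p ^ min d 2`. -/
theorem pow_dvd_sum_redDeg_sq (hM : IsPModular p M) {B : Set (IrrCharacter G)}
    [DecidablePred (· ∈ B)] (hB : IsPBlock M B) {j : ℕ} (hj : j ≤ 2) (hjd : j ≤ blockDefect p B) :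
    p ^ j ∣ ∑ χ ∈ Finset.univ.filter (fun χ : IrrCharacter G => χ ∈ B ∧
      blockHeight p B (χ : G → ℂ) = 0), redDeg p B χ ^ 2 := by
  classical
  haveI : Fact p.Prime := ⟨hM.1⟩
  obtain ⟨t, -, ht⟩ := exists_sum_degree_sq hM hB
  obtain ⟨χ₀, hχ₀, he⟩ := exists_minDeg (p := p) (isPBlock_nonempty hB)
  have hma : minDeg p B ≤ (Nat.card G).factorization p := he ▸ degVal_le_card (p := p) χ₀
  have hd : blockDefect p B = (Nat.card G).factorization p - minDeg p B := rfl
  obtain ⟨M', hM'⟩ : p ^ (Nat.card G).factorization p ∣ Nat.card G := Nat.ordProj_dvd _ _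
  have hall : p ^ j ∣ ∑ χ ∈ Finset.univ.filter (fun χ : IrrCharacter G => χ ∈ B),
      redDeg p B χ ^ 2 := by
    refine NormalDefectCount.pow_dvd_of_eq_mul hM (z := (p : ℂ) ^ (blockDefect p B - j) * ((M' : ℂ) * t))
      (mul_mem (pow_mem (natCast_mem _ p) _) (mul_mem (natCast_mem _ M') t.2)) ?_
    have hp0 : (p : ℂ) ≠ 0 := Nat.cast_ne_zero.mpr hM.1.ne_zero
    refine mul_left_cancel₀ (pow_ne_zero (2 * minDeg p B) hp0) ?_
    rw [Finset.sum_congr rfl (g := fun χ : IrrCharacter G => (p ^ minDeg p B * redDeg p B χ) ^ 2)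
      (fun χ hχ => by rw [pow_minDeg_mul_redDeg hM (Finset.mem_filter.mp hχ).2])] at ht
    simp only [mul_pow, ← Finset.mul_sum] at ht
    rw [hM'] at ht
    push_cast at ht ⊢
    rw [← pow_mul, mul_comm _ 2] at ht
    rw [ht]
    have hexp : (Nat.card G).factorization p + minDeg p B =
        2 * minDeg p B + j + (blockDefect p B - j) := by omega
    linear_combination (M' : ℂ) * (t : ℂ) *
      (by rw [← pow_add, hexp, pow_add, pow_add, mul_assoc] :
        (p : ℂ) ^ (Nat.card G).factorization p * (p : ℂ) ^ minDeg p B =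
          (p : ℂ) ^ (2 * minDeg p B) * ((p : ℂ) ^ j * (p : ℂ) ^ (blockDefect p B - j)))
  rw [← Finset.sum_filter_add_sum_filter_not _ (fun χ : IrrCharacter G =>
    blockHeight p B (χ : G → ℂ) = 0), Finset.filter_filter] at hall
  refine (Nat.dvd_add_left (Finset.dvd_sum fun χ hχ => ?_)).mp hall
  obtain ⟨h1, h2⟩ := Finset.mem_filter.mp hχ
  exact (pow_dvd_pow p hj).trans (pow_dvd_pow_of_dvd (dvd_redDeg hM (Finset.mem_filter.mp h1).2 h2) 2)

theorem two_le_blockDefect_or (hM : IsPModular p M) {B : Set (IrrCharacter G)} (hB : IsPBlock M B)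
    {D : Subgroup G} (hD : IsDefectGroup p M B D) (hD1 : D ≠ ⊥) :
    1 ≤ blockDefect p B ∧ (IsPGroup p (MulAut D) → p ≠ 2 → 2 ≤ blockDefect p B) := by
  haveI : Fact p.Prime := ⟨hM.1⟩
  have hc := defectGroup_card hM hB hD
  have h1 : 1 ≤ blockDefect p B := by
    by_contra h
    rw [show blockDefect p B = 0 by omega, pow_zero] at hc
    exact hD1 (Subgroup.eq_bot_of_card_eq D hc)
  refine ⟨h1, fun hA h2 => ?_⟩
  by_contra h
  rw [show blockDefect p B = 1 by omega, pow_one] at hc
  haveI : IsCyclic D := isCyclic_of_prime_card hc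
  haveI : Finite (MulAut D) := Finite.of_injective _ DFunLike.coe_injective
  obtain ⟨n, hn⟩ := IsPGroup.iff_card.1 hA
  rw [IsCyclic.card_mulAut D, hc, Nat.totient_prime hM.1] at hn
  have := hM.1.two_le
  rcases Nat.eq_zero_or_pos n with rfl | hn0
  · rw [pow_zero] at hn; omega
  · have := dvd_pow_self p hn0.ne'
    rw [← hn] at this
    have := Nat.le_of_dvd (by omega) this
    omega

/-- For `p ≥ 5` some proper subgroup of `D` divides the counts of each degree of height zero. -/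
theorem exists_index_dvd_card_degree (hM : IsPModular p M) {B : Set (IrrCharacter G)}
    (hB : IsPBlock M B) {D : Subgroup G} (hD : IsDefectGroup p M B D) (hD1 : D ≠ ⊥)
    (hAut : IsPGroup p (MulAut D)) (hp : 5 ≤ p) : ∃ k : ℕ, 1 ≤ k ∧ ∀ Q : ℕ → Prop,
      (∀ χ ∈ B, Q (charDegree (χ : G → ℂ)) → blockHeight p B (χ : G → ℂ) = 0) →
      p ^ k ∣ Nat.card {χ : IrrCharacter G // χ ∈ B ∧ Q (charDegree (χ : G → ℂ))} := by
  haveI : Fact p.Prime := ⟨hM.1⟩
  obtain ⟨e, hmax⟩ := exists_maximalPair_at hM hB hD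
  set F := blockFusion hM hmax.1.1 with hFdef
  have hF := isBlockFusionSystemOn_blockFusion hM hmax
  have hne := CfsgLib.Fusion.focalSubgroup_ne hp _ F rfl hmax.1.1.1 hD1
    (isSaturated_blockFusion hM hF) (hAut.to_subgroup _)
  obtain ⟨k, -, hk⟩ := (Nat.dvd_prime_pow hM.1).mp
    (defectGroup_card hM hB hD ▸ Subgroup.index_dvd_card (F.focalSubgroup.subgroupOf D))
  refine ⟨k, Nat.pos_of_ne_zero fun h0 => hne ?_, fun Q hQ => ?_⟩
  · rw [h0, pow_zero, Subgroup.index_eq_one, Subgroup.subgroupOf_eq_top] at hk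
    exact le_antisymm CfsgLib.Fusion.focal_le_S hk
  · rw [← hk, ← Subgroup.relIndex_top_right]
    exact relIndex_dvd_card_degree hM hmax (F.focalSubgroup.subgroupOf D) (commutator_mem_focal F)
      (fun y z h => fusClass_focal hM hmax hF h) ⊤ Q
      (fun χ hχ hq y _ => exists_secPart_ne_zero_of_height_zero hM hmax hχ (hQ χ hχ hq) y)

theorem multiset_card_bounds [Fact p.Prime] (hp : 3 < p) {m : Multiset (ZMod p)} (h0 : m ≠ 0)
    (hne : ∀ a ∈ m, a ≠ 0) (hs : (m.map (· ^ 2)).sum = 0) :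
    2 ≤ m.card ∧ (p % 4 = 3 → 3 ≤ m.card) := by
  have hpos := Multiset.card_pos.mpr h0
  have h1 : m.card ≠ 1 := fun h => by
    obtain ⟨a, rfl⟩ := Multiset.card_eq_one.mp h
    simp only [Multiset.map_singleton, Multiset.sum_singleton] at hs
    exact hne a (Multiset.mem_singleton_self a) (pow_eq_zero_iff two_ne_zero |>.mp hs)
  refine ⟨by omega, fun h4 => ?_⟩
  by_contra h
  obtain ⟨a, b, rfl⟩ := Multiset.card_eq_two.mp (show m.card = 2 by omega)
  simp only [Multiset.insert_eq_cons, Multiset.map_cons, Multiset.map_singleton, Multiset.sum_cons,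
    Multiset.sum_singleton] at hs
  exact ZMod.mod_four_ne_three_of_sq_eq_neg_sq' (hne b (by simp)) (eq_neg_of_add_eq_zero_left hs) h4

/-- The count of height zero characters. -/
theorem height_zero_count (hM : IsPModular p M) {B : Set (IrrCharacter G)} (hB : IsPBlock M B)
    {D : Subgroup G} (hD : IsDefectGroup p M B D) (hD1 : D ≠ ⊥) (hAut : IsPGroup p (MulAut D)) :
    let k₀ := Nat.card {χ : IrrCharacter G // χ ∈ B ∧ blockHeight p B (χ : G → ℂ) = 0}
    p ∣ k₀ ∧ (3 < p → 2 * p ≤ k₀) ∧ (3 < p → p % 4 = 3 → 3 * p ≤ k₀) := by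
  classical
  intro k₀
  haveI : Fact p.Prime := ⟨hM.1⟩
  obtain ⟨hd1, hd2⟩ := two_le_blockDefect_or hM hB hD hD1
  set H := Finset.univ.filter (fun χ : IrrCharacter G => χ ∈ B ∧ blockHeight p B (χ : G → ℂ) = 0)
    with hH
  have hk₀ : k₀ = H.card := by
    show Nat.card _ = _
    rw [Nat.card_eq_fintype_card, Fintype.card_subtype, hH]
  have hp2 := hM.1.two_le
  by_cases hp3 : p ≤ 3
  · refine ⟨?_, fun h => absurd h (by omega), fun h => absurd h (by omega)⟩
    rw [hk₀, ← CharP.cast_eq_zero_iff (ZMod p) p]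
    have h := (CharP.cast_eq_zero_iff (ZMod p) p _).mpr
      (pow_one p ▸ pow_dvd_sum_redDeg_sq hM hB (j := 1) (by norm_num) hd1)
    push_cast at h
    rw [Finset.sum_congr rfl (g := fun _ => (1 : ZMod p)) fun χ hχ => ?_] at h
    · simpa [hH] using h
    · obtain ⟨h1, h2⟩ := (Finset.mem_filter.mp hχ).2
      have hr : (redDeg p B χ : ZMod p) ≠ 0 := fun hz =>
        not_dvd_redDeg hM h1 h2 ((CharP.cast_eq_zero_iff (ZMod p) p _).mp hz)
      have := ZMod.pow_card_sub_one_eq_one hr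
      interval_cases p
      · rw [pow_one] at this; rw [this, one_pow]
      · exact this
  have hp5 : 5 ≤ p := by
    rcases Nat.lt_or_ge p 5 with h | h
    · exact absurd (show p = 4 by omega ▸ hM.1) (by norm_num)
    · exact h
  obtain ⟨k, hk1, hk⟩ := exists_index_dvd_card_degree hM hB hD hD1 hAut hp5
  have hall : p ^ k ∣ k₀ := hk (fun n => n.factorization p -
    sInf ((fun ψ : IrrCharacter G => (charDegree (ψ : G → ℂ)).factorization p) '' B) = 0)
    fun χ _ h => h
  obtain ⟨χ₀, hχ₀, hχ₀0⟩ := exists_height_zero hM hB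
  have hkpos : 0 < k₀ := hk₀ ▸ Finset.card_pos.mpr ⟨χ₀, by simp [hH, hχ₀, hχ₀0]⟩
  refine ⟨(dvd_pow_self p (by omega)).trans hall, ?_⟩
  suffices hgoal : 2 * p ≤ k₀ ∧ (p % 4 = 3 → 3 * p ≤ k₀) from ⟨fun _ => hgoal.1, fun _ => hgoal.2⟩
  rcases Nat.lt_or_ge 1 k with hk2 | hk2
  · have := Nat.le_of_dvd hkpos ((pow_dvd_pow p (show 2 ≤ k from hk2)).trans hall)
    constructor <;> [nlinarith; (intro; nlinarith)]
  obtain rfl : k = 1 := le_antisymm hk2 hk1
  -- the multiplicity of every degree is a multiple of `p`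
  set N := H.image (redDeg p B) with hN
  have hdvd : ∀ n ∈ N, p ∣ (H.filter (fun χ => redDeg p B χ = n)).card := by
    intro n hn
    obtain ⟨χ₁, hχ₁, rfl⟩ := Finset.mem_image.mp hn
    obtain ⟨h1, h2⟩ := (Finset.mem_filter.mp hχ₁).2
    have hQ : ∀ χ ∈ B, charDegree (χ : G → ℂ) = charDegree (χ₁ : G → ℂ) →
        blockHeight p B (χ : G → ℂ) = 0 := fun χ _ h => by
      rw [← h2]; simp only [blockHeight, h]
    have := hk (fun n => n = charDegree (χ₁ : G → ℂ)) hQ
    rw [pow_one, Nat.card_eq_fintype_card, Fintype.card_subtype] at this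
    refine dvd_trans this (dvd_of_eq (congrArg Finset.card ?_))
    ext χ
    simp only [Finset.mem_filter, Finset.mem_univ, true_and, hH]
    constructor
    · rintro ⟨hχ, he⟩
      exact ⟨⟨hχ, hQ χ hχ he⟩, by rw [redDeg, he, redDeg]⟩
    · rintro ⟨⟨hχ, -⟩, he⟩
      exact ⟨hχ, by rw [← pow_minDeg_mul_redDeg hM hχ, he, pow_minDeg_mul_redDeg hM h1]⟩
  set s : ℕ → ℕ := fun n => (H.filter (fun χ => redDeg p B χ = n)).card / p
  have hps : ∀ n ∈ N, (H.filter (fun χ => redDeg p B χ = n)).card = p * s n :=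
    fun n hn => (Nat.mul_div_cancel' (hdvd n hn)).symm
  set m : Multiset (ZMod p) := ∑ n ∈ N, Multiset.replicate (s n) (n : ZMod p) with hm
  have hcard : k₀ = p * m.card := by
    rw [hk₀, hm, Multiset.card_sum, Finset.mul_sum, Finset.card_eq_sum_card_image (redDeg p B) H]
    exact Finset.sum_congr rfl fun n hn => by rw [Multiset.card_replicate, hps n hn]
  have hsum : p ∣ ∑ n ∈ N, s n * n ^ 2 := by
    have h := pow_dvd_sum_redDeg_sq hM hB (j := 2) le_rfl (hd2 hAut (by omega))
    rw [← hH, Finset.sum_comp (fun n : ℕ => n ^ 2) (redDeg p B), Finset.sum_congr rfl (g := fun n => p * (s n * n ^ 2))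
        (fun n hn => by rw [smul_eq_mul, hps n hn, mul_assoc]), ← Finset.mul_sum, pow_two] at h
    exact (Nat.mul_dvd_mul_iff_left hM.1.pos).mp h
  obtain ⟨h2, h3⟩ := multiset_card_bounds (p := p) (m := m) (by omega)
    (fun h => by rw [h, Multiset.card_zero, mul_zero] at hcard; omega)
    (fun a ha => by
      obtain ⟨n, hn, han⟩ := Multiset.mem_sum.mp ha
      rw [Multiset.eq_of_mem_replicate han]
      obtain ⟨χ, hχ, rfl⟩ := Finset.mem_image.mp hn
      obtain ⟨h1, h2⟩ := (Finset.mem_filter.mp hχ).2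
      exact fun hz => not_dvd_redDeg hM h1 h2 ((CharP.cast_eq_zero_iff (ZMod p) p _).mp hz))
    (by
      rw [← (CharP.cast_eq_zero_iff (ZMod p) p _).mpr hsum, hm]
      push_cast
      rw [← Multiset.coe_mapAddMonoidHom, map_sum, ← Multiset.coe_sumAddMonoidHom, map_sum]
      refine Finset.sum_congr rfl fun n _ => ?_
      simp [Multiset.map_replicate])
  refine ⟨by rw [hcard, mul_comm p]; exact Nat.mul_le_mul_right p h2, fun h4 => ?_⟩
  rw [hcard, mul_comm p]
  exact Nat.mul_le_mul_right p (h3 h4)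

end CfsgLib.Block
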