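import Cfsg.Agent.Lib.Block.CentralQuot

/-!
# Blocks modulo a normal `p`-subgroup whose centralizer contains the regular elements

For a normal `p`-subgroup `P` with `|A : C(P)|` a power of `p` the projection is a bijection of the
`p`-regular elements, so the blocks of `A / P` correspond to those of `A`, with the same rank.
-/

open Finset
open scoped ComplexConjugate

set_option linter.unusedSectionVars false

namespace CfsgLib.Block.NormalPQuot

open Cfsg CfsgLib.Block.Cyclic

universe u

variable {p : ℕ} [Fact p.Prime] {M : Ideal AlgInt} [M.IsMaximal] {A : Type u} [Group A] [Fintype A]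
  [DecidableEq A] {P : Subgroup A} [P.Normal]

/-- The regular elements centralize `P`. -/
def RegCentral (p : ℕ) (P : Subgroup A) : Prop :=
  ∀ y : A, ¬ p ∣ orderOf y → y ∈ Subgroup.centralizer (P : Set A)

theorem regCentral_of_index {k : ℕ} (hk : (Subgroup.centralizer (P : Set A)).index = p ^ k) :
    RegCentral p P := by
  intro y hy
  have hn : (Subgroup.centralizer (P : Set A)).Normal := Subgroup.normal_centralizer
  have h1 : orderOf (QuotientGroup.mk' (Subgroup.centralizer (P : Set A)) y) ∣ p ^ k := by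
    rw [← hk, Subgroup.index_eq_card]
    exact orderOf_dvd_natCard _
  have hp : p.Prime := Fact.out
  obtain ⟨j, -, hj⟩ := (Nat.dvd_prime_pow hp).mp h1
  rcases Nat.eq_zero_or_pos j with rfl | hj0
  · rw [pow_zero, orderOf_eq_one_iff] at hj
    exact (QuotientGroup.eq_one_iff y).mp hj
  · exact absurd ((hj ▸ dvd_pow_self p hj0.ne').trans (orderOf_map_dvd _ y)) hy

theorem regular_inj (hP : IsPGroup p P) (hC : RegCentral p P) {y z : A}
    (hy : ¬ p ∣ orderOf y) (hz : ¬ p ∣ orderOf z) (h : (y : A ⧸ P) = z) : y = z := by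
  have hp : p.Prime := Fact.out
  have hmem : y⁻¹ * z ∈ P := QuotientGroup.eq.mp h
  obtain ⟨k, hk⟩ := hP ⟨_, hmem⟩
  have hk' : (y⁻¹ * z) ^ p ^ k = 1 := congrArg Subtype.val hk
  obtain ⟨j, -, hj⟩ := (Nat.dvd_prime_pow hp).mp (orderOf_dvd_of_pow_eq_one hk')
  have hc : Commute (y⁻¹ * z) y := Subgroup.mem_centralizer_iff.mp (hC y hy) _ hmem
  have e : IsPPart p z (y⁻¹ * z) := ⟨y, by rw [hc.eq, mul_inv_cancel_left], hc, ⟨j, hj⟩, hy⟩
  exact inv_mul_eq_one.mp (isPPart_unique hp e (isPPart_one_of_not_dvd hz))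

theorem sum_regular [Fintype (A ⧸ P)] (hP : IsPGroup p P) (hC : RegCentral p P) {β : Type*}
    [AddCommMonoid β] (F : A ⧸ P → β) :
    ∑ y ∈ Finset.univ.filter (fun y : A => ¬ p ∣ orderOf y), F y =
      ∑ q ∈ Finset.univ.filter (fun q : A ⧸ P => ¬ p ∣ orderOf q), F q := by
  refine Finset.sum_bij (fun y _ => (y : A ⧸ P)) (fun y hy => ?_) (fun a ha b hb h => ?_)
    (fun q hq => ?_) (fun _ _ => rfl)
  · exact Finset.mem_filter.mpr ⟨Finset.mem_univ _, orderOf_mk_regular (Finset.mem_filter.mp hy).2⟩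
  · exact regular_inj hP hC (Finset.mem_filter.mp ha).2 (Finset.mem_filter.mp hb).2 h
  · obtain ⟨y, hy, hyq⟩ := exists_regular_lift hP (Finset.mem_filter.mp hq).2
    exact ⟨y, Finset.mem_filter.mpr ⟨Finset.mem_univ _, hy⟩, hyq⟩

theorem centralizer_comap (hP : IsPGroup p P) (hC : RegCentral p P) {y : A}
    (hy : ¬ p ∣ orderOf y) :
    (Subgroup.centralizer ({(y : A ⧸ P)} : Set (A ⧸ P))).comap (QuotientGroup.mk' P) =
      Subgroup.centralizer ({y} : Set A) := by
  ext g
  rw [Subgroup.mem_comap, Subgroup.mem_centralizer_singleton_iff, Subgroup.mem_centralizer_singleton_iff]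
  constructor
  · intro h
    have e : ((g * y * g⁻¹ : A) : A ⧸ P) = (y : A ⧸ P) := by
      rw [QuotientGroup.mk_mul, QuotientGroup.mk_mul, QuotientGroup.mk_inv, mul_inv_eq_iff_eq_mul]
      exact h
    exact mul_inv_eq_iff_eq_mul.mp (regular_inj hP hC (by rwa [orderOf_conj_eq]) hy e)
  · intro h
    exact congrArg (QuotientGroup.mk' P) h |>.trans (by rfl)

variable [Fintype (A ⧸ P)] [DecidableEq (A ⧸ P)]

theorem centralRes_inflQ (hP : IsPGroup p P) (hC : RegCentral p P) (θ : IrrCharacter (A ⧸ P))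
    {y : A} (hy : ¬ p ∣ orderOf y) :
    centralRes M (inflQ θ) y = centralRes M θ (y : A ⧸ P) := by
  refine congrArg (res M) (Subtype.ext ?_)
  simp only [centralChar]
  rw [← centralizer_comap hP hC hy,
    Subgroup.index_comap_of_surjective _ (QuotientGroup.mk'_surjective P)]
  rfl

theorem sameBlock_inflQ_iff (hM : IsPModular p M) (hP : IsPGroup p P) (hC : RegCentral p P)
    (θ θ' : IrrCharacter (A ⧸ P)) :
    SameBlock M (inflQ θ : A → ℂ) (inflQ θ' : A → ℂ) ↔
      SameBlock M (θ : A ⧸ P → ℂ) (θ' : A ⧸ P → ℂ) := by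
  constructor
  · intro h
    refine sameBlock_of_regular hM fun q hq => ?_
    obtain ⟨y, hy, rfl⟩ := exists_regular_lift hP hq
    rw [← centralRes_inflQ hP hC θ hy, ← centralRes_inflQ hP hC θ' hy]
    exact sameBlock_iff_centralRes.mp h y
  · intro h
    refine sameBlock_of_regular hM fun y hy => ?_
    rw [centralRes_inflQ hP hC θ hy, centralRes_inflQ hP hC θ' hy]
    exact sameBlock_iff_centralRes.mp h _

variable (p P) in
/-- The regular part, pushed to the quotient. -/
noncomputable def push : (A → ℂ) →ₗ[ℂ] (A ⧸ P → ℂ) where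
  toFun f q := ∑ y ∈ Finset.univ.filter (fun y : A => ¬ p ∣ orderOf y ∧ (y : A ⧸ P) = q), f y
  map_add' f g := by funext q; simp [Finset.sum_add_distrib]
  map_smul' c f := by funext q; simp [Finset.mul_sum]

variable (p P) in
/-- The regular part, pulled back from the quotient. -/
noncomputable def pull : (A ⧸ P → ℂ) →ₗ[ℂ] (A → ℂ) where
  toFun f a := if p ∣ orderOf a then 0 else f a
  map_add' f g := by funext a; by_cases h : p ∣ orderOf a <;> simp [h]
  map_smul' c f := by funext a; by_cases h : p ∣ orderOf a <;> simp [h]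

theorem push_mk (hP : IsPGroup p P) (hC : RegCentral p P) (f : A → ℂ) {y : A}
    (hy : ¬ p ∣ orderOf y) : push p P f (y : A ⧸ P) = f y := by
  show ∑ z ∈ _, f z = f y
  rw [Finset.sum_eq_single y]
  · intro z hz hne
    obtain ⟨hz1, hz2⟩ := (Finset.mem_filter.mp hz).2
    exact absurd (regular_inj hP hC hz1 hy hz2) hne
  · exact fun h => absurd (Finset.mem_filter.mpr ⟨Finset.mem_univ _, hy, rfl⟩) h

theorem push_singular (f : A → ℂ) {q : A ⧸ P} (hq : p ∣ orderOf q) : push p P f q = 0 := by
  show ∑ z ∈ _, f z = 0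
  refine Finset.sum_eq_zero fun y hy => ?_
  obtain ⟨h1, rfl⟩ := (Finset.mem_filter.mp hy).2
  exact absurd hq (orderOf_mk_regular h1)

theorem isClassFunction_push (hP : IsPGroup p P) (hC : RegCentral p P) {f : A → ℂ}
    (hf : IsClassFunction A f) : IsClassFunction (A ⧸ P) (push p P f) := by
  intro q r
  by_cases hq : p ∣ orderOf q
  · rw [push_singular f hq, push_singular f (by rwa [orderOf_conj_eq])]
  · obtain ⟨y, hy, rfl⟩ := exists_regular_lift hP hq
    obtain ⟨w, rfl⟩ := QuotientGroup.mk_surjective r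
    rw [← QuotientGroup.mk_inv, ← QuotientGroup.mk_mul, ← QuotientGroup.mk_mul,
      push_mk hP hC f hy, push_mk hP hC f (by rwa [orderOf_conj_eq]), hf y w]

theorem classInner_push (hP : IsPGroup p P) (hC : RegCentral p P) (f : A → ℂ)
    (g : A ⧸ P → ℂ) :
    classInner (push p P f) g = (Nat.card P : ℂ) * classInner (regFun p f) (fun a : A => g a) := by
  have hA : (Nat.card A : ℂ) = (Nat.card (A ⧸ P) : ℂ) * (Nat.card P : ℂ) := by
    rw [Subgroup.card_eq_card_quotient_mul_card_subgroup P]; push_cast; rfl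
  have h1 : ∑ a : A, regFun p f a * conj (g a) = ∑ q : A ⧸ P, push p P f q * conj (g q) := by
    rw [← Finset.sum_subset (Finset.filter_subset (fun q : A ⧸ P => ¬ p ∣ orderOf q) Finset.univ)
      (fun q _ hq => by
        rw [Finset.mem_filter, not_and, not_not] at hq
        rw [push_singular f (hq (Finset.mem_univ _)), zero_mul]),
      ← sum_regular hP hC (fun q => push p P f q * conj (g q)), Finset.sum_filter]
    refine Finset.sum_congr rfl fun a _ => ?_
    by_cases ha : p ∣ orderOf a
    · simp [regFun, ha]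
    · simp [regFun, ha, push_mk hP hC f ha]
  simp only [classInner, h1, hA, mul_inv]
  have hp0 : (Nat.card P : ℂ) ≠ 0 := Nat.cast_ne_zero.mpr Nat.card_pos.ne'
  field_simp

open scoped Classical in
/-- The regular part of a member is combined from the inflations in its block. -/
theorem push_eq_sum [Fintype (IrrCharacter (A ⧸ P))] (hM : IsPModular p M) (hP : IsPGroup p P)
    (hC : RegCentral p P) {B : Set (IrrCharacter A)} (hB : IsPBlock M B) {χ : IrrCharacter A}
    (hχ : χ ∈ B) :
    push p P (χ : A → ℂ) = ∑ θ ∈ Finset.univ.filter (· ∈ quotSet P B),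
      classInner (push p P (χ : A → ℂ)) (θ : A ⧸ P → ℂ) • (θ : A ⧸ P → ℂ) := by
  have := Fintype.ofFinite (IrrCharacter A)
  funext q
  rw [Finset.sum_apply]
  conv_lhs => rw [Char.classFun_expand (isClassFunction_push hP hC (Char.isClassFunction_irr χ))]
  rw [Finset.sum_apply]
  refine (Finset.sum_subset (Finset.subset_univ _) fun θ _ hθ => ?_).symm
  have hnot : inflQ θ ∉ B := fun h => hθ (Finset.mem_filter.mpr ⟨Finset.mem_univ _, h⟩)
  have h0 : classInner (push p P (χ : A → ℂ)) (θ : A ⧸ P → ℂ) = 0 := by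
    rw [classInner_push hP hC]
    have h := regInner_eq_zero_of_not_mem hM (.of_isPBlock hB) hχ hnot
    rw [regInner] at h
    rw [show (fun a : A => (θ : A ⧸ P → ℂ) a) = (inflQ θ : A → ℂ) from rfl, h, mul_zero]
  simp [h0]

/-- Every block contains a character trivial on `P`. -/
theorem quotSet_nonempty (hM : IsPModular p M) (hP : IsPGroup p P) (hC : RegCentral p P)
    {B : Set (IrrCharacter A)} (hB : IsPBlock M B) : (quotSet P B).Nonempty := by
  classical
  have := Fintype.ofFinite (IrrCharacter (A ⧸ P))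
  obtain ⟨χ, hχ⟩ := isPBlock_nonempty hB
  by_contra hne
  rw [Set.not_nonempty_iff_eq_empty] at hne
  have h := congrFun (push_eq_sum hM hP hC hB hχ) ((1 : A) : A ⧸ P)
  have hreg : ¬ p ∣ orderOf (1 : A) := by
    rw [orderOf_one]
    exact (Fact.out : p.Prime).not_dvd_one
  rw [push_mk hP hC _ hreg, hne] at h
  simp at h
  exact Char.irr_one_ne_zero χ h

/-- A block of `A` and the block of `A / P` below it have the same rank. -/
theorem blockRank_quotSet (hM : IsPModular p M) (hP : IsPGroup p P) (hC : RegCentral p P)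
    {B : Set (IrrCharacter A)} (hB : IsPBlock M B) :
    blockRank p B = blockRank p (quotSet P B) := by
  classical
  have := Fintype.ofFinite (IrrCharacter (A ⧸ P))
  have := Fintype.ofFinite (IrrCharacter A)
  have := Fintype.ofFinite (ConjClasses A)
  have := Fintype.ofFinite (ConjClasses (A ⧸ P))
  have hreg : ∀ f : A ⧸ P → ℂ, ∀ q : A ⧸ P,
      push p P (pull p P f) q = if p ∣ orderOf q then 0 else f q := by
    intro f q
    by_cases hq : p ∣ orderOf q
    · rw [push_singular _ hq, if_pos hq]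
    · obtain ⟨y, hy, rfl⟩ := exists_regular_lift hP hq
      rw [push_mk hP hC _ hy, if_neg hq]
      show (if p ∣ orderOf y then 0 else f y) = _
      rw [if_neg hy]
  rw [blockRank, blockRank]
  apply le_antisymm
  · refine le_trans (Submodule.finrank_mono ?_) (Submodule.finrank_map_le (pull p P) _)
    rw [Submodule.span_le]
    rintro _ ⟨χ, hχ, rfl⟩
    have e : pull p P (push p P (χ : A → ℂ)) = pRegularPart p (χ : A → ℂ) := by
      rw [pRegularPart_eq_regFun]
      funext a
      show (if p ∣ orderOf a then (0 : ℂ) else push p P _ a) = _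
      by_cases ha : p ∣ orderOf a
      · simp [ha, regFun]
      · simp [ha, regFun, push_mk hP hC _ ha]
    show pRegularPart p (χ : A → ℂ) ∈ Submodule.map (pull p P) _
    rw [← e, push_eq_sum hM hP hC hB hχ, map_sum]
    refine Submodule.sum_mem _ fun θ hθ => ?_
    rw [map_smul]
    refine Submodule.smul_mem _ _ ⟨pRegularPart p (θ : A ⧸ P → ℂ), Submodule.subset_span
      ⟨θ, (Finset.mem_filter.mp hθ).2, rfl⟩, ?_⟩
    rw [pRegularPart_eq_regFun]
    funext a
    show (if p ∣ orderOf a then (0 : ℂ) else regFun p _ (a : A ⧸ P)) = if p ∣ orderOf a then 0 else _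
    by_cases ha : p ∣ orderOf a
    · rw [if_pos ha, if_pos ha]
    · rw [if_neg ha, if_neg ha, regFun, if_neg (orderOf_mk_regular ha)]
  · refine le_trans (Submodule.finrank_mono ?_) (Submodule.finrank_map_le (push p P) _)
    rw [Submodule.span_le]
    rintro _ ⟨θ, hθ, rfl⟩
    refine ⟨pRegularPart p (inflQ θ : A → ℂ), Submodule.subset_span ⟨inflQ θ, hθ, rfl⟩, ?_⟩
    funext q
    show _ = pRegularPart p (θ : A ⧸ P → ℂ) q
    have e : pRegularPart p (inflQ θ : A → ℂ) = pull p P (θ : A ⧸ P → ℂ) := by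
      rw [pRegularPart_eq_regFun]
      rfl
    rw [e, hreg, pRegularPart_eq_regFun]
    rfl

end CfsgLib.Block.NormalPQuot
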