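import Cfsg.Agent.Lib.Block.SecondMain
import Cfsg.Agent.Lib.Block.Cartan
import Cfsg.Agent.Lib.Char.Induction

/-!
# Degrees of block parts of induced characters
-/

open Finset
open scoped ComplexConjugate

set_option linter.unusedSectionVars false

namespace CfsgLib.Block

open Cfsg

universe u

variable {G : Type u} [Group G] [Fintype G] [DecidableEq G] {p : ℕ} {M : Ideal AlgInt}
  [M.IsMaximal] {H : Subgroup G} [Fintype H]

theorem blockPart_indFun_one (hM : IsPModular p M) {B : Set (IrrCharacter G)} (hB : IsPBlock M B)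
    (ξ : IrrCharacter H) :
    blockPart B (indFun H (ξ : H → ℂ)) 1 = indFun H (ξ : H → ℂ) 1 *
      (omegaLoc M ξ (resHL M H (blockIdem M B)) : ℂ) := by
  classical
  rw [blockPart_eq_sum B (Char.isClassFunction_indFun H _) 1]
  simp only [mul_one]
  have h1 : ∀ x : G, ∑ t : G, blockCoeff B t * extendByZero H (ξ : H → ℂ) (x⁻¹ * t * x) =
      ∑ h : H, (ξ : H → ℂ) h * blockCoeff B (h : G) := fun x => by
    rw [← Char.sum_extendByZero_mul H (ξ : H → ℂ) (fun t => blockCoeff B t)]
    refine Fintype.sum_equiv (MulAut.conj x⁻¹).toEquiv _ _ fun t => ?_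
    simp only [MulEquiv.toEquiv_eq_coe, EquivLike.coe_coe, MulAut.conj_apply, inv_inv]
    rw [mul_comm, show blockCoeff B (x⁻¹ * t * x) = blockCoeff B t by
      simpa using blockCoeff_conj B t x⁻¹]
  have h2 : ∑ t : G, blockCoeff B t * indFun H (ξ : H → ℂ) t =
      (Nat.card G : ℂ) / (Nat.card H : ℂ) * ∑ h : H, (ξ : H → ℂ) h * blockCoeff B (h : G) := by
    simp only [indFun, Finset.mul_sum]
    rw [Finset.sum_comm]
    simp only [mul_left_comm (blockCoeff B _), ← Finset.mul_sum, h1, Finset.sum_const,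
      Finset.card_univ, nsmul_eq_mul, ← Nat.card_eq_fintype_card]
    ring
  rw [h2, coe_omegaLoc, omega, Char.indFun_one]
  have hi : (Nat.card G : ℂ) = (Nat.card H : ℂ) * (H.index : ℂ) := by
    exact_mod_cast (Subgroup.card_mul_index H).symm
  have hH : (Nat.card H : ℂ) ≠ 0 := Nat.cast_ne_zero.mpr Nat.card_pos.ne'
  have hξ := Char.irr_one_ne_zero ξ
  simp only [resHL, coeff_toC, coeff_resTo, coe_coeff_blockIdem hM (.of_isPBlock hB)]
  rw [hi]
  simp only [mul_comm (blockCoeff B _)]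
  field_simp

theorem exists_nat_blockPart_one (hM : IsPModular p M) {B : Set (IrrCharacter G)}
    {f : G → ℂ} (hf : IsCharacter G f) : ∃ n : ℕ, blockPart B f 1 = (n : ℂ) := by
  classical
  have := Fintype.ofFinite (IrrCharacter G)
  choose m hm using fun χ : IrrCharacter G => Char.classInner_char_irr_nat hf χ
  refine ⟨∑ χ ∈ Finset.univ.filter (· ∈ B), m χ * charDegree (χ : G → ℂ), ?_⟩
  rw [blockPart, finsum_mem_eq_toFinset_sum]
  push_cast
  refine Finset.sum_congr (by ext; simp) fun χ _ => ?_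
  rw [← hm χ, ← (charDegree_eq χ).1]
  congr 1
  convert rfl

/-- A natural number equal to another times an element of the local ring. -/
theorem factorization_of_eq_mul (hM : IsPModular p M) {n d : ℕ} (hd : d ≠ 0) {u : locRing M}
    (h : (n : ℂ) = d * (u : ℂ)) :
    (res M u ≠ 0 → n ≠ 0 ∧ n.factorization p = d.factorization p) ∧
      (res M u = 0 → n = 0 ∨ d.factorization p < n.factorization p) := by
  classical
  have hd0 : (d : ℂ) ≠ 0 := Nat.cast_ne_zero.mpr hd
  have hu : (u : ℂ) = (n : ℂ) / d := by rw [h, mul_div_cancel_left₀ _ hd0]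
  have hlt : n ≠ 0 → ¬ n.factorization p < d.factorization p := fun hn hlt => by
    have h1 := div_mul_mem_ideal hM hd hn hlt (SetLike.coe_mem u)
    rw [hu, div_mul_div_comm, mul_comm (n : ℂ) (d : ℂ),
      div_self (mul_ne_zero hd0 (Nat.cast_ne_zero.mpr hn)), ← OneMemClass.coe_one (locRing M),
      memLocalIdeal_coe, map_one] at h1
    exact one_ne_zero h1
  refine ⟨fun hne => ?_, fun h0 => ?_⟩
  · have hn : n ≠ 0 := fun hn => hne (by
      have : u = 0 := Subtype.ext (by rw [hu, hn, Nat.cast_zero, zero_div]; rfl)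
      rw [this, map_zero])
    refine ⟨hn, le_antisymm (not_lt.mp fun hlt' => hne ?_) (not_lt.mp (hlt hn))⟩
    have h1 := div_mul_mem_ideal hM hn hd hlt' (one_mem (locRing M))
    rwa [mul_one, ← hu, memLocalIdeal_coe] at h1
  · by_contra hcon
    push Not at hcon
    obtain ⟨hn, hle⟩ := hcon
    have he : n.factorization p = d.factorization p := le_antisymm hle (not_lt.mp (hlt hn))
    have hnd : ¬ p ∣ ordCompl[p] d := Nat.not_dvd_ordCompl hM.1 hd
    have key : ((ordCompl[p] n : ℕ) : locRing M) = ((ordCompl[p] d : ℕ) : locRing M) * u := by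
      apply Subtype.ext
      simp only [MulMemClass.coe_mul, SubringClass.coe_natCast]
      have hn' : (n : ℂ) = (p : ℂ) ^ n.factorization p * (ordCompl[p] n : ℕ) := by
        exact_mod_cast (Nat.ordProj_mul_ordCompl_eq_self n p).symm
      have hd' : (d : ℂ) = (p : ℂ) ^ d.factorization p * (ordCompl[p] d : ℕ) := by
        exact_mod_cast (Nat.ordProj_mul_ordCompl_eq_self d p).symm
      generalize ordCompl[p] n = n' at hn' ⊢
      generalize ordCompl[p] d = d' at hd' ⊢
      rw [hn', hd', he, mul_assoc] at h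
      exact mul_left_cancel₀ (pow_ne_zero _ (Nat.cast_ne_zero.mpr hM.1.ne_zero)) h
    have h2 := congrArg (res M) key
    rw [map_mul, h0, mul_zero, map_natCast] at h2
    have := charP_resField hM
    exact Nat.not_dvd_ordCompl hM.1 hn ((CharP.cast_eq_zero_iff _ p _).mp h2)

theorem res_omegaLoc_resHL (hM : IsPModular p M) {b : Set (IrrCharacter H)}
    {B₀ B : Set (IrrCharacter G)} (hind : IsInducedBlock M H b B₀) (hB : IsPBlock M B)
    {ξ : IrrCharacter H} (hξ : ξ ∈ b) :
    res M (omegaLoc M ξ (resHL M H (blockIdem M B))) =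
      @ite _ (B = B₀) (Classical.propDecidable _) 1 0 := by
  classical
  obtain ⟨-, hB₀, hω⟩ := isInducedBlock_iff.mp hind
  obtain ⟨χ, hχ⟩ := isPBlock_nonempty hB₀
  have h1 := hω ξ hξ χ hχ (blockBar M B)
  rw [omegaBar_blockBar hM (.of_isPBlock hB), blockBar, resHK_toKC, omegaBar_toKC, omegaRes,
    RingHom.comp_apply] at h1
  rw [h1]
  by_cases h : B = B₀
  · rw [if_pos h, if_pos (h.symm ▸ hχ)]
  · rw [if_neg h, if_neg fun hm => h (isPBlock_eq_of_mem hB hB₀ hm hχ)]

variable (p M) in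
/-- The sum of the values of a character at the inverses of the `p`-regular elements, in the
centre. -/
noncomputable def regValSum (χ : IrrCharacter G) : ZL M G :=
  ⟨gaOfFun fun g => if p ∣ orderOf g then 0 else irrLoc M χ g⁻¹,
    mem_center_iff_isClassElt.mpr fun g h => by
      simp only [coeff_gaOfFun, orderOf_conj_eq]
      split_ifs
      · rfl
      · refine Subtype.ext ?_
        simp only [coe_irrLoc, mul_inv_rev, inv_inv, ← mul_assoc, Char.isClassFunction_irr χ g⁻¹ h]⟩

theorem coe_omegaLoc_regValSum (χ χ₀ : IrrCharacter G) :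
    (omegaLoc M χ₀ (regValSum p M χ) : ℂ) * (χ₀ : G → ℂ) 1 =
      (Nat.card G : ℂ) * regInner p χ₀ χ := by
  classical
  rw [coe_omegaLoc, omega, div_mul_cancel₀ _ (Char.irr_one_ne_zero χ₀), card_mul_regInner,
    Finset.sum_filter]
  refine Finset.sum_congr rfl fun g _ => ?_
  by_cases hg : p ∣ orderOf g <;> simp [regValSum, hg, mul_comm]

theorem classInner_regPart_eq (hM : IsPModular p M) (χ : IrrCharacter G) (ψ : IrrCharacter H)
    (hm : ¬ p ∣ ordCompl[p] (Nat.card H)) :
    classInner (fun h : H => if p ∣ orderOf h then (0 : ℂ) else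
        ((p ^ (Nat.card H).factorization p : ℕ) : ℂ) * (χ : G → ℂ) h) (ψ : H → ℂ) / (ψ : H → ℂ) 1 =
      ((invNat hM hm * omegaLoc M ψ (resHL M H (regValSum p M χ)) : locRing M) : ℂ) := by
  classical
  rw [MulMemClass.coe_mul, coe_omegaLoc, omega, classInner]
  simp only [invNat, resHL, coeff_toC, coeff_resTo, regValSum, coeff_gaOfFun]
  have hsum : ∑ h : H, ((if p ∣ orderOf (h : G) then 0 else irrLoc M χ (h : G)⁻¹ : locRing M) : ℂ) *
      (ψ : H → ℂ) h = ∑ h : H, (if p ∣ orderOf h then (0 : ℂ) else (χ : G → ℂ) h) *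
        conj ((ψ : H → ℂ) h) := by
    refine Fintype.sum_equiv (Equiv.inv H) _ _ fun h => ?_
    simp only [Equiv.inv_apply, orderOf_inv, Subgroup.orderOf_coe, Subgroup.coe_inv, ← Char.irr_inv,
      inv_inv]
    split_ifs <;> simp
  rw [hsum]
  have hH : (Nat.card H : ℂ) = ((p ^ (Nat.card H).factorization p : ℕ) : ℂ) *
      (ordCompl[p] (Nat.card H) : ℕ) := by
    rw [← Nat.cast_mul, Nat.ordProj_mul_ordCompl_eq_self]
  have hP : ((p ^ (Nat.card H).factorization p : ℕ) : ℂ) ≠ 0 :=
    Nat.cast_ne_zero.mpr (pow_ne_zero _ hM.1.ne_zero)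
  have hm0 : ((ordCompl[p] (Nat.card H) : ℕ) : ℂ) ≠ 0 :=
    Nat.cast_ne_zero.mpr fun h => hm (h ▸ dvd_zero p)
  have hfun : ∀ h : H, (if p ∣ orderOf h then (0 : ℂ) else
      ((p ^ (Nat.card H).factorization p : ℕ) : ℂ) * (χ : G → ℂ) h) =
      ((p ^ (Nat.card H).factorization p : ℕ) : ℂ) * (if p ∣ orderOf h then 0 else (χ : G → ℂ) h) :=
    fun h => by split_ifs <;> simp
  rw [hH]
  simp only [hfun, mul_assoc ((p ^ (Nat.card H).factorization p : ℕ) : ℂ), ← Finset.mul_sum]
  generalize ((p ^ (Nat.card H).factorization p : ℕ) : ℂ) = P at hP ⊢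
  field_simp

theorem res_omegaLoc_regValSum (hM : IsPModular p M) {b : Set (IrrCharacter H)}
    {B₀ : Set (IrrCharacter G)} (hind : IsInducedBlock M H b B₀) (χ : IrrCharacter G)
    {ψ : IrrCharacter H} (hψ : ψ ∈ b) {χ₀ : IrrCharacter G} (hχ₀ : χ₀ ∈ B₀)
    [Fintype (ConjClasses G)] [Fintype (IrrCharacter G)] :
    res M (omegaLoc M ψ (resHL M H (regValSum p M χ))) = regN p M χ₀ χ := by
  classical
  have h1 := (isInducedBlock_iff.mp hind).2.2 ψ hψ χ₀ hχ₀ (toKC M (regValSum p M χ))
  rw [resHK_toKC, omegaBar_toKC, omegaBar_toKC, omegaRes, omegaRes, RingHom.comp_apply,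
    RingHom.comp_apply] at h1
  rw [h1]
  obtain ⟨R, hR, hRres⟩ := exists_regN_lift (p := p) (M := M) χ₀ χ
  rw [← hRres]
  refine congrArg (res M) (Subtype.ext (mul_right_cancel₀ (Char.irr_one_ne_zero χ₀) ?_))
  rw [coe_omegaLoc_regValSum, hR]

end CfsgLib.Block
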