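import Cfsg.Agent.S0925
import Cfsg.Agent.Lib.Block.CoprimeKernel
import Cfsg.Agent.Lib.Coprime.Core
import Cfsg.Agent.Lib.Char.ClassMul
import Cfsg.Agent.Lib.Char.Integrality

/-!
# Principal block sums against a 2-element not inverted by an involution
-/

set_option autoImplicit false
set_option linter.unusedSectionVars false

namespace CfsgLib.Block.InvolutionColumn

open scoped ComplexConjugate
open Cfsg CfsgLib.Char CfsgLib.Block

universe u

variable {G : Type u} [Group G] [Finite G]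

theorem conj_irr_of_sq {t : G} (ht : t * t = 1) (χ : IrrCharacter G) :
    conj ((χ : G → ℂ) t) = (χ : G → ℂ) t := by
  rw [← irr_inv, inv_eq_of_mul_eq_one_right ht]

/-- A `p`-part is a power. -/
theorem isPPart_pow {p : ℕ} (hp : p.Prime) {g w : G} (h : IsPPart p g w) : ∃ m : ℕ, w = g ^ m := by
  obtain ⟨y, rfl, hc, ⟨k, hk⟩, hy⟩ := h
  obtain ⟨m, hm1, hm0⟩ := Nat.chineseRemainder
    (show (orderOf w).Coprime (orderOf y) by
      rw [hk]; exact Nat.Coprime.pow_left k (hp.coprime_iff_not_dvd.mpr hy)) 1 0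
  refine ⟨m, ?_⟩
  rw [hc.mul_pow, orderOf_dvd_iff_pow_eq_one.mp (Nat.modEq_zero_iff_dvd.mp hm0), mul_one,
    pow_eq_pow_iff_modEq.mpr hm1, pow_one]

/-- No product of two conjugates of `t` has 2-part conjugate to `y`. -/
theorem classConst_eq_zero {t y z w : G} (ht : t * t = 1)
    (hy : ∀ g : G, g * t * g⁻¹ * y * (g * t * g⁻¹)⁻¹ ≠ y⁻¹) (hw : IsPPart 2 z w) (hconj : IsConj y w) :
    classConst t t z = 0 := by
  rw [classConst, Nat.card_eq_zero]
  refine Or.inl ⟨fun q => ?_⟩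
  obtain ⟨⟨a, b⟩, ha, hb, hab⟩ := q
  replace ha : IsConj t a := ha
  replace hb : IsConj t b := hb
  obtain ⟨g, hg⟩ := isConj_iff.mp ha
  obtain ⟨k, hk⟩ := isConj_iff.mp hb
  obtain ⟨c, hc⟩ := isConj_iff.mp hconj
  obtain ⟨m, hm⟩ := isPPart_pow Nat.prime_two hw
  have haa : a * a = 1 := by
    rw [← hg, show g * t * g⁻¹ * (g * t * g⁻¹) = g * (t * t) * g⁻¹ by group, ht]; group
  have hbb : b * b = 1 := by
    rw [← hk, show k * t * k⁻¹ * (k * t * k⁻¹) = k * (t * t) * k⁻¹ by group, ht]; group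
  have hz : a * z * a⁻¹ = z⁻¹ := by
    have hab' : a * b = z := hab
    rw [← hab', mul_inv_rev, inv_eq_of_mul_eq_one_right hbb, inv_eq_of_mul_eq_one_right haa,
      ← mul_assoc a a b, haa, one_mul]
  have hwa : a * w * a⁻¹ = w⁻¹ := by rw [hm, ← conj_pow, hz, inv_pow]
  refine hy (c⁻¹ * g) ?_
  have e : a * (c * y * c⁻¹) * a⁻¹ = (c * y * c⁻¹)⁻¹ := by rw [hc]; exact hwa
  rw [← hg] at e
  calc c⁻¹ * g * t * (c⁻¹ * g)⁻¹ * y * (c⁻¹ * g * t * (c⁻¹ * g)⁻¹)⁻¹
      = c⁻¹ * (g * t * g⁻¹ * (c * y * c⁻¹) * (g * t * g⁻¹)⁻¹) * c := by group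
    _ = y⁻¹ := by rw [e]; group

variable (M : Ideal AlgInt) (hM : IsPModular 2 M)

include hM

/-- The three column sums over a block. -/
theorem sums_eq_zero {B : Set (IrrCharacter G)} (hB : IsPBlock M B) {t y : G} (ht : orderOf t = 2)
    (hy2 : ∃ k, orderOf y = 2 ^ k) (hy : ∀ g : G, g * t * g⁻¹ * y * (g * t * g⁻¹)⁻¹ ≠ y⁻¹) :
    (∑ᶠ χ ∈ B, (χ : G → ℂ) y * ((χ : G → ℂ) t ^ 2 / (χ : G → ℂ) 1) = 0) ∧
    (∑ᶠ χ ∈ B, (χ : G → ℂ) y * (χ : G → ℂ) 1 = 0) ∧
    (∑ᶠ χ ∈ B, (χ : G → ℂ) y * (χ : G → ℂ) t = 0) := by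
  classical
  letI := Fintype.ofFinite G
  haveI := Fintype.ofFinite (IrrCharacter G)
  haveI := Fact.mk Nat.prime_two
  haveI := hM.2.1
  have htt : t * t = 1 := by rw [← sq, ← ht]; exact pow_orderOf_eq_one t
  have hy1 : y ≠ 1 := fun h => hy 1 (by rw [h]; simp)
  have hpy : IsPPart 2 y y := ⟨1, mul_one _, Commute.one_right _, hy2, by simp⟩
  have hp1 : IsPPart 2 (1 : G) 1 := ⟨1, mul_one _, Commute.one_right _, ⟨0, by simp⟩, by simp⟩
  have hpt : IsPPart 2 t t := ⟨1, mul_one _, Commute.one_right _, ⟨1, by simpa using ht⟩, by simp⟩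
  refine ⟨?_, ?_, ?_⟩
  · set ϑ : G → ℂ := ∑ χ : IrrCharacter G, ((χ : G → ℂ) t ^ 2 / (χ : G → ℂ) 1) • (χ : G → ℂ) with hϑ
    have hcf : IsClassFunction G ϑ := fun a b => by
      simp only [hϑ, Finset.sum_apply, Pi.smul_apply, isClassFunction_irr _ a b]
    have hvan : ∀ z w : G, IsPPart 2 z w → IsConj y w → ϑ z = 0 := by
      intro z w hw hc
      have h0 := classConst_formula t t z
      rw [classConst_eq_zero htt hy hw hc, Nat.cast_zero, finsum_eq_sum_of_fintype] at h0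
      have hne : ∀ x : G, (Nat.card {v : G // IsConj x v} : ℂ) ≠ 0 := fun x => by
        haveI : Nonempty {v : G // IsConj x v} := ⟨⟨x, IsConj.refl x⟩⟩
        exact_mod_cast Nat.card_pos.ne'
      have h1 := (mul_eq_zero.mp h0.symm).resolve_left
        (div_ne_zero (mul_ne_zero (hne t) (hne t)) (by exact_mod_cast Nat.card_pos.ne'))
      have h2 := congrArg conj h1
      rw [map_zero, map_sum] at h2
      rw [← h2, hϑ, Finset.sum_apply]
      refine Finset.sum_congr rfl fun χ _ => ?_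
      simp only [Pi.smul_apply, smul_eq_mul, map_div₀, map_mul, Complex.conj_conj, conj_irr_one,
        conj_irr_of_sq htt]
      ring
    have h := (Cfsg.Agent.S0925.result 2 M hM).1 ϑ hcf y hy2 hvan B hB y y hpy (IsConj.refl y)
    simp only [Cfsg.blockPart] at h
    rw [← h]
    refine finsum_congr fun χ => finsum_congr fun _ => ?_
    rw [show classInner ϑ (χ : G → ℂ) = (χ : G → ℂ) t ^ 2 / (χ : G → ℂ) 1 by
      simp [hϑ, classInner_sum_left, classInner_smul_left, classInner_irr], mul_comm]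
  · have h := (Cfsg.Agent.S0925.result 2 M hM).2 y 1 y 1 hpy hp1
      (fun h => hy1 (isConj_one_left.mp h)) B hB
    simpa using h
  · have h := (Cfsg.Agent.S0925.result 2 M hM).2 y t y t hpy hpt (fun h => by
      obtain ⟨g, hg⟩ := isConj_iff.mp h
      refine hy g⁻¹ ?_
      have e : y = g⁻¹ * t * g⁻¹⁻¹ := by rw [← hg]; group
      rw [← e, mul_inv_cancel_right]
      have hyy : y * y = 1 := by
        rw [e, show g⁻¹ * t * g⁻¹⁻¹ * (g⁻¹ * t * g⁻¹⁻¹) = g⁻¹ * (t * t) * g by group, htt]; group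
      exact (inv_eq_of_mul_eq_one_right hyy).symm) B hB
    rw [← h]
    exact finsum_congr fun χ => finsum_congr fun _ => by rw [inv_eq_of_mul_eq_one_right htt]

/-- Signed weights with the three relations: a proper normal subgroup or two of each sign. -/
theorem two_pos_or_kernel {t : G} (ht : orderOf t = 2) (r : IrrCharacter G → ℝ)
    (hone : r (oneChar G) ≠ 0)
    (h1 : ∑ᶠ χ ∈ principalBlock M G, r χ * ((χ : G → ℂ) 1).re = 0)
    (h2 : ∑ᶠ χ ∈ principalBlock M G, r χ * ((χ : G → ℂ) t).re = 0)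
    (h3 : ∑ᶠ χ ∈ principalBlock M G, r χ * (((χ : G → ℂ) t).re ^ 2 / ((χ : G → ℂ) 1).re) = 0) :
    2 ≤ Nat.card {χ : IrrCharacter G // χ ∈ principalBlock M G ∧ 0 < r χ} ∨
      ∃ K : Subgroup G, K.Normal ∧ K ≠ ⊤ ∧ pPrimeCore 2 G ≤ K ∧ t ∈ K := by
  classical
  haveI := hM.2.1
  letI := Fintype.ofFinite G
  haveI := Fintype.ofFinite (IrrCharacter G)
  by_contra hcon
  rw [not_or] at hcon
  set s : Finset (IrrCharacter G) := Finset.univ.filter (· ∈ principalBlock M G)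
  have hsum : ∀ f : IrrCharacter G → ℝ, ∑ᶠ χ ∈ principalBlock M G, f χ = ∑ χ ∈ s, f χ := fun f => by
    rw [finsum_mem_eq_toFinset_sum]
    exact Finset.sum_congr (by ext; simp [s]) fun _ _ => rfl
  rw [hsum] at h1 h2 h3
  have hpos : ∀ χ : IrrCharacter G, 0 < ((χ : G → ℂ) 1).re := fun χ => by
    obtain ⟨d, hd, he⟩ := isIrrCharacter_degree χ.2
    rw [he, Complex.natCast_re]; exact_mod_cast hd
  have hones : oneChar G ∈ s := Finset.mem_filter.mpr ⟨Finset.mem_univ _, one_mem_principalBlock⟩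
  have hu : ∀ χ₁ ∈ s, ∀ χ₂ ∈ s, 0 < r χ₁ → 0 < r χ₂ → χ₁ = χ₂ := by
    intro χ₁ hm₁ χ₂ hm₂ hp₁ hp₂
    by_contra hne
    refine hcon.1 ?_
    haveI : Nontrivial {χ : IrrCharacter G // χ ∈ principalBlock M G ∧ 0 < r χ} :=
      ⟨⟨χ₁, (Finset.mem_filter.mp hm₁).2, hp₁⟩, ⟨χ₂, (Finset.mem_filter.mp hm₂).2, hp₂⟩,
        fun e => hne (congrArg Subtype.val e)⟩
    exact Finite.one_lt_card
  obtain ⟨χ₀, hχ₀, hr₀⟩ : ∃ χ₀ ∈ s, 0 < r χ₀ := by
    by_contra hno
    push Not at hno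
    have hz := (Finset.sum_eq_zero_iff_of_nonpos fun χ hχ =>
      mul_nonpos_of_nonpos_of_nonneg (hno χ hχ) (hpos χ).le).mp h1 _ hones
    exact hone ((mul_eq_zero.mp hz).resolve_right (hpos _).ne')
  set c := ((χ₀ : G → ℂ) t).re / ((χ₀ : G → ℂ) 1).re with hc
  let T : IrrCharacter G → ℝ := fun χ =>
    r χ * (((χ : G → ℂ) 1).re * (((χ : G → ℂ) t).re / ((χ : G → ℂ) 1).re - c) ^ 2)
  have hT : ∑ χ ∈ s, T χ = 0 := by
    have e : ∀ χ : IrrCharacter G, T χ = r χ * (((χ : G → ℂ) t).re ^ 2 / ((χ : G → ℂ) 1).re)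
        - 2 * c * (r χ * ((χ : G → ℂ) t).re) + c ^ 2 * (r χ * ((χ : G → ℂ) 1).re) := fun χ => by
      have := (hpos χ).ne'
      simp only [T]
      field_simp
      ring
    rw [Finset.sum_congr rfl fun χ _ => e χ, Finset.sum_add_distrib, Finset.sum_sub_distrib,
      ← Finset.mul_sum, ← Finset.mul_sum, h1, h2, h3]
    simp
  have hall : ∀ χ ∈ s, T χ = 0 := (Finset.sum_eq_zero_iff_of_nonpos fun χ hχ => by
    rcases le_or_gt (r χ) 0 with h | h
    · exact mul_nonpos_of_nonpos_of_nonneg h (mul_nonneg (hpos χ).le (sq_nonneg _))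
    · obtain rfl := hu χ hχ χ₀ hχ₀ h hr₀
      simp only [T, hc, sub_self, ne_eq, OfNat.ofNat_ne_zero, not_false_eq_true, zero_pow, mul_zero, le_refl]).mp hT
  have heq : ∀ χ ∈ s, r χ ≠ 0 → ((χ : G → ℂ) t).re = c * ((χ : G → ℂ) 1).re := fun χ hχ hr => by
    have h := (mul_eq_zero.mp ((mul_eq_zero.mp (hall χ hχ)).resolve_left hr)).resolve_left (hpos χ).ne'
    exact (div_eq_iff (hpos χ).ne').mp (sub_eq_zero.mp (eq_zero_of_pow_eq_zero h))
  have hc1 : c = 1 := by
    have := heq _ hones hone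
    simpa [oneChar] using this.symm
  obtain ⟨χ, hχs, hne, hrχ⟩ : ∃ χ ∈ s, χ ≠ oneChar G ∧ r χ ≠ 0 := by
    by_contra hno
    push Not at hno
    rw [Finset.sum_eq_single_of_mem _ hones fun χ hχ hne => by rw [hno χ hχ hne, zero_mul]] at h1
    exact hone ((mul_eq_zero.mp h1).resolve_right (hpos _).ne')
  have htt : t * t = 1 := by rw [← sq, ← ht]; exact pow_orderOf_eq_one t
  have him : ∀ z : ℂ, conj z = z → z = (z.re : ℂ) := fun z hz => (Complex.conj_eq_iff_re.mp hz).symm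
  have htχ : (χ : G → ℂ) t = (χ : G → ℂ) 1 := by
    rw [him _ (conj_irr_of_sq htt χ), him _ (conj_irr_one χ), heq χ hχs hrχ, hc1, one_mul]
  have hker : ∀ n ∈ pPrimeCore 2 G, (χ : G → ℂ) n = (χ : G → ℂ) 1 := by
    haveI : (pPrimeCore 2 G).Normal := Subgroup.sSup_normal _ (fun _ h => h.1)
    letI := Fintype.ofFinite (pPrimeCore 2 G)
    intro n hn
    exact trivial_of_sameBlock hM (CfsgLib.Coprime.pPrimeCore_not_dvd (G := G) hM.1) (χ := oneChar G)
      (show SameBlock M _ _ from (Finset.mem_filter.mp hχs).2) (fun m _ => rfl) hn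
  have hself := classInner_irr_self χ
  obtain ⟨f, n, ρ, hρ, rfl⟩ := χ
  have hone' : ρ.character 1 = (n : ℂ) := by rw [Representation.char_one, Module.finrank_fin_fun]
  have hmem : ∀ g : G, ρ.character g = ρ.character 1 → g ∈ MonoidHom.ker ρ := by
    intro g hg
    obtain ⟨w, hw⟩ := (norm_char_eq_iff ρ g).mp (by
      rw [hg, hone', Complex.norm_natCast, Module.finrank_fin_fun])
    have hn0 : (n : ℂ) ≠ 0 := hone' ▸ irr_one_ne_zero ⟨_, n, ρ, hρ, rfl⟩
    have e : ρ.character g = w * n := by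
      rw [Representation.character, hw, trace_smul_id, Module.finrank_fin_fun]
    rw [hg, hone'] at e
    rw [MonoidHom.mem_ker, hw, (mul_eq_right₀ hn0).mp e.symm, one_smul]
    rfl
  refine hcon.2 ⟨MonoidHom.ker ρ, inferInstance, fun htop => hne ?_,
    fun a ha => hmem a (hker a ha), hmem t htχ⟩
  have hconst : ∀ g, ρ.character g = (n : ℂ) := fun g => by
    rw [← hone']
    show LinearMap.trace ℂ _ (ρ g) = LinearMap.trace ℂ _ (ρ 1)
    rw [MonoidHom.mem_ker.mp (htop.symm ▸ Subgroup.mem_top g : g ∈ MonoidHom.ker ρ), map_one ρ]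
  change classInner ρ.character ρ.character = 1 at hself
  simp only [classInner, hconst, map_natCast, Finset.sum_const, Finset.card_univ, nsmul_eq_mul,
    Nat.card_eq_fintype_card] at hself
  rw [inv_mul_cancel_left₀ (by exact_mod_cast Fintype.card_pos.ne')] at hself
  have hn1 : n = 1 := Nat.eq_one_of_mul_eq_one_right (m := n) (by exact_mod_cast hself)
  exact Subtype.ext (funext fun g => (hconst g).trans (by rw [hn1, Nat.cast_one]; rfl))

end CfsgLib.Block.InvolutionColumn
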