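import Cfsg.Agent.Lib.Block.SubAlg
import Cfsg.Agent.Lib.Block.Principal
import Cfsg.Agent.Lib.Char.Scalar
import Mathlib.LinearAlgebra.Matrix.NonsingularInverse
import Mathlib.RingTheory.Nilpotent.Lemmas
import Mathlib.RingTheory.Noetherian.Nilpotent
import Mathlib.GroupTheory.QuotientGroup.Basic

/-!
# Principal blocks and normal subgroups of `p'`-index supplemented by a Sylow centralizer

If `N` is normal of `p'`-index and `G = N C(P)`, then the principal block algebra of `G` is the
image of that of `N` (Alperin, Dade).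
-/

open Finset MonoidAlgebra
open scoped ComplexConjugate

set_option linter.unusedSectionVars false

namespace CfsgLib.Block.Iso

open Cfsg CfsgLib.Block

universe u

variable {p : ℕ} {M : Ideal AlgInt} [M.IsMaximal] {G : Type u} [Group G] [Fintype G] [DecidableEq G]
  {N : Subgroup G} [N.Normal] [Fintype N]

/-! ### Augmentation and coset components -/

section aug

variable {R : Type*} [CommRing R]

/-- The sum of the coefficients. -/
noncomputable def aug (y : MonoidAlgebra R G) : R := ∑ g, y.coeff g

theorem aug_mul (y z : MonoidAlgebra R G) : aug (y * z) = aug y * aug z := by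
  simp only [aug, coeff_mul_sum]
  rw [Finset.sum_comm, Finset.sum_mul]
  refine Finset.sum_congr rfl fun h _ => ?_
  rw [← Finset.mul_sum]
  congr 1
  exact Fintype.sum_equiv (Equiv.mulLeft h⁻¹) _ _ fun g => rfl

theorem aug_sub (y z : MonoidAlgebra R G) : aug (y - z) = aug y - aug z := by
  simp [aug, Finset.sum_sub_distrib]

theorem aug_smul (c : R) (y : MonoidAlgebra R G) : aug (c • y) = c * aug y := by
  simp [aug, Finset.mul_sum]

theorem aug_emb {H : Subgroup G} [Fintype H] (a : MonoidAlgebra R H) :
    aug (emb a : MonoidAlgebra R G) = aug a := by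
  simpa [aug] using sum_emb a fun _ => (1 : R)

/-- Supported in a coset of `N`. -/
def SuppCoset (N : Subgroup G) [N.Normal] (q : G ⧸ N) (y : MonoidAlgebra R G) : Prop :=
  ∀ g : G, (g : G ⧸ N) ≠ q → y.coeff g = 0

theorem SuppCoset.mul {q q' : G ⧸ N} {y z : MonoidAlgebra R G} (hy : SuppCoset N q y)
    (hz : SuppCoset N q' z) : SuppCoset N (q * q') (y * z) := by
  intro g hg
  rw [coeff_mul_sum]
  refine Finset.sum_eq_zero fun h _ => ?_
  by_cases h1 : (h : G ⧸ N) = q
  · rw [hz _ fun h2 => hg ?_, mul_zero]
    rw [← h1, ← h2, QuotientGroup.mk_mul, QuotientGroup.mk_inv, mul_inv_cancel_left]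
  · rw [hy h h1, zero_mul]

theorem suppCoset_one_iff {y : MonoidAlgebra R G} :
    SuppCoset N 1 y ↔ SuppIn N y :=
  ⟨fun h g hg => h g fun e => hg ((QuotientGroup.eq_one_iff g).mp e),
    fun h g hg => h g fun e => hg ((QuotientGroup.eq_one_iff g).mpr e)⟩

theorem suppCoset_single (g : G) (r : R) : SuppCoset N (g : G ⧸ N) (single g r) := by
  intro x hx
  rw [MonoidAlgebra.coeff_single, Finsupp.single_apply, if_neg fun e => hx (by rw [e])]

/-- The component in a coset. -/
noncomputable def comp (q : G ⧸ N) (y : MonoidAlgebra R G) : MonoidAlgebra R G :=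
  gaOfFun fun g => @ite _ ((g : G ⧸ N) = q) (Classical.propDecidable _) (y.coeff g) 0

theorem suppCoset_comp (q : G ⧸ N) (y : MonoidAlgebra R G) : SuppCoset N q (comp q y) :=
  fun g hg => by simp [comp, hg]

theorem sum_comp [Fintype (G ⧸ N)] (y : MonoidAlgebra R G) : ∑ q : G ⧸ N, comp q y = y := by
  refine ga_ext fun g => ?_
  rw [coeff_sum_apply, Finset.sum_eq_single (g : G ⧸ N)]
  · simp [comp]
  · exact fun q _ hq => by simp [comp, Ne.symm hq]
  · simp

theorem comp_mul_left {q q' : G ⧸ N} {y : MonoidAlgebra R G} (hy : SuppCoset N q y)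
    (z : MonoidAlgebra R G) : comp q' (y * z) = y * comp (q⁻¹ * q') z := by
  classical
  refine ga_ext fun g => ?_
  simp only [comp, coeff_gaOfFun, coeff_mul_sum]
  by_cases hg : (g : G ⧸ N) = q'
  · rw [if_pos hg]
    refine Finset.sum_congr rfl fun h _ => ?_
    by_cases hh : (h : G ⧸ N) = q
    · rw [if_pos (by rw [QuotientGroup.mk_mul, QuotientGroup.mk_inv, hh, hg])]
    · rw [hy h hh, zero_mul, zero_mul]
  · rw [if_neg hg]
    refine (Finset.sum_eq_zero fun h _ => ?_).symm
    by_cases hh : (h : G ⧸ N) = q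
    · rw [if_neg (by
        rw [QuotientGroup.mk_mul, QuotientGroup.mk_inv, hh]
        exact fun e => hg (mul_left_cancel e)), mul_zero]
    · rw [hy h hh, zero_mul]

/-- Parametrisation of a coset. -/
theorem sum_coset {S : Type*} [AddCommMonoid S] (f : G → S) {q : G ⧸ N} {g₀ : G}
    (h₀ : (g₀ : G ⧸ N) = q) [DecidablePred fun g : G => (g : G ⧸ N) = q] :
    ∑ g ∈ Finset.univ.filter (fun g : G => (g : G ⧸ N) = q), f g = ∑ x : N, f (g₀ * x) := by
  refine Finset.sum_bij' (fun g hg => ⟨g₀⁻¹ * g, QuotientGroup.eq.mp (by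
      rw [h₀]; exact (Finset.mem_filter.mp hg).2.symm)⟩)
    (fun x _ => g₀ * x) (fun _ _ => Finset.mem_univ _) ?_ (fun g _ => by simp)
    (fun x _ => by simp) (fun g _ => by simp)
  intro x _
  rw [Finset.mem_filter]
  exact ⟨Finset.mem_univ _, by
    rw [QuotientGroup.mk_mul, (QuotientGroup.eq_one_iff (x : G)).mpr x.2, mul_one, h₀]⟩

theorem aug_comp {y : MonoidAlgebra R G} {q : G ⧸ N} {g₀ : G} (h₀ : (g₀ : G ⧸ N) = q) :
    aug (comp q y) = ∑ x : N, y.coeff (g₀ * x) := by
  classical
  rw [← sum_coset y.coeff h₀, aug, Finset.sum_filter]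
  exact Finset.sum_congr rfl fun g _ => by by_cases hg : (g : G ⧸ N) = q <;> simp [comp, hg]

theorem cinv_comp {y : MonoidAlgebra R G} (hy : CInv N y) (q : G ⧸ N) : CInv N (comp q y) := by
  intro s hs g
  have : ((s * g * s⁻¹ : G) : G ⧸ N) = g := by
    rw [QuotientGroup.mk_mul, QuotientGroup.mk_mul, QuotientGroup.mk_inv,
      (QuotientGroup.eq_one_iff s).mpr hs, one_mul, inv_one, mul_one]
  simp only [comp, coeff_gaOfFun, hy s hs g]
  rw [this]

theorem CInv.sum {ι : Type*} {K : Subgroup G} (s : Finset ι) {f : ι → MonoidAlgebra R G}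
    (h : ∀ i ∈ s, CInv K (f i)) : CInv K (∑ i ∈ s, f i) :=
  cinv_of_commute fun u hu => Commute.sum_right _ _ _ fun i hi => (h i hi).commute hu

theorem CInv.commute_of_suppIn {K : Subgroup G} [Fintype K] {y a : MonoidAlgebra R G}
    (hy : CInv K y) (ha : SuppIn K a) : Commute y a := by
  rw [eq_emb_of_suppIn ha]
  induction resTo K a using MonoidAlgebra.induction_linear with
  | zero =>
    rw [show (emb (0 : MonoidAlgebra R K) : MonoidAlgebra R G) = 0 from
      ga_ext fun g => by simp [emb]]
    exact Commute.zero_right _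
  | add f f' hf hf' =>
    rw [show (emb (f + f') : MonoidAlgebra R G) = emb f + emb f' from ga_ext fun g => by
      by_cases hg : g ∈ K <;> simp [emb, hg]]
    exact hf.add_right hf'
  | single u r =>
    rw [show (emb (single u r) : MonoidAlgebra R G) = r • single (u : G) (1 : R) from
      ga_ext fun g => by
        by_cases hg : g ∈ K
        · by_cases hu : u = ⟨g, hg⟩
          · subst hu; simp [emb, hg]
          · have : (u : G) ≠ g := fun e => hu (Subtype.ext e)
            simp [emb, hg, Finsupp.single_eq_of_ne (Ne.symm hu), Finsupp.single_eq_of_ne (Ne.symm this)]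
        · have : (u : G) ≠ g := fun e => hg (e ▸ u.2)
          simp [emb, hg, Finsupp.single_eq_of_ne (Ne.symm this)]]
    exact ((hy.commute u.2).symm).smul_right r

end aug

section trace

variable {P : Subgroup G} (hPN : P ≤ N)

variable (R : Type*) [CommRing R] (N P) in
/-- The relative trace of `c` from `P` to `N`. -/
noncomputable def trEl (c : G) (hc : c ∈ Subgroup.centralizer (P : Set G)) :
    MonoidAlgebra R G :=
  letI := Fintype.ofFinite (N ⧸ P.subgroupOf N)
  ∑ q : N ⧸ P.subgroupOf N, single
    (Quotient.liftOn' q (fun u : N => (u : G) * c * (u : G)⁻¹) fun a b hab => by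
      rw [QuotientGroup.leftRel_apply] at hab
      have h : (a : G)⁻¹ * (b : G) * c = c * ((a : G)⁻¹ * (b : G)) :=
        Subgroup.mem_centralizer_iff.mp hc _ hab
      calc (a : G) * c * (a : G)⁻¹
          = a * (c * ((a : G)⁻¹ * b)) * (b : G)⁻¹ := by group
        _ = a * ((a : G)⁻¹ * b * c) * (b : G)⁻¹ := by rw [h]
        _ = (b : G) * c * (b : G)⁻¹ := by group) 1

theorem suppCoset_trEl {R : Type*} [CommRing R] (c : G)
    (hc : c ∈ Subgroup.centralizer (P : Set G)) :
    SuppCoset N (c : G ⧸ N) (trEl N P R c hc) := by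
  intro g hg
  rw [trEl, coeff_sum_apply]
  refine Finset.sum_eq_zero fun q _ => ?_
  induction q using Quotient.inductionOn' with
  | h u =>
    refine suppCoset_single (N := N) _ (1 : R) g ?_
    rw [Quotient.liftOn'_mk'', QuotientGroup.mk_mul, QuotientGroup.mk_mul, QuotientGroup.mk_inv,
      (QuotientGroup.eq_one_iff (u : G)).mpr u.2, one_mul, inv_one, mul_one]
    exact hg

theorem cinv_trEl {R : Type*} [CommRing R] (c : G)
    (hc : c ∈ Subgroup.centralizer (P : Set G)) : CInv N (trEl N P R c hc) := by
  refine cinv_of_commute fun s hs => ?_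
  letI := Fintype.ofFinite (N ⧸ P.subgroupOf N)
  rw [commute_iff_eq, trEl, Finset.mul_sum, Finset.sum_mul]
  refine Fintype.sum_equiv (MulAction.toPerm (α := N) (β := N ⧸ P.subgroupOf N) ⟨s, hs⟩) _ _
    fun q => ?_
  induction q using QuotientGroup.induction_on with
  | H u =>
    simp only [MulAction.toPerm_apply, MulAction.Quotient.smul_mk, MonoidAlgebra.single_mul_single,
      mul_one, one_mul]
    congr 1
    show s * ((u : G) * c * (u : G)⁻¹) = (s * u) * c * (s * (u : G))⁻¹ * s
    group

theorem aug_trEl {R : Type*} [CommRing R] (c : G)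
    (hc : c ∈ Subgroup.centralizer (P : Set G)) :
    aug (trEl N P R c hc) = ((P.subgroupOf N).index : R) := by
  letI := Fintype.ofFinite (N ⧸ P.subgroupOf N)
  simp only [aug, trEl, coeff_sum_apply]
  rw [Finset.sum_comm, Subgroup.index, Nat.card_eq_fintype_card]
  simp [MonoidAlgebra.coeff_single, Finsupp.single_apply]

end trace

/-! ### The block idempotents -/

/-- The augmentation is the central character of the trivial character. -/
theorem omegaBar_oneChar_eq_aug {A : Type u} [Group A] [Fintype A] [DecidableEq A] (a : ZK M A) :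
    omegaBar M (oneChar A) a = aug (a : MonoidAlgebra (ResField M) A) := by
  obtain ⟨w, rfl⟩ := toKC_surjective a
  rw [omegaBar_toKC, omegaRes, RingHom.comp_apply,
    show omegaLoc M (oneChar A) w = ∑ x : A, (w : MonoidAlgebra (locRing M) A).coeff x from
      Subtype.ext (by simp [coe_omegaLoc, omega, oneChar, AddSubmonoidClass.coe_finsetSum]),
    map_sum]
  simp [aug]

theorem omegaBar_one_eq_aug (a : ZK M N) :
    omegaBar M (oneChar N) a = aug (a : MonoidAlgebra (ResField M) N) := omegaBar_oneChar_eq_aug a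

/-- A character not trivial on `N` sums to zero on every coset. -/
theorem coset_sum_eq_zero (χ : IrrCharacter G) (h : ∃ y : N, (χ : G → ℂ) y ≠ (χ : G → ℂ) 1)
    (g : G) : ∑ x : N, (χ : G → ℂ) (g * x) = 0 := by
  obtain ⟨n, ρ, hirr, hρ⟩ := χ.2
  set S : (Fin n → ℂ) →ₗ[ℂ] (Fin n → ℂ) := ∑ x : N, ρ (x : G) with hS
  have hcomm : ∀ u : G, S * ρ u = ρ u * S := by
    intro u
    rw [hS, Finset.sum_mul, Finset.mul_sum]
    refine Fintype.sum_equiv
      ((MulAut.conjNormal (H := N) u⁻¹).toEquiv) _ _ fun x => ?_
    rw [← map_mul, ← map_mul]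
    congr 1
    simp [mul_assoc]
  obtain ⟨c, hc⟩ := Char.schur_scalar ρ S hcomm
  have hc0 : c = 0 := by
    by_contra hne
    obtain ⟨y, hy⟩ := h
    apply hy
    have hyS : ρ (y : G) * S = S := by
      rw [hS, Finset.mul_sum]
      exact Fintype.sum_equiv (Equiv.mulLeft y) _ _ fun x => by
        rw [← map_mul]; rfl
    have hy1 : ρ (y : G) = 1 := by
      rw [hc, mul_smul_comm, show (LinearMap.id : (Fin n → ℂ) →ₗ[ℂ] _) = 1 from rfl, mul_one] at hyS
      exact smul_right_injective _ hne hyS
    rw [← hρ, Representation.character, Representation.character, hy1, map_one ρ]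
  rw [hc0, zero_smul] at hc
  have : ∑ x : N, (χ : G → ℂ) (g * x) = LinearMap.trace ℂ _ (ρ g * S) := by
    rw [hS, Finset.mul_sum, map_sum]
    refine Finset.sum_congr rfl fun x _ => ?_
    rw [← map_mul, ← hρ]
    rfl
  rw [this, hc, mul_zero, map_zero]

/-- A central element supported in a normal subgroup. -/
theorem omegaBar_eq_omegaBar_resHK (χ : IrrCharacter G) (θ : IrrCharacter N)
    (hval : ∀ x : N, (χ : G → ℂ) x = (θ : N → ℂ) x) (z : ZK M G)
    (hz : SuppIn N (z : MonoidAlgebra (ResField M) G)) :
    omegaBar M χ z = omegaBar M θ (resHK M N z) := by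
  classical
  obtain ⟨w, hw⟩ := toKC_surjective z
  let w' : ZL M G := ⟨gaOfFun fun g => if g ∈ N then (w : MonoidAlgebra (locRing M) G).coeff g else 0,
    mem_center_iff_isClassElt.mpr fun g x => by
      have hiff : x * g * x⁻¹ ∈ N ↔ g ∈ N := ⟨fun hg => by
        simpa [mul_assoc] using Subgroup.Normal.conj_mem inferInstance _ hg x⁻¹,
        fun hg => Subgroup.Normal.conj_mem inferInstance _ hg x⟩
      simp only [coeff_gaOfFun, hiff, mem_center_iff_isClassElt.mp w.2 g x]⟩
  have hw' : toKC M w' = z := Subtype.ext (ga_ext fun g => by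
    by_cases hg : g ∈ N
    · simp [w', hg, ← hw]
    · simp [w', hg, hz g hg])
  rw [← hw', resHK_toKC, omegaBar_toKC, omegaBar_toKC, omegaRes, omegaRes, RingHom.comp_apply,
    RingHom.comp_apply]
  congr 1
  apply Subtype.ext
  rw [coe_omegaLoc, coe_omegaLoc, omega, omega, show (χ : G → ℂ) 1 = (θ : N → ℂ) 1 from hval 1]
  congr 1
  rw [← Finset.sum_subset (Finset.subset_univ (Finset.univ.filter fun g : G => g ∈ N))
    fun g _ hg => by simp [w', (by simpa using hg : g ∉ N)],
    Finset.sum_subtype (p := fun g => g ∈ N) _ (fun g => by simp)]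
  exact Finset.sum_congr rfl fun x _ => by simp [w', resHL, hval]

variable (P : Sylow p G)

/-- The hypotheses: `p'`-index and a supplement centralizing a Sylow subgroup. -/
structure Setup (N : Subgroup G) [N.Normal] (P : Sylow p G) : Prop where
  idx : ¬ p ∣ N.index
  supp : N ⊔ Subgroup.centralizer ((P : Subgroup G) : Set G) = ⊤

variable {P}

theorem Setup.le [Fact p.Prime] (h : Setup N P) : (P : Subgroup G) ≤ N := by
  intro x hx
  rw [← QuotientGroup.eq_one_iff, ← orderOf_eq_one_iff]
  obtain ⟨k, hk⟩ := (IsPGroup.iff_orderOf.mp P.isPGroup') ⟨x, hx⟩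
  have h1 : orderOf (x : G ⧸ N) ∣ p ^ k := by
    rw [← hk, Subgroup.orderOf_mk]
    exact orderOf_map_dvd (QuotientGroup.mk' N) x
  obtain ⟨j, -, hj⟩ := (Nat.dvd_prime_pow (Fact.out : p.Prime)).mp h1
  rcases Nat.eq_zero_or_pos j with rfl | hj0
  · rw [hj, pow_zero]
  · refine absurd ((dvd_pow_self p hj0.ne').trans (hj ▸ ?_)) h.idx
    exact orderOf_dvd_natCard _

theorem Setup.exists_rep (h : Setup N P) (g : G) :
    ∃ c ∈ Subgroup.centralizer ((P : Subgroup G) : Set G), (c : G ⧸ N) = g := by
  have hg : g ∈ N ⊔ Subgroup.centralizer ((P : Subgroup G) : Set G) := by rw [h.supp]; trivial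
  obtain ⟨n, hn, c, hc, rfl⟩ := Subgroup.mem_sup_of_normal_left.mp hg
  exact ⟨c, hc, by rw [QuotientGroup.mk_mul, (QuotientGroup.eq_one_iff n).mpr hn, one_mul]⟩

/-- A member of the principal block trivial on `N` is trivial. -/
theorem Setup.eq_one_of_trivial (hM : IsPModular p M) (h : Setup N P) {χ : IrrCharacter G}
    (hχ : χ ∈ principalBlock M G) (htriv : ∀ y : N, (χ : G → ℂ) y = (χ : G → ℂ) 1) :
    χ = oneChar G := by
  have hpf : Fact p.Prime := ⟨hM.1⟩
  have := charP_resField hM
  obtain ⟨n, ρ, hirr, hρ⟩ := χ.2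
  obtain ⟨d, hd0, hd⟩ := Char.isIrrCharacter_degree χ.2
  -- values at coset representatives
  have hval : ∀ c ∈ Subgroup.centralizer ((P : Subgroup G) : Set G),
      res M (irrLoc M χ c) = (d : ResField M) := by
    intro c hc
    set k := (Subgroup.centralizer ({c} : Set G)).index with hk
    have hnd : ¬ p ∣ k := fun hdvd => P.not_dvd_index (hdvd.trans (Subgroup.index_dvd_of_le
      fun u hu => Subgroup.mem_centralizer_singleton_iff.mpr
        (Subgroup.mem_centralizer_iff.mp hc u hu)))
    have h1 := centralRes_eq_of_mem isPBlock_principalBlock hχ one_mem_principalBlock c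
    have hone : centralRes M (oneChar G) c = (k : ResField M) := by
      rw [centralRes, ← res_natCast k]
      exact congrArg (res M) (Subtype.ext (by simp [centralChar, oneChar, hk]))
    have h2 : (⟨_, centralChar_mem χ c⟩ : locRing M) * (d : locRing M) =
        (k : locRing M) * irrLoc M χ c := by
      apply Subtype.ext
      have hd' : (d : ℂ) ≠ 0 := by exact_mod_cast hd0.ne'
      simp only [Subring.coe_mul, SubringClass.coe_natCast, coe_irrLoc, centralChar, hd, ← hk]
      field_simp
    have h3 := congrArg (res M) h2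
    rw [map_mul, map_mul, res_natCast, res_natCast,
      show res M ⟨_, centralChar_mem χ c⟩ = centralRes M χ c from rfl, h1, hone] at h3
    exact (mul_left_cancel₀ (fun e => hnd ((CharP.cast_eq_zero_iff _ p _).mp e)) h3).symm
  -- the values are constant on cosets
  have hcoset : ∀ (g : G) (y : N), (χ : G → ℂ) (g * y) = (χ : G → ℂ) g := by
    intro g y
    have hy1 : ρ (y : G) = 1 := by
      by_contra hne
      have : ∑ x : N, (χ : G → ℂ) ((1 : G) * x) = (Fintype.card N : ℂ) * d := by
        rw [Finset.sum_congr rfl fun x _ => by rw [one_mul, htriv x, hd]]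
        simp
      -- the projection onto the fixed points is then the identity
      obtain ⟨b, μ, h1, h2, h3⟩ := Char.exists_eigen_data ρ (y : G)
      have ht := h3 1
      simp only [pow_one] at ht
      have hsum : ∑ i, (1 - μ i).re = 0 := by
        rw [← Complex.re_sum, Finset.sum_sub_distrib, ← ht, hρ, htriv y, hd]
        have : (d : ℂ) = ((Module.finrank ℂ (Fin n → ℂ) : ℕ) : ℂ) := by
          rw [← hd, ← hρ, Representation.char_one]
        simp [this]
      have hμ : ∀ i, μ i = 1 := by
        intro i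
        have hn1 := Char.norm_eq_one_of_pow_eq_one' (orderOf_pos (y : G)).ne' (h1 i)
        have hre : (μ i).re = 1 := by
          have := (Finset.sum_eq_zero_iff_of_nonneg fun j _ => by
            rw [Complex.sub_re, Complex.one_re, sub_nonneg]
            exact (Complex.re_le_norm _).trans
              (le_of_eq (Char.norm_eq_one_of_pow_eq_one' (orderOf_pos (y : G)).ne' (h1 j)))).mp
            hsum i (Finset.mem_univ _)
          rw [Complex.sub_re, Complex.one_re] at this
          linarith
        apply Complex.ext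
        · rw [hre, Complex.one_re]
        · have := Complex.sq_norm (μ i)
          rw [hn1, Complex.normSq_apply, hre] at this
          rw [Complex.one_im]
          nlinarith [this]
      apply hne
      refine b.ext fun i => ?_
      have := h2 1 i
      simp only [pow_one, hμ i, one_smul] at this
      rw [this]
      rfl
    rw [← hρ, Representation.character, map_mul, hy1, mul_one]
    rfl
  have hall : ∀ g, res M (irrLoc M χ g) = (d : ResField M) := by
    intro g
    obtain ⟨c, hc, hcg⟩ := h.exists_rep g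
    obtain ⟨y, rfl⟩ : ∃ y : N, g = c * y :=
      ⟨⟨c⁻¹ * g, QuotientGroup.eq.mp hcg⟩, by simp⟩
    rw [← hval c hc]
    exact congrArg (res M) (Subtype.ext (hcoset c y))
  by_contra hne
  have := Fintype.ofFinite (IrrCharacter G)
  have := Fintype.ofFinite (G ⧸ N)
  have hfib : ∀ f : G → ℂ, (∀ (g : G) (y : N), f (g * y) = f g) →
      ∑ g, f g = (Fintype.card N : ℂ) * ∑ q : G ⧸ N, f q.out := by
    intro f hf
    classical
    rw [← Finset.sum_fiberwise_of_maps_to (g := fun g : G => (g : G ⧸ N)) (t := Finset.univ)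
      fun _ _ => Finset.mem_univ _, Finset.mul_sum]
    refine Finset.sum_congr rfl fun q _ => ?_
    rw [sum_coset f (QuotientGroup.out_eq' q), Finset.sum_congr rfl fun y _ => hf q.out y]
    simp
  have hN0 : (Fintype.card N : ℂ) ≠ 0 := Nat.cast_ne_zero.mpr Fintype.card_ne_zero
  have hsum0 : ∑ g, (χ : G → ℂ) g = 0 := by
    have := Char.classInner_irr_ne hne
    rw [classInner] at this
    simpa [oneChar, Nat.card_pos.ne'] using this
  have hsq : ∑ g, (χ : G → ℂ) g * (χ : G → ℂ) g⁻¹ = Nat.card G := by
    have := Char.classInner_irr_self χ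
    rw [classInner, inv_mul_eq_one₀ (Nat.cast_ne_zero.mpr Nat.card_pos.ne')] at this
    rw [this]
    exact Finset.sum_congr rfl fun g _ => by rw [Char.irr_inv]
  have hidx : (Nat.card G : ℂ) = (Fintype.card N : ℂ) * (N.index : ℂ) := by
    rw [← Nat.card_eq_fintype_card, ← Nat.cast_mul, Subgroup.card_mul_index]
  have hq : (∑ q : G ⧸ N, (χ : G → ℂ) q.out = 0) ∧
      ∑ q : G ⧸ N, (χ : G → ℂ) q.out * (χ : G → ℂ) q.out⁻¹ = N.index := by
    constructor
    · rw [hfib _ hcoset] at hsum0
      exact (mul_eq_zero.mp hsum0).resolve_left hN0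
    · rw [hfib _ fun g y => by
        rw [hcoset, mul_inv_rev,
          show (y : G)⁻¹ * g⁻¹ = g⁻¹ * ((MulAut.conjNormal g y⁻¹ : N) : G) by
            simp [mul_assoc],
          hcoset], hidx] at hsq
      exact mul_left_cancel₀ hN0 hsq
  have e1 : ∑ q : G ⧸ N, irrLoc M χ q.out = 0 := Subtype.ext (by
    simpa [AddSubmonoidClass.coe_finsetSum] using hq.1)
  have e2 : ∑ q : G ⧸ N, irrLoc M χ q.out * irrLoc M χ q.out⁻¹ = (N.index : locRing M) :=
    Subtype.ext (by simpa [AddSubmonoidClass.coe_finsetSum] using hq.2)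
  have hn0 : (N.index : ResField M) ≠ 0 := fun e => h.idx ((CharP.cast_eq_zero_iff _ p _).mp e)
  have hcard : (Fintype.card (G ⧸ N) : ResField M) = (N.index : ResField M) := by
    rw [Subgroup.index, Nat.card_eq_fintype_card]
  have r1 := congrArg (res M) e1
  rw [map_sum, map_zero, Finset.sum_congr rfl fun q _ => hall _] at r1
  simp only [Finset.sum_const, Finset.card_univ, nsmul_eq_mul, hcard, mul_eq_zero, hn0,
    false_or] at r1
  have r2 := congrArg (res M) e2
  rw [map_sum, Finset.sum_congr rfl fun q _ => by rw [map_mul, hall, hall], res_natCast] at r2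
  simp only [r1, mul_zero, Finset.sum_const_zero] at r2
  exact hn0 r2.symm

variable (M) in
/-- The principal block idempotent of `N`. -/
noncomputable abbrev Ez (N : Subgroup G) [Fintype N] : ZK M N := blockBar M (principalBlock M N)

variable (M G) in
/-- The principal block idempotent of `G`. -/
noncomputable abbrev Bg : MonoidAlgebra (ResField M) G :=
  (blockBar M (principalBlock M G) : ZK M G)

theorem omega_one_Ez (hM : IsPModular p M) : omegaBar M (oneChar N) (Ez M N) = 1 := by
  rw [omegaBar_blockBar hM (.of_isPBlock isPBlock_principalBlock), if_pos one_mem_principalBlock]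

theorem isNilpotent_mul_Ez (hM : IsPModular p M) {a : ZK M N}
    (ha : omegaBar M (oneChar N) a = 0) : IsNilpotent (a * Ez M N) := by
  refine isNilpotent_of_omegaBar hM fun χ => ?_
  rw [map_mul, omegaBar_blockBar hM (.of_isPBlock isPBlock_principalBlock)]
  split_ifs with hχ
  · rw [omegaBar_eq_of_mem isPBlock_principalBlock hχ one_mem_principalBlock, ha, zero_mul]
  · rw [mul_zero]

theorem Ez_mul_self (hM : IsPModular p M) : Ez M N * Ez M N = Ez M N :=
  blockBar_mul_self hM (.of_isPBlock isPBlock_principalBlock)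

theorem exists_inv_Ez (hM : IsPModular p M) {u : ZK M N} (hu : omegaBar M (oneChar N) u ≠ 0) :
    ∃ v : ZK M N, u * v * Ez M N = Ez M N := by
  set c := omegaBar M (oneChar N) u
  set z := algebraMap (ResField M) (ZK M N) c⁻¹ * u - 1 with hz
  have hnil : IsNilpotent (z * Ez M N) := isNilpotent_mul_Ez hM (by
    rw [hz, map_sub, map_mul, omegaBar_algebraMap, map_one, inv_mul_cancel₀ hu, sub_self])
  obtain ⟨w, hw⟩ := hnil.isUnit_one_add.exists_right_inv
  refine ⟨algebraMap (ResField M) (ZK M N) c⁻¹ * w, ?_⟩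
  have hE := Ez_mul_self (M := M) (N := N) hM
  calc u * (algebraMap (ResField M) (ZK M N) c⁻¹ * w) * Ez M N
      = (1 + z) * Ez M N * w := by rw [hz]; ring
    _ = (1 + z * Ez M N) * w * Ez M N := by linear_combination (-(z * w)) * hE
    _ = Ez M N := by rw [hw, one_mul]

theorem cj_emb_Ez (g : G) :
    cj g (emb (Ez M N : MonoidAlgebra (ResField M) N) : MonoidAlgebra (ResField M) G) =
      emb (Ez M N : MonoidAlgebra (ResField M) N) := by
  classical
  have hiff : ∀ x, x ∈ N ↔ g * x * g⁻¹ ∈ N := fun x =>
    ⟨fun hx => Subgroup.Normal.conj_mem inferInstance x hx g, fun hx => by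
      simpa [mul_assoc] using Subgroup.Normal.conj_mem inferInstance _ hx g⁻¹⟩
  have heq : conjSet g N N (principalBlock M N) = principalBlock M N := by
    rw [conjSet_eq_image hiff]
    refine isPBlock_eq_of_mem (isPBlock_image_irrEquiv _ isPBlock_principalBlock)
      isPBlock_principalBlock ⟨oneChar N, one_mem_principalBlock, ?_⟩ one_mem_principalBlock
    exact Subtype.ext (funext fun x => by simp [oneChar])
  have := eG_conjSet (M := M) hiff (principalBlock M N)
  rw [heq] at this
  exact this.symm

theorem emb_Ez_mul_Bg (hM : IsPModular p M) :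
    (emb (Ez M N : MonoidAlgebra (ResField M) N) : MonoidAlgebra (ResField M) G) * Bg M G =
      Bg M G := by
  classical
  have hcl : IsClassElt
      (emb (Ez M N : MonoidAlgebra (ResField M) N) : MonoidAlgebra (ResField M) G) := by
    intro g h
    conv_lhs => rw [← cj_emb_Ez (M := M) (N := N) h]
    rw [coeff_cj, show h⁻¹ * (h * g * h⁻¹) * h = g by group]
  set E' : ZK M G := ⟨_, mem_center_iff_isClassElt.mpr hcl⟩
  set B : ZK M G := blockBar M (principalBlock M G)
  have hBB : B * B = B := blockBar_mul_self hM (.of_isPBlock isPBlock_principalBlock)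
  have hEE : E' * E' = E' := Subtype.ext (by
    show emb _ * emb _ = emb _
    rw [← emb_mul]
    exact congrArg emb (congrArg Subtype.val (Ez_mul_self hM)))
  have h1 : omegaBar M (oneChar G) E' = 1 := by
    obtain ⟨w, hw⟩ := toKC_surjective E'
    rw [← hw, omegaBar_toKC, omegaRes, RingHom.comp_apply,
      show omegaLoc M (oneChar G) w = ∑ x : G, (w : MonoidAlgebra (locRing M) G).coeff x from
        Subtype.ext (by simp [coe_omegaLoc, omega, oneChar, AddSubmonoidClass.coe_finsetSum]),
      map_sum]
    have : ∀ x, res M ((w : MonoidAlgebra (locRing M) G).coeff x) =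
        (E' : MonoidAlgebra (ResField M) G).coeff x := fun x => by rw [← hw]; simp
    simp only [this]
    show aug (E' : MonoidAlgebra (ResField M) G) = 1
    rw [show (E' : MonoidAlgebra (ResField M) G) = emb _ from rfl, aug_emb, ← omegaBar_one_eq_aug,
      omega_one_Ez hM]
  have := eq_of_omegaBar_eq_of_idem hM (a := E' * B) (b := B)
    (by rw [show E' * B * (E' * B) = (E' * E') * (B * B) by ring, hEE, hBB]) hBB fun χ => by
      rw [map_mul, omegaBar_blockBar hM (.of_isPBlock isPBlock_principalBlock)]
      split_ifs with hχ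
      · rw [omegaBar_eq_of_mem isPBlock_principalBlock hχ one_mem_principalBlock, h1, one_mul]
      · rw [mul_zero]
  exact congrArg Subtype.val this

/-- The coset sums of the principal block idempotent are constant. -/
theorem Setup.aug_comp_Bg (hM : IsPModular p M) (h : Setup N P) (q q' : G ⧸ N) :
    aug (comp q (Bg M G)) = aug (comp q' (Bg M G)) := by
  classical
  have := Fintype.ofFinite (IrrCharacter G)
  have hS := IsBlockUnion.of_isPBlock (isPBlock_principalBlock (M := M) (G := G))
  have key : ∀ g : G, ∑ x : N, blockCoeff (principalBlock M G) (g * x) =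
      (Nat.card G : ℂ)⁻¹ * (Fintype.card N : ℂ) := by
    intro g
    simp only [blockCoeff, finsum_mem_eq_toFinset_sum]
    rw [← Finset.mul_sum, Finset.sum_comm, Finset.sum_eq_single (oneChar G)]
    · simp [oneChar]
    · intro χ hχ hne
      rw [← Finset.mul_sum, ← map_sum,
        coset_sum_eq_zero χ (by
          by_contra hall
          push Not at hall
          exact hne (h.eq_one_of_trivial hM (Set.mem_toFinset.mp hχ) hall)), map_zero, mul_zero]
    · intro h0
      exact absurd (Set.mem_toFinset.mpr one_mem_principalBlock) h0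
  have hkey : ∀ q : G ⧸ N, aug (comp q (Bg M G)) =
      ∑ x : N, coeffRes M (principalBlock M G) (q.out * x) := by
    intro q
    rw [aug_comp (QuotientGroup.out_eq' q)]
    exact Finset.sum_congr rfl fun x _ => by simp [Bg, coeff_blockBar]
  rw [hkey, hkey]
  simp only [coeffRes, ← map_sum]
  congr 1
  apply Subtype.ext
  simp only [AddSubmonoidClass.coe_finsetSum, coe_coeff_blockIdem hM hS, key]

/-! ### The principal block algebra is generated by that of `N` -/

theorem Setup.exists_emb_mul (hM : IsPModular p M) (h : Setup N P) (g : G) :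
    ∃ a : MonoidAlgebra (ResField M) N,
      single g (1 : ResField M) * Bg M G = emb a * Bg M G := by
  classical
  have hpf : Fact p.Prime := ⟨hM.1⟩
  have := charP_resField hM
  have hPN := h.le
  have := Fintype.ofFinite (G ⧸ N)
  choose c hc hcq using fun q : G ⧸ N => h.exists_rep q.out
  have hcq' : ∀ q : G ⧸ N, (c q : G ⧸ N) = q := fun q => (hcq q).trans (QuotientGroup.out_eq' q)
  set B := Bg M G
  set E : MonoidAlgebra (ResField M) G := emb (Ez M N : MonoidAlgebra (ResField M) N)
  set T : G ⧸ N → MonoidAlgebra (ResField M) G := fun q =>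
    trEl N (P : Subgroup G) (ResField M) (c q) (hc q) with hT
  set k : ResField M := (((P : Subgroup G).subgroupOf N).index : ResField M) with hk
  have hk0 : k ≠ 0 := by
    intro e
    exact P.not_dvd_index (((CharP.cast_eq_zero_iff _ p _).mp e).trans
      (Subgroup.relIndex_dvd_index_of_le hPN))
  have hTc : ∀ q, CInv N (T q) := fun q => cinv_trEl _ _
  have hTs : ∀ q, SuppCoset N q (T q) := fun q => by
    have := suppCoset_trEl (N := N) (R := ResField M) (c q) (hc q)
    rwa [hcq'] at this
  have hTa : ∀ q, aug (T q) = k := fun q => aug_trEl _ _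
  -- embedding of `Z(FN)`
  let ι : ZK M N → MonoidAlgebra (ResField M) G := fun a =>
    emb (a : MonoidAlgebra (ResField M) N)
  have ιmul : ∀ a b, ι (a * b) = ι a * ι b := fun a b => emb_mul _ _
  have ιadd : ∀ a b, ι (a + b) = ι a + ι b := fun a b => ga_ext fun x => by
    by_cases hx : x ∈ N <;> simp [ι, emb, hx]
  have ιsmul : ∀ (r : ResField M) a, ι (r • a) = r • ι a := fun r a => ga_ext fun x => by
    by_cases hx : x ∈ N <;> simp [ι, emb, hx]
  have ιone : ι 1 = 1 := ga_ext fun x => by
    by_cases hx : x ∈ N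
    · simp only [ι, OneMemClass.coe_one]
      rw [show x = ((⟨x, hx⟩ : N) : G) from rfl, coeff_emb_coe]
      by_cases h1 : (⟨x, hx⟩ : N) = 1
      · obtain rfl : x = 1 := congrArg Subtype.val h1
        simp [h1, MonoidAlgebra.one_def]
      · have : x ≠ 1 := fun e => h1 (Subtype.ext e)
        simp [MonoidAlgebra.one_def, Finsupp.single_eq_of_ne h1, Finsupp.single_eq_of_ne this]
    · rw [suppIn_emb _ x hx, suppIn_one x hx]
  have ιcinv : ∀ a, CInv N (ι a) := fun a => cinv_of_commute fun s hs =>
    commute_single_emb (mem_center_iff_isClassElt.mp a.2) ⟨s, hs⟩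
  have ιcomm : ∀ (a : ZK M N) (y : MonoidAlgebra (ResField M) G), CInv N y → Commute y (ι a) :=
    fun a y hy => CInv.commute_of_suppIn hy (suppIn_emb _)
  have ιaug : ∀ a, aug (ι a) = omegaBar M (oneChar N) a := fun a => by
    rw [omegaBar_one_eq_aug]; exact aug_emb _
  have hEι : E = ι (Ez M N) := rfl
  have hEB : E * B = B := emb_Ez_mul_Bg hM
  have hBc : ∀ y, Commute B y := fun y =>
    (mem_center_iff_isClassElt.mp (blockBar M (principalBlock M G)).2).commute y
  -- elements of `C(N)` supported on the trivial coset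
  have hcen : ∀ y : MonoidAlgebra (ResField M) G, CInv N y → SuppCoset N 1 y →
      ∃ a, y = ι a := fun y hy hy' =>
    ⟨cenOf M y hy, eq_emb_of_suppIn (suppCoset_one_iff.mp hy')⟩
  -- every component of `C(N) E` is `Z(FN) T`
  have hdec : ∀ q (y : MonoidAlgebra (ResField M) G), CInv N y → SuppCoset N q y →
      ∃ a : ZK M N, y * E = ι (a * Ez M N) * T q ∧
        (aug y = 0 → omegaBar M (oneChar N) a = 0) := by
    intro q y hy hys
    obtain ⟨u, hu⟩ := hcen (T q⁻¹ * T q) ((hTc _).mul (hTc _))
      (by simpa using (hTs q⁻¹).mul (hTs q))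
    have hu0 : omegaBar M (oneChar N) u ≠ 0 := by
      rw [← ιaug, ← hu, aug_mul, hTa, hTa]; exact mul_ne_zero hk0 hk0
    obtain ⟨v, hv⟩ := exists_inv_Ez hM hu0
    obtain ⟨a, ha⟩ := hcen (y * T q⁻¹ * ι v) ((hy.mul (hTc _)).mul (ιcinv v))
      (by simpa using ((hys.mul (hTs q⁻¹)).mul (suppCoset_one_iff.mpr (suppIn_emb _))))
    refine ⟨a, ?_, fun hy0 => by rw [← ιaug, ← ha, aug_mul, aug_mul, hy0, zero_mul, zero_mul]⟩
    calc y * E = y * (T q⁻¹ * T q) * ι (v * Ez M N) := by
          rw [hu, mul_assoc y, ← ιmul, ← mul_assoc u, hv, hEι]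
      _ = y * T q⁻¹ * ι (v * Ez M N) * T q := by
          rw [← mul_assoc y, mul_assoc _ (T q), (ιcomm _ _ (hTc q)).eq, ← mul_assoc]
      _ = ι (a * Ez M N) * T q := by rw [ιmul v, ← mul_assoc, ha, ← ιmul]
  -- each `T q * B` modulo nilpotents
  have hrel : ∀ q, ∃ a : G ⧸ N → ZK M N, (∀ e, IsNilpotent (a e)) ∧
      T q * B = k • B + ∑ e, ι (a e) * T e * B := by
    intro q
    set y := T q * B - k • B with hy
    have hyc : CInv N y := by
      refine cinv_of_commute fun s hs => ?_
      exact (((hTc q).commute hs).mul_right (hBc _).symm).sub_right ((hBc _).symm.smul_right k)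
    have hy0 : ∀ e : G ⧸ N, aug (comp e y) = 0 := by
      intro e
      rw [show comp (N := N) e y = comp e (T q * B) - k • comp e B from ga_ext fun x => by
        simp only [comp, hy, coeff_gaOfFun, MonoidAlgebra.coeff_sub, Finsupp.sub_apply,
          MonoidAlgebra.coeff_smul, Finsupp.smul_apply, smul_eq_mul]
        split_ifs <;> simp, comp_mul_left (hTs q), aug_sub, aug_smul, aug_mul, hTa,
        h.aug_comp_Bg hM (q⁻¹ * e) e, sub_self]
    choose a ha ha0 using fun e =>
      hdec e (comp e y) (cinv_comp hyc e) (suppCoset_comp e y)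
    refine ⟨fun e => a e * Ez M N, fun e => isNilpotent_mul_Ez hM (ha0 e (hy0 e)), ?_⟩
    have : y * E * B = ∑ e, ι (a e * Ez M N) * T e * B := by
      conv_lhs => rw [← sum_comp (N := N) y, Finset.sum_mul, Finset.sum_mul]
      exact Finset.sum_congr rfl fun e _ => by rw [ha e]
    have hBB : B * B = B := congrArg Subtype.val
      (blockBar_mul_self (G := G) hM (.of_isPBlock isPBlock_principalBlock))
    rw [← this, mul_assoc y, hEB, hy, sub_mul, mul_assoc, hBB, smul_mul_assoc, hBB]
    simp
  choose a ha hrel using hrel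
  -- the ideal of multipliers
  let W : Ideal (ZK M N) :=
    { carrier := {w | ∀ q, ∃ b : ZK M N, ι w * T q * B = ι b * B}
      add_mem' := fun {w w'} hw hw' q => by
        obtain ⟨b, hb⟩ := hw q
        obtain ⟨b', hb'⟩ := hw' q
        exact ⟨b + b', by rw [ιadd, add_mul, add_mul, hb, hb', ιadd, add_mul]⟩
      zero_mem' := fun q => ⟨0, by
        rw [show ι 0 = 0 from ga_ext fun x => by simp [ι, emb]]; simp⟩
      smul_mem' := fun r w hw q => by
        obtain ⟨b, hb⟩ := hw q
        exact ⟨r * b, by rw [smul_eq_mul, ιmul, mul_assoc (ι r), mul_assoc (ι r), hb, ιmul,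
          mul_assoc]⟩ }
  let J : Ideal (ZK M N) := Ideal.span (Set.range fun z : (G ⧸ N) × (G ⧸ N) => a z.1 z.2)
  have hstep : ∀ w : ZK M N, (∀ j ∈ J, w * j ∈ W) → w ∈ W := by
    intro w hw q
    have hw' : ∀ e, ∃ b : ZK M N, ι (w * a q e) * T e * B = ι b * B := fun e =>
      hw _ (Ideal.subset_span ⟨(q, e), rfl⟩) e
    choose b hb using hw'
    refine ⟨k • w + ∑ e, b e, ?_⟩
    have ιsum : ι (∑ e, b e) = ∑ e, ι (b e) := map_sum (AddMonoidHom.mk' ι ιadd) b _
    rw [mul_assoc, hrel q, mul_add, mul_smul_comm, ιadd, add_mul, ιsmul, smul_mul_assoc, ιsum,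
      Finset.mul_sum, Finset.sum_mul]
    congr 1
    exact Finset.sum_congr rfl fun e _ => by rw [← hb e, ιmul]; simp only [mul_assoc]
  have hJnil : IsNilpotent J := by
    refine (Ideal.FG.isNilpotent_iff_le_nilradical
      (Submodule.fg_span (Set.finite_range fun z : (G ⧸ N) × (G ⧸ N) => a z.1 z.2))).mpr ?_
    · rw [Ideal.span_le]
      rintro _ ⟨z, rfl⟩
      exact ha z.1 z.2
  have hW : (1 : ZK M N) ∈ W := by
    obtain ⟨m, hm⟩ := hJnil
    have : ∀ i, i ≤ m → J ^ (m - i) ≤ W := by
      intro i
      induction i with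
      | zero => intro _; rw [Nat.sub_zero, hm]; exact bot_le
      | succ i ih =>
        intro hi w hw
        refine hstep w fun j hj => ih (by omega) ?_
        rw [show m - i = m - (i + 1) + 1 by omega, pow_succ]
        exact Ideal.mul_mem_mul hw hj
    exact this m le_rfl (by rw [Nat.sub_self, pow_zero, Ideal.one_eq_top]; trivial)
  -- conclusion
  have hc' : ∀ q : G ⧸ N, ∃ a : MonoidAlgebra (ResField M) G, SuppIn N a ∧
      single (c q) (1 : ResField M) * B = a * B := by
    intro q
    obtain ⟨b, hb⟩ := hW q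
    rw [ιone, one_mul] at hb
    obtain ⟨u, hu⟩ := hcen (T q⁻¹ * T q) ((hTc _).mul (hTc _))
      (by simpa using (hTs q⁻¹).mul (hTs q))
    obtain ⟨v, hv⟩ := exists_inv_Ez (u := u) hM (by
      rw [← ιaug, ← hu, aug_mul, hTa, hTa]; exact mul_ne_zero hk0 hk0)
    set a' := single (c q) (1 : ResField M) * T q⁻¹ * ι (v * Ez M N) with ha'
    have hsupp : SuppIn N a' := by
      rw [← suppCoset_one_iff]
      have h1 := ((suppCoset_single (N := N) (c q) (1 : ResField M)).mul (hTs q⁻¹)).mul
        (suppCoset_one_iff.mpr (suppIn_emb (H := N)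
          ((v * Ez M N : ZK M N) : MonoidAlgebra (ResField M) N)))
      rwa [hcq', mul_inv_cancel, one_mul] at h1
    refine ⟨a' * ι b, hsupp.mul (suppIn_emb _), ?_⟩
    calc single (c q) (1 : ResField M) * B = single (c q) 1 * E * B := by rw [mul_assoc, hEB]
      _ = single (c q) 1 * (T q⁻¹ * T q * ι (v * Ez M N)) * B := by
          rw [hu, ← ιmul, ← mul_assoc u, hv]
      _ = a' * (T q * B) := by
          rw [ha', mul_assoc (T q⁻¹), (ιcomm _ _ (hTc q)).eq]
          simp only [mul_assoc]
      _ = a' * ι b * B := by rw [hb, ha']; simp only [mul_assoc]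
  obtain ⟨a', ha', he⟩ := hc' (g : G ⧸ N)
  set n : G := (c (g : G ⧸ N))⁻¹ * g with hn
  have hnN : n ∈ N := QuotientGroup.eq.mp (hcq' _)
  refine ⟨resTo N (a' * single n 1), ?_⟩
  rw [← eq_emb_of_suppIn (ha'.mul (suppIn_single hnN 1))]
  calc single g (1 : ResField M) * B = single (c (g : G ⧸ N)) 1 * B * single n 1 := by
        rw [mul_assoc, (hBc _).eq, ← mul_assoc, MonoidAlgebra.single_mul_single, mul_one, hn,
          mul_inv_cancel_left]
    _ = a' * single n 1 * B := by rw [he, mul_assoc, (hBc _).eq, ← mul_assoc]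

theorem isUnit_of_res_ne_zero {x : locRing M} (hx : res M x ≠ 0) : IsUnit x := by
  obtain ⟨z, a, b, hb, rfl⟩ := x
  have ha : a ∉ M := fun ha => hx (by
    rw [res_div _ a b hb rfl, Ideal.Quotient.eq_zero_iff_mem.mpr ha, zero_mul])
  refine IsUnit.of_mul_eq_one ⟨(b : ℂ) / (a : ℂ), b, a, ha, rfl⟩ (Subtype.ext ?_)
  have := algInt_coe_ne_zero ha
  have := algInt_coe_ne_zero hb
  simp only [Subring.coe_mul, OneMemClass.coe_one]
  field_simp

/-- Lifting to the local ring. -/
theorem Setup.exists_emb_mul_lift (hM : IsPModular p M) (h : Setup N P) (g : G) :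
    ∃ a : MonoidAlgebra (locRing M) N,
      single g (1 : locRing M) * (blockIdem M (principalBlock M G) : MonoidAlgebra (locRing M) G) =
        emb a * (blockIdem M (principalBlock M G) : MonoidAlgebra (locRing M) G) := by
  classical
  set B := (blockIdem M (principalBlock M G) : MonoidAlgebra (locRing M) G) with hB
  have hBB : B * B = B := congrArg Subtype.val
    (blockIdem_mul_self hM (.of_isPBlock (isPBlock_principalBlock (M := M) (G := G))))
  choose a ha using h.exists_emb_mul (M := M) hM
  choose s hs using res_surjective (M := M)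
  let A : G → MonoidAlgebra (locRing M) N := fun x => gaOfFun fun y => s ((a x).coeff y)
  let mat : Matrix G G (locRing M) := fun x y =>
    (single x (1 : locRing M) * B - emb (A x) * B).coeff y
  have hembK : ∀ z : MonoidAlgebra (locRing M) N,
      toK M (emb z : MonoidAlgebra (locRing M) G) = emb (toK M z) := fun z => ga_ext fun x => by
    by_cases hx : x ∈ N <;> simp [emb, hx]
  have hA : ∀ x, toK M (A x) = a x := fun x => ga_ext fun y => by simp [A, hs]
  have hres : ∀ x y, res M (mat x y) = 0 := by
    intro x y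
    have h1 : toK M (single x (1 : locRing M)) = single x (1 : ResField M) := ga_ext fun z => by
      by_cases hz : z = x
      · subst hz; simp
      · simp [Finsupp.single_eq_of_ne hz]
    have h2 : toK M B = Bg M G := rfl
    rw [← coeff_toK, map_sub, map_mul, map_mul, h1, hembK, hA, h2, ha x, sub_self]
    simp
  have hdet : IsUnit (1 - mat).det := by
    have h1 : res M (1 - mat).det = 1 := by
      rw [RingHom.map_det, show (res M).mapMatrix (1 - mat) = 1 from by
        rw [map_sub, map_one, show (res M).mapMatrix mat = 0 from Matrix.ext fun x y => hres x y,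
          sub_zero], Matrix.det_one]
    exact isUnit_of_res_ne_zero (by rw [h1]; exact one_ne_zero)
  have hsum : ∀ y : MonoidAlgebra (locRing M) G, y = ∑ z, y.coeff z • single z (1 : locRing M) :=
    fun y => ga_ext fun x => by
      rw [coeff_sum_apply, Finset.sum_eq_single x]
      · simp
      · exact fun z _ hz => by simp [Finsupp.single_eq_of_ne hz.symm]
      · simp
  set X : G → MonoidAlgebra (locRing M) G := fun x => single x (1 : locRing M) * B
  set Y : G → MonoidAlgebra (locRing M) G := fun x => emb (A x) * B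
  have hXY : ∀ z, Y z = ∑ y, (1 - mat) z y • X y := by
    intro z
    have h2 : (X z - Y z) * B = ∑ y, mat z y • X y := by
      conv_lhs => rw [hsum (X z - Y z), Finset.sum_mul]
      exact Finset.sum_congr rfl fun y _ => smul_mul_assoc _ _ _
    have h3 : (X z - Y z) * B = X z - Y z := by
      simp only [X, Y, sub_mul, mul_assoc, hBB]
    simp only [Matrix.sub_apply, sub_smul, Finset.sum_sub_distrib, ← h2, h3, Matrix.one_apply,
      ite_smul, one_smul, zero_smul, Finset.sum_ite_eq, Finset.mem_univ, if_true, sub_sub_cancel]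
  have hsol : X g = ∑ z, (1 - mat)⁻¹ g z • Y z := by
    simp only [hXY, Finset.smul_sum, smul_smul]
    rw [Finset.sum_comm]
    simp only [← Finset.sum_smul, ← Matrix.mul_apply, Matrix.nonsing_inv_mul _ hdet,
      Matrix.one_apply, ite_smul, one_smul, zero_smul, Finset.sum_ite_eq, Finset.mem_univ, if_true]
  refine ⟨∑ z, (1 - mat)⁻¹ g z • A z, hsol.trans ?_⟩
  rw [show (emb (∑ z, (1 - mat)⁻¹ g z • A z) : MonoidAlgebra (locRing M) G) =
      ∑ z, (1 - mat)⁻¹ g z • emb (A z) from ga_ext fun x => by
    by_cases hx : x ∈ N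
    · simp [emb, hx, coeff_sum_apply]
    · simp [emb, hx, coeff_sum_apply], Finset.sum_mul]
  exact Finset.sum_congr rfl fun z _ => (smul_mul_assoc _ _ _).symm

/-- The image of `G` in a representation of the principal block is spanned by that of `N`. -/
theorem Setup.exists_rho_eq (hM : IsPModular p M) (h : Setup N P) (g : G) :
    ∃ a : N → ℂ, ∀ {n : ℕ} (ρ : Representation ℂ G (Fin n → ℂ)) (χ : IrrCharacter G),
      ρ.IsIrreducible → ρ.character = (χ : G → ℂ) → χ ∈ principalBlock M G →
        ρ g = ∑ x : N, a x • ρ (x : G) := by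
  classical
  obtain ⟨a, ha⟩ := h.exists_emb_mul_lift (M := M) hM g
  refine ⟨fun x => (a.coeff x : ℂ), fun {n} ρ χ hirr hρ hχ => ?_⟩
  set B := blockIdem M (principalBlock M G)
  have hB1 : ρ.asAlgebraHom (toC M (B : MonoidAlgebra (locRing M) G)) = 1 := by
    rw [rho_classElt ρ (isClassElt_toC B), hρ]
    have := congrArg Subtype.val
      (omegaLoc_blockIdem hM (.of_isPBlock (isPBlock_principalBlock (M := M) (G := G))) χ)
    rw [coe_omegaLoc, if_pos hχ] at this
    rw [this]
    simp
  have he := congrArg (fun z => ρ.asAlgebraHom (toC M z)) ha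
  simp only [map_mul, B] at he hB1
  rw [hB1, mul_one, mul_one] at he
  have hsingle : toC M (single g (1 : locRing M)) = single g (1 : ℂ) := ga_ext fun z => by
    by_cases hz : z = g
    · subst hz; simp
    · simp [Finsupp.single_eq_of_ne hz]
  have hemb : toC M (emb a : MonoidAlgebra (locRing M) G) =
      ∑ x : N, (a.coeff x : ℂ) • single (x : G) (1 : ℂ) := ga_ext fun z => by
    rw [coeff_toC, coeff_sum_apply]
    by_cases hz : z ∈ N
    · rw [Finset.sum_eq_single ⟨z, hz⟩]
      · simp [emb, hz]
      · intro x _ hx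
        have : (x : G) ≠ z := fun e => hx (Subtype.ext e)
        simp [Finsupp.single_eq_of_ne this.symm]
      · simp
    · rw [suppIn_emb a z hz, Finset.sum_eq_zero]
      · simp
      · intro x _
        have : (x : G) ≠ z := fun e => hz (e ▸ x.2)
        simp [Finsupp.single_eq_of_ne this.symm]
  rw [hsingle, hemb, Representation.asAlgebraHom_single_one, map_sum] at he
  rw [he]
  exact Finset.sum_congr rfl fun x _ => by rw [map_smul, Representation.asAlgebraHom_single_one]

/-- Restriction from the principal block of `G` is irreducible, inside the principal block of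
`N`. -/
theorem Setup.restrict_mem (hM : IsPModular p M) (h : Setup N P) {χ : IrrCharacter G}
    (hχ : χ ∈ principalBlock M G) :
    ∃ θ ∈ principalBlock M N, ∀ x : N, (χ : G → ℂ) x = (θ : N → ℂ) x := by
  classical
  obtain ⟨n, ρ, hirr, hρ⟩ := χ.2
  let σ : Representation ℂ N (Fin n → ℂ) := ρ.comp N.subtype
  have hσ : σ.IsIrreducible := by
    have hbot : ∀ W : Subrepresentation σ, ∀ g : G, ∀ w ∈ W, ρ g w ∈ W := by
      intro W g w hw
      obtain ⟨a, ha⟩ := h.exists_rho_eq (M := M) hM g
      rw [ha ρ χ hirr hρ hχ, LinearMap.sum_apply]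
      refine Submodule.sum_mem W.toSubmodule fun x _ => ?_
      rw [LinearMap.smul_apply]
      exact Submodule.smul_mem _ _ (W.apply_mem_toSubmodule x hw)
    have := Char.nontrivial_of_irreducible ρ
    have hne : Nontrivial (Subrepresentation σ) := by
      refine ⟨⊥, ⊤, fun e => ?_⟩
      have e' : (⊥ : Submodule ℂ (Fin n → ℂ)) = ⊤ := congrArg Subrepresentation.toSubmodule e
      exact bot_ne_top e'
    refine ⟨fun S => ?_⟩
    rcases hirr.eq_bot_or_eq_top ⟨S.toSubmodule, fun g w hw => hbot S g w hw⟩ with e | e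
    · have e' : S.toSubmodule = ⊥ := congrArg Subrepresentation.toSubmodule e
      exact Or.inl (Subrepresentation.toSubmodule_injective e')
    · have e' : S.toSubmodule = ⊤ := congrArg Subrepresentation.toSubmodule e
      exact Or.inr (Subrepresentation.toSubmodule_injective e')
  let θ : IrrCharacter N := ⟨σ.character, Char.isIrrCharacter_character σ⟩
  have hval : ∀ x : N, (χ : G → ℂ) x = (θ : N → ℂ) x := fun x => (congrFun hρ x).symm
  refine ⟨θ, ?_, hval⟩
  set B := principalBlock M G
  have hE1 : omegaBar M θ (Ez M N) = 1 := by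
    have hcl : IsClassElt
        (emb (Ez M N : MonoidAlgebra (ResField M) N) : MonoidAlgebra (ResField M) G) := by
      intro g x
      conv_lhs => rw [← cj_emb_Ez (M := M) (N := N) x]
      rw [coeff_cj, show x⁻¹ * (x * g * x⁻¹) * x = g by group]
    let E' : ZK M G := ⟨_, mem_center_iff_isClassElt.mpr hcl⟩
    have hEB : E' * blockBar M B = blockBar M B := Subtype.ext (emb_Ez_mul_Bg hM)
    have h1 : omegaBar M χ E' = 1 := by
      have := congrArg (omegaBar M χ) hEB
      rwa [map_mul, omegaBar_blockBar hM (.of_isPBlock isPBlock_principalBlock), if_pos hχ,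
        mul_one] at this
    rw [← h1, omegaBar_eq_omegaBar_resHK χ θ hval E' (fun g hg => suppIn_emb _ g hg)]
    congr 1
    exact Subtype.ext (ga_ext fun x => by simp [E', coeff_resHK, coeff_emb_coe])
  by_contra hθ
  rw [omegaBar_blockBar hM (.of_isPBlock isPBlock_principalBlock), if_neg hθ] at hE1
  exact zero_ne_one hE1

theorem Setup.aug_comp_Bg_ne_zero (hM : IsPModular p M) (h : Setup N P) :
    aug (comp (1 : G ⧸ N) (Bg M G)) ≠ 0 := by
  classical
  have := Fintype.ofFinite (G ⧸ N)
  intro h0
  have h1 : aug (Bg M G) = 1 := by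
    have h3 := omegaBar_blockBar hM (.of_isPBlock (isPBlock_principalBlock (M := M) (G := G)))
      (χ := oneChar G)
    rw [if_pos one_mem_principalBlock] at h3
    rw [← h3]
    exact (omegaBar_oneChar_eq_aug _).symm
  have h2 : aug (Bg M G) = ∑ q : G ⧸ N, aug (comp q (Bg M G)) := by
    conv_lhs => rw [← sum_comp (N := N) (Bg M G)]
    simp only [aug, coeff_sum_apply]
    exact Finset.sum_comm
  rw [h1, Finset.sum_eq_zero fun q _ => (h.aug_comp_Bg hM q 1).trans h0] at h2
  exact one_ne_zero h2

/-- Every member of the principal block of `N` extends to the principal block of `G`. -/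
theorem Setup.exists_extension (hM : IsPModular p M) (h : Setup N P) {θ : IrrCharacter N}
    (hθ : θ ∈ principalBlock M N) :
    ∃! χ : IrrCharacter G, χ ∈ principalBlock M G ∧ ∀ x : N, (χ : G → ℂ) x = (θ : N → ℂ) x := by
  classical
  have := Fintype.ofFinite (IrrCharacter G)
  have hex : ∃ χ, χ ∈ principalBlock M G ∧ ∀ x : N, (χ : G → ℂ) x = (θ : N → ℂ) x := by
    by_contra hne
    have hS := IsBlockUnion.of_isPBlock (isPBlock_principalBlock (M := M) (G := G))
    -- the truncation of the idempotent is killed by `θ`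
    have h0 : omegaLoc M θ (resHL M N (blockIdem M (principalBlock M G))) = 0 := by
      apply Subtype.ext
      rw [coe_omegaLoc, omega, ZeroMemClass.coe_zero,
        Finset.sum_congr rfl (g := fun x : N => blockCoeff (principalBlock M G) (x : G) *
          (θ : N → ℂ) x) fun x _ => by
            rw [coeff_toC, ← coe_coeff_blockIdem hM hS]
            simp [resHL]]
      simp only [blockCoeff, finsum_mem_eq_toFinset_sum, Finset.mul_sum, Finset.sum_mul]
      rw [Finset.sum_comm, Finset.sum_eq_zero, zero_div]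
      intro χ hχ
      obtain ⟨θ', -, hval⟩ := h.restrict_mem hM (Set.mem_toFinset.mp hχ)
      have hne' : θ ≠ θ' := fun e => hne ⟨χ, Set.mem_toFinset.mp hχ, by rw [e]; exact hval⟩
      have horth := Char.classInner_irr_ne hne'
      rw [classInner] at horth
      have horth' := (mul_eq_zero.mp horth).resolve_left
        (inv_ne_zero (Nat.cast_ne_zero.mpr Nat.card_pos.ne'))
      calc _ = (Nat.card G : ℂ)⁻¹ * (χ : G → ℂ) 1 * ∑ x : N, (θ : N → ℂ) x * conj ((θ' : N → ℂ) x) := by
            rw [Finset.mul_sum]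
            exact Finset.sum_congr rfl fun x _ => by rw [hval x]; ring
        _ = 0 := by rw [horth', mul_zero]
    have h1 : omegaBar M θ (resHK M N (blockBar M (principalBlock M G))) = 0 := by
      rw [blockBar, resHK_toKC, omegaBar_toKC, omegaRes, RingHom.comp_apply, h0, map_zero]
    rw [omegaBar_eq_of_mem isPBlock_principalBlock hθ one_mem_principalBlock,
      omegaBar_one_eq_aug] at h1
    apply h.aug_comp_Bg_ne_zero (M := M) hM
    rw [← h1]
    rw [aug_comp (g₀ := (1 : G)) (QuotientGroup.mk_one N)]
    exact Finset.sum_congr rfl fun x _ => by simp [coeff_resHK]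
  obtain ⟨χ, hχ, hval⟩ := hex
  refine ⟨χ, ⟨hχ, hval⟩, ?_⟩
  rintro χ' ⟨hχ', hval'⟩
  refine Subtype.ext (funext fun g => ?_)
  obtain ⟨a, ha⟩ := h.exists_rho_eq (M := M) hM g
  obtain ⟨n, ρ, hirr, hρ⟩ := χ.2
  obtain ⟨n', ρ', hirr', hρ'⟩ := χ'.2
  have e1 : (χ : G → ℂ) g = ∑ x : N, a x * (θ : N → ℂ) x := by
    rw [← hρ, Representation.character, ha ρ χ hirr hρ hχ, map_sum]
    exact Finset.sum_congr rfl fun x _ => by
      rw [map_smul, smul_eq_mul, ← hval, ← hρ]; rfl
  have e2 : (χ' : G → ℂ) g = ∑ x : N, a x * (θ : N → ℂ) x := by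
    rw [← hρ', Representation.character, ha ρ' χ' hirr' hρ' hχ', map_sum]
    exact Finset.sum_congr rfl fun x _ => by
      rw [map_smul, smul_eq_mul, ← hval', ← hρ']; rfl
  rw [e1, e2]

end CfsgLib.Block.Iso
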