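import Cfsg.Agent.Lib.Block.CoveringUnique
import Cfsg.Agent.Lib.Block.Subsection
import Cfsg.Agent.Lib.Block.TraceFun
import Cfsg.Agent.Lib.Char.Clifford
import Cfsg.Agent.Lib.Coprime.Core

/-!
# Cores in the kernels of Brauer pairs

`avgG L` is the reduced averaging idempotent of a subgroup of order prime to `p`.  A block of `K`
has the normal subgroup `L` of order prime to `p` in its kernel iff its functional is one at
`avgG L`, and this value passes from the upper to the lower pair of a normal inclusion, `L` being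
replaced by `L ⊓ C(R)`.
-/

open Finset MonoidAlgebra
open scoped ComplexConjugate

set_option linter.unusedSectionVars false

namespace CfsgLib.Block

open Cfsg CfsgLib.Coprime
open scoped Pair

universe u

variable {p : ℕ} {M : Ideal AlgInt} [M.IsMaximal] {G : Type u} [Group G] [Fintype G] [DecidableEq G]
  {K L Q R : Subgroup G}

variable (M) in
/-- The averaging idempotent of a subgroup. -/
noncomputable def avgG (L : Subgroup G) : MonoidAlgebra (ResField M) G :=
  gaOfFun fun g => @ite _ (g ∈ L) (Classical.propDecidable _) ((Nat.card L : ResField M)⁻¹) 0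

theorem coeff_avgG {g : G} (hg : g ∈ L) :
    (avgG M L).coeff g = ((Nat.card L : ResField M)⁻¹) := by
  simp only [avgG, coeff_gaOfFun, if_pos hg]

theorem suppIn_avgG (hLK : L ≤ K) : SuppIn K (avgG M L) := fun g hg => by
  simp only [avgG, coeff_gaOfFun, if_neg fun h => hg (hLK h)]

theorem cinv_avgG (hK : K ≤ Subgroup.normalizer (L : Set G)) : CInv K (avgG M L) := by
  intro s hs g
  have h : g ∈ L ↔ s * g * s⁻¹ ∈ L := Subgroup.mem_normalizer_iff.mp (hK hs) g
  by_cases hg : g ∈ L
  · rw [coeff_avgG hg, coeff_avgG (h.mp hg)]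
  · rw [suppIn_avgG le_rfl g hg, suppIn_avgG le_rfl _ (mt h.mpr hg)]

theorem card_ne_zero_resField (hM : IsPModular p M) (hL : ¬ p ∣ Nat.card L) :
    (Nat.card L : ResField M) ≠ 0 := fun h0 => by
  have := charP_resField hM
  exact hL ((CharP.cast_eq_zero_iff _ p _).mp h0)

theorem avgG_mul_self (hM : IsPModular p M) (hL : ¬ p ∣ Nat.card L) :
    avgG M L * avgG M L = avgG M L := by
  classical
  refine ga_ext fun g => ?_
  rw [coeff_mul_sum]
  by_cases hg : g ∈ L
  · rw [coeff_avgG hg, ← Finset.sum_subset (Finset.subset_univ (Finset.univ.filter (fun h : G => h ∈ L)))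
      fun h _ hh => by rw [suppIn_avgG le_rfl h (by simpa using hh), zero_mul],
      Finset.sum_congr rfl (g := fun _ => ((Nat.card L : ResField M)⁻¹) * ((Nat.card L : ResField M)⁻¹))
        fun h hh => ?_, Finset.sum_const, nsmul_eq_mul,
      ← Fintype.card_subtype, ← Nat.card_eq_fintype_card, ← mul_assoc]
    · exact by rw [mul_inv_cancel₀ (card_ne_zero_resField hM hL), one_mul]
    · have hh' := (Finset.mem_filter.mp hh).2
      rw [coeff_avgG hh', coeff_avgG (L.mul_mem (L.inv_mem hh') hg)]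
  · rw [suppIn_avgG le_rfl g hg]
    refine Finset.sum_eq_zero fun h _ => ?_
    by_cases hh : h ∈ L
    · rw [suppIn_avgG le_rfl (h⁻¹ * g) fun h' => hg (by simpa using L.mul_mem hh h'), mul_zero]
    · rw [suppIn_avgG le_rfl h hh, zero_mul]

/-- The Brauer map takes averages to averages. -/
theorem trC_avgG (hM : IsPModular p M) (hR : IsPGroup p R)
    (hRN : R ≤ Subgroup.normalizer (L : Set G)) (hL : ¬ p ∣ Nat.card L) :
    trC R (avgG M L) = avgG M (L ⊓ CQ R) := by
  classical
  have hid : trC R (avgG M L) * trC R (avgG M L) = trC R (avgG M L) := by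
    rw [← trC_mul hM hR (cinv_avgG hRN) (cinv_avgG hRN), avgG_mul_self hM hL]
  set c : ResField M := (Nat.card L : ResField M)⁻¹ with hc
  have hin : ∀ g ∈ L ⊓ CQ R, (trC R (avgG M L)).coeff g = c := fun g hg => by
    rw [coeff_trC _ hg.2, coeff_avgG hg.1]
  have hout : ∀ g, g ∉ L ⊓ CQ R → (trC R (avgG M L)).coeff g = 0 := fun g hg => by
    by_cases h : g ∈ CQ R
    · rw [coeff_trC _ h, suppIn_avgG le_rfl g fun h' => hg ⟨h', h⟩]
    · rw [suppIn_trC _ g h]
  have h1 := congrArg (fun y : MonoidAlgebra (ResField M) G => y.coeff 1) hid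
  simp only [coeff_mul_sum, hin 1 (one_mem _)] at h1
  rw [← Finset.sum_subset (Finset.subset_univ (Finset.univ.filter (fun h : G => h ∈ L ⊓ CQ R)))
      fun h _ hh => by rw [hout h (by simpa using hh), zero_mul],
    Finset.sum_congr rfl (g := fun _ => c * c) fun h hh => by
      have hh' := (Finset.mem_filter.mp hh).2
      rw [hin h hh', hin _ (by simpa using (L ⊓ CQ R).inv_mem hh')],
    Finset.sum_const, nsmul_eq_mul, ← Fintype.card_subtype, ← Nat.card_eq_fintype_card,
    ← mul_assoc] at h1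
  have hc0 : c ≠ 0 := inv_ne_zero (card_ne_zero_resField hM hL)
  have h2 : c = (Nat.card ↥(L ⊓ CQ R) : ResField M)⁻¹ :=
    eq_inv_of_mul_eq_one_right (mul_right_cancel₀ hc0 (h1.trans (one_mul c).symm))
  refine ga_ext fun g => ?_
  by_cases hg : g ∈ L ⊓ CQ R
  · rw [hin g hg, coeff_avgG hg, h2]
  · rw [hout g hg, suppIn_avgG le_rfl g hg]

/-- All members of a set of characters of `K` are trivial on `L`. -/
def Triv (L : Subgroup G) {K : Subgroup G} (f : Set (IrrCharacter K)) : Prop :=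
  ∀ θ ∈ f, ∀ k : K, (k : G) ∈ L → (θ : K → ℂ) k = (θ : K → ℂ) 1

theorem Triv.mono {L' : Subgroup G} {f : Set (IrrCharacter K)} (h : Triv L f) (hL : L' ≤ L) :
    Triv L' f := fun θ hθ k hk => h θ hθ k (hL hk)

/-- An irreducible character is trivial on a normal subgroup as soon as its sum there is not zero. -/
theorem trivial_of_sum_ne_zero {A : Type u} [Group A] [Fintype A] {N : Subgroup A} [N.Normal]
    (θ : IrrCharacter A) (h : ∑ n : N, (θ : A → ℂ) n ≠ 0) {a : A} (ha : a ∈ N) :
    (θ : A → ℂ) a = (θ : A → ℂ) 1 := by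
  classical
  have hc : classInner (fun n : N => (θ : A → ℂ) n) (oneChar N : N → ℂ) ≠ 0 := by
    simp only [classInner, oneChar, map_one, mul_one]
    exact mul_ne_zero (inv_ne_zero (Nat.cast_ne_zero.mpr Nat.card_pos.ne')) h
  have hs := Char.clifford_smul N θ.2 (oneChar N).2 hc
  have hI : ∀ x : N, Cfsg.indFun N (oneChar N : N → ℂ) x = Cfsg.indFun N (oneChar N : N → ℂ) ((1 : N) : A) := by
    intro x
    simp only [Cfsg.indFun, extendByZero]
    congr 1
    refine Finset.sum_congr rfl fun g _ => ?_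
    have h1 : g⁻¹ * (x : A) * g ∈ N := by
      simpa using (inferInstance : N.Normal).conj_mem _ x.2 g⁻¹
    have h2 : g⁻¹ * ((1 : N) : A) * g ∈ N := by simp [N.one_mem]
    have key : ∀ {z : A}, z ∈ N →
        Function.extend (Subtype.val : N → A) (oneChar N : N → ℂ) 0 z = 1 := fun {z} hz => by
      rw [show z = ((⟨z, hz⟩ : N) : A) from rfl, Subtype.val_injective.extend_apply]
      rfl
    exact (key h1).trans (key h2).symm
  have e1 := congrFun hs ⟨a, ha⟩
  have e2 := congrFun hs (1 : N)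
  simp only [Pi.smul_apply, smul_eq_mul] at e1 e2
  rw [hI ⟨a, ha⟩, ← e2] at e1
  simpa using mul_left_cancel₀ (Nat.cast_ne_zero.mpr Nat.card_pos.ne') e1

/-- The functional at an average. -/
theorem omG_avgG_eq_one_iff (hM : IsPModular p M) (hLK : L ≤ K)
    (hKN : K ≤ Subgroup.normalizer (L : Set G)) (hL : ¬ p ∣ Nat.card L) (θ : IrrCharacter K) :
    omG M θ (avgG M L) = 1 ↔ ∀ k : K, (k : G) ∈ L → (θ : K → ℂ) k = (θ : K → ℂ) 1 := by
  classical
  set N := L.subgroupOf K with hN
  have hNn : N.Normal := (Subgroup.normal_subgroupOf_iff_le_normalizer hLK).mpr hKN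
  have hT : ∀ x c : K, c * x * c⁻¹ ∈ (N : Set K) ↔ x ∈ (N : Set K) := fun x c =>
    ⟨fun h => by simpa [mul_assoc] using hNn.conj_mem _ h c⁻¹, fun h => hNn.conj_mem _ h c⟩
  set w := omegaLoc M θ (setSum M (N : Set K) hT) with hw
  have hres : omG M θ (avgG M L) = (Nat.card L : ResField M)⁻¹ * res M w := by
    rw [omG_eq θ _ (((Nat.card L : ResField M)⁻¹) • toKC M (setSum M (N : Set K) hT)) fun k => ?_,
      omegaBar_smul, omegaBar_toKC, omegaRes, RingHom.comp_apply]
    rw [SetLike.val_smul, MonoidAlgebra.coeff_smul, Finsupp.smul_apply, coe_toKC, coeff_toK]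
    simp only [setSum, coeff_gaOfFun, SetLike.mem_coe, hN, Subgroup.mem_subgroupOf, smul_eq_mul]
    by_cases hk : (k : G) ∈ L
    · rw [if_pos hk, map_one, mul_one, coeff_avgG hk]
    · rw [if_neg hk, map_zero, mul_zero, suppIn_avgG le_rfl _ hk]
  have hwc : (w : ℂ) = (∑ n : N, (θ : K → ℂ) n) / (θ : K → ℂ) 1 := by
    rw [hw, coe_omegaLoc, omega_setSum, finsum_mem_eq_toFinset_sum, Finset.sum_div,
      Finset.sum_subtype (p := fun x => x ∈ N) _ fun x => by simp]
  have hcard : Nat.card N = Nat.card L := Nat.card_congr (Subgroup.subgroupOfEquivOfLe hLK).toEquiv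
  constructor
  · intro h k hk
    refine trivial_of_sum_ne_zero (N := N) θ (fun h0 => ?_) (Subgroup.mem_subgroupOf.mpr hk)
    have : w = 0 := Subtype.ext (by rw [hwc, h0, zero_div]; rfl)
    rw [hres, this, map_zero, mul_zero] at h
    exact zero_ne_one h
  · intro h
    have : w = (Nat.card L : locRing M) := Subtype.ext (by
      rw [hwc, Finset.sum_congr rfl fun (n : N) _ => h (n : K) (Subgroup.mem_subgroupOf.mp (show (n : K) ∈ N from n.2)),
        Finset.sum_const, Finset.card_univ, ← Nat.card_eq_fintype_card, hcard, nsmul_eq_mul,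
        mul_div_assoc, div_self (Char.irr_one_ne_zero θ), mul_one, SubringClass.coe_natCast])
    rw [hres, this, map_natCast, inv_mul_cancel₀ (card_ne_zero_resField hM hL)]

/-- Triviality on `L` for a block of `K` is seen by the functional. -/
theorem triv_iff_omG (hM : IsPModular p M) (hLK : L ≤ K)
    (hKN : K ≤ Subgroup.normalizer (L : Set G)) (hL : ¬ p ∣ Nat.card L)
    {f : Set (IrrCharacter K)} (hf : IsPBlock M f) {η : IrrCharacter K} (hη : η ∈ f) :
    Triv L f ↔ omG M η (avgG M L) = 1 := by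
  constructor
  · intro h
    exact (omG_avgG_eq_one_iff hM hLK hKN hL η).mpr (h η hη)
  · intro h θ hθ
    exact (omG_avgG_eq_one_iff hM hLK hKN hL θ).mp ((omG_congr_block hf hθ hη _).trans h)

theorem not_dvd_card_of_le {L' : Subgroup G} (h : L' ≤ L) (hL : ¬ p ∣ Nat.card L) :
    ¬ p ∣ Nat.card L' := fun hd => hL (hd.trans (Subgroup.card_dvd_of_le h))

theorem le_normalizer_inf_cq {S : Subgroup G} (hL : S ≤ Subgroup.normalizer (L : Set G))
    (hR : S ≤ Subgroup.normalizer (R : Set G)) :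
    S ≤ Subgroup.normalizer ((L ⊓ CQ R : Subgroup G) : Set G) := fun s hs =>
  Subgroup.mem_normalizer_iff.mpr fun g => by
    simp only [Subgroup.mem_inf]
    rw [Subgroup.mem_normalizer_iff.mp (hL hs) g, cq_conj_iff (hR hs) g]

/-- Triviality along a normal inclusion of pairs. -/
theorem NSub.triv_iff (hM : IsPModular p M) {f : Set (IrrCharacter (CQ Q))}
    {e : Set (IrrCharacter (CQ R))} (h : NSub p M Q f R e) (hLQ : L ≤ CQ Q)
    (hQN : CQ Q ≤ Subgroup.normalizer (L : Set G)) (hRN : R ≤ Subgroup.normalizer (L : Set G))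
    (hL : ¬ p ∣ Nat.card L) : Triv L f ↔ Triv (L ⊓ CQ R) e := by
  classical
  obtain ⟨η, hη⟩ := isPBlock_nonempty h.pairL.2
  obtain ⟨ξ, hξ⟩ := isPBlock_nonempty h.pairR.2
  have hN' : CQ R ≤ Subgroup.normalizer ((L ⊓ CQ R : Subgroup G) : Set G) :=
    le_normalizer_inf_cq ((cq_mono h.le).trans hQN) (centralizer_le_normalizer' R)
  rw [triv_iff_omG hM hLQ hQN hL h.pairL.2 hη,
    triv_iff_omG hM inf_le_right hN' (not_dvd_card_of_le inf_le_left hL) h.pairR.2 hξ,
    ← trC_avgG hM h.pairR.1 hRN hL, ← h.omG_eq hM hξ hη (suppIn_avgG hLQ) (cinv_avgG hQN) (cinv_avgG hRN),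
    omG_congr ξ fun g hg => (coeff_trC (avgG M L) hg).symm]

/-! ### Cores of subgroups -/

variable {σ : Set ℕ}

/-- The core of a subgroup, inside the group. -/
noncomputable def coreIn (σ : Set ℕ) (K : Subgroup G) : Subgroup G :=
  (Cfsg.piCore σ K).map K.subtype

theorem coe_mem_coreIn {k : K} : (k : G) ∈ coreIn σ K ↔ k ∈ Cfsg.piCore σ K := by
  simp [coreIn]

theorem coreIn_le : coreIn σ K ≤ K := Subgroup.map_subtype_le _

theorem isPiNum_coreIn (σ : Set ℕ) (K : Subgroup G) : IsPiNum σ (Nat.card (coreIn σ K)) := by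
  rw [coreIn, Subgroup.card_map_of_injective K.subtype_injective]
  exact piCore_isPiNum σ

theorem not_dvd_card_coreIn (hp : p.Prime) (hσ : p ∉ σ) : ¬ p ∣ Nat.card (coreIn σ K) :=
  fun h => hσ (isPiNum_coreIn σ K p hp h)

theorem le_coreIn {N : Subgroup G} (hNK : N ≤ K) (hn : K ≤ Subgroup.normalizer (N : Set G))
    (hc : IsPiNum σ (Nat.card N)) : N ≤ coreIn σ K := by
  have := (Subgroup.normal_subgroupOf_iff_le_normalizer hNK).mpr hn
  have h : N.subgroupOf K ≤ Cfsg.piCore σ K :=
    le_piCore (by rwa [Nat.card_congr (Subgroup.subgroupOfEquivOfLe hNK).toEquiv])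
  exact fun g hg => coe_mem_coreIn (k := ⟨g, hNK hg⟩).mpr (h (Subgroup.mem_subgroupOf.mpr hg))

theorem self_le_normalizer_coreIn : K ≤ Subgroup.normalizer (coreIn σ K : Set G) := fun s hs =>
  Subgroup.mem_normalizer_iff.mpr fun g => by
    have key : ∀ {s g : G}, s ∈ K → g ∈ coreIn σ K → s * g * s⁻¹ ∈ coreIn σ K := by
      intro s g hs hg
      obtain ⟨k, hk, rfl⟩ := Subgroup.mem_map.mp hg
      exact Subgroup.mem_map.mpr ⟨⟨s, hs⟩ * k * ⟨s, hs⟩⁻¹,
        (Cfsg.piCore_normal σ K).conj_mem k hk _, by simp⟩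
    exact ⟨key hs, fun h => by simpa [mul_assoc] using key (K.inv_mem hs) h⟩

/-- Conjugation by `n` carries cores to cores. -/
theorem conj_mem_coreIn {K' : Subgroup G} {n : G} (h : ∀ g, g ∈ K ↔ n * g * n⁻¹ ∈ K') {g : G}
    (hg : g ∈ coreIn σ K) : n * g * n⁻¹ ∈ coreIn σ K' := by
  have h1 : (coreIn σ K).map (MulAut.conj n).toMonoidHom ≤ coreIn σ K' := by
    refine le_coreIn ?_ ?_ ?_
    · rintro _ ⟨x, hx, rfl⟩
      exact (h x).mp (coreIn_le hx)
    · intro s hs
      refine Subgroup.mem_normalizer_iff.mpr fun x => ?_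
      rw [Subgroup.mem_map_equiv, Subgroup.mem_map_equiv]
      have hs' : n⁻¹ * s * n ∈ K := (h _).mpr (by simpa [mul_assoc] using hs)
      rw [Subgroup.mem_normalizer_iff.mp (self_le_normalizer_coreIn hs') ((MulAut.conj n).symm x)]
      simp [MulAut.conj_symm_apply, mul_assoc]
    · rw [Subgroup.card_map_of_injective (MulAut.conj n).injective]
      exact isPiNum_coreIn σ K
  exact h1 ⟨g, hg, rfl⟩

theorem normalizer_le_normalizer_coreIn_cq :
    Subgroup.normalizer (Q : Set G) ≤ Subgroup.normalizer (coreIn σ (CQ Q) : Set G) := fun s hs =>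
  Subgroup.mem_normalizer_iff.mpr fun g => by
    refine ⟨fun hg => conj_mem_coreIn (cq_conj_iff hs) hg, fun hg => ?_⟩
    simpa [mul_assoc] using conj_mem_coreIn (cq_conj_iff (Subgroup.inv_mem _ hs)) hg

theorem coreIn_inf_cq_le (σ : Set ℕ) (h : Q ≤ R) (hR : R ≤ Subgroup.normalizer (Q : Set G)) :
    coreIn σ (CQ Q) ⊓ CQ R ≤ coreIn σ (CQ R) :=
  le_coreIn inf_le_right
    (le_normalizer_inf_cq ((cq_mono h).trans self_le_normalizer_coreIn) (centralizer_le_normalizer' R))
    ((isPiNum_coreIn σ _).of_dvd (Subgroup.card_dvd_of_le inf_le_left))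

theorem isPiNum_orderOf_of_mem {g : G} (hg : g ∈ coreIn σ K) : IsPiNum σ (orderOf g) :=
  (isPiNum_coreIn σ K).of_dvd (Subgroup.orderOf_dvd_natCard _ hg)

/-! ### The pairs of a block -/

/-- The core of the centralizer of the pair lies in the kernel of the pair. -/
def CoreTriv (σ : Set ℕ) (a : BrauerPairIdx G) : Prop := Triv (coreIn σ (CQ a.1)) a.2

/-- The core of the centralizer of `Q` contains all its `σ`-elements. -/
def CoreHall (σ : Set ℕ) (Q : Subgroup G) : Prop :=
  ∀ x ∈ CQ Q, IsPiNum σ (orderOf x) → x ∈ coreIn σ (CQ Q)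

theorem NSub.coreTriv_down (hM : IsPModular p M) (hσ : p ∉ σ) {f : Set (IrrCharacter (CQ Q))}
    {e : Set (IrrCharacter (CQ R))} (h : NSub p M Q f R e) (he : CoreTriv σ ⟨R, e⟩) :
    CoreTriv σ ⟨Q, f⟩ :=
  (h.triv_iff hM coreIn_le self_le_normalizer_coreIn (h.norm.trans normalizer_le_normalizer_coreIn_cq)
    (not_dvd_card_coreIn hM.1 hσ)).mpr (Triv.mono he (coreIn_inf_cq_le σ h.le h.norm))

theorem NSub.coreTriv_up (hM : IsPModular p M) (hσ : p ∉ σ) {f : Set (IrrCharacter (CQ Q))}
    {e : Set (IrrCharacter (CQ R))} (h : NSub p M Q f R e) (hH : CoreHall σ Q)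
    (hf : CoreTriv σ ⟨Q, f⟩) : CoreHall σ R ∧ CoreTriv σ ⟨R, e⟩ := by
  refine ⟨fun x hx hxo => coreIn_inf_cq_le σ h.le h.norm ⟨hH x (cq_mono h.le hx) hxo, hx⟩, ?_⟩
  refine Triv.mono ((h.triv_iff hM coreIn_le self_le_normalizer_coreIn
    (h.norm.trans normalizer_le_normalizer_coreIn_cq) (not_dvd_card_coreIn hM.1 hσ)).mp hf)
    fun g hg => ⟨hH g (cq_mono h.le (coreIn_le hg)) (isPiNum_orderOf_of_mem hg), coreIn_le hg⟩

theorem SubpairLE.coreTriv_down (hM : IsPModular p M) (hσ : p ∉ σ) {f : Set (IrrCharacter (CQ Q))}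
    {e : Set (IrrCharacter (CQ R))} (h : SubpairLE p M Q f R e) (he : CoreTriv σ ⟨R, e⟩) :
    CoreTriv σ ⟨Q, f⟩ := by
  suffices ∀ {a b : BrauerPairIdx G}, Relation.ReflTransGen (NormalSubpairRel p M) a b →
      CoreTriv σ b → CoreTriv σ a from this h he
  intro a b h
  induction h with
  | refl => exact id
  | tail _ hbc ih => exact fun hc => ih (((isNormalSubpair_iff hM).mp hbc).coreTriv_down hM hσ hc)

theorem SubpairLE.coreTriv_up (hM : IsPModular p M) (hσ : p ∉ σ) {f : Set (IrrCharacter (CQ Q))}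
    {e : Set (IrrCharacter (CQ R))} (h : SubpairLE p M Q f R e) (hH : CoreHall σ Q)
    (hf : CoreTriv σ ⟨Q, f⟩) : CoreHall σ R ∧ CoreTriv σ ⟨R, e⟩ := by
  suffices ∀ {a b : BrauerPairIdx G}, Relation.ReflTransGen (NormalSubpairRel p M) a b →
      CoreHall σ a.1 → CoreTriv σ a → CoreHall σ b.1 ∧ CoreTriv σ b from this h hH hf
  intro a b h h1 h2
  induction h with
  | refl => exact ⟨h1, h2⟩
  | tail _ hbc ih => exact ((isNormalSubpair_iff hM).mp hbc).coreTriv_up hM hσ ih.1 ih.2

theorem coreTriv_conjBlock (σ : Set ℕ) (x : G) {f : Set (IrrCharacter (CQ Q))}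
    (h : CoreTriv σ ⟨Q, f⟩) : CoreTriv σ ⟨cjS x Q, conjBlock Q x f⟩ := by
  intro θ' hθ' k hk
  obtain ⟨θ, hθ, hc⟩ := hθ'
  have hback : ∀ g, g ∈ CQ (cjS x Q) ↔ x⁻¹ * g * x⁻¹⁻¹ ∈ CQ Q := fun g => by
    rw [cq_cjS_iff x Q]
    simp [mul_assoc]
  have hkm := conj_mem_coreIn hback hk
  have hkC : x⁻¹ * (k : G) * x⁻¹⁻¹ ∈ CQ Q := coreIn_le hkm
  rw [hc ⟨_, hkC⟩ k (by simp [mul_assoc]), hc 1 1 (by simp)]
  exact h θ hθ ⟨_, hkC⟩ hkm

theorem coreTriv_of_conjBlock (hM : IsPModular p M) (x : G) {f : Set (IrrCharacter (CQ Q))}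
    (hf : IsPBlock M f) (h : CoreTriv σ ⟨cjS x Q, conjBlock Q x f⟩) : CoreTriv σ ⟨Q, f⟩ := by
  have h1 : CoreTriv σ (cjP x⁻¹ (cjP x ⟨Q, f⟩)) := coreTriv_conjBlock σ x⁻¹ h
  rwa [cjP_cjP hM _ _ hf, inv_mul_cancel, cjP_one hM hf] at h1

theorem coreHall_cjS (x : G) (h : CoreHall σ Q) : CoreHall σ (cjS x Q) := by
  intro g hg ho
  have hback : x⁻¹ * g * x ∈ CQ Q := (cq_cjS_iff x Q _).mpr (by simpa [mul_assoc] using hg)
  have h1 := h _ hback (by
    rwa [show x⁻¹ * g * x = MulAut.conj x⁻¹ g by simp, MulEquiv.orderOf_eq])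
  simpa [mul_assoc] using conj_mem_coreIn (cq_cjS_iff x Q) h1

/-! ### The normalizer of a defect group -/

theorem coreIn_normalizer_eq (hσ : p ∉ σ) [Fact p.Prime] (hQ : IsPGroup p Q) :
    coreIn σ (Subgroup.normalizer (Q : Set G)) = coreIn σ (CQ Q) := by
  set N := Subgroup.normalizer (Q : Set G) with hN
  refine le_antisymm ?_ (le_coreIn (coreIn_le.trans (centralizer_le_normalizer' Q))
    normalizer_le_normalizer_coreIn_cq (isPiNum_coreIn σ _))
  have hC : coreIn σ N ≤ CQ Q := by
    intro g hg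
    refine Subgroup.mem_centralizer_iff.mpr fun u hu => ?_
    have hn1 := (Subgroup.normal_subgroupOf_iff_le_normalizer Subgroup.le_normalizer).mpr
      (le_refl (Subgroup.normalizer (Q : Set G)))
    have hdis : Disjoint (Cfsg.piCore σ N) (Q.subgroupOf N) := by
      refine Subgroup.disjoint_def.mpr fun {v} hv hvQ => ?_
      by_contra hne
      obtain ⟨k, hk⟩ := hQ ⟨(v : G), Subgroup.mem_subgroupOf.mp hvQ⟩
      have hvk : v ^ p ^ k = 1 := Subtype.ext (by simpa using congrArg Subtype.val hk)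
      obtain ⟨j, -, hj⟩ := (Nat.dvd_prime_pow Fact.out).mp (orderOf_dvd_of_pow_eq_one hvk)
      have hj0 : j ≠ 0 := fun h0 => hne (orderOf_eq_one_iff.mp (by simpa [h0] using hj))
      exact hσ (piCore_isPiNum σ p Fact.out
        ((dvd_pow_self p hj0).trans (hj ▸ Subgroup.orderOf_dvd_natCard _ hv)))
    obtain ⟨k, hk, rfl⟩ := Subgroup.mem_map.mp hg
    exact congrArg Subtype.val (Subgroup.commute_of_normal_of_disjoint _ _ (Cfsg.piCore_normal σ N) hn1
      hdis k ⟨u, Subgroup.le_normalizer hu⟩ hk (Subgroup.mem_subgroupOf.mpr hu)).eq.symm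
  exact le_coreIn hC ((centralizer_le_normalizer' Q).trans self_le_normalizer_coreIn) (isPiNum_coreIn σ _)

/-- The correspondent has the core in its kernel iff the pairs of the block on the defect group
have. -/
theorem coreTriv_of_correspondent (hM : IsPModular p M) (hσ : p ∉ σ) {B : Set (IrrCharacter G)}
    (hD : IsDefectGroup p M B Q) {b : Set (IrrCharacter (Subgroup.normalizer (Q : Set G)))}
    (hb : IsInducedBlock M (Subgroup.normalizer (Q : Set G)) b B)
    (ht : Triv (coreIn σ (CQ Q)) b) {e : Set (IrrCharacter (CQ Q))}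
    (he : IsBrauerPairOf p M B Q e) : CoreTriv σ ⟨Q, e⟩ := by
  classical
  have := Fintype.ofFinite (IrrCharacter G)
  set L := coreIn σ (CQ Q) with hL
  have hpL : ¬ p ∣ Nat.card L := not_dvd_card_coreIn hM.1 hσ
  have hNL : Subgroup.normalizer (Q : Set G) ≤ Subgroup.normalizer (L : Set G) :=
    normalizer_le_normalizer_coreIn_cq
  have hLN : L ≤ Subgroup.normalizer (Q : Set G) := coreIn_le.trans (centralizer_le_normalizer' Q)
  have htr := trC_blockBar_eq_eG hM hD hb
  have hcm : avgG M L * eG M b = eG M b * avgG M L :=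
    (Iso.CInv.commute_of_suppIn (cinv_eG b) (suppIn_avgG hLN)).eq.symm
  have hprod : avgG M L * eG M b = eG M b := by
    refine eq_eG_of_omG hM hb.1 ((suppIn_avgG hLN).mul (suppIn_eG b))
      ((cinv_avgG hNL).mul (cinv_eG b)) ?_ fun θ => ?_
    · calc avgG M L * eG M b * (avgG M L * eG M b)
          = avgG M L * (eG M b * avgG M L) * eG M b := by simp only [mul_assoc]
        _ = (avgG M L * avgG M L) * (eG M b * eG M b) := by rw [← hcm]; simp only [mul_assoc]
        _ = _ := by rw [avgG_mul_self hM hpL, eG_mul_self hM hb.1]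
    · rw [omG_mul θ (suppIn_avgG hLN) (suppIn_eG b) (cinv_avgG hNL) (cinv_eG b), omG_eG hM hb.1]
      by_cases hθ : θ ∈ b
      · rw [if_pos hθ, mul_one]
        exact (omG_avgG_eq_one_iff hM hLN hNL hpL θ).mpr (ht θ hθ)
      · rw [if_neg hθ, mul_zero]
  obtain ⟨η, hη⟩ := isPBlock_nonempty he.1.2
  refine (triv_iff_omG hM coreIn_le self_le_normalizer_coreIn hpL he.1.2 hη).mpr ?_
  have hs : SuppIn (CQ Q) (eG M b) := htr ▸ suppIn_trC _
  have h1 : omG M η (eG M b) = 1 := by
    rw [← htr, omG_congr η fun g hg => coeff_trC _ hg]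
    exact omG_blockBar_of_pair hM he hη
  have h2 := omG_mul η (suppIn_avgG (M := M) (coreIn_le (σ := σ) (K := CQ Q))) hs
    (cinv_avgG self_le_normalizer_coreIn) ((cinv_eG b).mono (centralizer_le_normalizer' Q))
  rw [← hL, hprod, h1, mul_one] at h2
  exact h2.symm

theorem triv_correspondent (hM : IsPModular p M) (hσ : p ∉ σ) {B : Set (IrrCharacter G)}
    (hD : IsDefectGroup p M B Q) {b : Set (IrrCharacter (Subgroup.normalizer (Q : Set G)))}
    (hb : IsInducedBlock M (Subgroup.normalizer (Q : Set G)) b B)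
    (ht : ∀ e : Set (IrrCharacter (CQ Q)), IsBrauerPairOf p M B Q e → CoreTriv σ ⟨Q, e⟩) :
    Triv (coreIn σ (CQ Q)) b := by
  classical
  have := Fintype.ofFinite (IrrCharacter G)
  set L := coreIn σ (CQ Q) with hL
  have hpL : ¬ p ∣ Nat.card L := not_dvd_card_coreIn hM.1 hσ
  have hNL : Subgroup.normalizer (Q : Set G) ≤ Subgroup.normalizer (L : Set G) :=
    normalizer_le_normalizer_coreIn_cq
  have hLN : L ≤ Subgroup.normalizer (Q : Set G) := coreIn_le.trans (centralizer_le_normalizer' Q)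
  have htr := trC_blockBar_eq_eG hM hD hb
  have hs : SuppIn (CQ Q) (eG M b) := htr ▸ suppIn_trC _
  have hpQ := isPGroup_defectGroup hM hb.2.1 hD
  have hCN : CQ Q ≤ Subgroup.normalizer (Q : Set G) := centralizer_le_normalizer' Q
  have hprod : avgG M L * eG M b = eG M b := by
    set x := avgG M L * eG M b with hx
    have hxs : SuppIn (CQ Q) x := (suppIn_avgG coreIn_le).mul hs
    have hxc : CInv (CQ Q) x := ((cinv_avgG hNL).mul (cinv_eG b)).mono hCN
    have hcm : avgG M L * eG M b = eG M b * avgG M L :=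
      (Iso.CInv.commute_of_suppIn (cinv_eG b) (suppIn_avgG hLN)).eq.symm
    have hxx : x * x = x := by
      calc avgG M L * eG M b * (avgG M L * eG M b)
          = avgG M L * (eG M b * avgG M L) * eG M b := by simp only [mul_assoc]
        _ = (avgG M L * avgG M L) * (eG M b * eG M b) := by rw [← hcm]; simp only [mul_assoc]
        _ = _ := by rw [avgG_mul_self hM hpL, eG_mul_self hM hb.1]
    have hec : CInv (CQ Q) (eG M b) := (cinv_eG b).mono hCN
    rw [eq_emb_of_suppIn hxs, eq_emb_of_suppIn hs]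
    have h0 : cenOf M x hxc = cenOf M (eG M b) hec := by
      refine eq_of_omegaBar_eq_of_idem hM ?_ ?_ fun η => ?_
      · exact Subtype.ext (ga_ext fun k => by
          rw [MulMemClass.coe_mul, ← coeff_emb_coe (H := CQ Q) (R := ResField M), emb_mul,
            show emb (cenOf M x hxc : MonoidAlgebra (ResField M) (CQ Q)) = x from
              (eq_emb_of_suppIn hxs).symm, hxx]
          rfl)
      · exact Subtype.ext (ga_ext fun k => by
          rw [MulMemClass.coe_mul, ← coeff_emb_coe (H := CQ Q) (R := ResField M), emb_mul,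
            show emb (cenOf M (eG M b) hec : MonoidAlgebra (ResField M) (CQ Q)) = eG M b from
              (eq_emb_of_suppIn hs).symm, eG_mul_self hM hb.1]
          rfl)
      · rw [omG_cenOf, omG_cenOf, hx, omG_mul η (suppIn_avgG coreIn_le) hs
          ((cinv_avgG hNL).mono hCN) hec]
        by_cases h1 : omG M η (eG M b) = 0
        · rw [h1, mul_zero]
        · have h2 : omG M η (eG M b) = 1 := by
            have h3 := omG_mul η hs hs hec hec
            rw [eG_mul_self hM hb.1] at h3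
            exact (mul_right_cancel₀ h1 ((one_mul _).trans h3)).symm
          have h4 : omG M η (blockBar M B : MonoidAlgebra (ResField M) G) = 1 := by
            rw [← h2, ← htr]
            exact omG_congr η fun g hg => (coeff_trC _ hg).symm
          rw [h2, mul_one]
          exact (omG_avgG_eq_one_iff hM coreIn_le self_le_normalizer_coreIn hpL η).mpr
            (ht _ (isBrauerPairOf_blockOf_of_omG_one hM hpQ hb.2.1 h4) η (self_mem_blockOf η))
    exact congrArg (fun z : ZK M (CQ Q) => emb (z : MonoidAlgebra (ResField M) (CQ Q))) h0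
  obtain ⟨θ, hθ⟩ := isPBlock_nonempty hb.1
  refine (triv_iff_omG hM hLN hNL hpL hb.1 hθ).mpr ?_
  have h2 := omG_mul θ (suppIn_avgG (M := M) hLN) (suppIn_eG b) (cinv_avgG hNL) (cinv_eG b)
  rw [hprod, omG_eG hM hb.1, if_pos hθ, mul_one] at h2
  exact h2.symm

/-- A pair on the subgroup of a defect group is maximal. -/
theorem isMaximalBrauerPair_of_isDefectGroup (hM : IsPModular p M) {B : Set (IrrCharacter G)}
    (hD : IsDefectGroup p M B Q) {e : Set (IrrCharacter (CQ Q))} (he : IsBrauerPairOf p M B Q e) :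
    IsMaximalBrauerPair p M B Q e := by
  obtain ⟨D, d, hd, hle⟩ := exists_maximal_above hM Q e he
  obtain rfl : Q = D := Subgroup.eq_of_le_of_card_ge (SubpairLE.le hle) (by
    rw [defectGroup_card hM he.2.1 (isDefectGroup_of_maximal hM hd), defectGroup_card hM he.2.1 hD])
  rwa [SubpairLE.eq_of_eq hM hle]

theorem exists_pair_on_defectGroup (hM : IsPModular p M) {B : Set (IrrCharacter G)}
    (hB : IsPBlock M B) (hD : IsDefectGroup p M B Q) :
    ∃ e : Set (IrrCharacter (CQ Q)), IsMaximalBrauerPair p M B Q e := by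
  have := Fintype.ofFinite (IrrCharacter G)
  obtain ⟨D, d, hd⟩ := exists_maximalPair hM hB
  obtain ⟨x, hx⟩ := defectGroup_conj hM hB (isDefectGroup_of_maximal hM hd) hD
  have hx' : cjS x D = Q := hx
  subst hx'
  exact ⟨conjBlock D x d, isMaximalBrauerPair_of_isDefectGroup hM hD (IsBrauerPairOf.conj hM x hd.1)⟩

/-- With the core in the kernel of the correspondent every pair of the block has it. -/
theorem coreTriv_of_kernel (hM : IsPModular p M) (hσ : p ∉ σ) {B : Set (IrrCharacter G)}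
    (hB : IsPBlock M B) (hD : IsDefectGroup p M B Q)
    {b : Set (IrrCharacter (Subgroup.normalizer (Q : Set G)))}
    (hb : IsInducedBlock M (Subgroup.normalizer (Q : Set G)) b B)
    (hker : ∀ n : Subgroup.normalizer (Q : Set G),
      n ∈ Cfsg.piCore σ (Subgroup.normalizer (Q : Set G)) → n ∈ Cfsg.blockKer b)
    {f : Set (IrrCharacter (CQ R))} (hf : IsBrauerPairOf p M B R f) : CoreTriv σ ⟨R, f⟩ := by
  have hpf : Fact p.Prime := ⟨hM.1⟩
  have := Fintype.ofFinite (IrrCharacter G)
  obtain ⟨e, he⟩ := exists_pair_on_defectGroup hM hB hD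
  obtain ⟨x, hx⟩ := exists_conj_subpairLE hM he hf
  refine coreTriv_of_conjBlock hM x hf.1.2 (SubpairLE.coreTriv_down hM hσ hx ?_)
  refine coreTriv_of_correspondent hM hσ hD hb (fun θ hθ k hk => ?_) he.1
  exact hker k (coe_mem_coreIn.mp
    (by rwa [coreIn_normalizer_eq hσ (isPGroup_defectGroup hM hB hD)])) θ hθ


/-- A block of `Q C(Q)` inducing `B` with the core in its kernel gives a pair of `B` with it. -/
theorem exists_coreTriv_pair_of_local (hM : IsPModular p M) (hσ : p ∉ σ) (hQ : IsPGroup p Q)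
    {H : Subgroup G} (hQH : Q ≤ H) (hCH : CQ Q ≤ H) (hHN : H ≤ Subgroup.normalizer (Q : Set G))
    {b : Set (IrrCharacter H)} {B : Set (IrrCharacter G)} (hb : IsInducedBlock M H b B)
    (ht : Triv (coreIn σ (CQ Q)) b) :
    ∃ f : Set (IrrCharacter (CQ Q)), IsBrauerPairOf p M B Q f ∧ CoreTriv σ ⟨Q, f⟩ := by
  classical
  have := Fintype.ofFinite (IrrCharacter G)
  obtain ⟨θ, hθ⟩ := isPBlock_nonempty hb.1
  obtain ⟨χ, hχ⟩ := isPBlock_nonempty hb.2.1
  set L := coreIn σ (CQ Q) with hL
  set t := trC Q (blockBar M B : MonoidAlgebra (ResField M) G) with ht'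
  have hpL : ¬ p ∣ Nat.card L := not_dvd_card_coreIn hM.1 hσ
  have hHL : H ≤ Subgroup.normalizer (L : Set G) := hHN.trans normalizer_le_normalizer_coreIn_cq
  have hts : SuppIn (CQ Q) t := suppIn_trC _
  have htH : SuppIn H t := fun g hg => hts g fun h => hg (hCH h)
  have htc : CInv H t := (cinv_of_central _ _).trC hHN
  have htt : t * t = t := by
    rw [ht', ← trC_mul hM hQ (cinv_of_central _ _) (cinv_of_central _ _), ← MulMemClass.coe_mul,
      blockBar_mul_self hM (.of_isPBlock hb.2.1)]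
  have h1 : omG M θ t = 1 := by
    rw [ht', ← omG_eq_omG_trC hM hQ hQH hHN, omG_zk,
      (isInducedBlock_iff.mp hb).2.2 θ hθ χ hχ, omegaBar_blockBar hM (.of_isPBlock hb.2.1), if_pos hχ]
  have hy : omG M θ (avgG M L * t) = 1 := by
    rw [omG_mul θ (suppIn_avgG (coreIn_le.trans hCH)) htH (cinv_avgG hHL) htc, h1, mul_one]
    exact (omG_avgG_eq_one_iff hM (coreIn_le.trans hCH) hHL hpL θ).mpr (ht θ hθ)
  obtain ⟨C, -, hC⟩ := Finset.exists_ne_zero_of_sum_ne_zero (hy.trans_ne one_ne_zero)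
  have hcm : t * avgG M L = avgG M L * t :=
    (Iso.CInv.commute_of_suppIn htc (suppIn_avgG (coreIn_le.trans hCH))).eq
  obtain ⟨η, hη⟩ := exists_omG_eq_one hM (K := CQ Q) ((suppIn_avgG coreIn_le).mul hts)
    (((cinv_avgG hHL).mul htc).mono hCH) (by
      calc avgG M L * t * (avgG M L * t) = avgG M L * (t * avgG M L) * t := by simp only [mul_assoc]
        _ = (avgG M L * avgG M L) * (t * t) := by rw [hcm]; simp only [mul_assoc]
        _ = _ := by rw [avgG_mul_self hM hpL, htt]) (left_ne_zero_of_mul hC)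
  have hLQ : L ≤ CQ Q := coreIn_le
  have hQL : CQ Q ≤ Subgroup.normalizer (L : Set G) := self_le_normalizer_coreIn
  have ha2 := omG_mul η (suppIn_avgG (M := M) hLQ) (suppIn_avgG (M := M) hLQ)
    (cinv_avgG hQL) (cinv_avgG hQL)
  rw [avgG_mul_self hM hpL] at ha2
  rw [omG_mul η (suppIn_avgG coreIn_le) hts ((cinv_avgG hHL).mono hCH) (htc.mono hCH)] at hη
  have ha : omG M η (avgG M L) = 1 :=
    (mul_right_cancel₀ (left_ne_zero_of_mul_eq_one hη) ((one_mul _).trans ha2)).symm
  rw [ha, one_mul, ht', omG_congr η fun g hg => coeff_trC _ hg] at hη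
  exact ⟨_, isBrauerPairOf_blockOf_of_omG_one hM hQ hb.2.1 hη,
    (triv_iff_omG hM coreIn_le self_le_normalizer_coreIn hpL (isPBlock_blockOf η)
      (self_mem_blockOf η)).mpr ha⟩

/-- A pair of the block with the core in its kernel and all `σ`-elements of the centralizer in the
core forces the core into the kernel of the correspondent. -/
theorem kernel_of_coreHall (hM : IsPModular p M) (hσ : p ∉ σ) {B : Set (IrrCharacter G)}
    {D : Subgroup G} (hD : IsDefectGroup p M B D)
    {b : Set (IrrCharacter (Subgroup.normalizer (D : Set G)))}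
    (hb : IsInducedBlock M (Subgroup.normalizer (D : Set G)) b B) {f : Set (IrrCharacter (CQ Q))}
    (hf : IsBrauerPairOf p M B Q f) (hH : CoreHall σ Q) (hft : CoreTriv σ ⟨Q, f⟩)
    {n : Subgroup.normalizer (D : Set G)}
    (hn : n ∈ Cfsg.piCore σ (Subgroup.normalizer (D : Set G))) : n ∈ Cfsg.blockKer b := by
  have hpf : Fact p.Prime := ⟨hM.1⟩
  have := Fintype.ofFinite (IrrCharacter G)
  intro θ hθ
  refine triv_correspondent hM hσ hD hb (fun e he => ?_) θ hθ n ?_
  · obtain ⟨x, hx⟩ := exists_conj_subpairLE hM (isMaximalBrauerPair_of_isDefectGroup hM hD he) hf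
    exact (SubpairLE.coreTriv_up hM hσ hx (coreHall_cjS x hH) (coreTriv_conjBlock σ x hft)).2
  · rw [← coreIn_normalizer_eq hσ (isPGroup_defectGroup hM hb.2.1 hD)]
    exact coe_mem_coreIn.mpr hn

/-- A block of a subgroup inducing `B` has the core in its kernel when the pairs of `B` have. -/
theorem kernel_of_induced (hM : IsPModular p M) (hσ : p ∉ σ) {B : Set (IrrCharacter G)}
    {G₀ : Subgroup G} {B₀ : Set (IrrCharacter G₀)} (hB₀ : IsInducedBlock M G₀ B₀ B)
    {D₀ : Subgroup G₀} (hD₀ : IsDefectGroup p M B₀ D₀) (hC : CQ (D₀.map G₀.subtype) ≤ G₀)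
    (ht : ∀ f : Set (IrrCharacter (CQ (D₀.map G₀.subtype))),
      IsBrauerPairOf p M B (D₀.map G₀.subtype) f → CoreTriv σ ⟨D₀.map G₀.subtype, f⟩)
    {n : G₀} (hn : n ∈ Cfsg.piCore σ G₀) : n ∈ Cfsg.blockKer B₀ := by
  classical
  have hpf : Fact p.Prime := ⟨hM.1⟩
  have := Fintype.ofFinite (IrrCharacter G)
  have hb₀ := hB₀.1
  have hQ : IsPGroup p (D₀.map G₀.subtype) := (isPGroup_defectGroup hM hb₀ hD₀).map _
  have hQG : D₀.map G₀.subtype ≤ G₀ := Subgroup.map_subtype_le _
  generalize hPdef : D₀.map G₀.subtype = P at hQ hQG hC ht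
  have hcl : ∀ z : ZK M G₀, CInv G₀ (emb (z : MonoidAlgebra (ResField M) G₀) : MonoidAlgebra (ResField M) G) :=
    fun z => cinv_of_commute fun s hs =>
      commute_single_emb (mem_center_iff_isClassElt.mp z.2) ⟨s, hs⟩
  -- the truncated idempotent does not vanish
  set t := trC P (eG M B₀) with ht'
  have hPN : CQ P ≤ Subgroup.normalizer (P : Set G) := centralizer_le_normalizer' P
  have hts : SuppIn (CQ P) t := suppIn_trC _
  have htc : CInv (CQ P) t := ((cinv_eG B₀).mono hC).trC hPN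
  have htt : t * t = t := by
    rw [ht', ← trC_mul hM hQ ((cinv_eG B₀).mono hQG) ((cinv_eG B₀).mono hQG), eG_mul_self hM hb₀]
  obtain ⟨x, hx, hxc, -⟩ := exists_isSylowCent_of_isDefectGroup hM hb₀ hD₀
  have hxP : (x : G) ∈ CQ P := Subgroup.mem_centralizer_iff.mpr fun u hu => by
    obtain ⟨v, hv, rfl⟩ := Subgroup.mem_map.mp (hPdef ▸ hu : u ∈ D₀.map G₀.subtype)
    exact congrArg Subtype.val (hx.commute v hv).eq
  obtain ⟨η, hη⟩ := exists_omG_eq_one hM hts htc htt (g := (x : G))
    (by rw [ht', coeff_trC _ hxP, coeff_eG]; exact hxc)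
  -- the functional of `η` on the centre of the subgroup
  let φ : ZK M G₀ →+* ResField M :=
    { toFun := fun z => omG M η (emb (z : MonoidAlgebra (ResField M) G₀) : MonoidAlgebra (ResField M) G)
      map_one' := by
        simp only [OneMemClass.coe_one]
        rw [omG_congr η fun g hg => emb_one_apply (hC hg), omG_one]
      map_mul' := fun y y' => by
        rw [MulMemClass.coe_mul, emb_mul, omG_mul_fixed hM hQ η ((hcl y).mono hQG) ((hcl y').mono hQG)
          ((hcl y).mono hC) ((hcl y').mono hC)]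
      map_zero' := by
        simp only [ZeroMemClass.coe_zero]
        rw [omG_congr η (y' := 0) fun g hg => ?_, omG_zero]
        simp [emb]
      map_add' := fun y y' => by
        simp only [← omG_add]
        refine omG_congr η fun g hg => ?_
        rw [show g = ((⟨g, hC hg⟩ : G₀) : G) from rfl,
          MonoidAlgebra.coeff_add, Finsupp.add_apply, coeff_emb_coe, coeff_emb_coe, coeff_emb_coe]
        simp }
  obtain ⟨θ, hθ⟩ := exists_omegaBar_eq hM φ fun a => by
    show omG M η _ = a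
    simp only [Algebra.algebraMap_eq_smul_one, SetLike.val_smul, OneMemClass.coe_one]
    rw [omG_congr η (y' := a • 1) fun g hg => ?_, omG_smul, omG_one, mul_one]
    rw [MonoidAlgebra.coeff_smul, Finsupp.smul_apply, ← emb_one_apply (hC hg),
      show g = ((⟨g, hC hg⟩ : G₀) : G) from rfl, coeff_emb_coe,
      coeff_emb_coe, MonoidAlgebra.coeff_smul, Finsupp.smul_apply]
  have hφ : ∀ w : ZK M G₀, omegaBar M θ w =
      omG M η (emb (w : MonoidAlgebra (ResField M) G₀) : MonoidAlgebra (ResField M) G) :=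
    fun w => (RingHom.congr_fun hθ w).symm
  have hθB : θ ∈ B₀ := by
    have h1 := hφ (blockBar M B₀)
    rw [show omG M η (emb (blockBar M B₀ : MonoidAlgebra (ResField M) G₀) : MonoidAlgebra (ResField M) G)
      = 1 from (omG_congr η fun g hg => (coeff_trC (eG M B₀) hg).symm).trans hη,
      omegaBar_blockBar hM (.of_isPBlock hb₀)] at h1
    by_contra hc
    rw [if_neg hc] at h1
    exact zero_ne_one h1
  have hηB : omG M η (blockBar M B : MonoidAlgebra (ResField M) G) = 1 := by
    obtain ⟨χ, hχ⟩ := isPBlock_nonempty hB₀.2.1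
    rw [omG_congr η (y' := emb (resHK M G₀ (blockBar M B) : MonoidAlgebra (ResField M) G₀)) fun g hg => ?_,
      ← hφ, (isInducedBlock_iff.mp hB₀).2.2 θ hθB χ hχ, omegaBar_blockBar hM (.of_isPBlock hB₀.2.1),
      if_pos hχ]
    rw [show g = ((⟨g, hC hg⟩ : G₀) : G) from rfl, coeff_emb_coe, coeff_resHK]
  have hpair := isBrauerPairOf_blockOf_of_omG_one hM hQ hB₀.2.1 hηB
  -- the value at the average of the core of the subgroup
  set L := coreIn σ G₀ with hL
  have hpL : ¬ p ∣ Nat.card L := not_dvd_card_coreIn hM.1 hσ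
  have hLn : G₀ ≤ Subgroup.normalizer (L : Set G) := self_le_normalizer_coreIn
  have hL' : L ⊓ CQ P ≤ coreIn σ (CQ P) := le_coreIn inf_le_right
    (le_normalizer_inf_cq (hC.trans hLn) hPN)
    ((isPiNum_coreIn σ _).of_dvd (Subgroup.card_dvd_of_le inf_le_left))
  have h2 : omG M η (avgG M (L ⊓ CQ P)) = 1 :=
    (omG_avgG_eq_one_iff hM inf_le_right (le_normalizer_inf_cq (hC.trans hLn) hPN)
      (not_dvd_card_of_le inf_le_left hpL) η).mpr fun k hk =>
        ht _ hpair η (self_mem_blockOf η) k (hL' hk)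
  have h3 : omG M θ (avgG M L) = 1 := by
    rw [← omG_cenOf θ _ (cinv_avgG hLn), hφ]
    rw [omG_congr η (y' := avgG M (L ⊓ CQ P)) fun g hg => ?_, h2]
    rw [show g = ((⟨g, hC hg⟩ : G₀) : G) from rfl, coeff_emb_coe, coeff_cenOf,
      ← trC_avgG hM hQ (hQG.trans hLn) hpL]
    exact (coeff_trC _ hg).symm
  intro ψ hψ
  exact (triv_iff_omG hM coreIn_le hLn hpL hb₀ hθB).mpr h3 ψ hψ n (coe_mem_coreIn.mpr hn)


end CfsgLib.Block
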