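import Cfsg.Agent.Lib.Block.RealBlocks
import Cfsg.Agent.Lib.Block.Principal
import Cfsg.Agent.Lib.Block.LocalComb

/-!
# Külshammer's formula for the principal block idempotent
-/

open Finset MonoidAlgebra
open scoped ComplexConjugate

set_option linter.unusedSectionVars false

namespace CfsgLib.Block

open Cfsg

universe u

variable {p : ℕ} {M : Ideal AlgInt} [M.IsMaximal] {G : Type u} [Group G] [Fintype G] [DecidableEq G]

/-- A central element translates an irreducible character by its central value. -/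
theorem sum_classElt_mul (χ : IrrCharacter G) {z : MonoidAlgebra ℂ G} (hz : IsClassElt z) (g : G) :
    ∑ y, z.coeff y * (χ : G → ℂ) (y * g) = omega (χ : G → ℂ) z * (χ : G → ℂ) g := by
  classical
  obtain ⟨n, ρ, hρ, hχ⟩ := χ.2
  have hz' : z = ∑ y, single y (z.coeff y) := ga_ext fun y => by
    rw [coeff_sum_apply, Finset.sum_eq_single y] <;> simp +contextual
  have h1 : ρ.asAlgebraHom z * ρ g = ∑ y, z.coeff y • ρ (y * g) := by
    conv_lhs => rw [hz', map_sum, Finset.sum_mul]
    refine Finset.sum_congr rfl fun y _ => ?_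
    rw [Representation.asAlgebraHom_single, smul_mul_assoc, map_mul]
  have h2 := congrArg (LinearMap.trace ℂ _) h1
  rw [rho_classElt ρ hz, map_sum] at h2
  rw [← hχ]
  simp only [map_smul, smul_eq_mul, Algebra.algebraMap_eq_smul_one, smul_mul_assoc, one_mul] at h2
  exact h2.symm

variable [Fintype (IrrCharacter G)]

/-- Külshammer: the principal block idempotent at a `p`-regular element counts factorisations into
a `p`-element and a `p`-regular element. -/
theorem blockCoeff_principal_eq_count (hM : IsPModular p M) (g : G) (hg : ¬ p ∣ orderOf g) :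
    MemLocalIdeal M (blockCoeff (principalBlock M G) g -
      (Nat.card {xy : G × G // (∃ k : ℕ, orderOf xy.1 = p ^ k) ∧ ¬ p ∣ orderOf xy.2 ∧
        xy.1 * xy.2 = g} : ℂ) / (Nat.card {y : G // ¬ p ∣ orderOf y} : ℂ)) := by
  classical
  have hpf : Fact p.Prime := ⟨hM.1⟩
  have hchar := charP_resField hM
  set T : Set G := {u | ∃ k, orderOf u = p ^ k} with hT
  set f : G → ℂ := fun u => if u ∈ T then 1 else 0 with hf
  have hloc : IsLocComb M f := isLocComb_sectionIndicator hM
    (fun y c => by simp only [hT, Set.mem_ofPred_eq, orderOf_conj_eq]) fun u y hc ⟨k, hk⟩ hy => by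
      simp only [hT, Set.mem_ofPred_eq]
      constructor
      · rintro ⟨m, hm⟩
        have h1 : (u * y) ^ p ^ (k + m) = 1 := orderOf_dvd_iff_pow_eq_one.mp
          (hm ▸ pow_dvd_pow p (Nat.le_add_left m k))
        rw [hc.mul_pow, pow_add, pow_mul u, ← hk, pow_orderOf_eq_one, one_pow, one_mul, hk,
          ← pow_add] at h1
        obtain ⟨l, -, hl⟩ := (Nat.dvd_prime_pow hM.1).mp (orderOf_dvd_of_pow_eq_one h1)
        rcases Nat.eq_zero_or_pos l with rfl | hl0
        · exact ⟨0, hl⟩
        · exact absurd (hl ▸ dvd_pow_self p hl0.ne') hy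
      · rintro ⟨l, hl⟩
        have hy1 : y = 1 := orderOf_eq_one_iff.mp (by
          rcases Nat.eq_zero_or_pos l with rfl | hl0
          · exact hl
          · exact absurd (hl ▸ dvd_pow_self p hl0.ne') hy)
        exact ⟨k, by rw [hy1, mul_one, hk]⟩
  let a : IrrCharacter G → locRing M := fun χ => ⟨_, hloc.inner_mem χ⟩
  have hexp : ∀ u, f u = ∑ χ : IrrCharacter G, (a χ : ℂ) * (χ : G → ℂ) u := fun u => by
    have h := congrFun (Char.classFun_expand hloc.classFun) u
    simpa [a] using h
  -- the sum of the regular elements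
  set R : ZL M G := setSum M {x : G | ¬ p ∣ orderOf x} (regular_conj_iff p) with hR
  set Rc := toC M (R : MonoidAlgebra (locRing M) G) with hRc
  have hRcoeff : ∀ y, Rc.coeff y = if ¬ p ∣ orderOf y then 1 else 0 := fun y => by
    rw [hRc, coeff_toC, hR]
    simp only [setSum, coeff_gaOfFun, Set.mem_ofPred_eq]
    split_ifs <;> rfl
  -- the count
  have hN : (Nat.card {xy : G × G // (∃ k : ℕ, orderOf xy.1 = p ^ k) ∧ ¬ p ∣ orderOf xy.2 ∧
      xy.1 * xy.2 = g} : ℂ) =
      ∑ χ : IrrCharacter G, (a χ : ℂ) * (omegaLoc M χ R : ℂ) * (χ : G → ℂ) g := by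
    let e : {xy : G × G // (∃ k : ℕ, orderOf xy.1 = p ^ k) ∧ ¬ p ∣ orderOf xy.2 ∧
        xy.1 * xy.2 = g} ≃ {y : G // ¬ p ∣ orderOf y ∧ g * y⁻¹ ∈ T} :=
      { toFun := fun xy => ⟨xy.1.2, xy.2.2.1, by
          rw [← eq_mul_inv_of_mul_eq xy.2.2.2]; exact xy.2.1⟩
        invFun := fun y => ⟨(g * y.1⁻¹, y.1), y.2.2, y.2.1, inv_mul_cancel_right g y.1⟩
        left_inv := fun xy => Subtype.ext (Prod.ext (by
          show g * xy.1.2⁻¹ = xy.1.1
          exact (eq_mul_inv_of_mul_eq xy.2.2.2).symm) rfl)
        right_inv := fun y => rfl }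
    rw [Nat.card_congr e, Nat.card_eq_fintype_card, Fintype.card_subtype, Finset.natCast_card_filter]
    rw [Finset.sum_congr rfl fun (y : G) _ => show
      (if ¬ p ∣ orderOf y ∧ g * y⁻¹ ∈ T then (1 : ℂ) else 0) = Rc.coeff y⁻¹ * f (y⁻¹ * g) by
      have hc : f (y⁻¹ * g) = f (g * y⁻¹) := by
        have := hloc.classFun (y⁻¹ * g) g
        simpa [mul_assoc] using this.symm
      rw [hRcoeff, hc, orderOf_inv]
      simp only [hf]
      by_cases h1 : p ∣ orderOf y <;> by_cases h2 : g * y⁻¹ ∈ T <;> simp [h1, h2]]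
    rw [Fintype.sum_equiv (Equiv.inv G) (fun y : G => Rc.coeff y⁻¹ * f (y⁻¹ * g))
      (fun y => Rc.coeff y * f (y * g)) fun _ => rfl]
    simp only [hexp, Finset.mul_sum]
    rw [Finset.sum_comm]
    refine Finset.sum_congr rfl fun χ _ => ?_
    rw [coe_omegaLoc, ← hRc, mul_assoc, ← sum_classElt_mul χ (isClassElt_toC R) g, Finset.mul_sum]
    exact Finset.sum_congr rfl fun y _ => by ring
  -- the number of regular elements
  set n : ℕ := Nat.card {y : G // ¬ p ∣ orderOf y} with hn
  have hone : omegaLoc M (oneChar G) R = (n : locRing M) := by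
    apply Subtype.ext
    rw [coe_omegaLoc, hR, omega_setSum, finsum_mem_eq_toFinset_sum, SubringClass.coe_natCast, hn,
      Nat.card_eq_fintype_card, Fintype.card_subtype]
    simp [oneChar]
  have hω : ∀ χ : IrrCharacter G, res M (omegaLoc M χ R) =
      if χ ∈ principalBlock M G then (n : ResField M) else 0 := fun χ => by
    show omegaRes M χ R = _
    rw [← omegaBar_toKC]
    split_ifs with h
    · rw [omegaBar_eq_of_mem isPBlock_principalBlock h one_mem_principalBlock, omegaBar_toKC,
        omegaRes, RingHom.comp_apply, hone, map_natCast]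
    · exact omegaBar_regBar_eq_zero hM h
  have hn0 : (n : ResField M) ≠ 0 := by
    have h := omegaBar_regBar_ne_zero (p := p) hM (one_mem_principalBlock (M := M) (G := G))
    rwa [regBar, omegaBar_toKC, ← hR, omegaRes, RingHom.comp_apply, hone, map_natCast] at h
  have hpn : ¬ p ∣ n := fun h => hn0 ((CharP.cast_eq_zero_iff (ResField M) p n).mpr h)
  -- the idempotent
  set B := principalBlock M G with hB
  have hS : IsBlockUnion M B := .of_isPBlock isPBlock_principalBlock
  have hG : (Nat.card G : ℂ) ≠ 0 := Nat.cast_ne_zero.mpr Nat.card_pos.ne'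
  have he : blockCoeff B g = ∑ χ ∈ Finset.univ.filter (· ∈ B), (a χ : ℂ) * (χ : G → ℂ) g := by
    rw [sum_block_eq_of_eq_regular hM hS (b := fun χ => (a χ : ℂ))
      (b' := fun χ => (Nat.card G : ℂ)⁻¹ * (χ : G → ℂ) 1) (fun y hy => by
        rw [← hexp y]
        simp only [mul_assoc, ← Finset.mul_sum]
        rw [Finset.sum_congr rfl fun (χ : IrrCharacter G) _ => show (χ : G → ℂ) 1 * (χ : G → ℂ) y =
          (χ : G → ℂ) y * conj ((χ : G → ℂ) 1) by rw [Char.conj_irr_one, mul_comm],
          Char.sum_irr_mul_conj]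
        by_cases h1 : y = 1
        · subst h1
          rw [if_pos (IsConj.refl 1), Subgroup.centralizer_eq_top_iff_subset.mpr (by simp),
            Subgroup.card_top, inv_mul_cancel₀ hG]
          exact if_pos ⟨0, by simp⟩
        · rw [if_neg (fun h => h1 (isConj_one_left.mp h)), mul_zero]
          refine if_neg ?_
          rintro ⟨k, hk⟩
          rcases Nat.eq_zero_or_pos k with rfl | hk0
          · exact h1 (orderOf_eq_one_iff.mp hk)
          · exact hy (hk ▸ dvd_pow_self p hk0.ne')) hg,
      ← blockCoeff_inv (fun χ hχ => ?_) g]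
    · rw [blockCoeff, finsum_mem_eq_toFinset_sum, Finset.mul_sum]
      refine Finset.sum_congr (by ext; simp) fun χ _ => ?_
      rw [← Char.irr_inv, inv_inv, mul_assoc]
    · have h := conjChar_mem_blockOf (χ := oneChar G) hχ
      rwa [show conjChar (oneChar G) = oneChar G from Subtype.ext (funext fun y => by
        simp [conjChar, oneChar])] at h
  have heq : blockCoeff B g - (Nat.card {xy : G × G // (∃ k : ℕ, orderOf xy.1 = p ^ k) ∧
      ¬ p ∣ orderOf xy.2 ∧ xy.1 * xy.2 = g} : ℂ) / (n : ℂ) =
      (((∑ χ ∈ Finset.univ.filter (· ∈ B), a χ * irrLoc M χ g) - invNat hM hpn *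
        ∑ χ : IrrCharacter G, a χ * omegaLoc M χ R * irrLoc M χ g : locRing M) : ℂ) := by
    rw [he, hN, AddSubgroupClass.coe_sub, Subring.coe_mul, AddSubmonoidClass.coe_finsetSum,
      AddSubmonoidClass.coe_finsetSum]
    simp only [Subring.coe_mul, coe_irrLoc, invNat]
    rw [div_eq_inv_mul]
  rw [heq, memLocalIdeal_coe]
  simp only [map_sub, map_mul, map_sum, hω]
  rw [sub_eq_zero]
  have hinv : res M (invNat hM hpn) * (n : ResField M) = 1 := by
    rw [← res_natCast, ← map_mul, ← map_one (res M)]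
    exact congrArg _ (invNat_mul hM hpn)
  rw [Finset.mul_sum, Finset.sum_filter]
  refine Finset.sum_congr rfl fun χ _ => ?_
  split_ifs with h
  · calc res M (a χ) * res M (irrLoc M χ g)
        = res M (a χ) * res M (irrLoc M χ g) * (res M (invNat hM hpn) * (n : ResField M)) := by
          rw [hinv, mul_one]
      _ = _ := by ring
  · ring

end CfsgLib.Block
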