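import Cfsg.Agent.Lib.Char.Orthogonality
import Mathlib.GroupTheory.ClassEquation

/-!
# Landau's theorem: the order of a group is bounded by its number of classes
-/

namespace CfsgLib.Block

/-- Finitely many positive integers with a given sum of reciprocals are bounded. -/
theorem exists_bound_sum_inv (k : ℕ) : ∀ q : ℚ, ∃ N : ℕ, ∀ s : Multiset ℕ, s.card = k →
    (∀ n ∈ s, 0 < n) → (s.map fun n : ℕ => (1 : ℚ) / n).sum = q → ∀ n ∈ s, n ≤ N := by
  induction k with
  | zero =>
    exact fun q => ⟨0, fun s hs _ _ n hn => by simp [Multiset.card_eq_zero.mp hs] at hn⟩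
  | succ k ih =>
    intro q
    choose g hg using fun m : ℕ => ih (q - 1 / (m : ℚ))
    refine ⟨⌈((k : ℚ) + 1) / q⌉₊ + ∑ m ∈ Finset.range (⌈((k : ℚ) + 1) / q⌉₊ + 1), g m,
      fun s hs hpos hsum n hn => ?_⟩
    have hq : 0 < q := by
      rw [← hsum, ← Multiset.cons_erase hn, Multiset.map_cons, Multiset.sum_cons]
      have h1 : (0 : ℚ) < 1 / n := by
        have := hpos n hn
        positivity
      have h2 : 0 ≤ ((s.erase n).map fun n : ℕ => (1 : ℚ) / n).sum :=
        Multiset.sum_nonneg fun x hx => by
          obtain ⟨a, -, rfl⟩ := Multiset.mem_map.mp hx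
          positivity
      linarith
    have hex : ∃ m ∈ s, (m : ℚ) ≤ ((k : ℚ) + 1) / q := by
      by_contra h
      push Not at h
      have h' : ∀ x ∈ s.map (fun n : ℕ => (1 : ℚ) / n), x < q / ((k : ℚ) + 1) := by
        intro x hx
        obtain ⟨m, hm, rfl⟩ := Multiset.mem_map.mp hx
        have h1 := h m hm
        rw [div_lt_iff₀ hq] at h1
        rw [div_lt_div_iff₀ (Nat.cast_pos.mpr (hpos m hm)) (by positivity), one_mul]
        linarith
      have hne : s ≠ 0 := fun e => by simp [e] at hn
      have hlt := Multiset.sum_lt_sum_of_nonempty (s := s) hne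
        (f := fun n : ℕ => (1 : ℚ) / n) (g := fun _ => q / ((k : ℚ) + 1))
        (fun m hm => h' _ (Multiset.mem_map_of_mem _ hm))
      rw [hsum, Multiset.map_const', Multiset.sum_replicate, nsmul_eq_mul, hs, Nat.cast_succ,
        mul_div_cancel₀ _ (by positivity)] at hlt
      exact lt_irrefl _ hlt
    obtain ⟨m, hm, hmb⟩ := hex
    have hmL : m ≤ ⌈((k : ℚ) + 1) / q⌉₊ := by
      exact_mod_cast hmb.trans (Nat.le_ceil _)
    by_cases hnm : n = m
    · omega
    · have h1 := hg m (s.erase m) (by rw [Multiset.card_erase_of_mem hm, hs]; rfl)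
        (fun x hx => hpos x (Multiset.mem_of_mem_erase hx)) (by
          rw [← hsum]
          conv_rhs => rw [← Multiset.cons_erase hm, Multiset.map_cons, Multiset.sum_cons]
          ring) n ((Multiset.mem_erase_of_ne hnm).mpr hn)
      have h2 := Finset.single_le_sum (f := g) (fun i _ => Nat.zero_le _)
        (Finset.mem_range.mpr (show m < ⌈((k : ℚ) + 1) / q⌉₊ + 1 by omega))
      omega

/-- Landau: the order of a finite group is bounded by a function of its class number. -/
theorem exists_bound_card_of_conjClasses (k : ℕ) : ∃ N : ℕ, ∀ (G : Type*) [Group G] [Finite G],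
    Nat.card (ConjClasses G) ≤ k → Nat.card G ≤ N := by
  choose g hg using fun j : ℕ => exists_bound_sum_inv j 1
  refine ⟨∑ j ∈ Finset.range (k + 1), g j, fun G _ _ hk => ?_⟩
  classical
  have := Fintype.ofFinite G
  have := Fintype.ofFinite (ConjClasses G)
  let r : ConjClasses G → G := fun C => Quotient.out (s := IsConj.setoid G) C
  have hr : ∀ C, ConjClasses.mk (r C) = C := fun C => Quotient.out_eq (s := IsConj.setoid G) C
  let s : Multiset ℕ := (Finset.univ : Finset (ConjClasses G)).val.map fun C =>
    Nat.card (Subgroup.centralizer ({r C} : Set G))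
  have hs : s.card = Nat.card (ConjClasses G) := by
    simp [s, Nat.card_eq_fintype_card]
  have hsum : (s.map fun n : ℕ => (1 : ℚ) / n).sum = 1 := by
    simp only [s, Multiset.map_map, Function.comp_def]
    show ∑ C : ConjClasses G, (1 : ℚ) / (Nat.card (Subgroup.centralizer ({r C} : Set G)) : ℚ) = 1
    have hC : ∀ C : ConjClasses G, (1 : ℚ) / (Nat.card (Subgroup.centralizer ({r C} : Set G)) : ℚ) =
        (C.carrier.toFinset.card : ℚ) / (Nat.card G : ℚ) := fun C => by
      have h : (Subgroup.centralizer ({r C} : Set G)).index = C.carrier.toFinset.card := by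
        rw [← Char.card_isConj, Nat.card_eq_fintype_card, Fintype.card_subtype]
        refine congrArg Finset.card (Finset.ext fun x => ?_)
        rw [Set.mem_toFinset, ConjClasses.mem_carrier_iff_mk_eq, Finset.mem_filter]
        exact ⟨fun hx => (ConjClasses.mk_eq_mk_iff_isConj.mpr hx.2.symm).trans (hr C),
          fun hx => ⟨Finset.mem_univ _,
            (ConjClasses.mk_eq_mk_iff_isConj.mp (hx.trans (hr C).symm)).symm⟩⟩
      have hG := Subgroup.index_mul_card (Subgroup.centralizer ({r C} : Set G))
      rw [h] at hG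
      rw [← hG, Nat.cast_mul, div_mul_eq_div_div, div_self]
      rw [← h]
      exact Nat.cast_ne_zero.mpr Subgroup.index_ne_zero_of_finite
    rw [Finset.sum_congr rfl fun C _ => hC C, ← Finset.sum_div, ← Nat.cast_sum,
      sum_conjClasses_card_eq_card, ← Nat.card_eq_fintype_card]
    exact div_self (Nat.cast_ne_zero.mpr Nat.card_pos.ne')
  have h1 := hg _ s hs (fun n hn => by
    obtain ⟨C, -, rfl⟩ := Multiset.mem_map.mp hn
    exact Nat.card_pos) hsum _ (Multiset.mem_map_of_mem _ (Finset.mem_univ (ConjClasses.mk (1 : G))))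
  have hr1 : r (ConjClasses.mk (1 : G)) = 1 :=
    isConj_one_left.mp (ConjClasses.mk_eq_mk_iff_isConj.mp (hr _))
  rw [hr1, Subgroup.centralizer_eq_top_iff_subset.mpr (by simp), Subgroup.card_top] at h1
  exact h1.trans (Finset.single_le_sum (f := g) (fun i _ => Nat.zero_le _)
    (Finset.mem_range.mpr (Nat.lt_succ_of_le hk)))

end CfsgLib.Block
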