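import Cfsg.Agent.Lib.Block.GroupAlg
import Cfsg.Agent.Lib.Block.Blocks

/-!
# Lifting idempotents over the local ring

The local ring at a maximal ideal of the algebraic integers is integrally closed in `ℂ`, so monic
polynomials split over it and idempotents of group algebras over the residue field lift.
-/

open Finset MonoidAlgebra Polynomial

set_option linter.unusedSectionVars false

namespace CfsgLib.Block

open Cfsg

universe u

variable {M : Ideal AlgInt} [M.IsMaximal]

/-- A complex root of a monic polynomial over the local ring lies in the local ring. -/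
theorem mem_locRing_of_root {f : Polynomial (locRing M)} (hf : f.Monic) {z : ℂ}
    (hz : (f.map (locRing M).subtype).IsRoot z) : z ∈ locRing M := by
  classical
  choose a b hb hab using fun i => mem_locRing_iff M |>.mp (f.coeff i).2
  set B : AlgInt := ∏ i ∈ Finset.range f.natDegree, b i with hB
  have hBM : B ∉ M := by
    intro h
    obtain ⟨i, -, hi⟩ := (Ideal.IsPrime.prod_mem_iff (hp := Ideal.IsMaximal.isPrime ‹_›)).mp h
    exact hb i hi
  set F : Polynomial ℂ := f.map (locRing M).subtype with hF
  have hFm : F.Monic := hf.map _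
  have hdeg : F.natDegree = f.natDegree := hf.natDegree_map _
  have hroot : (F.scaleRoots (B : ℂ)).eval ((B : ℂ) * z) = 0 := by
    have := scaleRoots_eval₂_eq_zero (p := F) (RingHom.id ℂ) (r := z) (s := (B : ℂ)) (by simpa using hz)
    simpa using this
  have hlift : F.scaleRoots (B : ℂ) ∈ Polynomial.lifts (algebraMap AlgInt ℂ) := by
    rw [lifts_iff_coeff_lifts]
    intro i
    rw [coeff_scaleRoots, hF, Polynomial.coeff_map]
    rcases lt_trichotomy i F.natDegree with hi | hi | hi
    · have hi' : i < f.natDegree := hdeg ▸ hi
      obtain ⟨j, hj⟩ := Nat.exists_eq_add_of_le (show 1 ≤ F.natDegree - i by omega)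
      refine ⟨a i * (∏ k ∈ (Finset.range f.natDegree).erase i, b k) * B ^ j, ?_⟩
      have hBi : B = b i * ∏ k ∈ (Finset.range f.natDegree).erase i, b k :=
        (Finset.mul_prod_erase _ _ (Finset.mem_range.mpr hi')).symm
      rw [← hF, hj, pow_add, pow_one]
      show ((a i * _ * B ^ j : AlgInt) : ℂ) = ((f.coeff i : locRing M) : ℂ) * ((B : ℂ) * (B : ℂ) ^ j)
      rw [← hab i]
      push_cast
      rw [hBi]
      push_cast
      field_simp [algInt_coe_ne_zero (hb i)]
    · refine ⟨1, ?_⟩
      rw [map_one, ← hF, hi, Nat.sub_self, pow_zero, mul_one, hdeg, hf.coeff_natDegree, map_one]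
    · refine ⟨0, ?_⟩
      rw [map_zero, coeff_eq_zero_of_natDegree_lt (hdeg ▸ hi), map_zero, zero_mul]
  obtain ⟨g, hgF, -, hgm⟩ := lifts_and_degree_eq_and_monic hlift ((monic_scaleRoots_iff _).mpr hFm)
  have hint : IsIntegral ℤ ((B : ℂ) * z) := by
    refine isIntegral_trans (R := ℤ) (A := AlgInt) _ ⟨g, hgm, ?_⟩
    rw [← hgF, eval_map] at hroot
    exact hroot
  exact ⟨toAlgInt hint, B, hBM, mul_div_cancel_left₀ z (algInt_coe_ne_zero hBM)⟩

/-- Elements with non-zero residue are units of the local ring. -/
theorem isUnit_locRing_of_res_ne_zero {x : locRing M} (hx : res M x ≠ 0) : IsUnit x := by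
  obtain ⟨z, a, b, hb, rfl⟩ := x
  have ha : a ∉ M := fun ha => hx (by
    rw [res_div _ a b hb rfl, Ideal.Quotient.eq_zero_iff_mem.mpr ha, zero_mul])
  refine IsUnit.of_mul_eq_one ⟨(b : ℂ) / (a : ℂ), b, a, ha, rfl⟩ (Subtype.ext ?_)
  have := algInt_coe_ne_zero ha
  have := algInt_coe_ne_zero hb
  simp only [Subring.coe_mul, OneMemClass.coe_one]
  field_simp

/-- Monic polynomials split over the local ring. -/
theorem exists_roots_locRing {f : Polynomial (locRing M)} (hf : f.Monic) :
    ∃ s : Multiset (locRing M), f = (s.map fun r => X - C r).prod := by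
  classical
  set F : Polynomial ℂ := f.map (locRing M).subtype with hF
  refine ⟨F.roots.attach.map fun r => ⟨r.1, mem_locRing_of_root hf (isRoot_of_mem_roots r.2)⟩,
    Polynomial.map_injective (locRing M).subtype Subtype.val_injective ?_⟩
  rw [Polynomial.map_multiset_prod, Multiset.map_map, Multiset.map_map]
  show F = _
  conv_lhs =>
    rw [(IsAlgClosed.splits F).eq_prod_roots_of_monic (hf.map _), ← Multiset.attach_map_val F.roots,
      Multiset.map_map]
  congr 1
  refine Multiset.map_congr rfl fun r _ => ?_
  simp

variable {A : Type u} [Group A] [Fintype A] [DecidableEq A]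

theorem coe_res_smul (c : locRing M) (a : MonoidAlgebra (locRing M) A) :
    toK M (c • a) = res M c • toK M a := by
  refine ga_ext fun g => ?_
  simp

/-- Reduction of a polynomial in an element. -/
theorem toK_aeval (q : Polynomial (locRing M)) (a : MonoidAlgebra (locRing M) A) :
    toK M (aeval a q) = aeval (toK M a) (q.map (res M)) := by
  induction q using Polynomial.induction_on' with
  | add q r hq hr => simp [hq, hr]
  | monomial n c =>
    rw [Polynomial.map_monomial, aeval_monomial, aeval_monomial, ← Algebra.smul_def, ← Algebra.smul_def,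
      coe_res_smul, map_pow]

/-- A polynomial evaluated at an idempotent. -/
theorem aeval_idem {k S : Type*} [CommRing k] [Ring S] [Algebra k S] {a : S} (ha : a * a = a)
    (q : Polynomial k) : aeval a q = q.eval 0 • (1 - a) + q.eval 1 • a := by
  induction q using Polynomial.induction_on' with
  | add q r hq hr => simp only [map_add, eval_add, hq, hr, add_smul]; abel
  | monomial n c =>
    rcases n with _ | n
    · simp [Algebra.algebraMap_eq_smul_one, smul_sub]
    · have h : a ^ (n + 1) = a := (show IsIdempotentElem a from ha).pow_succ_eq n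
      simp [aeval_monomial, h, ← Algebra.smul_def]

/-- Idempotents lift, as polynomials in any lift. -/
theorem exists_lift_idem (a : MonoidAlgebra (locRing M) A) (ha : toK M a * toK M a = toK M a) :
    ∃ q : Polynomial (locRing M), aeval a q * aeval a q = aeval a q ∧
      toK M (aeval a q) = toK M a := by
  classical
  obtain ⟨f, hfm, hfa⟩ := IsIntegral.of_finite (locRing M) a
  obtain ⟨s, hs⟩ := exists_roots_locRing hfm
  set f0 : Polynomial (locRing M) := ((s.filter fun r => res M r = 0).map fun r => X - C r).prod
    with hf0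
  set f1 : Polynomial (locRing M) := ((s.filter fun r => ¬ res M r = 0).map fun r => X - C r).prod
    with hf1
  have hff : f = f0 * f1 := by
    rw [hs, hf0, hf1, ← Multiset.prod_add, ← Multiset.map_add, Multiset.filter_add_not]
  have hcop : IsCoprime f0 f1 := by
    refine Multiset.prod_induction (fun u => IsCoprime u f1) _
      (fun u v hu hv => hu.mul_left hv) isCoprime_one_left fun u hu => ?_
    obtain ⟨r, hr, rfl⟩ := Multiset.mem_map.mp hu
    refine Multiset.prod_induction (fun v => IsCoprime (X - C r) v) _
      (fun u v hu hv => hu.mul_right hv) isCoprime_one_right fun v hv => ?_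
    obtain ⟨r', hr', rfl⟩ := Multiset.mem_map.mp hv
    refine isCoprime_X_sub_C_of_isUnit_sub ?_
    refine isUnit_locRing_of_res_ne_zero ?_
    rw [map_sub, (Multiset.mem_filter.mp hr).2, zero_sub, neg_ne_zero]
    exact (Multiset.mem_filter.mp hr').2
  obtain ⟨u, v, huv⟩ := hcop
  refine ⟨u * f0, ?_, ?_⟩
  · have h0 : aeval a f = 0 := hfa
    rw [← map_mul, show u * f0 * (u * f0) = u * f0 - u * v * f from by
      rw [hff]; linear_combination (u * f0) * huv, map_sub, map_mul _ _ f, h0, mul_zero, sub_zero]
  · have hFa : aeval (toK M a) (f.map (res M)) = 0 := by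
      rw [← toK_aeval]; exact (congrArg (toK M) hfa).trans (map_zero _)
    rw [toK_aeval, aeval_idem ha, eval_map, eval_map, eval₂_mul, eval₂_mul]
    rw [aeval_idem ha, eval_map, eval_map, hff, eval₂_mul, eval₂_mul] at hFa
    have e0 := congrArg (fun q => q.eval₂ (res M) (0 : ResField M)) huv
    have e1 := congrArg (fun q => q.eval₂ (res M) (1 : ResField M)) huv
    simp only [eval₂_add, eval₂_mul, eval₂_one] at e0 e1
    set k := toK M a with hk
    set a0 := f0.eval₂ (res M) (0 : ResField M)
    set b0 := f1.eval₂ (res M) (0 : ResField M) with hb0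
    set a1 := f0.eval₂ (res M) (1 : ResField M) with ha1
    set b1 := f1.eval₂ (res M) (1 : ResField M)
    have hb0' : b0 ≠ 0 := by
      rw [hb0, hf1, eval₂_multiset_prod, Multiset.map_map]
      refine Multiset.prod_ne_zero fun h => ?_
      obtain ⟨r, hr, hr0⟩ := Multiset.mem_map.mp h
      simp only [Function.comp_apply, eval₂_sub, eval₂_X, eval₂_C, zero_sub, neg_eq_zero] at hr0
      exact (Multiset.mem_filter.mp hr).2 hr0
    have ha1' : a1 = 1 := by
      rw [ha1, hf0, eval₂_multiset_prod, Multiset.map_map]
      refine Multiset.prod_eq_one fun w hw => ?_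
      obtain ⟨r, hr, rfl⟩ := Multiset.mem_map.mp hw
      simp [(Multiset.mem_filter.mp hr).2]
    -- multiply the relation by the two idempotents
    have h0 : (a0 * b0) • (1 - k) = 0 := by
      have h := congrArg (fun w => (1 - k) * w) hFa
      have hk1 : (1 - k) * k = 0 := by rw [sub_mul, one_mul, ha, sub_self]
      have hk2 : (1 - k) * (1 - k) = 1 - k := by rw [mul_sub, mul_one, hk1, sub_zero]
      simpa [mul_add, hk1, hk2] using h
    have h1 : (a1 * b1) • k = 0 := by
      have h := congrArg (fun w => k * w) hFa
      have hk3 : k * (1 - k) = 0 := by rw [mul_sub, mul_one, ha, sub_self]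
      simpa [mul_add, hk3, ha] using h
    have h0' : a0 • (1 - k) = 0 := by
      rw [mul_comm, mul_smul, smul_eq_zero] at h0
      exact h0.resolve_left hb0'
    rw [ha1', one_mul] at h1
    rw [mul_smul, h0', smul_zero, zero_add]
    have e : (u.eval₂ (res M) (1 : ResField M) * a1) • k +
        (v.eval₂ (res M) (1 : ResField M)) • (b1 • k) = k := by
      rw [smul_smul, ← add_smul, e1, one_smul]
    rwa [h1, smul_zero, add_zero] at e

/-- An idempotent of the residue group algebra lifts to one commuting with whatever commutes
with the naive lift. -/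
theorem exists_lift_idem_commute {a : MonoidAlgebra (ResField M) A} (ha : a * a = a)
    {S : Set A} (hS : ∀ g, g ∈ S → ∀ x, a.coeff (g * x * g⁻¹) = a.coeff x) :
    ∃ e : MonoidAlgebra (locRing M) A, e * e = e ∧ toK M e = a ∧
      ∀ g ∈ S, Commute (single g 1) e := by
  classical
  choose l hl using fun c : ResField M => res_surjective (M := M) c
  let a' : MonoidAlgebra (locRing M) A := gaOfFun fun x => l (a.coeff x)
  have ha' : toK M a' = a := ga_ext fun x => by simp [a', hl]
  obtain ⟨q, hq, hq'⟩ := exists_lift_idem a' (by rw [ha', ha])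
  refine ⟨_, hq, hq'.trans ha', fun g hg => ?_⟩
  have hc : Commute (single g (1 : locRing M)) a' := by
    rw [commute_single_iff]
    intro x
    simp only [a', coeff_gaOfFun, hS g hg x]
  clear hq hq'
  induction q using Polynomial.induction_on' with
  | add q r ihq ihr => rw [map_add]; exact ihq.add_right ihr
  | monomial n c =>
    rw [aeval_monomial, ← Algebra.smul_def]
    exact (hc.pow_right n).smul_right c

end CfsgLib.Block
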