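import Cfsg.Agent.Lib.Block.LocalTracial
import Mathlib.Algebra.Algebra.Operations

/-!
# Local symmetric algebras with small commutator quotient

`comm_of_symmetric`: a local algebra with a nondegenerate tracial form whose commutator subspace has
codimension at most four is commutative (Külshammer).
-/

set_option autoImplicit false
set_option linter.unusedSectionVars false

namespace CfsgLib.Block.LocalAlg

universe u v

variable {k : Type u} [Field k] {A : Type v} [Ring A] [Algebra k A] [FiniteDimensional k A]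

theorem exists_mem_sup_span {W V : Submodule k A} (hWV : W ≤ V)
    {n : ℕ} (hV : Module.finrank k V ≤ Module.finrank k W + (n + 1)) :
    ∃ x ∈ V, W ⊔ Submodule.span k {x} ≤ V ∧
      Module.finrank k V ≤ Module.finrank k (W ⊔ Submodule.span k {x} : Submodule k A) + n := by
  by_cases hle : V ≤ W
  · refine ⟨0, zero_mem _, sup_le hWV ((Submodule.span_singleton_le_iff_mem _ _).mpr (zero_mem _)), ?_⟩
    have h1 := Submodule.finrank_mono (hle.trans (le_sup_left : W ≤ W ⊔ Submodule.span k {(0 : A)}))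
    omega
  · obtain ⟨x, hx, hxW⟩ := SetLike.not_le_iff_exists.mp hle
    refine ⟨x, hx, sup_le hWV ((Submodule.span_singleton_le_iff_mem _ _).mpr hx), ?_⟩
    have hlt : W < W ⊔ Submodule.span k {x} := lt_of_le_of_ne le_sup_left fun e =>
      hxW (e ▸ Submodule.mem_sup_right (Submodule.mem_span_singleton_self x))
    have := Submodule.finrank_lt_finrank_of_lt hlt
    omega

/-- The identities of a two-generated graded step: if `x y` and `y x` differ, the next step vanishes. -/
theorem graded_step_eq_zero {W : Type*} [AddCommGroup W] [Module k W] {α β γ : k} {Rx Ry Lx Ly : W}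
    (e1 : α • Rx = α • Lx) (e2 : β • Rx = (β - 1) • Lx) (e3 : α • Ry = β • Lx) (e4 : β • Ry = γ • Lx)
    (e5 : (β - 1) • Rx = α • Ly) (e6 : γ • Rx = (β - 1) • Ly) (e7 : (β - 1) • Ry = β • Ly)
    (e8 : γ • Ry = γ • Ly) : Rx = 0 ∧ Ry = 0 ∧ Lx = 0 ∧ Ly = 0 := by
  by_cases ha : α = 0
  · by_cases hg : γ = 0
    · subst ha hg
      simp only [zero_smul] at e3 e4 e5 e6
      by_cases hb : β = 0
      · subst hb
        simp only [zero_smul, zero_sub, neg_smul, one_smul, eq_comm (a := (0 : W)), neg_eq_zero] at e2 e5 e6 e7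
        exact ⟨e5, e7, e2, e6⟩
      · have hLx : Lx = 0 := (smul_eq_zero.mp e3.symm).resolve_left hb
        have hRy : Ry = 0 := (smul_eq_zero.mp e4).resolve_left hb
        subst hLx hRy
        rw [smul_zero, eq_comm, smul_eq_zero, or_iff_right hb] at e7
        rw [smul_zero, smul_eq_zero, or_iff_right hb] at e2
        exact ⟨e2, rfl, rfl, e7⟩
    · have hR : Ry = Ly := smul_right_injective W hg e8
      subst hR
      have hy : Ry = 0 := by
        have := sub_eq_zero.mpr e7.symm
        rw [← sub_smul, sub_sub_cancel, one_smul] at this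
        exact this
      subst hy
      rw [smul_zero, eq_comm, smul_eq_zero, or_iff_right hg] at e4
      rw [smul_zero, smul_eq_zero, or_iff_right hg] at e6
      exact ⟨e6, rfl, e4, rfl⟩
  · have hR : Rx = Lx := smul_right_injective W ha e1
    subst hR
    have hx : Rx = 0 := by
      have := sub_eq_zero.mpr e2
      rw [← sub_smul, sub_sub_cancel, one_smul] at this
      exact this
    subst hx
    rw [smul_zero, smul_eq_zero, or_iff_right ha] at e3
    rw [smul_zero, eq_comm, smul_eq_zero, or_iff_right ha] at e5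
    exact ⟨rfl, e3, rfl, e5⟩

variable [IsAlgClosed k] [Nontrivial A]

/-- The kernel of the character is nilpotent. -/
theorem ker_pow_eq_bot {ε : A →ₐ[k] k} (hε : ∀ x : A, IsNilpotent (x - algebraMap k A (ε x))) :
    ∃ m : ℕ, (LinearMap.ker ε.toLinearMap) ^ (m + 1) = ⊥ := by
  haveI : IsArtinianRing A := IsArtinianRing.of_finite k A
  obtain ⟨m, hm⟩ := IsSemiprimaryRing.isNilpotent (R := A)
  refine ⟨m, ?_⟩
  have hNJ : ∀ y ∈ LinearMap.ker ε.toLinearMap, y ∈ Ring.jacobson A := by
    intro y hy
    rw [Ring.jacobson_eq_sInf_isMaximal, Submodule.mem_sInf]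
    intro I hI
    by_contra hyI
    obtain ⟨a, i, hi, he⟩ := hI.exists_inv hyI
    have h0 : IsNilpotent (a * y) := by
      have h := hε (a * y)
      rwa [map_mul, show ε y = 0 from LinearMap.mem_ker.mp hy, mul_zero, map_zero, sub_zero] at h
    have hu : IsUnit i := by
      rw [show i = 1 - a * y from eq_sub_of_add_eq' he]
      exact h0.isUnit_one_sub
    exact hI.ne_top (Ideal.eq_top_of_isUnit_mem _ hi hu)
  have hpow : ∀ i : ℕ, ∀ z ∈ (LinearMap.ker ε.toLinearMap) ^ (i + 1), z ∈ (Ring.jacobson A : Ideal A) ^ (i + 1) := by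
    intro i
    induction i with
    | zero =>
      intro z hz
      rw [zero_add, Submodule.pow_one]
      rw [zero_add, Submodule.pow_one] at hz
      exact hNJ z hz
    | succ i ih =>
      intro z hz
      rw [Submodule.pow_succ] at hz
      refine Submodule.mul_induction_on hz (fun a ha b hb => ?_) fun a b ha hb => add_mem ha hb
      rw [Submodule.pow_succ]
      exact Submodule.mul_mem_mul (ih a ha) (hNJ b hb)
  refine (Submodule.eq_bot_iff _).mpr fun z hz => ?_
  have := hpow m z hz
  rw [Submodule.pow_succ, hm] at this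
  simpa using this

/-- Külshammer: few commutator classes force commutativity. -/
theorem comm_of_symmetric (hid : ∀ a : A, a * a = a → a = 0 ∨ a = 1) (lam : A →ₗ[k] k)
    (htr : ∀ x y, lam (x * y) = lam (y * x)) (hnd : ∀ x, (∀ y, lam (x * y) = 0) → x = 0)
    (K : Submodule k A) (hK : K = Submodule.span k (Set.range fun z : A × A => z.1 * z.2 - z.2 * z.1))
    (h4 : Module.finrank k A ≤ Module.finrank k K + 4) : ∀ a b : A, a * b = b * a := by
  classical
  obtain ⟨ε, hε⟩ := exists_scalar_hom (k := k) hid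
  obtain ⟨m₀, hm₀⟩ := ker_pow_eq_bot hε
  set N : Submodule k A := LinearMap.ker ε.toLinearMap with hN
  have hmemN : ∀ x, x ∈ N ↔ ε x = 0 := fun x => LinearMap.mem_ker
  have hsub : ∀ x, x - algebraMap k A (ε x) ∈ N := fun x => (hmemN _).mpr (by simp)
  have hNN : N * N ≤ N := Submodule.mul_le.mpr fun a ha b _ => (hmemN _).mpr (by
    rw [map_mul, (hmemN a).mp ha, zero_mul])
  have hanti : ∀ i, 1 ≤ i → N ^ (i + 1) ≤ N ^ i := by
    intro i hi
    obtain ⟨j, rfl⟩ := Nat.exists_eq_add_of_le' hi
    induction j with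
    | zero => rw [Submodule.pow_succ, Submodule.pow_one]; exact hNN
    | succ j ih =>
      rw [Submodule.pow_succ, Submodule.pow_succ (n := j + 1)]
      exact mul_le_mul' (ih (by omega)) le_rfl
  have hcommgen : ∀ x y : A, x * y - y * x =
      (x - algebraMap k A (ε x)) * (y - algebraMap k A (ε y)) -
        (y - algebraMap k A (ε y)) * (x - algebraMap k A (ε x)) := fun x y => by
    simp only [sub_mul, mul_sub, Algebra.commutes (ε x) y, Algebra.commutes (ε y) x,
      Algebra.commutes (ε x) (algebraMap k A (ε y))]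
    abel
  have hKle : ∀ T : Submodule k A, (∀ a ∈ N, ∀ b ∈ N, a * b - b * a ∈ T) → K ≤ T := by
    intro T hT
    rw [hK, Submodule.span_le]
    rintro _ ⟨z, rfl⟩
    show z.1 * z.2 - z.2 * z.1 ∈ T
    rw [hcommgen]
    exact hT _ (hsub _) _ (hsub _)
  have hKcomm : K = ⊥ → ∀ a b : A, a * b = b * a := by
    intro h a b
    have : a * b - b * a ∈ K := by rw [hK]; exact Submodule.subset_span ⟨(a, b), rfl⟩
    rw [h, Submodule.mem_bot, sub_eq_zero] at this
    exact this
  have hlamK : ∀ z ∈ K, lam z = 0 := by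
    intro z hz
    have : K ≤ LinearMap.ker lam := by
      rw [hK, Submodule.span_le]
      rintro _ ⟨w, rfl⟩
      simp [htr w.1 w.2]
    exact LinearMap.mem_ker.mp (this hz)
  have hideal : ∀ T : Submodule k A, (∀ t ∈ T, ∀ n ∈ N, t * n ∈ T) → T ≤ K → T = ⊥ := by
    intro T hT hTK
    refine (Submodule.eq_bot_iff _).mpr fun t ht => hnd t fun y => hlamK _ (hTK ?_)
    rw [show t * y = t * (y - algebraMap k A (ε y)) + ε y • t by
      rw [mul_sub, Algebra.smul_def, Algebra.commutes]; abel]
    exact add_mem (hT t ht _ (hsub y)) (T.smul_mem _ ht)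
  have hright : ∀ i, 1 ≤ i → ∀ t ∈ N ^ i, ∀ n ∈ N, t * n ∈ N ^ i := fun i hi t ht n hn =>
    hanti i hi (by rw [Submodule.pow_succ]; exact Submodule.mul_mem_mul ht hn)
  have hN1 : N ^ 1 = N := Submodule.pow_one N
  have h2eq : N ^ 2 = N * N := by rw [Submodule.pow_succ, Submodule.pow_one]
  have hK2 : K ≤ N ^ 2 := hKle _ fun a ha b hb => by
    rw [h2eq]; exact sub_mem (Submodule.mul_mem_mul ha hb) (Submodule.mul_mem_mul hb ha)
  -- a right ideal inside the commutator space vanishes
  by_cases h3 : N ^ 3 = ⊥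
  · refine hKcomm (hideal K (fun t ht n hn => ?_) le_rfl)
    have : t * n ∈ N ^ 3 := by rw [Submodule.pow_succ]; exact Submodule.mul_mem_mul (hK2 ht) hn
    rw [h3, Submodule.mem_bot] at this
    rw [this]
    exact zero_mem _
  have h3K : ¬ N ^ 3 ≤ K := fun h => h3 (hideal _ (hright 3 (by norm_num)) h)
  have hNcard : Module.finrank k N + 1 = Module.finrank k A := by
    rw [← LinearMap.finrank_range_add_finrank_ker ε.toLinearMap, add_comm]
    congr 1
    rw [LinearMap.range_eq_top.mpr fun c => ⟨algebraMap k A c, by simp⟩, finrank_top, Module.finrank_self]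
  have hK3 : Module.finrank k K + 1 ≤ Module.finrank k (K ⊔ N ^ 3 : Submodule k A) :=
    Submodule.finrank_lt_finrank_of_lt (lt_of_le_of_ne le_sup_left fun e => h3K (e ▸ le_sup_right))
  have h32 : N ^ 3 ≤ N ^ 2 := hanti 2 (by norm_num)
  have hK32 : K ⊔ N ^ 3 ≤ N ^ 2 := sup_le hK2 h32
  have h21 : N ^ 2 ≤ N := h2eq ▸ hNN
  obtain ⟨x, hx, hxV, hxd⟩ := exists_mem_sup_span (n := 1) h21 (by
    have := Submodule.finrank_mono hK32; omega)
  obtain ⟨y, hy, hyV, hyd⟩ := exists_mem_sup_span (n := 0) hxV hxd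
  have hspan : N = N ^ 2 ⊔ Submodule.span k {x} ⊔ Submodule.span k {y} :=
    (Submodule.eq_of_le_of_finrank_le hyV (by simpa using hyd)).symm
  obtain ⟨c, hc⟩ : ∃ c, c = x * y - y * x := ⟨_, rfl⟩
  have hKc : K ≤ Submodule.span k {c} ⊔ N ^ 3 := by
    refine hKle _ fun a ha b hb => ?_
    rw [hspan] at ha hb
    obtain ⟨a₁, ha₁, ay, hay, rfl⟩ := Submodule.mem_sup.mp ha
    obtain ⟨a₂, ha₂, ax, hax, rfl⟩ := Submodule.mem_sup.mp ha₁
    obtain ⟨b₁, hb₁, by', hby, rfl⟩ := Submodule.mem_sup.mp hb
    obtain ⟨b₂, hb₂, bx, hbx, rfl⟩ := Submodule.mem_sup.mp hb₁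
    obtain ⟨a1, rfl⟩ := Submodule.mem_span_singleton.mp hax
    obtain ⟨a2, rfl⟩ := Submodule.mem_span_singleton.mp hay
    obtain ⟨b1, rfl⟩ := Submodule.mem_span_singleton.mp hbx
    obtain ⟨b2, rfl⟩ := Submodule.mem_span_singleton.mp hby
    set u := a1 • x + a2 • y with hu
    set w := b1 • x + b2 • y with hw
    have huN : u ∈ N := add_mem (N.smul_mem _ hx) (N.smul_mem _ hy)
    have hwN : w ∈ N := add_mem (N.smul_mem _ hx) (N.smul_mem _ hy)
    have hmul : ∀ {s t : A}, s ∈ N ^ 2 → t ∈ N → s * t ∈ N ^ 3 ∧ t * s ∈ N ^ 3 := fun hs ht =>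
      ⟨by rw [Submodule.pow_succ]; exact Submodule.mul_mem_mul hs ht,
        by rw [Submodule.pow_succ' _ (by norm_num)]; exact Submodule.mul_mem_mul ht hs⟩
    have e : (a₂ + a1 • x + a2 • y) * (b₂ + b1 • x + b2 • y) - (b₂ + b1 • x + b2 • y) * (a₂ + a1 • x + a2 • y) =
        (a1 * b2 - a2 * b1) • c + ((a₂ * (b₂ + w) - (b₂ + w) * a₂) + (u * b₂ - b₂ * u)) := by
      simp only [hc, hu, hw, smul_sub, sub_smul, mul_add, add_mul, smul_mul_assoc, mul_smul_comm, smul_smul,
        smul_add, mul_comm b1 a1, mul_comm b2 a2, mul_comm b2 a1, mul_comm b1 a2]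
      abel
    rw [e]
    refine Submodule.add_mem_sup (Submodule.smul_mem _ _ (Submodule.mem_span_singleton_self c)) ?_
    have hbw : b₂ + w ∈ N := add_mem (h21 hb₂) hwN
    exact add_mem (sub_mem (hmul ha₂ hbw).1 (hmul ha₂ hbw).2) (sub_mem (hmul hb₂ huN).2 (hmul hb₂ huN).1)
  by_cases hc3 : c ∈ N ^ 3
  · -- then the commutators lie one step deeper and the algebra is generated by one element
    have hK3' : K ≤ N ^ 3 := hKc.trans (sup_le ((Submodule.span_singleton_le_iff_mem _ _).mpr hc3) le_rfl)
    have hN3lt : Module.finrank k K + 1 ≤ Module.finrank k ↥(N ^ 3) :=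
      Submodule.finrank_lt_finrank_of_lt (lt_of_le_of_ne hK3' fun e => h3K (e ▸ le_rfl))
    have h3lt : Module.finrank k ↥(N ^ 3) + 1 ≤ Module.finrank k ↥(N ^ 2) := by
      refine Submodule.finrank_lt_finrank_of_lt (lt_of_le_of_ne h32 fun e => h3 ?_)
      have : ∀ i, N ^ 2 = N ^ (2 + i) := by
        intro i
        induction i with
        | zero => rfl
        | succ i ih => rw [← add_assoc, Submodule.pow_succ (n := 2 + i), ← ih, ← Submodule.pow_succ, e]
      rw [e, this (m₀ + 1), show 2 + (m₀ + 1) = (m₀ + 1) + 2 by omega, Submodule.pow_add _ (by omega), hm₀]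
      simp
    obtain ⟨x₁, hx₁, hxV₁, hxd₁⟩ := exists_mem_sup_span (n := 0) h21 (by omega)
    have hspan₁ : N = N ^ 2 ⊔ Submodule.span k {x₁} :=
      (Submodule.eq_of_le_of_finrank_le hxV₁ (by simpa using hxd₁)).symm
    set P : Submodule k A := Subalgebra.toSubmodule (Algebra.adjoin k {x₁}) ⊓ N with hP
    have hPP : P * P ≤ P := Submodule.mul_le.mpr fun a ha b hb =>
      ⟨(Algebra.adjoin k {x₁}).mul_mem ha.1 hb.1, hNN (Submodule.mul_mem_mul ha.2 hb.2)⟩
    have hgen : ∀ i : ℕ, N ≤ P ⊔ N ^ (i + 1) := by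
      intro i
      induction i with
      | zero => rw [zero_add, hN1]; exact le_sup_right
      | succ i ih =>
        nth_rewrite 1 [hspan₁]
        refine sup_le ?_ ((Submodule.span_singleton_le_iff_mem _ _).mpr
          (Submodule.mem_sup_left ⟨Algebra.subset_adjoin rfl, hx₁⟩))
        rw [h2eq]
        refine (mul_le_mul' ih ih).trans ?_
        rw [Submodule.sup_mul, Submodule.mul_sup, Submodule.mul_sup]
        refine sup_le (sup_le (hPP.trans le_sup_left) (le_sup_of_le_right ?_)) (sup_le (le_sup_of_le_right ?_) (le_sup_of_le_right ?_))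
        · rw [Submodule.pow_succ' _ (by omega : i + 1 ≠ 0)]
          exact mul_le_mul' inf_le_right le_rfl
        · rw [Submodule.pow_succ (n := i + 1)]
          exact mul_le_mul' le_rfl inf_le_right
        · rw [Submodule.pow_succ (n := i + 1)]
          refine mul_le_mul' le_rfl ?_
          rcases Nat.eq_zero_or_pos i with rfl | hi
          · rw [zero_add, hN1]
          · clear ih
            induction i with
            | zero => omega
            | succ j ihj =>
              rcases Nat.eq_zero_or_pos j with rfl | hj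
              · exact h21
              · exact (hanti (j + 1) (by omega)).trans (ihj hj)
    have hPc : ∀ a ∈ N, ∀ b ∈ N, a * b - b * a = 0 := by
      intro a ha b hb
      have hle : N ≤ P := by
        have := hgen m₀
        rwa [hm₀, sup_bot_eq] at this
      rw [sub_eq_zero]
      exact (Algebra.commute_of_mem_adjoin_of_forall_mem_commute (hle hb).1 fun z hz =>
        Set.mem_singleton_iff.mp hz ▸ (Algebra.commute_of_mem_adjoin_of_forall_mem_commute (hle ha).1
          fun w hw => by rw [Set.mem_singleton_iff.mp hw]).symm).eq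
    exact hKcomm (le_bot_iff.mp (hKle ⊥ fun a ha b hb => (Submodule.mem_bot k).mpr (hPc a ha b hb)))
  · -- the two-generated step
    exfalso
    have hN2 : N ^ 2 ≤ Submodule.span k {c} ⊔ N ^ 3 := by
      have h1 : K ⊔ N ^ 3 = N ^ 2 := Submodule.eq_of_le_of_finrank_le hK32 (by
        have h2 : Module.finrank k ↥(N ^ 2) + 2 ≤ Module.finrank k N := by
          have h2a : N ^ 2 < N ^ 2 ⊔ Submodule.span k {x} := by
            refine lt_of_le_of_ne le_sup_left fun e => hc3 ?_
            rw [← e] at hspan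
            have hx2 : x ∈ N ^ 2 := by rw [e]; exact Submodule.mem_sup_right (Submodule.mem_span_singleton_self x)
            rw [hc]
            exact sub_mem (by rw [Submodule.pow_succ]; exact Submodule.mul_mem_mul hx2 hy)
              (by rw [Submodule.pow_succ' _ (by norm_num)]; exact Submodule.mul_mem_mul hy hx2)
          have h2b : N ^ 2 ⊔ Submodule.span k {x} < N := by
            refine lt_of_le_of_ne hxV fun e => hc3 ?_
            have hy' : y ∈ N ^ 2 ⊔ Submodule.span k {x} := e.symm ▸ hy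
            obtain ⟨s, hs, t, ht, hst⟩ := Submodule.mem_sup.mp hy'
            obtain ⟨d, rfl⟩ := Submodule.mem_span_singleton.mp ht
            rw [hc, ← hst, show x * (s + d • x) - (s + d • x) * x = x * s - s * x by
              rw [mul_add, add_mul, mul_smul_comm, smul_mul_assoc]; abel]
            exact sub_mem (by rw [Submodule.pow_succ' _ (by norm_num)]; exact Submodule.mul_mem_mul hx hs)
              (by rw [Submodule.pow_succ]; exact Submodule.mul_mem_mul hs hx)
          have := Submodule.finrank_lt_finrank_of_lt h2a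
          have := Submodule.finrank_lt_finrank_of_lt h2b
          omega
        omega)
      rw [← h1]
      exact sup_le hKc le_sup_right
    have hcoef : ∀ a ∈ N, ∀ b ∈ N, ∃ t : k, a * b - t • c ∈ N ^ 3 := by
      intro a ha b hb
      obtain ⟨s, hs, w, hw, he⟩ := Submodule.mem_sup.mp (hN2 (h2eq ▸ Submodule.mul_mem_mul ha hb))
      obtain ⟨t, rfl⟩ := Submodule.mem_span_singleton.mp hs
      exact ⟨t, by rw [← he, add_sub_cancel_left]; exact hw⟩
    obtain ⟨α, hα⟩ := hcoef x hx x hx
    obtain ⟨β, hβ⟩ := hcoef x hx y hy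
    obtain ⟨γ, hγ⟩ := hcoef y hy y hy
    have hβ' : y * x - (β - 1) • c ∈ N ^ 3 := by
      rw [show y * x - (β - 1) • c = x * y - β • c by rw [sub_smul, one_smul, hc]; abel]
      exact hβ
    set π := (N ^ 4).mkQ with hπ
    have key : ∀ {a b z : A} {s t : k}, a ∈ N → z ∈ N → a * b - s • c ∈ N ^ 3 → b * z - t • c ∈ N ^ 3 →
        s • π (c * z) = t • π (a * c) := by
      intro a b z s t ha hz h1 h2
      rw [← map_smul, ← map_smul, hπ, Submodule.mkQ_apply, Submodule.mkQ_apply, Submodule.Quotient.eq,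
        show s • (c * z) - t • (a * c) = -((a * b - s • c) * z) + a * (b * z - t • c) by
          rw [sub_mul, mul_sub, smul_mul_assoc, mul_smul_comm, mul_assoc]; abel]
      refine add_mem (neg_mem ?_) ?_
      · rw [Submodule.pow_succ]; exact Submodule.mul_mem_mul h1 hz
      · rw [Submodule.pow_succ' _ (by norm_num)]; exact Submodule.mul_mem_mul ha h2
    obtain ⟨hRx, hRy, -, -⟩ := graded_step_eq_zero (α := α) (β := β) (γ := γ) (key hx hx hα hα) (key hx hx hβ hβ')
      (key hx hy hα hβ) (key hx hy hβ hγ) (key hy hx hβ' hα) (key hy hx hγ hβ') (key hy hy hβ' hβ) (key hy hy hγ hγ)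
    have hR : ∀ {z : A}, π (c * z) = 0 → c * z ∈ N ^ 4 := fun {z} h => (Submodule.Quotient.mk_eq_zero _).mp h
    have hc2 : c ∈ N ^ 2 := hK2 (by rw [hK]; exact Submodule.subset_span ⟨(x, y), hc.symm⟩)
    have h34 : N ^ 3 ≤ N ^ 4 := by
      rw [Submodule.pow_succ (n := 2)]
      refine Submodule.mul_le.mpr fun a ha b hb => ?_
      obtain ⟨s, hs, w, hw, rfl⟩ := Submodule.mem_sup.mp (hN2 ha)
      obtain ⟨t, rfl⟩ := Submodule.mem_span_singleton.mp hs
      rw [add_mul, smul_mul_assoc]
      refine add_mem (Submodule.smul_mem _ _ ?_) (by rw [Submodule.pow_succ]; exact Submodule.mul_mem_mul hw hb)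
      rw [hspan] at hb
      obtain ⟨b₁, hb₁, by', hby, rfl⟩ := Submodule.mem_sup.mp hb
      obtain ⟨b₂, hb₂, bx, hbx, rfl⟩ := Submodule.mem_sup.mp hb₁
      obtain ⟨b1, rfl⟩ := Submodule.mem_span_singleton.mp hbx
      obtain ⟨b2, rfl⟩ := Submodule.mem_span_singleton.mp hby
      rw [mul_add, mul_add, mul_smul_comm, mul_smul_comm]
      refine add_mem (add_mem ?_ (Submodule.smul_mem _ _ (hR hRx))) (Submodule.smul_mem _ _ (hR hRy))
      rw [show (4 : ℕ) = 2 + 2 from rfl, Submodule.pow_add _ (by norm_num)]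
      exact Submodule.mul_mem_mul hc2 hb₂
    have hst : ∀ i, N ^ 3 ≤ N ^ (3 + i) := by
      intro i
      induction i with
      | zero => rfl
      | succ i ih =>
        rw [← add_assoc, Submodule.pow_succ (n := 3 + i)]
        exact h34.trans (by rw [Submodule.pow_succ (n := 3)]; exact mul_le_mul' ih le_rfl)
    refine h3 (le_bot_iff.mp ?_)
    have := hst (m₀ + 1)
    rw [show 3 + (m₀ + 1) = (m₀ + 1) + 3 by omega, Submodule.pow_add _ (by omega), hm₀] at this
    simpa using this

end CfsgLib.Block.LocalAlg
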