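import Mathlib.RingTheory.Idempotents
import Mathlib.RingTheory.Jacobson.Radical
import Mathlib.RingTheory.Artinian.Module
import Mathlib.RingTheory.Coprime.Lemmas
import Mathlib.FieldTheory.Minpoly.Field
import Mathlib.FieldTheory.IsAlgClosed.Basic
import Mathlib.LinearAlgebra.Matrix.Polynomial
import Mathlib.LinearAlgebra.Matrix.SchurComplement
import Mathlib.LinearAlgebra.Trace
import Mathlib.LinearAlgebra.Dual.Lemmas
import Mathlib.Algebra.CharP.Lemmas
import Mathlib.Algebra.CharP.Algebra
import Mathlib.Tactic.NoncommRing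

/-!
# Local algebras with few tracial functionals

`exists_scalar_hom`: a finite dimensional algebra without nontrivial idempotents over an algebraically
closed field has a character with nil kernel.
`finrank_le_two_of_tracial`: if it has no three independent tracial functionals it has dimension at most two.
-/

set_option autoImplicit false
set_option linter.unusedSectionVars false

namespace CfsgLib.Block.LocalAlg

open Polynomial

universe u v

theorem exists_three {k : Type u} [Field k] {A : Type v} [AddCommGroup A] [Module k A] [FiniteDimensional k A]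
    (D : Submodule k (A →ₗ[k] k)) (hle : 3 ≤ Module.finrank k D) :
    ∃ φ : Fin 3 → A →ₗ[k] k, (∀ i, φ i ∈ D) ∧ LinearIndependent k φ := by
  haveI : Module.Free k D := Module.Free.of_divisionRing (K := k) (V := D)
  let b : Module.Basis (Fin (Module.finrank k D)) k D := Module.finBasis k D
  refine ⟨fun i => (b (Fin.castLE hle i)).1, fun i => (b _).2, ?_⟩
  exact LinearIndependent.map_injOn (b.linearIndependent.comp _ (Fin.castLE_injective hle)) D.subtype
    Subtype.val_injective.injOn

section local_algebra

variable {k : Type u} [Field k] [IsAlgClosed k] {A : Type v} [Ring A] [Algebra k A] [Nontrivial A]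
  [FiniteDimensional k A] (hid : ∀ a : A, a * a = a → a = 0 ∨ a = 1)

include hid in
/-- Every element is a scalar plus a nilpotent. -/
theorem exists_scalar_nilpotent (x : A) : ∃ c : k, IsNilpotent (x - algebraMap k A c) := by
  classical
  have hint : IsIntegral k x := .of_finite k x
  set m := minpoly k x with hm
  have hm0 : m ≠ 0 := minpoly.ne_zero hint
  obtain ⟨c, hc⟩ := IsAlgClosed.exists_root m (fun h => (minpoly.degree_pos hint).ne' h)
  obtain ⟨q, hq, hqc⟩ := Polynomial.exists_eq_pow_rootMultiplicity_mul_and_not_dvd m hm0 c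
  set n := m.rootMultiplicity c with hn
  refine ⟨c, n, ?_⟩
  have hcop : IsCoprime ((X - C c) ^ n) q :=
    ((Polynomial.irreducible_X_sub_C c).coprime_iff_not_dvd.mpr hqc).pow_left
  obtain ⟨u, v, huv⟩ := hcop
  have h0 : aeval x m = 0 := minpoly.aeval k x
  have h1 : aeval x (u * (X - C c) ^ n) + aeval x (v * q) = 1 := by
    rw [← map_add, huv, map_one]
  have hprod : aeval x (v * q) * aeval x (u * (X - C c) ^ n) = 0 := by
    rw [← map_mul, show v * q * (u * (X - C c) ^ n) = (v * u) * ((X - C c) ^ n * q) by ring,
      ← hq, map_mul, h0, mul_zero]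
  have hidem : aeval x (v * q) * aeval x (v * q) = aeval x (v * q) := by
    conv_rhs => rw [← mul_one (aeval x (v * q)), ← h1, mul_add, hprod, zero_add]
  have hnm : ∀ P : k[X], aeval x (P * ((X - C c) ^ n * q)) = 0 := fun P => by
    rw [← hq, map_mul, h0, mul_zero]
  rcases hid _ hidem with e | e
  · exfalso
    rw [e, add_zero] at h1
    have hq0 : aeval x q = 0 := by
      rw [← one_mul (aeval x q), ← h1, ← map_mul, mul_assoc]
      exact hnm u
    have hdvd := minpoly.dvd k x hq0
    exact hqc (((Polynomial.dvd_iff_isRoot).mpr hc).trans hdvd)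
  · have : aeval x ((X - C c) ^ n) = 0 := by
      rw [← one_mul (aeval x ((X - C c) ^ n)), ← e, ← map_mul,
        show v * q * (X - C c) ^ n = v * ((X - C c) ^ n * q) by ring]
      exact hnm v
    simpa [map_pow] using this

omit [IsAlgClosed k] in
include k in
/-- One-sided inverses are inverses. -/
theorem isUnit_of_mul_eq_one' {a b : A} (h : a * b = 1) : IsUnit a ∧ IsUnit b := by
  haveI : IsArtinianRing A := IsArtinianRing.of_finite k A
  haveI : IsNoetherianRing A := IsNoetherianRing.of_finite k A
  exact ⟨IsUnit.of_mul_eq_one b h, IsUnit.of_mul_eq_one_right a h⟩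

include hid in
/-- A character with nil kernel. -/
theorem exists_scalar_hom : ∃ ε : A →ₐ[k] k, ∀ x : A, IsNilpotent (x - algebraMap k A (ε x)) := by
  classical
  choose ε hε using exists_scalar_nilpotent (k := k) hid
  have huniq : ∀ (x : A) (c : k), IsNilpotent (x - algebraMap k A c) → ε x = c := by
    intro x c hc
    have hcomm : Commute (x - algebraMap k A (ε x)) (x - algebraMap k A c) :=
      ((Commute.refl x).sub_left (Algebra.commutes _ _)).sub_right (Algebra.commute_algebraMap_right _ _)
    have h : IsNilpotent (algebraMap k A (c - ε x)) := by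
      have := hcomm.isNilpotent_sub (hε x) hc
      rwa [sub_sub_sub_cancel_left, ← map_sub] at this
    obtain ⟨j, hj⟩ := h
    rw [← map_pow, ← map_zero (algebraMap k A)] at hj
    exact (sub_eq_zero.mp (pow_eq_zero_iff'.mp ((algebraMap k A).injective hj)).1).symm
  have hunit : ∀ x : A, ε x ≠ 0 → IsUnit x := by
    intro x hx
    have h1 : IsUnit (algebraMap k A (ε x)) := (isUnit_iff_ne_zero.mpr hx).map _
    have := (hε x).isUnit_add_left_of_commute h1 (Algebra.commute_algebraMap_right _ _)
    rwa [add_sub_cancel] at this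
  have hnil : ∀ x : A, ε x = 0 → IsNilpotent x := fun x hx => by simpa [hx] using hε x
  have hmul0 : ∀ x y : A, ε x = 0 → ε (y * x) = 0 ∧ ε (x * y) = 0 := by
    intro x y hx
    refine ⟨by_contra fun h => ?_, by_contra fun h => ?_⟩
    · obtain ⟨w, hw⟩ := (hunit _ h).exists_left_inv
      obtain ⟨j, hj⟩ := hnil x hx
      have hu : IsUnit x := (isUnit_of_mul_eq_one' (k := k) (by rw [← mul_assoc] at hw; exact hw)).2
      exact (hu.pow j).ne_zero hj
    · obtain ⟨w, hw⟩ := (hunit _ h).exists_right_inv
      obtain ⟨j, hj⟩ := hnil x hx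
      have hu : IsUnit x := (isUnit_of_mul_eq_one' (k := k) (by rw [mul_assoc] at hw; exact hw)).1
      exact (hu.pow j).ne_zero hj
  have hadd0 : ∀ x y : A, ε x = 0 → ε y = 0 → ε (x + y) = 0 := by
    intro x y hx hy
    by_contra h
    obtain ⟨w, hw⟩ := (hunit _ h).exists_left_inv
    obtain ⟨j, hj⟩ := hnil _ (hmul0 x w hx).1
    have hu : IsUnit (w * y) := by
      rw [show w * y = 1 - w * x by rw [← hw]; noncomm_ring]
      exact IsNilpotent.isUnit_one_sub ⟨j, hj⟩
    obtain ⟨i, hi⟩ := hnil _ (hmul0 y w hy).1
    exact (hu.pow i).ne_zero hi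
  have hsub : ∀ x : A, ε (x - algebraMap k A (ε x)) = 0 := fun x => huniq _ 0 (by simpa using hε x)
  have hadd : ∀ x y, ε (x + y) = ε x + ε y := fun x y => huniq _ _ (by
    have := hnil _ (hadd0 _ _ (hsub x) (hsub y))
    rwa [sub_add_sub_comm, ← map_add] at this)
  have hmul : ∀ x y, ε (x * y) = ε x * ε y := fun x y => huniq _ _ (by
    have e : x * y - algebraMap k A (ε x * ε y) = (x - algebraMap k A (ε x)) * y +
        algebraMap k A (ε x) * (y - algebraMap k A (ε y)) := by
      rw [map_mul]; noncomm_ring
    rw [e]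
    exact hnil _ (hadd0 _ _ (hmul0 _ y (hsub x)).2 (hmul0 _ _ (hsub y)).1))
  have hC : ∀ c : k, ε (algebraMap k A c) = c := fun c => huniq _ _ (by simp)
  exact ⟨{ toFun := ε
           map_one' := by simpa using hC 1
           map_mul' := hmul
           map_zero' := by simpa using hC 0
           map_add' := hadd
           commutes' := fun c => hC c }, hε⟩

include hid in
/-- Few tracial functionals force dimension at most two. -/
theorem finrank_le_two_of_tracial
    (h3 : ∀ φ : Fin 3 → A →ₗ[k] k, (∀ i x y, φ i (x * y) = φ i (y * x)) → ¬ LinearIndependent k φ) :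
    Module.finrank k A ≤ 2 := by
  classical
  obtain ⟨ε, hε⟩ := exists_scalar_hom (k := k) hid
  set N : Submodule k A := LinearMap.ker ε.toLinearMap with hN
  have hmemN : ∀ x, x ∈ N ↔ ε x = 0 := fun x => LinearMap.mem_ker
  set J2 : Submodule k A := N * N with hJ2
  have hJN : J2 ≤ N := Submodule.mul_le.mpr fun a ha b _ => (hmemN _).mpr (by
    rw [map_mul, (hmemN a).mp ha, zero_mul])
  have hsub : ∀ x, x - algebraMap k A (ε x) ∈ N := fun x => (hmemN _).mpr (by simp)
  have hcomm2 : ∀ x y : A, x * y - y * x ∈ J2 := fun x y => by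
    have e : x * y - y * x = (x - algebraMap k A (ε x)) * (y - algebraMap k A (ε y)) -
        (y - algebraMap k A (ε y)) * (x - algebraMap k A (ε x)) := by
      simp only [sub_mul, mul_sub, Algebra.commutes (ε x) y, Algebra.commutes (ε y) x,
        Algebra.commutes (ε x) (algebraMap k A (ε y))]
      abel
    rw [e]
    exact sub_mem (Submodule.mul_mem_mul (hsub x) (hsub y)) (Submodule.mul_mem_mul (hsub y) (hsub x))
  have hbound : ∀ W : Submodule k A, (∀ x y : A, x * y - y * x ∈ W) →
      Module.finrank k W.dualAnnihilator ≤ 2 := by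
    intro W hW
    by_contra hlt
    obtain ⟨φ, hφ, hli⟩ := exists_three (W.dualAnnihilator : Submodule k (A →ₗ[k] k)) (Nat.lt_of_not_le hlt)
    refine h3 φ (fun i x y => ?_) hli
    rw [← sub_eq_zero, ← map_sub]
    exact (Submodule.mem_dualAnnihilator _).mp (hφ i) _ (hW x y)
  have hb2 := hbound J2 hcomm2
  have hsum := Subspace.finrank_add_finrank_dualAnnihilator_eq J2
  have hNcard : Module.finrank k N + 1 = Module.finrank k A := by
    rw [← LinearMap.finrank_range_add_finrank_ker ε.toLinearMap, add_comm]
    congr 1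
    rw [LinearMap.range_eq_top.mpr fun c => ⟨algebraMap k A c, by simp⟩, finrank_top, Module.finrank_self]
  obtain ⟨x, hxN, hspan⟩ : ∃ x ∈ N, N ≤ Submodule.span k {x} ⊔ J2 := by
    by_cases hle : N ≤ J2
    · exact ⟨0, zero_mem _, le_sup_of_le_right hle⟩
    · obtain ⟨x, hx, hxJ⟩ := SetLike.not_le_iff_exists.mp hle
      refine ⟨x, hx, le_of_eq (Eq.symm (Submodule.eq_of_le_of_finrank_le
        (sup_le ((Submodule.span_singleton_le_iff_mem _ _).mpr hx) hJN) ?_))⟩
      have hlt : J2 < Submodule.span k {x} ⊔ J2 := lt_of_le_of_ne le_sup_right fun e =>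
        hxJ (e ▸ Submodule.mem_sup_left (Submodule.mem_span_singleton_self x))
      have := Submodule.finrank_lt_finrank_of_lt hlt
      omega
  set P : Subalgebra k A := Algebra.adjoin k {x} with hP
  haveI : IsArtinianRing A := IsArtinianRing.of_finite k A
  set J : Ideal A := Ring.jacobson A with hJ
  have hNJ : ∀ y ∈ N, y ∈ J := by
    intro y hy
    rw [hJ, Ring.jacobson_eq_sInf_isMaximal, Submodule.mem_sInf]
    intro I hI
    by_contra hyI
    obtain ⟨a, i, hi, he⟩ := hI.exists_inv hyI
    have h0 : IsNilpotent (a * y) := by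
      have h := hε (a * y)
      rwa [map_mul, (hmemN y).mp hy, mul_zero, map_zero, sub_zero] at h
    have hu : IsUnit i := by
      rw [show i = 1 - a * y from eq_sub_of_add_eq' he]
      exact h0.isUnit_one_sub
    exact hI.ne_top (Ideal.eq_top_of_isUnit_mem _ hi hu)
  have hJN' : ∀ y ∈ J, y ∈ N := by
    intro y hy
    by_contra hyN
    have hy' : ε y ≠ 0 := fun h => hyN ((hmemN y).mpr h)
    have h1 : IsUnit (algebraMap k A (ε y)) := (isUnit_iff_ne_zero.mpr hy').map _
    have hu := (hε y).isUnit_add_left_of_commute h1 (Algebra.commute_algebraMap_right _ _)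
    rw [add_sub_cancel] at hu
    exact (Ring.jacobson_lt_top A).ne (Ideal.eq_top_of_isUnit_mem _ hy hu)
  have hstep : ∀ m : ℕ, ∀ y ∈ N, ∃ c ∈ P, y - c ∈ J ^ (m + 1) := by
    intro m
    induction m with
    | zero => exact fun y hy => ⟨0, zero_mem _, by rw [sub_zero, zero_add, Submodule.pow_one]; exact hNJ y hy⟩
    | succ m ih =>
      have hprod : ∀ z ∈ J2, ∃ c ∈ P, z - c ∈ J ^ (m + 1 + 1) := by
        intro z hz
        refine Submodule.mul_induction_on hz (fun a ha b hb => ?_) fun a b ⟨ca, hca, ha⟩ ⟨cb, hcb, hb⟩ => ?_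
        · obtain ⟨ca, hca, hra⟩ := ih a ha
          obtain ⟨cb, hcb, hrb⟩ := ih b hb
          refine ⟨ca * cb, mul_mem hca hcb, ?_⟩
          rw [show a * b - ca * cb = (a - ca) * b + ca * (b - cb) by noncomm_ring]
          have hcaJ : ca ∈ J := by
            have h := sub_mem (hNJ a ha) ((Ideal.pow_le_self (by omega)) hra)
            rwa [sub_sub_cancel] at h
          refine add_mem ?_ ?_
          · rw [Submodule.pow_succ]
            exact Submodule.mul_mem_mul hra (hNJ b hb)
          · rw [show J ^ (m + 1 + 1) = J * J ^ (m + 1) from Submodule.pow_succ' _ (by omega)]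
            exact Submodule.mul_mem_mul hcaJ hrb
        · exact ⟨ca + cb, add_mem hca hcb, by rw [add_sub_add_comm]; exact add_mem ha hb⟩
      intro y hy
      obtain ⟨s, hs, z, hz, rfl⟩ := Submodule.mem_sup.mp (hspan hy)
      obtain ⟨c, hc, hr⟩ := hprod z hz
      obtain ⟨t, rfl⟩ := Submodule.mem_span_singleton.mp hs
      exact ⟨t • x + c, add_mem (P.smul_mem (Algebra.subset_adjoin rfl) t) hc, by rwa [add_sub_add_left_eq_sub]⟩
  obtain ⟨m, hm⟩ := IsSemiprimaryRing.isNilpotent (R := A)
  have htop : ∀ y : A, y ∈ P := by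
    intro y
    obtain ⟨c, hc, hr⟩ := hstep m _ (hsub y)
    have h0 : J ^ (m + 1) = ⊥ := by
      rw [Submodule.pow_succ, hJ, hm]
      simp
    rw [h0, Submodule.mem_bot, sub_eq_zero] at hr
    have : y = algebraMap k A (ε y) + c := by rw [← hr]; abel
    rw [this]
    exact add_mem (P.algebraMap_mem _) hc
  have hcomm : ∀ a b : A, a * b = b * a := fun a b =>
    (Algebra.commute_of_mem_adjoin_of_forall_mem_commute (htop b) fun z hz =>
      Set.mem_singleton_iff.mp hz ▸ (Algebra.commute_of_mem_adjoin_of_forall_mem_commute (htop a) fun w hw => by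
        rw [Set.mem_singleton_iff.mp hw]).symm).eq
  have hb0 := hbound ⊥ fun a b => by simp [hcomm a b]
  have hs0 := Subspace.finrank_add_finrank_dualAnnihilator_eq (⊥ : Submodule k A)
  rw [finrank_bot, zero_add] at hs0
  omega

end local_algebra

section corner

variable {k : Type u} [Field k] {A : Type v} [Ring A] [Algebra k A] {f : A} {hf : IsIdempotentElem f}

instance instSMulCorner : SMul k hf.Corner where
  smul c x := ⟨c • x.1, c • x.2.choose, by
    show f * (c • x.2.choose) * f = c • x.1
    rw [Algebra.mul_smul_comm, Algebra.smul_mul_assoc]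
    exact congrArg (c • ·) x.2.choose_spec⟩

theorem corner_coe_smul (c : k) (x : hf.Corner) : (c • x).1 = c • x.1 := rfl

noncomputable instance instModuleCorner : Module k hf.Corner :=
  Function.Injective.module k
    { toFun := fun x : hf.Corner => x.1, map_zero' := rfl, map_add' := fun _ _ => rfl }
    Subtype.val_injective (fun _ _ => rfl)

noncomputable instance instAlgebraCorner : Algebra k hf.Corner :=
  Algebra.ofModule (fun c x y => Subtype.ext (Algebra.smul_mul_assoc c x.1 y.1))
    (fun c x y => Subtype.ext (Algebra.mul_smul_comm c x.1 y.1))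

variable (k hf) in
/-- The corner inside the algebra. -/
noncomputable def cornerVal : hf.Corner →ₗ[k] A where
  toFun x := x.1
  map_add' _ _ := rfl
  map_smul' _ _ := rfl

theorem cornerVal_injective : Function.Injective (cornerVal k hf) := Subtype.val_injective

instance instFiniteCorner [FiniteDimensional k A] : FiniteDimensional k hf.Corner :=
  FiniteDimensional.of_injective (cornerVal k hf) cornerVal_injective

variable (k hf) in
/-- The projection to the corner. -/
noncomputable def cornerProj : A →ₗ[k] hf.Corner where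
  toFun a := ⟨f * a * f, a, rfl⟩
  map_add' a b := Subtype.ext (show f * (a + b) * f = f * a * f + f * b * f by rw [mul_add, add_mul])
  map_smul' c a := Subtype.ext (show f * (c • a) * f = c • (f * a * f) by
    rw [Algebra.mul_smul_comm, Algebra.smul_mul_assoc])

theorem cornerProj_val (x : hf.Corner) : cornerProj k hf x.1 = x :=
  Subtype.ext (show f * x.1 * f = x.1 by
    obtain ⟨r, hr⟩ := x.2
    simp only at hr
    rw [← hr, ← mul_assoc, ← mul_assoc, hf.eq, mul_assoc _ f f, hf.eq])

theorem corner_nontrivial (h : f ≠ 0) : Nontrivial hf.Corner :=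
  ⟨⟨1, 0, fun e => h (congrArg Subtype.val e)⟩⟩

/-- Primitive idempotents give corners without idempotents. -/
theorem corner_idem (hprim : ∀ a : A, a * a = a → f * a = a → a * f = a → a = 0 ∨ a = f) (a : hf.Corner)
    (ha : a * a = a) : a = 0 ∨ a = 1 := by
  obtain ⟨r, hr⟩ := a.2
  simp only at hr
  have h1 : f * a.1 = a.1 := by rw [← hr, ← mul_assoc, ← mul_assoc, hf.eq]
  have h2 : a.1 * f = a.1 := by rw [← hr, mul_assoc _ f f, hf.eq]
  rcases hprim a.1 (congrArg Subtype.val ha) h1 h2 with e | e
  · exact Or.inl (Subtype.ext e)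
  · exact Or.inr (Subtype.ext e)

end corner

/-- The degree of `det (1 + X E)` is at most the dimension of a subspace containing the columns. -/
theorem natDegree_det_le {k : Type u} [Field k] {X' : Type*} [Fintype X'] [DecidableEq X']
    (E : Matrix X' X' k) (W : Submodule k (X' → k)) (hW : ∀ v, (fun y => E y v) ∈ W) :
    ((1 + (Polynomial.X : k[X]) • E.map C).det).natDegree ≤ Module.finrank k W := by
  classical
  set b := Module.finBasis k W with hb
  set U : Matrix X' (Fin (Module.finrank k W)) k := fun y j => (b j : X' → k) y with hU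
  set V : Matrix (Fin (Module.finrank k W)) X' k := fun j v => b.repr ⟨_, hW v⟩ j with hV
  have hE : E = U * V := by
    refine Matrix.ext fun y v => ?_
    have e := congrArg (fun w : W => (w : X' → k) y) (b.sum_repr ⟨_, hW v⟩)
    simp only [Submodule.coe_sum, Finset.sum_apply, SetLike.val_smul, Pi.smul_apply, smul_eq_mul] at e
    rw [Matrix.mul_apply, ← e]
    exact Finset.sum_congr rfl fun j _ => mul_comm _ _
  rw [hE, Matrix.map_mul, ← Matrix.smul_mul, Matrix.det_one_add_mul_comm, Matrix.mul_smul,
    ← Matrix.map_mul]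
  have h := Polynomial.natDegree_det_X_add_C_le (V * U) (1 : Matrix (Fin (Module.finrank k W)) _ k)
  rw [Fintype.card_fin, Matrix.map_one C (map_zero C) (map_one C), add_comm] at h
  exact h

/-- The trace of a commuting product with a unipotent. -/
theorem trace_mul_unipotent {k : Type u} [Field k] {V : Type v} [AddCommGroup V] [Module k V]
    [FiniteDimensional k V] {p j : ℕ} [Fact p.Prime] [CharP k p] {u w : Module.End k V}
    (hu : u ^ p ^ j = 1) (huw : Commute u w) :
    LinearMap.trace k V (u * w) = LinearMap.trace k V w := by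
  rcases subsingleton_or_nontrivial (Module.End k V) with h | h
  · rw [Subsingleton.elim (u * w) w]
  have : CharP (Module.End k V) p := charP_of_injective_algebraMap (algebraMap k _).injective p
  have hn : IsNilpotent (u - 1) := ⟨p ^ j, by rw [sub_pow_char_pow_of_commute p j (Commute.one_right u), hu, one_pow, sub_self]⟩
  have hnw : IsNilpotent ((u - 1) * w) := (huw.sub_left (Commute.one_left w)).isNilpotent_mul_right hn
  have h0 := (LinearMap.isNilpotent_trace_of_isNilpotent hnw).eq_zero
  rw [sub_mul, one_mul, map_sub, sub_eq_zero] at h0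
  exact h0

end CfsgLib.Block.LocalAlg
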