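import Cfsg.Agent.Lib.Block.PermIdem
import Cfsg.Agent.Lib.Block.NilpotentBijection
import Mathlib.LinearAlgebra.Trace

/-!
# Blocks with the least possible sum of squares of degrees are nilpotent

The block algebra is then a single orbit of `P × P`, so every element normalizing the subgroup of a
pair acts on it as an element of the Sylow subgroup `P`.
-/

open Finset MonoidAlgebra
open scoped ComplexConjugate

set_option linter.unusedSectionVars false
set_option linter.style.haveILetI false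

namespace CfsgLib.Block

open Cfsg
open scoped Pair

universe u

section Rank

variable {R : Type*} [CommRing R] {L : Type*} [Field L] {κ : Type*} [Field κ]

/-- The rank of the reduction is at most the rank in the fraction field. -/
theorem rank_map_le_rank_map {m n : Type*} [Fintype m] [Fintype n] (ι : R →+* L)
    (hι : Function.Injective ι) (π : R →+* κ) (hπ : Function.Surjective π) (A : Matrix m n R) :
    (A.map π).rank ≤ (A.map ι).rank := by
  classical
  rw [Matrix.rank_eq_finrank_span_cols]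
  obtain ⟨s, a, hinj, hspan, hli⟩ := exists_linearIndependent' κ (A.map π).col
  haveI : Finite s := Finite.of_injective a hinj
  haveI := Fintype.ofFinite s
  rw [← hspan, finrank_span_eq_card hli]
  set B := A.submatrix id a with hB
  have hli' : LinearIndependent κ (B.map π).col := hli
  rw [← Matrix.mulVec_injective_iff, ← Matrix.coe_mulVecLin] at hli'
  obtain ⟨φ, hφ⟩ := LinearMap.exists_leftInverse_of_injective (B.map π).mulVecLin
    (LinearMap.ker_eq_bot.mpr hli')
  have hLB : LinearMap.toMatrix' φ * B.map π = 1 := by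
    rw [← LinearMap.toMatrix'_toLin' (B.map π), ← LinearMap.toMatrix'_comp, Matrix.toLin'_apply', hφ,
      LinearMap.toMatrix'_id]
  choose g hg using fun i j => hπ (LinearMap.toMatrix' φ i j)
  have hdet : π ((Matrix.of g * B).det) = 1 := by
    rw [RingHom.map_det, RingHom.mapMatrix_apply, Matrix.map_mul,
      show (Matrix.of g).map π = LinearMap.toMatrix' φ from Matrix.ext hg, hLB, Matrix.det_one]
  have hne : ι ((Matrix.of g * B).det) ≠ 0 := fun h => by
    rw [map_eq_zero_iff ι hι] at h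
    rw [h, map_zero] at hdet
    exact zero_ne_one hdet
  rw [RingHom.map_det, RingHom.mapMatrix_apply, Matrix.map_mul] at hne
  have hfull := Matrix.rank_of_isUnit _ ((Matrix.isUnit_iff_isUnit_det _).mpr (Ne.isUnit hne))
  calc Fintype.card s = ((Matrix.of g).map ι * B.map ι).rank := hfull.symm
    _ ≤ (B.map ι).rank := Matrix.rank_mul_le_right _ _
    _ ≤ (A.map ι).rank := by
      rw [hB, show (A.submatrix id a).map ι = (A.map ι).submatrix id a from rfl]
      exact Matrix.rank_submatrix_le _ _ _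

theorem natCast_rank_of_idem {m : Type*} [Fintype m] [DecidableEq m] (A : Matrix m m L)
    (h : A * A = A) : (A.rank : L) = A.trace := by
  have hidem : IsIdempotentElem A.toLin' := by
    show A.toLin' * A.toLin' = A.toLin'
    rw [Module.End.mul_eq_comp, ← Matrix.toLin'_mul, h]
  rw [← Matrix.trace_toLin'_eq, LinearMap.IsProj.trace
    ((LinearMap.isProj_range_iff_isIdempotentElem _).mpr hidem)]
  rfl

end Rank

variable {p : ℕ} {M : Ideal AlgInt} [M.IsMaximal] {G : Type u} [Group G] [Fintype G] [DecidableEq G]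
  [Fintype (IrrCharacter G)]

/-- The idempotent of a block, as the matrix of left multiplication. -/
noncomputable def leftMat (M : Ideal AlgInt) [M.IsMaximal] (B : Set (IrrCharacter G)) :
    Matrix G G (locRing M) :=
  Matrix.of fun x y => (blockIdem M B : MonoidAlgebra (locRing M) G).coeff (x * y⁻¹)

theorem leftMat_mul_self (hM : IsPModular p M) {B : Set (IrrCharacter G)} (hB : IsPBlock M B) :
    leftMat M B * leftMat M B = leftMat M B := by
  refine Matrix.ext fun x y => ?_
  have h := congrArg (fun z : Subalgebra.center (locRing M) (MonoidAlgebra (locRing M) G) =>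
    (z : MonoidAlgebra (locRing M) G).coeff (x * y⁻¹))
    (blockIdem_mul_self hM (IsBlockUnion.of_isPBlock hB))
  simp only [MulMemClass.coe_mul, coeff_mul_sum] at h
  rw [Matrix.mul_apply]
  refine Eq.trans ?_ h
  refine (Fintype.sum_equiv ((Equiv.inv G).trans (Equiv.mulLeft x)) _ _ fun v => ?_)
  simp [leftMat, mul_assoc]

/-- The reduced idempotent, as a matrix. -/
noncomputable def resMat (M : Ideal AlgInt) [M.IsMaximal] (B : Set (IrrCharacter G)) :
    Matrix G G (ResField M) :=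
  (leftMat M B).map (res M)

theorem resMat_apply (B : Set (IrrCharacter G)) (x y : G) :
    resMat M B x y = coeffRes M B (x * y⁻¹) := rfl

theorem rank_resMat_le (hM : IsPModular p M) {B : Set (IrrCharacter G)} (hB : IsPBlock M B) {n : ℕ}
    (hsum : (∑ᶠ χ ∈ B, charDegree (χ : G → ℂ) ^ 2) = n) : (resMat M B).rank ≤ n := by
  classical
  have hι : Function.Injective (locRing M).subtype := Subtype.val_injective
  refine (rank_map_le_rank_map (locRing M).subtype hι (res M) res_surjective _).trans (le_of_eq ?_)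
  have hidem : (leftMat M B).map (locRing M).subtype * (leftMat M B).map (locRing M).subtype =
      (leftMat M B).map (locRing M).subtype := by
    rw [← Matrix.map_mul, leftMat_mul_self hM hB]
  have h := natCast_rank_of_idem _ hidem
  refine Nat.cast_injective (R := ℂ) (h.trans ?_)
  have hG : (Nat.card G : ℂ) ≠ 0 := Nat.cast_ne_zero.mpr Nat.card_pos.ne'
  have hd : ∀ x : G, (leftMat M B).map (locRing M).subtype x x = blockCoeff B 1 := fun x => by
    rw [Matrix.map_apply, leftMat, Matrix.of_apply, mul_inv_cancel]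
    exact coe_coeff_blockIdem hM (IsBlockUnion.of_isPBlock hB) 1
  simp only [Matrix.trace, Matrix.diag_apply, hd, Finset.sum_const, Finset.card_univ, nsmul_eq_mul,
    ← Nat.card_eq_fintype_card]
  rw [← hsum, blockCoeff, mul_inv_cancel_left₀ hG,
    finsum_mem_eq_toFinset_sum, finsum_mem_eq_toFinset_sum]
  push_cast
  refine Finset.sum_congr rfl fun χ _ => ?_
  rw [Char.conj_irr_one, (charDegree_eq χ).1, sq]

/-- `P × P` acting by multiplication on both sides. -/
@[reducible] def biAct (P : Subgroup G) : MulAction (P × P) G where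
  smul γ g := (γ.1 : G) * g * (γ.2 : G)⁻¹
  one_smul g := show ((1 : P) : G) * g * ((1 : P) : G)⁻¹ = g by simp
  mul_smul γ δ g := show ((γ.1 * δ.1 : P) : G) * g * ((γ.2 * δ.2 : P) : G)⁻¹ =
    (γ.1 : G) * ((δ.1 : G) * g * (δ.2 : G)⁻¹) * (γ.2 : G)⁻¹ by simp [mul_assoc]

/-- In a block with small rank every automorphism of the subgroup of a pair given by `G` comes from
the Sylow subgroup. -/
theorem exists_mem_eq_conj (hM : IsPModular p M) {B : Set (IrrCharacter G)} (hB : IsPBlock M B)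
    {a d : ℕ} (hda : d ≤ a) (hsum : (∑ᶠ χ ∈ B, charDegree (χ : G → ℂ) ^ 2) = p ^ (2 * a - d))
    {P D : Subgroup G} (hPp : IsPGroup p P) (hPcard : Nat.card P = p ^ a) (hDP : D ≤ P)
    (hD : IsDefectGroup p M B D) (hDcard : Nat.card D = p ^ d) {Q : Subgroup G} (hQD : Q ≤ D)
    {x : G} (hxN : x ∈ Subgroup.normalizer (Q : Set G)) :
    ∃ w ∈ P, ∀ r ∈ Q, x * r * x⁻¹ = w * r * w⁻¹ := by
  classical
  haveI : Fact p.Prime := ⟨hM.1⟩
  haveI := charP_resField hM
  have hDp := isPGroup_defectGroup hM hB hD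
  have hQP : Q ≤ P := hQD.trans hDP
  letI := biAct P
  have hsm : ∀ (γ : P × P) (g : G), γ • g = (γ.1 : G) * g * (γ.2 : G)⁻¹ := fun _ _ => rfl
  set K := resMat M B with hKdef
  have hinv : ∀ (γ : P × P) v w, K (γ • v) (γ • w) = K v w := by
    intro γ v w
    rw [hKdef, resMat_apply, resMat_apply, hsm, hsm,
      show (γ.1 : G) * v * (γ.2 : G)⁻¹ * ((γ.1 : G) * w * (γ.2 : G)⁻¹)⁻¹ =
        (γ.1 : G) * (v * w⁻¹) * (γ.1 : G)⁻¹ by group]
    exact coeffRes_conj _ _ _
  have hidem : K * K = K := by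
    rw [hKdef, resMat, ← Matrix.map_mul, leftMat_mul_self hM hB]
  obtain ⟨c, hc, hc0⟩ := (brauer_blockIdem_ne_zero_iff hM hB hD hDp).mpr (conjLE_of_le le_rfl)
  have hne : K ≠ 0 := fun h => hc0 (by
    have := congrFun (congrFun h c) 1
    rwa [hKdef, resMat_apply, inv_one, mul_one] at this)
  have hΓ : IsPGroup p (P × P) :=
    IsPGroup.of_card (n := a + a) (by rw [Nat.card_prod, hPcard, pow_add])
  obtain ⟨z, g, hst, hzg, hcol⟩ := PermIdem.exists_col_orbit hΓ hinv hidem hne
  -- the stabilizer has order at most `|D|`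
  set S := MulAction.stabilizer (P × P) z with hSdef
  have hcomm : ∀ γ ∈ S, Commute (γ.1 : G) (z * g⁻¹) := by
    intro γ hγ
    have h1 : (γ.1 : G) * z * (γ.2 : G)⁻¹ = z := hγ
    have h2 : (γ.1 : G) * g * (γ.2 : G)⁻¹ = g := hst.le hγ
    show (γ.1 : G) * (z * g⁻¹) = z * g⁻¹ * (γ.1 : G)
    calc (γ.1 : G) * (z * g⁻¹)
        = (γ.1 : G) * z * (γ.2 : G)⁻¹ * ((γ.1 : G) * g * (γ.2 : G)⁻¹)⁻¹ * (γ.1 : G) := by group
      _ = z * g⁻¹ * (γ.1 : G) := by rw [h1, h2]
  let π : (P × P) →* G :=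
    P.subtype.comp (MonoidHom.fst _ _)
  have hπ : Function.Injective (π.comp S.subtype) := by
    intro s t hst'
    have h1 : (s.1.1 : G) = (t.1.1 : G) := hst'
    have hs : (s.1.1 : G) * z * (s.1.2 : G)⁻¹ = z := s.2
    have ht : (t.1.1 : G) * z * (t.1.2 : G)⁻¹ = z := t.2
    refine Subtype.ext (Prod.ext (Subtype.ext h1) (Subtype.ext ?_))
    rw [h1] at hs
    exact inv_injective (mul_left_cancel (hs.trans ht.symm))
  have hSle : Nat.card S ≤ p ^ d := by
    rw [← hDcard, Nat.card_congr (MonoidHom.ofInjective hπ).toEquiv]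
    refine ConjLE.card_le (coeff_ne_zero_le_defect hM hB hD
      ((hΓ.to_subgroup S).of_surjective _ (π.comp S.subtype).rangeRestrict_surjective)
      (x := z * g⁻¹) (by rwa [hKdef, resMat_apply] at hzg) ?_)
    rintro _ ⟨s, rfl⟩
    exact hcomm _ s.2
  have horb : (PermIdem.orb (P × P) z).card * Nat.card S =
      p ^ (a + a) := by
    rw [pow_add, ← hPcard, ← Nat.card_prod, hSdef,
      ← Subgroup.index_mul_card (MulAction.stabilizer (P × P) z), MulAction.index_stabilizer,
      ← Set.ncard_coe_finset,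
      show (↑(PermIdem.orb (P × P) z) : Set G) = MulAction.orbit (P × P) z from
        Set.ext fun _ => PermIdem.mem_orb]
  have hrank : K.rank ≤ (PermIdem.orb (P × P) z).card := by
    refine (rank_resMat_le hM hB hsum).trans ?_
    refine Nat.le_of_mul_le_mul_right ?_ (pow_pos hM.1.pos d)
    rw [← pow_add, show 2 * a - d + d = a + a by omega, ← horb]
    exact Nat.mul_le_mul_left _ hSle
  have key : ∀ (w : G) (R : Subgroup G), R ≤ P →
      (∀ r ∈ R, w * r * w⁻¹ ∈ P) → ∀ c ∈ Subgroup.centralizer (R : Set G),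
      coeffRes M B c ≠ 0 → ∃ h ∈ PermIdem.orb (P × P) z,
        ∀ r ∈ R, w * r * w⁻¹ * h = h * r := by
    intro w R hR hw c hc hc0
    let Y : Subgroup (P × P) :=
      { carrier := {γ | (γ.2 : G) ∈ R ∧ (γ.1 : G) = w * (γ.2 : G) * w⁻¹}
        one_mem' := ⟨R.one_mem, by simp⟩
        mul_mem' := fun {γ δ} hγ hδ => ⟨R.mul_mem hγ.1 hδ.1, by
          show (γ.1 : G) * (δ.1 : G) = w * ((γ.2 : G) * (δ.2 : G)) * w⁻¹
          rw [hγ.2, hδ.2]; group⟩
        inv_mem' := fun {γ} hγ => ⟨R.inv_mem hγ.1, by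
          show (γ.1 : G)⁻¹ = w * (γ.2 : G)⁻¹ * w⁻¹
          rw [hγ.2]; group⟩ }
    obtain ⟨h, hh, hfix⟩ := PermIdem.exists_fixed_on_orbit hΓ hinv hcol hrank (Y := Y)
      (f := fun v => K v w) (PermIdem.col_mem_range _) (fun γ hγ => funext fun v => by
        rw [PermIdem.shift_apply]
        conv_lhs => rw [← hinv γ, smul_inv_smul]
        congr 1
        rw [hsm, hγ.2]; group) (y₀ := w * c) (fun γ hγ => by
        have hcc := Subgroup.mem_centralizer_iff.mp hc _ hγ.1
        rw [hsm, hγ.2]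
        calc w * (γ.2 : G) * w⁻¹ * (w * c) * (γ.2 : G)⁻¹ = w * ((γ.2 : G) * c) * (γ.2 : G)⁻¹ := by group
          _ = w * c := by rw [hcc]; group) (by
        rw [hKdef, resMat_apply, coeffRes_conj]
        exact hc0)
    refine ⟨h, hh, fun r hr => ?_⟩
    have hfx : w * r * w⁻¹ * h * r⁻¹ = h := hfix (⟨w * r * w⁻¹, hw r hr⟩, ⟨r, hR hr⟩) ⟨hr, rfl⟩
    exact mul_inv_eq_iff_eq_mul.mp hfx
  -- an element of `C(D)` on the orbit
  obtain ⟨h₀, hh₀, hfix₀⟩ := key 1 D hDP (fun r hr => by simpa using hDP hr) c hc hc0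
  have hS₀ : ∀ γ ∈ MulAction.stabilizer (P × P) h₀, γ.1 = γ.2 := by
    let Δ : D →* (P × P) :=
      (Subgroup.inclusion hDP).prod (Subgroup.inclusion hDP)
    have hΔ : Function.Injective Δ := fun s t h => Subgroup.inclusion_injective hDP (congrArg Prod.fst h)
    have hle' : Δ.range ≤ MulAction.stabilizer (P × P) h₀ := by
      rintro _ ⟨r, rfl⟩
      show (r : G) * h₀ * (r : G)⁻¹ = h₀
      have := hfix₀ r r.2
      rw [one_mul, inv_one, mul_one] at this
      rw [this, mul_inv_cancel_right]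
    have hcard : Nat.card (MulAction.stabilizer (P × P) h₀) ≤
        Nat.card Δ.range := by
      rw [PermIdem.card_stab_eq_of_mem_orb hh₀, ← Nat.card_congr (MonoidHom.ofInjective hΔ).toEquiv,
        hDcard]
      exact hSle
    intro γ hγ
    obtain ⟨r, rfl⟩ := (Subgroup.eq_of_le_of_card_ge hle' hcard).ge hγ
    rfl
  -- the element acts as an element of `P`
  obtain ⟨c', hc', hc'0⟩ := (brauer_blockIdem_ne_zero_iff hM hB hD (hDp.to_le hQD)).mpr (conjLE_of_le hQD)
  obtain ⟨h, hh, hfix⟩ := key x Q hQP (fun r hr => hQP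
    ((Subgroup.mem_normalizer_iff.mp hxN r).mp hr)) c' hc' hc'0
  obtain ⟨δ, hδ⟩ := PermIdem.mem_orb.mp (PermIdem.orb_eq_of_mem hh₀ ▸ hh)
  have hδ' : (δ.1 : G) * h₀ * (δ.2 : G)⁻¹ = h := hδ
  refine ⟨(δ.1 : G) * (δ.2 : G)⁻¹, mul_mem δ.1.2 (inv_mem δ.2.2), fun r hr => ?_⟩
  have hxr : x * r * x⁻¹ ∈ P := hQP ((Subgroup.mem_normalizer_iff.mp hxN r).mp hr)
  have h1 := hS₀ (δ⁻¹ * (⟨_, hxr⟩, ⟨r, hQP hr⟩) * δ) (by
      rw [MulAction.mem_stabilizer_iff, mul_smul, mul_smul, show δ • h₀ = h from hδ,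
        inv_smul_eq_iff, show δ • h₀ = h from hδ, hsm, mul_inv_eq_iff_eq_mul]
      exact hfix r hr)
  have h2 : (δ.1 : G)⁻¹ * (x * r * x⁻¹) * (δ.1 : G) = (δ.2 : G)⁻¹ * r * (δ.2 : G) :=
      congrArg Subtype.val h1
  calc x * r * x⁻¹ = (δ.1 : G) * ((δ.1 : G)⁻¹ * (x * r * x⁻¹) * (δ.1 : G)) * (δ.1 : G)⁻¹ := by group
      _ = _ := by rw [h2]; group

/-- A block with the least possible sum of squares of degrees is nilpotent. -/
theorem nilpotent_of_minimal_degree (hM : IsPModular p M) {B : Set (IrrCharacter G)}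
    (hB : IsPBlock M B) {a d : ℕ} (ha : (Nat.card G).factorization p = a)
    (hd : blockDefect p B = d) (hsum : (∑ᶠ χ ∈ B, charDegree (χ : G → ℂ) ^ 2) = p ^ (2 * a - d)) :
    IsNilpotentBlock p M B := by
  classical
  haveI : Fact p.Prime := ⟨hM.1⟩
  refine ⟨hB, fun Q e hQe x hxN _ hreg => ?_⟩
  obtain ⟨D, eD, hmax, hle⟩ := exists_maximal_above hM Q e hQe
  have hD := isDefectGroup_of_maximal hM hmax
  obtain ⟨P, hDP⟩ := (isPGroup_defectGroup hM hB hD).exists_le_sylow
  have hQD : Q ≤ D := SubpairLE.le hle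
  obtain ⟨w, hwP, hw⟩ := exists_mem_eq_conj hM hB (d := d) (a := a)
    (by rw [← hd, ← ha]; exact Nat.sub_le _ _) hsum P.isPGroup'
    (by rw [P.card_eq_multiplicity, ha]) hDP hD (hd ▸ defectGroup_card hM hB hD) hQD hxN
  have hwN : w ∈ Subgroup.normalizer (Q : Set G) := mem_normalizer_of_cjS_eq (by
    refine le_antisymm (fun u hu => ?_) fun u hu => ?_
    · obtain ⟨r, hr, rfl⟩ := hu
      show w * r * w⁻¹ ∈ Q
      rw [← hw r hr]
      exact (Subgroup.mem_normalizer_iff.mp hxN r).mp hr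
    · refine ⟨x⁻¹ * u * x, (Subgroup.mem_normalizer_iff''.mp hxN u).mp hu, ?_⟩
      show w * (x⁻¹ * u * x) * w⁻¹ = u
      rw [← hw _ ((Subgroup.mem_normalizer_iff''.mp hxN u).mp hu)]
      group)
  have himg : Q.normalizerMonoidHom ⟨x, hxN⟩ = Q.normalizerMonoidHom ⟨w, hwN⟩ :=
    MulEquiv.ext fun r => Subtype.ext (hw r r.2)
  have ho : orderOf (Q.normalizerMonoidHom ⟨x, hxN⟩) = 1 := by
    obtain ⟨k, hk⟩ := P.isPGroup' ⟨w, hwP⟩
    have h1 : orderOf (Q.normalizerMonoidHom ⟨x, hxN⟩) ∣ p ^ k := by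
      rw [himg]
      refine (orderOf_map_dvd _ _).trans (orderOf_dvd_of_pow_eq_one (Subtype.ext ?_))
      rw [SubmonoidClass.coe_pow, OneMemClass.coe_one]
      exact congrArg Subtype.val hk
    have h2 : orderOf (Q.normalizerMonoidHom ⟨x, hxN⟩) ∣ orderOf x := by
      refine (orderOf_map_dvd _ _).trans ?_
      rw [← Subgroup.orderOf_coe]
    exact Nat.eq_one_of_dvd_coprimes ((Nat.Coprime.pow_left k
      ((hM.1.coprime_iff_not_dvd).mpr hreg))) h1 h2
  rw [orderOf_eq_one_iff] at ho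
  refine Subgroup.mem_centralizer_iff.mpr fun r hr => ?_
  have h3 : x * r * x⁻¹ = r := congrArg (fun f : MulAut Q => ((f ⟨r, hr⟩ : Q) : G)) ho
  exact (mul_inv_eq_iff_eq_mul.mp h3).symm

end CfsgLib.Block
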