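import Cfsg.Agent.Lib.Block.SourceIdem
import Cfsg.Agent.Lib.Block.Transfer
import Cfsg.Agent.Lib.Block.SubsectionSum
import Cfsg.Agent.Lib.Block.NilpotentLocal

/-!
# Contributions of height zero characters in a block with unit rows at the sections

For a nilpotent block with maximal pair `(P, e)`, a height zero `χ` and a lifted source
idempotent `i`: the function `f θ y = θ (y i)` on `P` and the contributions of the subsections.
-/

open Finset MonoidAlgebra
open scoped ComplexConjugate

set_option linter.unusedSectionVars false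

namespace CfsgLib.Block

open Cfsg
open scoped Pair

universe u

/-- One member restricts to the only irreducible Brauer character, with the scaled norm `1`. -/
def HasUnitRow {A : Type u} [Group A] [Fintype A] (p : ℕ) (b : Set (IrrCharacter A)) : Prop :=
  ∃ η₀ ∈ b, (∀ η ∈ b, ∃ d : ℕ, ∀ t : A, ¬ p ∣ orderOf t →
      (η : A → ℂ) t = (d : ℂ) * (η₀ : A → ℂ) t) ∧
    regInner p η₀ η₀ * (p : ℂ) ^ blockDefect p b = 1

variable {p : ℕ} {M : Ideal AlgInt} [M.IsMaximal] {G : Type u} [Group G] [Fintype G] [DecidableEq G]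
  [Fintype (IrrCharacter G)] {P : Subgroup G} {e : Set (IrrCharacter (CQ P))}

/-- The value of `θ` at `y` times the idempotent. -/
noncomputable def sval (ih : MonoidAlgebra (locRing M) G) (θ : IrrCharacter G) (y : G) : ℂ :=
  ∑ t : G, (ih.coeff t : ℂ) * (θ : G → ℂ) (y * t)

/-- The scaled contribution of the subsection at `y`. -/
noncomputable def contrib (p : ℕ) (low : P → BrauerPairIdx G) (θ θ' : IrrCharacter G) (y : P) : ℂ :=
  (Nat.card (Subgroup.centralizer ({y} : Set P)) : ℂ) * secSum p θ θ' (y : G) (low y) /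
    (Nat.card (CQ (Subgroup.zpowers (y : G))) : ℂ)

theorem card_centralizer_eq_inf (y : P) :
    Nat.card (Subgroup.centralizer ({y} : Set P)) =
      Nat.card (P ⊓ CQ (Subgroup.zpowers (y : G)) : Subgroup G) := by
  rw [← Subgroup.card_map_of_injective (f := P.subtype) (Subgroup.subtype_injective P)]
  congr 2
  ext t
  simp only [Subgroup.mem_map, Subgroup.mem_centralizer_singleton_iff, Subgroup.coe_subtype,
    Subgroup.mem_inf, mem_cq_zpowers_iff]
  constructor
  · rintro ⟨v, hv, rfl⟩
    exact ⟨v.2, congrArg Subtype.val hv⟩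
  · rintro ⟨ht, hc⟩
    exact ⟨⟨t, ht⟩, Subtype.ext hc, rfl⟩

theorem exists_defect_pow_card (hM : IsPModular p M) {B : Set (IrrCharacter G)}
    (hmax : IsMaximalBrauerPair p M B P e) : Nat.card P = p ^ blockDefect p B :=
  defectGroup_card hM hmax.1.2.1 (isDefectGroup_of_maximal hM hmax)

theorem isPPow_of_mem (hM : IsPModular p M) (hP : IsPGroup p P) (y : P) :
    ∃ k : ℕ, orderOf (y : G) = p ^ k := by
  have : Fact p.Prime := ⟨hM.1⟩
  obtain ⟨k, hk⟩ := IsPGroup.iff_orderOf.mp hP y
  exact ⟨k, by rw [Subgroup.orderOf_coe, hk]⟩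

/-- The section at `y` when the block at `y` has a unit row. -/
theorem exists_secData (hM : IsPModular p M) {B : Set (IrrCharacter G)}
    (hmax : IsMaximalBrauerPair p M B P e) (hnil : IsNilpotentBlock p M B) {χ : IrrCharacter G}
    {i : MonoidAlgebra (ResField M) G} (hi : IsSourceIdem M P e χ i)
    {ih : MonoidAlgebra (locRing M) G} (hih : ih * ih = ih) (hred : toK M ih = i)
    (hcomm : ∀ g ∈ P, Commute (single g 1) ih) (low : P → BrauerPairIdx G)
    (hlow : ∀ y : P, (low y).1 = Subgroup.zpowers (y : G) ∧ Below p M P e (low y)) (y : P)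
    (hrow : ∀ b : Set (IrrCharacter (CQ (Subgroup.zpowers (y : G)))),
      IsBrauerPairOf p M B (Subgroup.zpowers (y : G)) b → HasUnitRow p b) :
    ∃ (n : ℕ) (dd : IrrCharacter G → ℂ), ∀ θ,
      dd θ ∈ cycInt (Nat.card P) ∧ sval ih θ (y : G) = (n : ℂ) * dd θ ∧
      ∀ θ', contrib p low θ θ' y = dd θ * conj (dd θ') := by
  classical
  have hpf : Fact p.Prime := ⟨hM.1⟩
  have he := hmax.1.1
  obtain ⟨k, hk⟩ := isPPow_of_mem hM he.1 y
  set Q := Subgroup.zpowers (y : G) with hQdef
  set Q' := CQ Q with hQ'def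
  obtain ⟨b, hlb⟩ := exists_eq_pairMk (hlow y).1
  have hbel : SubpairLE p M Q b P e := by
    have := (hlow y).2; rwa [hlb] at this
  have hpair : IsBrauerPairOf p M B (Subgroup.zpowers (y : G)) b :=
    (SubpairLE.isBrauerPairOf_iff hM hbel).mp hmax.1
  have hb := hpair.1.2
  obtain ⟨η₀, hη₀, hrows, hnorm⟩ := hrow b hpair
  have := Fintype.ofFinite (IrrCharacter (CQ Q))
  have := Fintype.ofFinite (ConjClasses (CQ Q))
  choose! d hd using hrows
  have hQP : Q ≤ P := Subgroup.zpowers_le.mpr y.2
  have hC' : ∀ t : CQ Q, Commute (t : G) (y : G) := fun t => mem_cq_zpowers_iff.mp t.2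
  set y' : CQ Q := ⟨(y : G), mem_cq_zpowers_iff.mpr (Commute.refl _)⟩ with hy'
  have hy'n : y' ^ Nat.card P = 1 := Subtype.ext (by
    rw [SubmonoidClass.coe_pow, OneMemClass.coe_one]
    exact congrArg Subtype.val (pow_card_eq_one' (x := y)))
  choose lam hlam hlamt using fun η : IrrCharacter (CQ Q) =>
    exists_central_scalar η (z := y') (fun t => Subtype.ext (hC' t).symm.eq) hy'n
  let c : IrrCharacter G → IrrCharacter (CQ Q) → ℂ := fun θ η => (resMult θ η : ℂ) * lam η
  let dd : IrrCharacter G → ℂ := fun θ => ∑ η ∈ Finset.univ.filter (· ∈ b), c θ η * (d η : ℂ)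
  have hsec : ∀ θ t, secFun (y : G) (CQ Q) θ t =
      ∑ η : IrrCharacter (CQ Q), c θ η * (η : CQ Q → ℂ) t := by
    intro θ t
    show (θ : G → ℂ) ((y' * t : CQ Q) : G) = _
    rw [res_eq_sum_resMult]
    exact Finset.sum_congr rfl fun η _ => by rw [hlamt]; simp only [c]; ring
  have hbp : ∀ θ, ∀ s : CQ Q, ¬ p ∣ orderOf s →
      blockPart b (secFun (y : G) (CQ Q) θ) s = dd θ * (η₀ : CQ Q → ℂ) s := by
    intro θ s hs
    rw [blockPart_eq, Finset.sum_mul]
    refine Finset.sum_congr rfl fun η hη => ?_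
    rw [hd η (Finset.mem_filter.mp hη).2 s hs, ← mul_assoc]
    congr 1
    congr 1
    have h : secFun (y : G) (CQ Q) θ = ∑ η' : IrrCharacter (CQ Q), c θ η' • (η' : CQ Q → ℂ) := by
      funext t
      simp only [Finset.sum_apply, Pi.smul_apply, smul_eq_mul]
      exact hsec θ t
    rw [h, Char.classInner_sum_left, Finset.sum_eq_single η]
    · rw [Char.classInner_smul_left, Char.classInner_irr_self, mul_one]
    · intro η' _ hne
      rw [Char.classInner_smul_left, Char.classInner_irr_ne hne, mul_zero]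
    · simp
  -- the lift of the truncation
  have hQp : IsPGroup p Q := he.1.to_le hQP
  set a : MonoidAlgebra (ResField M) Q' := gaOfFun fun t => (trC Q i).coeff (t : G) with hadef
  have hemba : emb a = trC Q i := by
    rw [eq_emb_of_suppIn (suppIn_trC (R := Q) i)]
    congr 1
  have hembinj : Function.Injective (emb : MonoidAlgebra (ResField M) Q' → MonoidAlgebra (ResField M) G) :=
    fun u v huv => ga_ext fun t => by rw [← coeff_emb_coe (G := G) u t, huv, coeff_emb_coe]
  have haa : a * a = a := hembinj (by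
    rw [emb_mul, hemba, ← trC_mul hM hQp (hi.cinv.mono hQP) (hi.cinv.mono hQP), hi.idem])
  obtain ⟨L0, hL0, hL0r, -⟩ := exists_lift_idem_commute (S := (∅ : Set Q')) haa
    (fun g hg => absurd hg (Set.notMem_empty g))
  set eb := (blockIdem M b : MonoidAlgebra (locRing M) Q') with heb
  have hebc : ∀ z, Commute eb z := fun z => (mem_center_iff_isClassElt.mp (blockIdem M b).2).commute z
  have heb2 : eb * eb = eb := congrArg Subtype.val (blockIdem_mul_self hM (IsBlockUnion.of_isPBlock hb))
  set L := L0 * eb with hLdef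
  have hLL : L * L = L := by rw [hLdef, ((hebc L0)).mul_mul_mul_comm, hL0, heb2]
  have hLr : toK M L = a := by
    refine hembinj ?_
    rw [hLdef, map_mul, hL0r, emb_mul, hemba]
    exact hi.br_block hM he hbel
  have hLy : Commute (single (y : G) 1) (emb L : MonoidAlgebra (locRing M) G) := by
    rw [commute_single_iff]
    intro g
    by_cases hg : g ∈ Q'
    · rw [(mem_cq_zpowers_iff.mp hg).symm.eq, mul_inv_cancel_right]
    · have hg' : (y : G) * g * (y : G)⁻¹ ∉ Q' := fun h => hg
        ((cq_conj_iff (Subgroup.le_normalizer (Subgroup.mem_zpowers _)) g).mpr h)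
      rw [suppIn_emb L g hg, suppIn_emb L _ hg']
  have htransfer : ∀ θ, sval ih θ (y : G) = evalGA (secFun (y : G) Q' θ) L := by
    intro θ
    rw [sval, sum_idem_mul_pElement_congr hM ⟨k, hk⟩ hih (by rw [← emb_mul, hLL]) (hcomm _ y.2) hLy
      (fun t ht => ?_) θ]
    · rw [evalGA, ← Finset.sum_subset (Finset.subset_univ (Finset.univ.filter (fun t : G => t ∈ Q')))
        fun t _ ht => by rw [suppIn_emb L t (by simpa using ht), ZeroMemClass.coe_zero, zero_mul],
        Finset.sum_subtype (p := fun t => t ∈ Q') _ (fun t => by simp)]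
      exact Finset.sum_congr rfl fun t _ => by rw [coeff_emb_coe]; rfl
    · have htQ : t ∈ Q' := mem_cq_zpowers_iff.mpr ht
      rw [← coeff_toK, hred, ← coeff_trC i htQ, ← hemba, show t = ((⟨t, htQ⟩ : Q') : G) from rfl,
        coeff_emb_coe, coeff_emb_coe, ← coeff_toK, hLr]
  obtain ⟨n, hn⟩ := exists_evalGA_eq_natCast hLL η₀
  have hη : ∀ η : IrrCharacter Q', evalGA (η : Q' → ℂ) L =
      if η ∈ b then (d η : ℂ) * n else 0 := by
    intro η
    split_ifs with hηb
    · have h0 := evalGA_eq_zero_of_regular hM hLL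
        (f := fun t => (η : Q' → ℂ) t - (d η : ℂ) * (η₀ : Q' → ℂ) t)
        (fun g h => by simp only [Char.isClassFunction_irr η g h, Char.isClassFunction_irr η₀ g h])
        (fun t ht => sub_eq_zero.mpr (hd η hηb t ht))
      rw [← hn]
      simp only [evalGA, Finset.mul_sum] at h0 ⊢
      rw [← sub_eq_zero, ← Finset.sum_sub_distrib]
      refine Eq.trans (Finset.sum_congr rfl fun t _ => ?_) h0
      ring
    · -- the idempotent of `b` kills the characters outside it
      rw [hLdef, evalGA]
      simp only [coeff_mul_sum L0 eb, AddSubmonoidClass.coe_finsetSum, Subring.coe_mul,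
        Finset.sum_mul]
      rw [Finset.sum_comm]
      refine Finset.sum_eq_zero fun u _ => ?_
      have h0 : blockPart b (η : Q' → ℂ) u = 0 := by
        rw [blockPart_eq]
        refine Finset.sum_eq_zero fun η' hη' => ?_
        rw [Char.classInner_irr_ne (fun h : η = η' => hηb (h ▸ (Finset.mem_filter.mp hη').2)), zero_mul]
      rw [blockPart_eq_sum b (Char.isClassFunction_irr η)] at h0
      refine Eq.trans ?_ ((congrArg ((L0.coeff u : ℂ) * ·) h0).trans (mul_zero _))
      rw [Finset.mul_sum]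
      refine Fintype.sum_equiv (Equiv.mulLeft u⁻¹) _ _ fun t => ?_
      simp only [Equiv.coe_mulLeft, heb, coe_coeff_blockIdem hM (IsBlockUnion.of_isPBlock hb)]
      rw [show (η : Q' → ℂ) (u⁻¹ * t * u) = (η : Q' → ℂ) t from by
        have := Char.isClassFunction_irr η t u⁻¹
        rwa [inv_inv] at this]
      ring
  refine ⟨n, dd, fun θ => ⟨?_, ?_, fun θ' => ?_⟩⟩
  · exact Subring.sum_mem _ fun η _ => Subring.mul_mem _
      (Subring.mul_mem _ (natCast_mem _ _) (mem_cycInt_of_pow (hlam η))) (natCast_mem _ _)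
  · rw [htransfer θ]
    have h1 : evalGA (secFun (y : G) Q' θ) L =
        ∑ η : IrrCharacter Q', c θ η * evalGA (η : Q' → ℂ) L := by
      simp only [evalGA, Finset.mul_sum]
      rw [Finset.sum_comm]
      refine Finset.sum_congr rfl fun t _ => ?_
      rw [hsec θ t, Finset.mul_sum]
      exact Finset.sum_congr rfl fun η _ => by ring
    rw [h1]
    simp only [hη, mul_ite, mul_zero]
    rw [← Finset.sum_filter, Finset.mul_sum]
    exact Finset.sum_congr rfl fun η _ => by ring
  · have hsum : secSum p θ θ' (y : G) (low y) =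
        dd θ * conj (dd θ') * ((Nat.card Q' : ℂ) * regInner p η₀ η₀) := by
      rw [hlb, card_mul_regInner, Finset.mul_sum, secSum]
      symm
      refine Finset.sum_bij (fun s _ => (s : G)) (fun s hs => ?_) (fun s _ s' _ h => Subtype.ext h)
        (fun s hs => ?_) fun s hs => ?_
      · exact Finset.mem_filter.mpr ⟨Finset.mem_univ _, s.2, by
          rw [Subgroup.orderOf_coe]; exact (Finset.mem_filter.mp hs).2⟩
      · obtain ⟨-, hs1, hs2⟩ := Finset.mem_filter.mp hs
        exact ⟨⟨s, hs1⟩, Finset.mem_filter.mpr ⟨Finset.mem_univ _, by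
          rwa [← Subgroup.orderOf_coe]⟩, rfl⟩
      · have hs' := (Finset.mem_filter.mp hs).2
        rw [secPart_eq_blockPart b hC', secPart_eq_blockPart b hC', hbp θ s hs', hbp θ' s hs',
          map_mul, Char.irr_inv]
        ring
    have hcard : (Nat.card (Subgroup.centralizer ({y} : Set P)) : ℂ) = (p : ℂ) ^ blockDefect p b := by
      rw [card_centralizer_eq_inf, ← card_subgroupOf_inf,
        defectGroup_card hM hb (isDefectGroup_inf_of_nilpotent hM hmax hnil hbel), Nat.cast_pow]
    rw [contrib, hsum, hcard]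
    have hQ0 : (Nat.card Q' : ℂ) ≠ 0 := Nat.cast_ne_zero.mpr Nat.card_pos.ne'
    rw [show (p : ℂ) ^ blockDefect p b * (dd θ * conj (dd θ') *
        ((Nat.card Q' : ℂ) * regInner p η₀ η₀)) = dd θ * conj (dd θ') * (Nat.card Q' : ℂ) *
        (regInner p η₀ η₀ * (p : ℂ) ^ blockDefect p b) by ring, hnorm, mul_one,
      mul_div_assoc, div_self hQ0, mul_one]

/-- The section at a central element of the group. -/
theorem contrib_central (hM : IsPModular p M) {B : Set (IrrCharacter G)}
    (hmax : IsMaximalBrauerPair p M B P e) (low : P → BrauerPairIdx G)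
    (hlow : ∀ y : P, (low y).1 = Subgroup.zpowers (y : G) ∧ Below p M P e (low y)) (y : P)
    (hy : ∀ t : G, Commute t (y : G)) {θ θ' : IrrCharacter G} (hθ : θ ∈ B) (hθ' : θ' ∈ B)
    {l l' : ℂ} (hl : ∀ t, (θ : G → ℂ) ((y : G) * t) = l * (θ : G → ℂ) t)
    (hl' : ∀ t, (θ' : G → ℂ) ((y : G) * t) = l' * (θ' : G → ℂ) t) :
    contrib p low θ θ' y = (Nat.card P : ℂ) * (l * conj l' * regInner p θ θ') := by
  classical
  have := Fintype.ofFinite (ConjClasses G)
  have hpf : Fact p.Prime := ⟨hM.1⟩
  have he := hmax.1.1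
  have hB := hmax.1.2.1
  obtain ⟨k, hk⟩ := isPPow_of_mem hM he.1 y
  set C := CQ (Subgroup.zpowers (y : G)) with hCdef
  obtain ⟨b, hlb⟩ := exists_eq_pairMk (hlow y).1
  have hC : ∀ t : G, t ∈ C ↔ Commute t (y : G) := fun t => mem_cq_zpowers_iff
  have hC' : ∀ t : C, Commute (t : G) (y : G) := fun t => hy t
  have := Fintype.ofFinite (IrrCharacter C)
  let U : Finset (Set (IrrCharacter C)) := Finset.univ.filter (fun b => IsPBlock M b)
  have hU : ∀ b, b ∈ U ↔ IsPBlock M b := fun b => by simp [U]
  have hbel : SubpairLE p M (Subgroup.zpowers (y : G)) b P e := by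
    have := (hlow y).2; rwa [hlb] at this
  have hb : IsPBlock M b := (isBrauerPair_of_below hM he hbel).2
  -- the only block of the section
  have hone : ∀ b' : Set (IrrCharacter C), IsInducedBlock M C b' B → b' = b := by
    intro b' hb'
    obtain ⟨x, hx⟩ := exists_conj_subpairLE hM hmax ((isBrauerPairOf_zpowers_iff hM hB ⟨k, hk⟩).mpr hb')
    have hxs : cjP x (⟨Subgroup.zpowers (y : G), b'⟩ : BrauerPairIdx G) =
        ⟨Subgroup.zpowers (y : G), b'⟩ :=
      conjBlock_eq_of_mem hM hb'.1 (centralizer_le_normalizer' _ ((hC x).mpr (hy x)))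
        (cinv_iff_cj.mp (cinv_eG b') x ((hC x).mpr (hy x)))
    have hbel' : Below p M P e (cjP x (⟨Subgroup.zpowers (y : G), b'⟩ : BrauerPairIdx G)) := hx
    rw [hxs] at hbel'
    exact SubpairLE.unique hM he hbel' hbel
  have hsec : ∀ φ ∈ B, ∀ s : C, ¬ p ∣ orderOf s →
      blockPart b (secFun (y : G) C φ) s = (φ : G → ℂ) ((y : G) * (s : G)) := by
    intro φ hφ s hs
    rw [show (φ : G → ℂ) ((y : G) * (s : G)) = secFun (y : G) C φ s from rfl,
      secFun_eq_sum_blockPart hM hC' φ s U hU, Finset.sum_eq_single b]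
    · intro b' hb' hne
      obtain ⟨B', hB'⟩ := exists_induced_centralizer hM ⟨k, hk⟩ hC ((hU b').mp hb')
      refine blockPart_secFun_eq_zero hM ⟨k, hk⟩ hC hB' (fun hmem => hne (hone b' ?_)) hs
      rwa [isPBlock_eq_of_mem hB hB'.2.1 hφ hmem]
    · exact fun h => absurd ((hU b).mpr hb) h
  have hall : ∀ t : G, t ∈ C := fun t => (hC t).mpr (hy t)
  have hsum : secSum p θ θ' (y : G) (low y) = l * conj l' * ((Nat.card G : ℂ) * regInner p θ θ') := by
    rw [hlb, card_mul_regInner, Finset.mul_sum, secSum]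
    refine Finset.sum_congr ?_ fun s hs => ?_
    · ext s
      simp only [Finset.mem_filter, Finset.mem_univ, true_and]
      exact ⟨fun h => h.2, fun h => ⟨hall s, h⟩⟩
    · have hs' := (Finset.mem_filter.mp hs).2
      have h' : ¬ p ∣ orderOf (⟨s, hall s⟩ : C) := by rwa [← Subgroup.orderOf_coe]
      rw [show s = ((⟨s, hall s⟩ : C) : G) from rfl, secPart_eq_blockPart b hC',
        secPart_eq_blockPart b hC', hsec θ hθ _ h', hsec θ' hθ' _ h', hl, hl', map_mul, Char.irr_inv]
      ring
  have htop : Subgroup.centralizer ({y} : Set P) = ⊤ := eq_top_iff.mpr fun v _ =>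
    Subgroup.mem_centralizer_singleton_iff.mpr (Subtype.ext (hy v))
  have hCtop : C = ⊤ := eq_top_iff.mpr fun t _ => hall t
  rw [contrib, hsum, htop, Subgroup.card_top, ← hCdef, hCtop, Subgroup.card_top]
  have hG0 : (Nat.card G : ℂ) ≠ 0 := Nat.cast_ne_zero.mpr Nat.card_pos.ne'
  field_simp

theorem sval_central (ih : MonoidAlgebra (locRing M) G) {θ : IrrCharacter G} {y : G} {l : ℂ}
    (hl : ∀ t, (θ : G → ℂ) (y * t) = l * (θ : G → ℂ) t) :
    sval ih θ y = l * sval ih θ 1 := by
  simp only [sval, Finset.mul_sum, hl, one_mul]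
  exact Finset.sum_congr rfl fun t _ => by ring

theorem sval_one (ih : MonoidAlgebra (locRing M) G) (θ : IrrCharacter G) :
    sval ih θ 1 = evalGA (θ : G → ℂ) ih := by simp [sval, evalGA]

/-- Modulo `M` the values on the pair's group are the reduced trace of the idempotent. -/
theorem exists_sval_res (hM : IsPModular p M) (hP : IsPGroup p P)
    {ih : MonoidAlgebra (locRing M) G} {i : MonoidAlgebra (ResField M) G} (hred : toK M ih = i)
    (hi : CInv P i) (θ : IrrCharacter G) (y : P) :
    ∃ w : locRing M, (w : ℂ) = sval ih θ (y : G) ∧ res M w = trB M θ i := by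
  classical
  refine ⟨∑ t : G, ih.coeff t * irrLoc M θ ((y : G) * t), ?_, ?_⟩
  · simp only [sval, AddSubmonoidClass.coe_finsetSum, Subring.coe_mul, coe_irrLoc]
  obtain ⟨k, hk⟩ := isPPow_of_mem hM hP y
  have hQ : IsPGroup p (Subgroup.zpowers (y : G)) := hP.to_le (Subgroup.zpowers_le.mpr y.2)
  have hiQ : CInv (Subgroup.zpowers (y : G)) i := hi.mono (Subgroup.zpowers_le.mpr y.2)
  have hcy : CInv (Subgroup.zpowers (y : G)) (single (y : G) 1 * i) :=
    (cinv_single_of_mem (mem_cq_zpowers_iff.mpr (Commute.refl _)) 1).mul hiQ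
  calc res M (∑ t : G, ih.coeff t * irrLoc M θ ((y : G) * t))
      = trB M θ (single (y : G) 1 * i) := by
        rw [map_sum, trB]
        refine Fintype.sum_equiv (Equiv.mulLeft (y : G)) _ _ fun t => ?_
        simp [coeff_single_mul', ← hred]
    _ = trB M θ (trC (Subgroup.zpowers (y : G)) (single (y : G) 1 * i)) :=
        (trB_trC hM hQ θ hcy).symm
    _ = trB M θ (trC (Subgroup.zpowers (y : G)) i) := by
        rw [trC_mul hM hQ (cinv_single_of_mem (mem_cq_zpowers_iff.mpr (Commute.refl _)) 1) hiQ,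
          trC_eq_self (suppIn_single (mem_cq_zpowers_iff.mpr (Commute.refl _)) 1), trB, trB]
        refine (Fintype.sum_equiv (Equiv.mulLeft (y : G)) _ _ fun t => ?_).symm
        simp only [Equiv.coe_mulLeft, coeff_single_mul', inv_mul_cancel_left, one_mul]
        by_cases ht : t ∈ CQ (Subgroup.zpowers (y : G))
        · rw [res_irr_mul_pElement hM θ (mem_cq_zpowers_iff.mp ht).symm (k := k)
            (by rw [← hk, pow_orderOf_eq_one])]
        · rw [suppIn_trC i t ht, zero_mul, zero_mul]
    _ = trB M θ i := trB_trC hM hQ θ hiQ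

/-- The values on the pair's group form a character. -/
theorem isCharacter_sval (ih : MonoidAlgebra (locRing M) G) (hih : ih * ih = ih)
    (hcomm : ∀ g ∈ P, Commute (single g 1) ih) (θ : IrrCharacter G) :
    IsCharacter P (fun y : P => sval ih θ (y : G)) := by
  classical
  obtain ⟨m, ρ, -, hθ⟩ := θ.2
  set z := toC M ih with hz
  set f := ρ.asAlgebraHom z with hf
  have hff : f * f = f := by rw [hf, ← map_mul, hz, ← map_mul, hih]
  have hcf : ∀ y : P, ρ (y : G) * f = f * ρ (y : G) := by
    intro y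
    have h := congrArg (fun w => ρ.asAlgebraHom (toC M w)) (hcomm _ y.2).eq
    simp only [map_mul] at h
    rw [show toC M (single (y : G) (1 : locRing M)) = single (y : G) (1 : ℂ) from by simp [toC]] at h
    simpa [hf, hz, Representation.asAlgebraHom_single] using h
  set W := LinearMap.range f
  have hmaps : ∀ y : P, ∀ v ∈ W, ρ (y : G) v ∈ W := by
    rintro y _ ⟨v, rfl⟩
    exact ⟨ρ (y : G) v, (LinearMap.congr_fun (hcf y) v).symm⟩
  let σ : Representation ℂ P W :=
    { toFun := fun y => (ρ (y : G)).restrict (hmaps y)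
      map_one' := by ext v; simp
      map_mul' := fun a b => by ext v; simp }
  have hfW : ∀ v ∈ W, f v = v := by
    rintro _ ⟨v, rfl⟩
    exact LinearMap.congr_fun hff v
  have hchar : σ.character = fun y : P => sval ih θ (y : G) := by
    funext y
    show LinearMap.trace ℂ W ((ρ (y : G)).restrict (hmaps y)) = _
    have hg : ∀ v, (ρ (y : G) * f) v ∈ W := fun v => hmaps y _ ⟨v, rfl⟩
    have hres : (ρ (y : G)).restrict (hmaps y) =
        (ρ (y : G) * f).restrict (fun v (_ : v ∈ W) => hg v) := by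
      refine LinearMap.ext fun v => Subtype.ext ?_
      show ρ (y : G) (v : Fin m → ℂ) = ρ (y : G) (f v)
      rw [hfW _ v.2]
    rw [hres, LinearMap.trace_restrict_eq_of_forall_mem W _ hg]
    have hz' : z = ∑ t, single t (z.coeff t) := ga_ext fun t => by
      rw [coeff_sum_apply, Finset.sum_eq_single t] <;> simp +contextual
    rw [hf, hz', map_sum, Finset.mul_sum, map_sum, sval]
    refine Finset.sum_congr rfl fun t _ => ?_
    rw [Representation.asAlgebraHom_single, Algebra.mul_smul_comm, ← map_mul, map_smul, smul_eq_mul,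
      hz, coeff_toC, ← hθ]
    rfl
  rw [← hchar]
  exact Char.isCharacter_character σ

end CfsgLib.Block
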