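import Cfsg.Agent.Lib.Char.Zeros

/-!
# Lower bound for a norm over a Galois stable set without zeros
-/

open scoped ComplexConjugate

set_option linter.unusedSectionVars false

namespace CfsgLib.Block

open Cfsg CfsgLib.Char

universe u

variable {G : Type u} [Group G] [Fintype G]

/-- A finite set mapped into itself by an injection is mapped onto itself. -/
theorem mem_iff_of_injective_mapsTo {f : G → G} (hf : Function.Injective f) {P : G → Prop}
    (h : ∀ g, P g → P (f g)) (g : G) : P (f g) ↔ P g := by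
  classical
  refine ⟨fun hg => ?_, h g⟩
  have hs : (Finset.univ.filter P).image f = Finset.univ.filter P :=
    Finset.eq_of_subset_of_card_le (fun x hx => by
      obtain ⟨y, hy, rfl⟩ := Finset.mem_image.mp hx
      simpa using h y (Finset.mem_filter.mp hy).2)
      (by rw [Finset.card_image_of_injective _ hf])
  have : f g ∈ (Finset.univ.filter P).image f := by rw [hs]; simpa using hg
  obtain ⟨y, hy, he⟩ := Finset.mem_image.mp this
  exact hf he ▸ (Finset.mem_filter.mp hy).2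

/-- Values at coprime powers vanish together. -/
theorem irr_pow_eq_zero_iff (χ : IrrCharacter G) {m : ℕ} (hm : m.Coprime (Nat.card G)) (g : G) :
    (χ : G → ℂ) (g ^ m) = 0 ↔ (χ : G → ℂ) g = 0 := by
  refine mem_iff_of_injective_mapsTo (f := fun x : G => x ^ m)
    (P := fun x => (χ : G → ℂ) x = 0) (powCoprime hm.symm).injective (fun x h0 => ?_) g
  obtain ⟨n, ρ, -, hρ⟩ := χ.2
  obtain ⟨φ, hφ⟩ := exists_embedding_of_coprime (Nat.card G) Nat.card_pos.ne' m hm
  rw [← hρ] at h0 ⊢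
  rw [← char_apply_embedding ρ φ m hφ x 0 (by rw [h0]; rfl), map_zero]

/-- Outside a subgroup, the sum of the squared norms is at least the number of non-zero values. -/
theorem card_nonzero_le_sum_sq (χ : IrrCharacter G) (H : Subgroup G) [DecidablePred (· ∈ H)]
    [DecidablePred fun x => (χ : G → ℂ) x = 0] :
    (((Finset.univ.filter fun x => x ∉ H ∧ ¬ (χ : G → ℂ) x = 0).card : ℕ) : ℝ) ≤
      ∑ x ∈ Finset.univ.filter (fun x => x ∉ H ∧ ¬ (χ : G → ℂ) x = 0), ‖(χ : G → ℂ) x‖ ^ 2 := by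
  classical
  set s := Finset.univ.filter fun x => x ∉ H ∧ ¬ (χ : G → ℂ) x = 0 with hs
  have hne : ∀ g ∈ s, (χ : G → ℂ) g ≠ 0 := fun g hg => (Finset.mem_filter.mp hg).2.2
  set P : ℂ := ∏ g ∈ s, (χ : G → ℂ) g * conj ((χ : G → ℂ) g) with hP
  have hPint : IsIntegral ℤ P := by
    refine IsIntegral.prod _ fun g _ => ?_
    rw [← irr_inv]
    exact (isCharacter_isIntegral (isCharacter_irr χ) g).mul (isCharacter_isIntegral (isCharacter_irr χ) _)
  have hfix : ∀ φ : Alg →ₐ[ℚ] ℂ, φ ⟨P, mem_alg_of_isIntegral hPint⟩ = P := by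
    intro φ
    obtain ⟨m, hm, htw⟩ := exists_char_twist (G := G) φ
    let v : G → Alg := fun g =>
      ⟨(χ : G → ℂ) g, mem_alg_of_isIntegral (isCharacter_isIntegral (isCharacter_irr χ) g)⟩
    have e : (⟨P, mem_alg_of_isIntegral hPint⟩ : Alg) = ∏ g ∈ s, v g * v g⁻¹ :=
      Subtype.ext (by simp [hP, v, irr_inv])
    rw [e, map_prod]
    have hb : Function.Bijective (fun g : G => g ^ m) := (powCoprime hm.symm).bijective
    have hstab : ∀ g : G, g ^ m ∈ s ↔ g ∈ s := fun g => by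
      simp only [hs, Finset.mem_filter, Finset.mem_univ, true_and]
      rw [irr_pow_eq_zero_iff χ hm, mem_iff_of_injective_mapsTo (f := fun x : G => x ^ m)
        (P := fun x => x ∈ H) hb.1 (fun x hx => H.pow_mem hx m)]
    refine Finset.prod_bij (fun g _ => g ^ m) (fun g hg => (hstab g).mpr hg)
      (fun a _ b _ h => hb.1 h) (fun g hg => ?_) fun g _ => ?_
    · obtain ⟨k, rfl⟩ := hb.2 g
      exact ⟨k, (hstab k).mp hg, rfl⟩
    · rw [map_mul, htw _ (isCharacter_irr χ) g (v g) rfl, htw _ (isCharacter_irr χ) g⁻¹ (v g⁻¹) rfl,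
        inv_pow, irr_inv]
  obtain ⟨z, hz⟩ := exists_int_of_fixed hPint hfix
  have hP' : P = ((∏ g ∈ s, ‖(χ : G → ℂ) g‖ ^ 2 : ℝ) : ℂ) := by
    rw [hP, Complex.ofReal_prod]
    exact Finset.prod_congr rfl fun g _ => by rw [Complex.mul_conj', Complex.ofReal_pow]
  have hpos : 0 < ∏ g ∈ s, ‖(χ : G → ℂ) g‖ ^ 2 :=
    Finset.prod_pos fun g hg => pow_pos (norm_pos_iff.mpr (hne g hg)) 2
  have hzr : (∏ g ∈ s, ‖(χ : G → ℂ) g‖ ^ 2) = (z : ℝ) := by
    rw [hP'] at hz; exact_mod_cast hz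
  rw [hzr] at hpos
  have h1 : (1 : ℝ) ≤ ∏ g ∈ s, ‖(χ : G → ℂ) g‖ ^ 2 := by
    have : (1 : ℤ) ≤ z := by exact_mod_cast hpos
    rw [hzr]; exact_mod_cast this
  exact card_le_sum_of_one_le_prod s _ (fun g hg => pow_pos (norm_pos_iff.mpr (hne g hg)) 2) h1

end CfsgLib.Block
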