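import Cfsg.Agent.S4654
import Cfsg.Agent.S0968
import Cfsg.Agent.Lib.Block.CyclicPairs
import Cfsg.Agent.Lib.Block.NilpotentBijection
import Cfsg.Agent.Lib.Char.DegreeRatio

/-!
# Blocks with a normal defect group

Every member lies over a member of the block of `P C(P)` with defect group `P`, and the degree
exponent is that of the index plus the exponent of the character of `P` (Reynolds).
-/

open Finset MonoidAlgebra
open scoped ComplexConjugate

set_option linter.unusedSectionVars false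

namespace CfsgLib.Block.NormalDefect

open Cfsg CfsgLib.Block
open scoped Pair

universe u

/-- The pairing of block coefficients with a character. -/
theorem sum_blockCoeff_mul {A : Type u} [Group A] [Fintype A] [Fintype (IrrCharacter A)]
    (S : Set (IrrCharacter A)) [DecidablePred (· ∈ S)] (f : A → ℂ) :
    ∑ a, blockCoeff S a * f a =
      ∑ η ∈ Finset.univ.filter (· ∈ S), classInner f (η : A → ℂ) * (η : A → ℂ) 1 := by
  rw [Finset.sum_congr rfl fun a _ => show blockCoeff S a * f a =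
      ∑ η ∈ Finset.univ.filter (· ∈ S), (Nat.card A : ℂ)⁻¹ *
        ((η : A → ℂ) 1 * conj ((η : A → ℂ) a)) * f a by
    rw [blockCoeff, finsum_mem_eq_toFinset_sum, Finset.mul_sum, Finset.sum_mul]
    exact Finset.sum_congr (by ext; simp) fun _ _ => rfl, Finset.sum_comm]
  refine Finset.sum_congr rfl fun η _ => ?_
  rw [classInner, Finset.mul_sum, Finset.sum_mul]
  exact Finset.sum_congr rfl fun a _ => by ring

theorem sum_blockCoeff_mul_ne_zero {A : Type u} [Group A] [Fintype A]
    (S : Set (IrrCharacter A)) {f : A → ℂ} (hf : IsCharacter A f) :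
    ∑ a, blockCoeff S a * f a ≠ 0 ↔ ∃ η ∈ S, classInner f (η : A → ℂ) ≠ 0 := by
  classical
  have := Fintype.ofFinite (IrrCharacter A)
  choose m hm using fun η : IrrCharacter A => Char.classInner_char_irr_nat hf η
  rw [sum_blockCoeff_mul, Finset.sum_congr rfl fun (η : IrrCharacter A) _ => show
      classInner f (η : A → ℂ) * (η : A → ℂ) 1 = ((m η * charDegree (η : A → ℂ) : ℕ) : ℂ) by
    rw [hm η, (charDegree_eq η).1, Nat.cast_mul], ← Nat.cast_sum, Nat.cast_ne_zero, ne_eq,
    Finset.sum_eq_zero_iff]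
  simp only [Finset.mem_filter, Finset.mem_univ, true_and, mul_eq_zero, not_forall, hm,
    Nat.cast_ne_zero, (charDegree_eq _).2, or_false, exists_prop]

theorem mem_iff_sum_ne_zero {A : Type u} [Group A] [Fintype A] [DecidableEq A]
    (S : Set (IrrCharacter A)) (χ : IrrCharacter A) :
    χ ∈ S ↔ ∑ a, blockCoeff S a * (χ : A → ℂ) a ≠ 0 := by
  have h := omega_gaOfFun_blockCoeff S χ
  rw [omega] at h
  simp only [coeff_gaOfFun] at h
  rw [div_eq_iff (Char.irr_one_ne_zero χ)] at h
  by_cases hχ : χ ∈ S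
  · rw [if_pos hχ, one_mul] at h
    exact iff_of_true hχ (h ▸ Char.irr_one_ne_zero χ)
  · rw [if_neg hχ, zero_mul] at h
    exact iff_of_false hχ (not_not.mpr h)

variable {p : ℕ} [Fact p.Prime] {M : Ideal AlgInt} [M.IsMaximal] {G : Type u} [Group G] [Fintype G]
  [DecidableEq G] {P : Subgroup G}

/-- A local block at a defect group has that defect group. -/
theorem defect_local (hM : IsPModular p M) {B : Set (IrrCharacter G)}
    {c : Set (IrrCharacter (CQ P))} (hmax : IsMaximalBrauerPair p M B P c) {L : Subgroup G}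
    (hPL : P ≤ L) {F : Set (IrrCharacter L)} (hL : IsLocalBlock M P c L F) :
    IsDefectGroup p M F (P.subgroupOf L) := by
  have he := hmax.1.1
  obtain ⟨D, hD⟩ := exists_defectGroup hM hL.block
  obtain ⟨x, hx, hDx⟩ := hL.exists_conj_le hM he hmax Relation.ReflTransGen.refl hD
  have h1 := hL.inf_conjLE hM he he Relation.ReflTransGen.refl hD
  rw [inf_eq_left.mpr hPL] at h1
  refine isDefectGroup_of_conjLE_card hM hL.block hD h1 ?_
  have h2 := Subgroup.card_le_of_le hDx
  rw [card_cjS, Subgroup.card_map_of_injective Subtype.val_injective] at h2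
  rwa [card_subgroupOf_eq hPL]

variable [hPn : P.Normal]

/-- The data: a block of `P C(P)` with defect group `P` below `B`, a stabilizer. -/
theorem exists_data (hM : IsPModular p M) {B : Set (IrrCharacter G)} (hB : IsPBlock M B)
    (hPD : IsDefectGroup p M B P) [Fintype ↥(P ⊔ CQ P)] :
    ∃ b : Set (IrrCharacter ↥(P ⊔ CQ P)), IsPBlock M b ∧
      IsDefectGroup p M b (P.subgroupOf (P ⊔ CQ P)) ∧
      (∀ (χ : IrrCharacter G), χ ∈ B → ∃ θ ∈ b,
        classInner (fun k : ↥(P ⊔ CQ P) => (χ : G → ℂ) k) (θ : ↥(P ⊔ CQ P) → ℂ) ≠ 0) ∧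
      (∀ (χ : IrrCharacter G), ∀ θ ∈ b,
        classInner (fun k : ↥(P ⊔ CQ P) => (χ : G → ℂ) k) (θ : ↥(P ⊔ CQ P) → ℂ) ≠ 0 → χ ∈ B) ∧
      ∃ T : Subgroup G, P ⊔ CQ P ≤ T ∧ ¬ p ∣ (P ⊔ CQ P).relIndex T ∧
        ∀ θ ∈ b, Char.inertia (P ⊔ CQ P) (θ : ↥(P ⊔ CQ P) → ℂ) ≤ T := by
  classical
  haveI hn : (CQ P).Normal := inferInstanceAs (Subgroup.centralizer (P : Set G)).Normal
  haveI hKn : (P ⊔ CQ P).Normal := Subgroup.sup_normal P (CQ P)
  letI := Fintype.ofFinite (IrrCharacter G)
  obtain ⟨c, hmax⟩ := exists_maximalPair_at hM hB hPD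
  have he := hmax.1.1
  have hc := he.2
  letI := Fintype.ofFinite (CQ P)
  have hnorm : ∀ x : G, x ∈ Subgroup.normalizer (P : Set G) := fun x => by
    rw [Subgroup.normalizer_eq_top]; trivial
  let T : Subgroup G :=
    { carrier := {u | cj u (eG M c) = eG M c}
      one_mem' := cj_one _
      mul_mem' := fun {a b} ha hb => by
        show cj (a * b) (eG M c) = eG M c
        rw [← cj_cj, hb, ha]
      inv_mem' := fun {a} ha => by
        show cj a⁻¹ (eG M c) = eG M c
        conv_lhs => rw [← (show cj a (eG M c) = eG M c from ha), cj_cj, inv_mul_cancel, cj_one] }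
  have hT : ∀ y, y ∈ T ↔ StabilizesBlock (CQ P) c y :=
    fun y => (stabilizesBlock_iff hM (hnorm y) hc).symm
  have hPT : P ≤ T := fun u hu => cinv_iff_cj.mp (cinv_self_eG c) u hu
  have hCT : CQ P ≤ T := fun u hu => cinv_iff_cj.mp (cinv_eG c) u hu
  have hKT : P ⊔ CQ P ≤ T := sup_le hPT hCT
  obtain ⟨b, hL, hcoeff⟩ := exists_localBlock hM he.1 (T := P ⊔ CQ P) le_sup_right le_sup_left
    (fun u _ => hnorm u) hc fun u hu => hKT hu
  have hbd := defect_local hM hmax le_sup_left hL
  obtain ⟨F, hLT, -⟩ := exists_localBlock hM he.1 (T := T) hCT hPT (fun u _ => hnorm u) hc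
    fun u hu => hu
  have hTd := defect_local hM hmax hPT hLT
  -- the stabilizer
  have hidx : ¬ p ∣ (P ⊔ CQ P).relIndex T := by
    obtain ⟨S⟩ : Nonempty (Sylow p T) := inferInstance
    have hS : (S : Subgroup T) ≤ (P ⊔ CQ P).subgroupOf T := fun t ht => by
      obtain ⟨k, hk⟩ := IsPGroup.iff_orderOf.mp S.isPGroup' ⟨t, ht⟩
      exact Subgroup.mem_subgroupOf.mpr
        (hLT.pElement_le hM he hPT hTd t.2 (a := k) ((Subgroup.orderOf_coe t).trans
          ((Subgroup.orderOf_coe (⟨t, ht⟩ : (S : Subgroup T))).trans hk)))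
    exact fun h => S.not_dvd_index (h.trans (Subgroup.index_dvd_of_le hS))
  -- the functional of `c`
  set A : (G → ℂ) → ℂ := fun f => ∑ n : CQ P, blockCoeff c n * f (n : G) with hA
  have hsub : ∀ F : G → ℂ, ∑ g : G, subgroupBlockCoeff (CQ P) c g * F g = A F := fun F => by
    rw [hA, ← Finset.sum_subset (Finset.subset_univ (Finset.univ.filter fun g : G => g ∈ CQ P))
      fun g _ hg => by rw [subgroupBlockCoeff_of_notMem c (by simpa using hg), zero_mul],
      Finset.sum_subtype (p := fun g => g ∈ CQ P) _ (fun g => by simp)]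
    exact Finset.sum_congr rfl fun n _ => by rw [subgroupBlockCoeff_coe]
  have hBmem : ∀ χ : IrrCharacter G, χ ∈ B ↔ A (χ : G → ℂ) ≠ 0 := by
    intro χ
    obtain ⟨-, hform⟩ := Agent.S4654.result p M hM P he.1 B c hmax.1 T hT
    rw [mem_iff_sum_ne_zero]
    have e : ∑ g : G, blockCoeff B g * (χ : G → ℂ) g =
        (Nat.card T : ℂ)⁻¹ * (Nat.card G : ℂ) * A (χ : G → ℂ) := by
      simp only [hform, mul_assoc, Finset.sum_mul, Finset.mul_sum]
      rw [Finset.sum_comm, Finset.sum_congr rfl fun x _ =>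
        show (∑ g : G, (Nat.card T : ℂ)⁻¹ *
            (subgroupBlockCoeff (CQ P) c (x⁻¹ * (g * x)) * (χ : G → ℂ) g)) =
          (Nat.card T : ℂ)⁻¹ * A (χ : G → ℂ) by
        rw [← Finset.mul_sum, ← hsub]
        congr 1
        refine Fintype.sum_bijective (fun g => x⁻¹ * g * x⁻¹⁻¹) (MulAut.conj x⁻¹).bijective _ _
          fun g => ?_
        rw [inv_inv, mul_assoc]
        congr 1
        have h := Char.isClassFunction_irr χ g x⁻¹
        rw [inv_inv, mul_assoc] at h
        exact h.symm]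
      simp only [Finset.sum_const, Finset.card_univ, nsmul_eq_mul, ← Nat.card_eq_fintype_card]
      ring
    rw [e]
    have h0 : ∀ (H : Subgroup G), (Nat.card H : ℂ) ≠ 0 := fun H =>
      Nat.cast_ne_zero.mpr Nat.card_pos.ne'
    simp [h0 T, Nat.card_pos.ne']
  -- the members of `b`
  have hbmem : ∀ θ : IrrCharacter ↥(P ⊔ CQ P), θ ∈ b ↔
      ∑ n : CQ P, blockCoeff c n *
        (θ : ↥(P ⊔ CQ P) → ℂ) (Subgroup.inclusion le_sup_right n) ≠ 0 := by
    intro θ
    rw [mem_iff_sum_ne_zero]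
    have e : ∑ k : ↥(P ⊔ CQ P), blockCoeff b k * (θ : ↥(P ⊔ CQ P) → ℂ) k =
        ∑ n : CQ P, blockCoeff c n *
          (θ : ↥(P ⊔ CQ P) → ℂ) (Subgroup.inclusion le_sup_right n) := by
      simp only [hcoeff]
      rw [← Finset.sum_subset (Finset.subset_univ
          (Finset.univ.image (Subgroup.inclusion (le_sup_right : CQ P ≤ P ⊔ CQ P))))
        fun k _ hk => by
          rw [subgroupBlockCoeff_of_notMem c fun hkC => hk (Finset.mem_image.mpr
            ⟨⟨(k : G), hkC⟩, Finset.mem_univ _, Subtype.ext rfl⟩), zero_mul],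
        Finset.sum_image fun _ _ _ _ h => Subgroup.inclusion_injective le_sup_right h]
      exact Finset.sum_congr rfl fun n _ => by
        rw [Subgroup.coe_inclusion, subgroupBlockCoeff_coe]
    rw [e]
  have hch : ∀ θ : IrrCharacter ↥(P ⊔ CQ P), IsCharacter (CQ P)
      (fun n => (θ : ↥(P ⊔ CQ P) → ℂ) (Subgroup.inclusion le_sup_right n)) := fun θ =>
    Char.isCharacter_comp (Char.isCharacter_irr θ) (Subgroup.inclusion le_sup_right)
  letI := Fintype.ofFinite (IrrCharacter ↥(P ⊔ CQ P))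
  letI := Fintype.ofFinite (IrrCharacter G)
  have hdec : ∀ χ : IrrCharacter G, A (χ : G → ℂ) = ∑ θ : IrrCharacter ↥(P ⊔ CQ P),
      (resMult χ θ : ℂ) * ∑ n : CQ P, blockCoeff c n *
        (θ : ↥(P ⊔ CQ P) → ℂ) (Subgroup.inclusion le_sup_right n) := fun χ => by
    simp only [hA, Finset.mul_sum]
    rw [Finset.sum_comm]
    refine Finset.sum_congr rfl fun n _ => ?_
    rw [show ((n : G)) = ((Subgroup.inclusion (le_sup_right : CQ P ≤ P ⊔ CQ P) n : ↥(P ⊔ CQ P)) : G)
      from rfl, res_eq_sum_resMult χ, Finset.mul_sum]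
    exact Finset.sum_congr rfl fun θ _ => by ring
  letI := Fintype.ofFinite (IrrCharacter (CQ P))
  have hnat : ∀ θ : IrrCharacter ↥(P ⊔ CQ P), ∃ a : ℕ, ∑ n : CQ P, blockCoeff c n *
      (θ : ↥(P ⊔ CQ P) → ℂ) (Subgroup.inclusion le_sup_right n) = a := by
    intro θ
    choose m hm using fun η : IrrCharacter (CQ P) => Char.classInner_char_irr_nat (hch θ) η
    refine ⟨∑ η ∈ Finset.univ.filter (· ∈ c), m η * charDegree (η : CQ P → ℂ), ?_⟩
    rw [sum_blockCoeff_mul, Nat.cast_sum]
    exact Finset.sum_congr rfl fun η _ => by rw [hm η, (charDegree_eq η).1, Nat.cast_mul]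
  choose a ha using hnat
  refine ⟨b, hL.block, hbd, fun χ hχ => ?_, fun χ θ hθ h => (hBmem χ).mpr ?_, T, hKT, hidx,
    fun θ hθ g hg => ?_⟩
  · obtain ⟨θ, -, hθ⟩ := Finset.exists_ne_zero_of_sum_ne_zero ((hdec χ).symm ▸ (hBmem χ).mp hχ)
    refine ⟨θ, (hbmem θ).mpr (right_ne_zero_of_mul hθ), ?_⟩
    rw [classInner_res]
    exact left_ne_zero_of_mul hθ
  · rw [hdec χ]
    simp only [ha, ← Nat.cast_mul, ← Nat.cast_sum, Nat.cast_ne_zero]
    intro h0
    rw [classInner_res, Nat.cast_ne_zero] at h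
    rcases mul_eq_zero.mp (Finset.sum_eq_zero_iff.mp h0 θ (Finset.mem_univ _)) with h1 | h1
    · exact h h1
    · exact (hbmem θ).mp hθ (by rw [ha, h1, Nat.cast_zero])
  -- the inertia group
  obtain ⟨η, hη, hcη⟩ := (sum_blockCoeff_mul_ne_zero c (hch θ)).mp ((hbmem θ).mp hθ)
  -- all constituents on the centralizer are in `c`
  have hall : ∀ η' : IrrCharacter (CQ P), classInner
      (fun n => (θ : ↥(P ⊔ CQ P) → ℂ) (Subgroup.inclusion le_sup_right n)) (η' : CQ P → ℂ) ≠ 0 →
      η' ∈ c := by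
    intro η' hη'
    by_contra hne
    obtain ⟨m, hm⟩ : ∃ m : IrrCharacter (CQ P) → ℕ, ∀ η : IrrCharacter (CQ P), classInner
        (fun n => (θ : ↥(P ⊔ CQ P) → ℂ) (Subgroup.inclusion le_sup_right n)) (η : CQ P → ℂ) = m η :=
      ⟨_, fun η => (Char.classInner_char_irr_nat (hch θ) η).choose_spec⟩
    have h1 := omega_gaOfFun_blockCoeff b θ
    rw [if_pos hθ, omega, div_eq_one_iff_eq (Char.irr_one_ne_zero θ)] at h1
    simp only [coeff_gaOfFun] at h1
    have h2 : ∑ k : ↥(P ⊔ CQ P), blockCoeff b k * (θ : ↥(P ⊔ CQ P) → ℂ) k =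
        ∑ n : CQ P, blockCoeff c n *
          (θ : ↥(P ⊔ CQ P) → ℂ) (Subgroup.inclusion le_sup_right n) := by
      simp only [hcoeff]
      rw [← Finset.sum_subset (Finset.subset_univ
          (Finset.univ.image (Subgroup.inclusion (le_sup_right : CQ P ≤ P ⊔ CQ P))))
        fun k _ hk => by
          rw [subgroupBlockCoeff_of_notMem c fun hkC => hk (Finset.mem_image.mpr
            ⟨⟨(k : G), hkC⟩, Finset.mem_univ _, Subtype.ext rfl⟩), zero_mul],
        Finset.sum_image fun _ _ _ _ h => Subgroup.inclusion_injective le_sup_right h]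
      exact Finset.sum_congr rfl fun n _ => by
        rw [Subgroup.coe_inclusion, subgroupBlockCoeff_coe]
    rw [h2, sum_blockCoeff_mul] at h1
    have h3 := congrFun (Char.classFun_expand
      (Char.isClassFunction_of_isCharacter (hch θ))) 1
    simp only [map_one, Finset.sum_apply, Pi.smul_apply, smul_eq_mul] at h3
    rw [h3] at h1
    simp only [hm, (charDegree_eq _).1, ← Nat.cast_mul, ← Nat.cast_sum, Nat.cast_inj] at h1
    refine absurd h1 (Nat.ne_of_lt ?_)
    refine Finset.sum_lt_sum_of_subset (Finset.filter_subset _ _) (Finset.mem_univ η')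
      (by simp [hne]) ?_ (fun _ _ _ => Nat.zero_le _)
    refine Nat.pos_of_ne_zero (mul_ne_zero (fun h0 => hη' ?_) (charDegree_eq η').2)
    rw [hm, h0, Nat.cast_zero]
  have hg' : ∀ k : ↥(P ⊔ CQ P), (θ : ↥(P ⊔ CQ P) → ℂ)
      ⟨g⁻¹ * k * g, by simpa using hKn.conj_mem _ k.2 g⁻¹⟩ = (θ : ↥(P ⊔ CQ P) → ℂ) k := by
    intro k
    have h := congrFun ((conjFun_eq_cjN g⁻¹ θ).symm.trans ((Char.mem_inertia _ _ _).mp
      (inv_mem hg))) k
    rw [inv_inv] at h
    exact h
  have hmem : cjN g η ∈ c := by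
    refine hall _ ?_
    suffices classInner (fun n => (θ : ↥(P ⊔ CQ P) → ℂ) (Subgroup.inclusion le_sup_right n))
        (cjN g η : CQ P → ℂ) = classInner
        (fun n => (θ : ↥(P ⊔ CQ P) → ℂ) (Subgroup.inclusion le_sup_right n)) (η : CQ P → ℂ) by
      rwa [this]
    simp only [classInner]
    congr 1
    refine Fintype.sum_equiv (cjHom (K := CQ P) (K' := CQ P) (nconj g)).symm.toEquiv _ _ fun n => ?_
    congr 1
    exact (hg' (Subgroup.inclusion le_sup_right n)).symm
  exact (hT g).mpr (stabilizesBlock_iff_cjN.mpr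
    (isPBlock_eq_of_mem (isPBlock_cjN g hc) hc ⟨η, hη, rfl⟩ hmem))

/-- The degree of a character over a constituent on a normal subgroup. -/
theorem exists_ratio {K : Subgroup G} [K.Normal] [Fintype K] (χ : IrrCharacter G) (θ : IrrCharacter K)
    (h : classInner (fun k : K => (χ : G → ℂ) k) (θ : K → ℂ) ≠ 0) :
    ∃ e : ℕ, charDegree (χ : G → ℂ) = charDegree (θ : K → ℂ) * e ∧ e ∣ K.index ∧
      (Char.inertia K (θ : K → ℂ)).index ∣ e := by
  obtain ⟨h1, h2⟩ := Char.ratio_dvd_index K χ.2 θ.2 h (charDegree_eq χ).1 (charDegree_eq θ).1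
  refine ⟨_, (Nat.mul_div_cancel' h1).symm, h2, ?_⟩
  obtain ⟨m, hm⟩ := Char.classInner_char_irr_nat
    (Char.isCharacter_comp (Char.isCharacter_irr χ) K.subtype) θ
  have h3 := congrFun (Char.clifford_smul K χ.2 θ.2 h) 1
  simp only [Pi.smul_apply, smul_eq_mul, OneMemClass.coe_one, Char.indFun_one,
    (charDegree_eq χ).1, (charDegree_eq θ).1] at h3
  rw [show classInner (fun k : K => (χ : G → ℂ) k) (θ : K → ℂ) = (m : ℂ) from hm] at h3
  have h4 : Nat.card (Char.inertia K (θ : K → ℂ)) * charDegree (χ : G → ℂ) =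
      m * Nat.card K * (K.index * charDegree (θ : K → ℂ)) := by exact_mod_cast h3
  set I := Char.inertia K (θ : K → ℂ)
  have h5 : charDegree (χ : G → ℂ) = charDegree (θ : K → ℂ) * (m * I.index) :=
    Nat.eq_of_mul_eq_mul_left (Nat.card_pos (α := I)) (by
      rw [h4, show m * Nat.card K * (K.index * charDegree (θ : K → ℂ)) =
        m * (Nat.card K * K.index) * charDegree (θ : K → ℂ) by ring, Subgroup.card_mul_index,
        ← Subgroup.card_mul_index I]
      ring)
  rw [h5, Nat.mul_div_cancel_left _ (Nat.pos_of_ne_zero (charDegree_eq θ).2)]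
  exact dvd_mul_left _ _

/-- Heights with a normal defect group are the degree exponents of the characters of `P`. -/
theorem abelian_iff_height_zero (hM : IsPModular p M) {B : Set (IrrCharacter G)}
    (hB : IsPBlock M B) (hPD : IsDefectGroup p M B P) :
    (∀ a ∈ P, ∀ c ∈ P, a * c = c * a) ↔ ∀ χ ∈ B, blockHeight p B (χ : G → ℂ) = 0 := by
  classical
  haveI hn : (CQ P).Normal := inferInstanceAs (Subgroup.centralizer (P : Set G)).Normal
  haveI hKn : (P ⊔ CQ P).Normal := Subgroup.sup_normal P (CQ P)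
  set K : Subgroup G := P ⊔ CQ P with hK
  letI : Fintype ↥(P ⊔ CQ P) := Fintype.ofFinite _
  obtain ⟨b, hb, hbd, hdown, hup, T, hKT, hidx, hI⟩ := exists_data hM hB hPD
  set P' : Subgroup K := P.subgroupOf K with hP'
  have hPK : P ≤ K := le_sup_left
  have hp : p.Prime := Fact.out
  have hPp : IsPGroup p P := isPGroup_defectGroup hM hB hPD
  have hP'p : IsPGroup p P' := hPp.of_equiv (Subgroup.subgroupOfEquivOfLe hPK).symm
  have hG' : P' ⊔ Subgroup.centralizer (P' : Set K) = ⊤ := by
    rw [← top_le_iff, ← Subgroup.subgroupOf_self K]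
    conv_lhs => rw [show K.subgroupOf K = (P ⊔ CQ P).subgroupOf K from rfl,
      Subgroup.subgroupOf_sup hPK le_sup_right]
    refine sup_le le_sup_left (le_trans ?_ le_sup_right)
    intro x hx
    exact Subgroup.mem_centralizer_iff.mpr fun v hv => Subtype.ext
      (Subgroup.mem_centralizer_iff.mp (Subgroup.mem_subgroupOf.mp hx) _
        (Subgroup.mem_subgroupOf.mp hv))
  letI := Fintype.ofFinite P'
  obtain ⟨χ₀, ⟨hχ₀, hχ₀P⟩, -⟩ := (Agent.S0968.result p M hM P' hP'p hG' b hb hbd).1
  have hdeg0 := (Agent.S0968.result p M hM P' hP'p hG' b hb hbd).2.1 χ₀ hχ₀ hχ₀P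
  -- degrees over the block
  have hθdeg : ∀ θ ∈ b, ∀ ζ : IrrCharacter P',
      classInner (fun y : P' => (θ : K → ℂ) y) (ζ : P' → ℂ) ≠ 0 →
      degVal p θ = degVal p ζ + degVal p χ₀ := by
    intro θ hθ ζ hζ
    have e := (CentralizedDefect.member_value hM hP'p hG' hb hbd hχ₀ hχ₀P hθ hζ).1 1 1
      (by simp [hp.ne_one])
    rw [OneMemClass.coe_one, one_mul, (charDegree_eq θ).1, (charDegree_eq ζ).1,
      (charDegree_eq χ₀).1, ← Nat.cast_mul, Nat.cast_inj] at e
    rw [degVal, degVal, degVal, e, Nat.factorization_mul (charDegree_eq ζ).2 (charDegree_eq χ₀).2,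
      Finsupp.add_apply]
  have hχ0v : degVal p χ₀ = P'.index.factorization p := hdeg0
  have hGv : (Nat.card G).factorization p =
      (Nat.card P).factorization p + P'.index.factorization p + K.index.factorization p := by
    rw [← Subgroup.card_mul_index K, Nat.factorization_mul Nat.card_pos.ne'
      Subgroup.index_ne_zero_of_finite, Finsupp.add_apply, ← Subgroup.card_mul_index P',
      card_subgroupOf_eq hPK, Nat.factorization_mul Nat.card_pos.ne'
      Subgroup.index_ne_zero_of_finite, Finsupp.add_apply]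
  have hmin : minDeg p B = P'.index.factorization p + K.index.factorization p := by
    have hvD : (Nat.card P).factorization p = blockDefect p B := by
      rw [defectGroup_card hM hB hPD, hp.factorization_pow, Finsupp.single_eq_same]
    have h3 : blockDefect p B = (Nat.card G).factorization p - minDeg p B := rfl
    obtain ⟨χ, hχ, hχm⟩ := exists_minDeg (p := p) (isPBlock_nonempty hB)
    have h4 : degVal p χ ≤ (Nat.card G).factorization p :=
      (Nat.factorization_le_iff_dvd (charDegree_eq χ).2 Nat.card_pos.ne').mpr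
        (Char.degree_dvd_card χ (charDegree_eq χ).1) p
    omega
  have hχdeg : ∀ χ : IrrCharacter G, ∀ θ : IrrCharacter K,
      classInner (fun k : K => (χ : G → ℂ) k) (θ : K → ℂ) ≠ 0 →
      ∃ e : ℕ, degVal p χ = degVal p θ + e.factorization p ∧ e ∣ K.index ∧
        (Char.inertia K (θ : K → ℂ)).index ∣ e := by
    intro χ θ h
    obtain ⟨e, he, h1, h2⟩ := exists_ratio χ θ h
    refine ⟨e, ?_, h1, h2⟩
    have he0 : e ≠ 0 := fun h0 => (charDegree_eq χ).2 (by rw [he, h0, mul_zero])
    rw [degVal, degVal, he, Nat.factorization_mul (charDegree_eq θ).2 he0, Finsupp.add_apply]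
  constructor
  · intro hab χ hχ
    rw [blockHeight_eq_zero_iff hχ, hmin]
    obtain ⟨θ, hθ, hc⟩ := hdown χ hχ
    obtain ⟨ζ, hζ⟩ := CentralizedDefect.exists_constituent (D := P') θ
    obtain ⟨e, hv, hdvd, -⟩ := hχdeg χ θ hc
    have h1 : degVal p ζ = 0 := by
      have := Char.degree_one_of_comm (G := P') (fun u v => Subtype.ext (Subtype.ext
        (hab _ (Subgroup.mem_subgroupOf.mp u.2) _ (Subgroup.mem_subgroupOf.mp v.2)))) ζ
      rw [(charDegree_eq ζ).1, Nat.cast_eq_one] at this
      rw [degVal, this]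
      simp
    have h2 : e.factorization p ≤ K.index.factorization p :=
      (Nat.factorization_le_iff_dvd (ne_zero_of_dvd_ne_zero Subgroup.index_ne_zero_of_finite hdvd)
        Subgroup.index_ne_zero_of_finite).mpr hdvd p
    have h3 := minDeg_le (p := p) hχ
    rw [hv, hθdeg θ hθ ζ hζ, h1, hχ0v] at h3 ⊢
    omega
  · intro hall a ha c hc
    suffices hlin : ∀ ζ : IrrCharacter P', (ζ : P' → ℂ) 1 = 1 from
      congrArg (fun z : P' => ((z : K) : G)) (Char.comm_of_degree_one hlin
        ⟨⟨a, hPK ha⟩, Subgroup.mem_subgroupOf.mpr ha⟩ ⟨⟨c, hPK hc⟩, Subgroup.mem_subgroupOf.mpr hc⟩)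
    intro ζ
    obtain ⟨θ, hθ, hζ⟩ := CentralizedDefect.exists_member_over hM hP'p hb ζ
    obtain ⟨χ, hχ⟩ : ∃ χ : IrrCharacter G,
        classInner (fun k : K => (χ : G → ℂ) k) (θ : K → ℂ) ≠ 0 := by
      by_contra hno
      push Not at hno
      have hI0 : indFun K (θ : K → ℂ) = 0 := Char.classFun_eq_zero_of_perp
        (Char.isClassFunction_indFun K _) fun ψ => by
          rw [Char.classInner_indFun K _ _ (Char.isClassFunction_irr ψ), ← Char.classInner_conj,
            hno ψ, map_zero]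
      have h1 := congrFun hI0 1
      rw [Char.indFun_one, Pi.zero_apply] at h1
      exact mul_ne_zero (Nat.cast_ne_zero.mpr Subgroup.index_ne_zero_of_finite)
        (Char.irr_one_ne_zero θ) h1
    have hχB := hup χ θ hθ hχ
    obtain ⟨e, hv, hdvd, hIe⟩ := hχdeg χ θ hχ
    have he0 := ne_zero_of_dvd_ne_zero Subgroup.index_ne_zero_of_finite hdvd
    have hTe : T.index ∣ e := (Subgroup.index_dvd_of_le (hI θ hθ)).trans hIe
    have h2 : T.index.factorization p ≤ e.factorization p :=
      (Nat.factorization_le_iff_dvd Subgroup.index_ne_zero_of_finite he0).mpr hTe p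
    have h3 : K.index.factorization p = T.index.factorization p := by
      rw [← Subgroup.relIndex_mul_index hKT,
        Nat.factorization_mul (fun h0 => hidx (by rw [h0]; exact dvd_zero p)) Subgroup.index_ne_zero_of_finite,
        Finsupp.add_apply, Nat.factorization_eq_zero_of_not_dvd hidx, zero_add]
    have h4 := (blockHeight_eq_zero_iff hχB).mp (hall χ hχB)
    rw [hmin, hv, hθdeg θ hθ ζ hζ, hχ0v] at h4
    have hζ0 : degVal p ζ = 0 := by omega
    obtain ⟨j, hj⟩ := IsPGroup.iff_card.mp hP'p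
    obtain ⟨i, -, hi⟩ := (Nat.dvd_prime_pow hp).mp
      (hj ▸ Char.degree_dvd_card ζ (charDegree_eq ζ).1)
    rw [degVal, hi, hp.factorization_pow, Finsupp.single_eq_same] at hζ0
    rw [(charDegree_eq ζ).1, hi, hζ0, pow_zero, Nat.cast_one]

end CfsgLib.Block.NormalDefect
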