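import Cfsg.Agent.Lib.Block.EqualDegreeMain
import Cfsg.Agent.Lib.Block.NormalDefect
import Cfsg.Agent.Lib.Block.NormalSupport
import Cfsg.Agent.Lib.Block.QuotientDefect
import Cfsg.Agent.Lib.Block.CoveringDefect
import Cfsg.Agent.Lib.Block.PPowerNilpotent
import Cfsg.Agent.Lib.Block.WeightCentric
import Cfsg.Agent.Lib.Coprime.Action
import Cfsg.Agent.Lib.Coprime.PGroupFrattini

/-!
# Equal height-zero degrees for a normal defect group

`equal_height_zero_of_nilpotent`: in a nilpotent block the members of height zero have one degree.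
`isNilpotentBlock_of_equal_height_zero`: the converse for a normal defect group, through the
quotient by the commutator subgroup of the defect group.
-/

open Finset MonoidAlgebra
open scoped ComplexConjugate commutatorElement

set_option autoImplicit false
set_option linter.unusedSectionVars false
set_option linter.style.haveILetI false

namespace CfsgLib.Block.NormalDefectDegrees

open Cfsg CfsgLib.Block CfsgLib.Block.Cyclic
open scoped Pair

universe u

variable {p : ℕ} {M : Ideal AlgInt} [M.IsMaximal] {G : Type u} [Group G] [Fintype G] [DecidableEq G]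

/-- In a nilpotent block the members of height zero have one degree. -/
theorem equal_height_zero_of_nilpotent [Fintype (IrrCharacter G)] (hM : IsPModular p M)
    {B : Set (IrrCharacter G)} {P : Subgroup G} (hP : IsDefectGroup p M B P)
    (hnil : IsNilpotentBlock p M B) :
    ∃ d : ℕ, ∀ χ ∈ B, blockHeight p B (χ : G → ℂ) = 0 → charDegree (χ : G → ℂ) = d := by
  classical
  haveI : Fact p.Prime := ⟨hM.1⟩
  have hp : p.Prime := hM.1
  have hB := hnil.1
  obtain ⟨e, hmax⟩ := exists_maximalPair_at hM hB hP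
  obtain ⟨η₀, hη₀, hrow, hnorm⟩ := isNilpotentBlock_unitRow hM hnil
  obtain ⟨Φ, hΦ⟩ := exists_height_bijection hM hmax hnil
  have := Fintype.ofFinite (IrrCharacter P)
  choose! m hm using hrow
  have h1r : ¬ p ∣ orderOf (1 : G) := by simp [hp.ne_one]
  set r := regInner p η₀ η₀ with hr
  have hp0 : ((p : ℂ) ^ blockDefect p B) ≠ 0 := pow_ne_zero _ (Nat.cast_ne_zero.mpr hp.ne_zero)
  have hr' : r = ((p : ℂ) ^ blockDefect p B)⁻¹ := eq_inv_of_mul_eq_one_left hnorm
  have hrm : ∀ ψ ∈ B, regInner p ψ η₀ = (m ψ : ℂ) * r := by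
    intro ψ hψ
    simp only [hr, regInner, classInner, Finset.mul_sum]
    refine Finset.sum_congr rfl fun g _ => ?_
    simp only [regFun]
    by_cases hg : p ∣ orderOf g
    · simp [hg]
    · rw [if_neg hg, if_neg hg, hm ψ hψ g hg]
      ring
  have hsq : ∑ ψ ∈ Finset.univ.filter (· ∈ B), (m ψ : ℂ) ^ 2 = (p : ℂ) ^ blockDefect p B := by
    have h := sum_regInner_mul_regInner p η₀ η₀
    rw [← Finset.sum_subset (Finset.subset_univ (Finset.univ.filter (· ∈ B))) fun ψ _ hψ => by
      rw [regInner_eq_zero_of_not_mem hM (IsBlockUnion.of_isPBlock hB) hη₀ (by simpa using hψ),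
        zero_mul],
      Finset.sum_congr rfl (g := fun ψ => (m ψ : ℂ) ^ 2 * r ^ 2) fun ψ hψ => by
        have hψB := (Finset.mem_filter.mp hψ).2
        rw [hrm ψ hψB, ← conj_regInner p ψ η₀, hrm ψ hψB, map_mul, map_natCast,
          show conj r = r from conj_regInner p η₀ η₀]
        ring,
      ← Finset.sum_mul, ← hr, hr'] at h
    field_simp at h
    linear_combination h
  have hdeg : ∀ ψ ∈ B, charDegree (ψ : G → ℂ) = m ψ * charDegree (η₀ : G → ℂ) := by
    intro ψ hψ
    have h := hm ψ hψ 1 h1r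
    rw [(charDegree_eq ψ).1, (charDegree_eq η₀).1] at h
    exact_mod_cast h
  have hm0 : ∀ ψ ∈ B, m ψ ≠ 0 := fun ψ hψ h0 => (charDegree_eq ψ).2 (by
    rw [hdeg ψ hψ, h0, zero_mul])
  have hval : ∀ ψ ∈ B, degVal p ψ = (m ψ).factorization p + degVal p η₀ := by
    intro ψ hψ
    rw [degVal, degVal, hdeg ψ hψ, Nat.factorization_mul (hm0 ψ hψ) (charDegree_eq η₀).2,
      Finsupp.add_apply]
  have hmin : degVal p η₀ = minDeg p B := by
    obtain ⟨χ, hχ, hχm⟩ := exists_minDeg (p := p) (isPBlock_nonempty hB)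
    have h1 := hval χ hχ
    have h2 := minDeg_le (p := p) hη₀
    omega
  have hPp : IsPGroup p P := isPGroup_defectGroup hM hB hP
  have hle : ∀ χ : B, charDegree ((Φ χ : IrrCharacter P) : P → ℂ) ≤ m χ := by
    intro χ
    obtain ⟨j, hj⟩ := IsPGroup.iff_card.mp hPp
    obtain ⟨i, -, hi⟩ := (Nat.dvd_prime_pow hp).mp
      (hj ▸ Char.degree_dvd_card (Φ χ) (charDegree_eq (Φ χ)).1)
    have h1 := hΦ χ
    rw [blockHeight_eq, hval χ χ.2, ← hmin, Nat.add_sub_cancel, hi, hp.factorization_pow,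
      Finsupp.single_eq_same] at h1
    rw [hi]
    exact Nat.le_of_dvd (Nat.pos_of_ne_zero (hm0 χ χ.2))
      (h1 ▸ Nat.ordProj_dvd (m (χ : IrrCharacter G)) p)
  have hsumΦ : ∑ χ : B, (charDegree ((Φ χ : IrrCharacter P) : P → ℂ)) ^ 2 = Nat.card P := by
    have h := Char.sum_degree_sq (G := P)
    simp only [(charDegree_eq _).1] at h
    rw [Equiv.sum_comp Φ (fun ζ : IrrCharacter P => (charDegree (ζ : P → ℂ)) ^ 2)]
    exact_mod_cast h
  have hsumm : ∑ χ : B, (m χ) ^ 2 = Nat.card P := by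
    rw [defectGroup_card hM hB hP]
    have : ((∑ χ : B, (m χ) ^ 2 : ℕ) : ℂ) = (p : ℂ) ^ blockDefect p B := by
      push_cast
      rw [← hsq, ← Finset.sum_subtype (p := (· ∈ B)) (Finset.univ.filter (· ∈ B)) (by simp)
        (fun ψ => (m ψ : ℂ) ^ 2)]
    exact_mod_cast this
  have hall := (Finset.sum_eq_sum_iff_of_le fun (χ : B) _ =>
    Nat.pow_le_pow_left (hle χ) 2).mp (hsumΦ.trans hsumm.symm)
  refine ⟨charDegree (η₀ : G → ℂ), fun χ hχ h0 => ?_⟩
  have h1 := Nat.pow_left_injective two_ne_zero (hall ⟨χ, hχ⟩ (Finset.mem_univ _))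
  obtain ⟨j, hj⟩ := IsPGroup.iff_card.mp hPp
  obtain ⟨i, -, hi⟩ := (Nat.dvd_prime_pow hp).mp
    (hj ▸ Char.degree_dvd_card (Φ ⟨χ, hχ⟩) (charDegree_eq (Φ ⟨χ, hχ⟩)).1)
  have h2 := hΦ ⟨χ, hχ⟩
  rw [h0, hi, hp.factorization_pow, Finsupp.single_eq_same] at h2
  rw [hdeg χ hχ, ← h1, hi, ← h2, pow_zero, one_mul]

/-- A regular element whose commutators with a `p`-group lie in its derived group centralizes it. -/
theorem centralizes_of_trivial_mod_commutator [Fact p.Prime] {P : Subgroup G} [hPn : P.Normal]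
    (hPp : IsPGroup p P) {x : G} (hx : ¬ p ∣ orderOf x)
    (h : ∀ k ∈ P, x * k * x⁻¹ * k⁻¹ ∈ ⁅P, P⁆) : x ∈ CQ P := by
  have hp : p.Prime := Fact.out
  refine Subgroup.zpowers_le.mp (CfsgLib.Coprime.le_centralizer_of_trivial_on_frattini_quotient
    (A := Subgroup.zpowers x) (K := P) ?_ ?_ ?_)
  · rw [Subgroup.normalizer_eq_top]
    exact le_top
  · obtain ⟨k, hk⟩ := IsPGroup.iff_card.mp (hPp.to_subgroup (frattini P))
    rw [Nat.card_zpowers, hk]
    exact (Nat.Coprime.pow_right _ ((hp.coprime_iff_not_dvd.mpr hx).symm))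
  · have hle : ⁅P, P⁆ ≤ (frattini P).map P.subtype := by
      have h1 : (commutator P).map P.subtype = ⁅P, P⁆ := by
        rw [commutator_def, Subgroup.map_commutator, ← MonoidHom.range_eq_map, Subgroup.range_subtype]
      exact h1 ▸ Subgroup.map_mono (CfsgLib.Coprime.commutator_le_frattini hPp)
    intro a ha k hk
    obtain ⟨i, rfl⟩ := Subgroup.mem_zpowers_iff.mp ha
    haveI : (⁅P, P⁆).Normal := Subgroup.commutator_normal P P
    let q := QuotientGroup.mk' ⁅P, P⁆
    have hc : Commute (q x) (q k) := by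
      have h1 : q (x * k * x⁻¹ * k⁻¹) = 1 := (QuotientGroup.eq_one_iff _).mpr (h k hk)
      simp only [map_mul, map_inv, mul_inv_eq_one, mul_inv_eq_iff_eq_mul, one_mul] at h1
      exact h1
    refine hle ((QuotientGroup.eq_one_iff _).mp ?_)
    show q (x ^ i * k * (x ^ i)⁻¹ * k⁻¹) = 1
    simp only [map_mul, map_inv, map_zpow]
    rw [(hc.zpow_left i).eq]
    group

variable {A A' : Type u} [Group A] [Fintype A] [DecidableEq A] [Group A'] [Fintype A']
  [DecidableEq A']

/-- Blocks along a surjection whose kernel is a `p`-group centralized by the regular elements. -/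
theorem sameBlock_of_comp_surjective [Fact p.Prime] (hM : IsPModular p M) (f : A →* A')
    (hf : Function.Surjective f) (hker : IsPGroup p f.ker)
    (hc : ∀ y : A, ¬ p ∣ orderOf y → ∀ z ∈ f.ker, Commute y z) {ξ ξ' : IrrCharacter A'}
    {η η' : IrrCharacter A} (hη : ∀ a, (η : A → ℂ) a = (ξ : A' → ℂ) (f a))
    (hη' : ∀ a, (η' : A → ℂ) a = (ξ' : A' → ℂ) (f a))
    (h : SameBlock M (η : A → ℂ) (η' : A → ℂ)) : SameBlock M (ξ : A' → ℂ) (ξ' : A' → ℂ) := by
  have hp : p.Prime := Fact.out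
  refine sameBlock_of_regular hM fun q hq => ?_
  -- a regular lift
  obtain ⟨y, hy, rfl⟩ : ∃ y : A, ¬ p ∣ orderOf y ∧ f y = q := by
    obtain ⟨g, rfl⟩ := hf q
    obtain ⟨a, b, hab, hcomm, ⟨k, hk⟩, hb⟩ := exists_isPPart hp g
    refine ⟨b, hb, ?_⟩
    have hpart : IsPPart p (f g) (f a) := by
      refine ⟨f b, by rw [← map_mul, hab], hcomm.map f, ?_,
        fun h => hb (h.trans (orderOf_map_dvd f b))⟩
      obtain ⟨j, -, hj⟩ := (Nat.dvd_prime_pow hp).mp (hk ▸ orderOf_map_dvd f a)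
      exact ⟨j, hj⟩
    have ha : f a = 1 := isPPart_unique hp hpart (isPPart_one_of_not_dvd hq)
    rw [← hab, map_mul, ha, one_mul]
  have hcent : (Subgroup.centralizer ({f y} : Set A')).comap f = Subgroup.centralizer ({y} : Set A) := by
    ext g
    rw [Subgroup.mem_comap, Subgroup.mem_centralizer_singleton_iff,
      Subgroup.mem_centralizer_singleton_iff]
    constructor
    · intro hg
      set z := y⁻¹ * (g * y * g⁻¹) with hz
      have hzk : z ∈ f.ker := by
        rw [MonoidHom.mem_ker, hz]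
        simp only [map_mul, map_inv]
        rw [hg]
        group
      obtain ⟨j, hj⟩ := IsPGroup.iff_orderOf.mp hker ⟨z, hzk⟩
      rw [Subgroup.orderOf_mk] at hj
      have hyz := hc y hy z hzk
      have e : IsPPart p (g * y * g⁻¹) z :=
        ⟨y, by rw [← hyz.eq, hz, mul_inv_cancel_left], hyz.symm, ⟨j, hj⟩, hy⟩
      have h1 : z = 1 := isPPart_unique hp e (isPPart_one_of_not_dvd (by rwa [orderOf_conj_eq]))
      rw [hz, inv_mul_eq_one] at h1
      exact mul_inv_eq_iff_eq_mul.mp h1.symm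
    · intro hg
      rw [← map_mul, hg, map_mul]
  have key : ∀ (ξ : IrrCharacter A') (η : IrrCharacter A),
      (∀ a, (η : A → ℂ) a = (ξ : A' → ℂ) (f a)) → centralRes M η y = centralRes M ξ (f y) := by
    intro ξ η hη
    refine congrArg (res M) (Subtype.ext ?_)
    simp only [centralChar]
    rw [← hcent, Subgroup.index_comap_of_surjective _ hf, hη, hη, map_one]
  rw [← key ξ η hη, ← key ξ' η' hη']
  exact sameBlock_iff_centralRes.mp h y

variable [Fintype (IrrCharacter G)]

/-- The block of the quotient by the derived group of a normal defect group is nilpotent. -/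
theorem exists_nilpotent_image (hM : IsPModular p M) {B : Set (IrrCharacter G)} (hB : IsPBlock M B)
    {P : Subgroup G} [hPn : P.Normal] (hP : IsDefectGroup p M B P)
    {d : ℕ} (hd : ∀ χ ∈ B, blockHeight p B (χ : G → ℂ) = 0 → charDegree (χ : G → ℂ) = d)
    [Fintype (G ⧸ ⁅P, P⁆)] [DecidableEq (G ⧸ ⁅P, P⁆)] :
    ∃ Bbar : Set (IrrCharacter (G ⧸ ⁅P, P⁆)), (∀ θ ∈ Bbar, inflQ θ ∈ B) ∧
      IsDefectGroup p M Bbar (P.map (QuotientGroup.mk' ⁅P, P⁆)) ∧ IsNilpotentBlock p M Bbar := by
  classical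
  haveI : Fact p.Prime := ⟨hM.1⟩
  have hp : p.Prime := hM.1
  set N := ⁅P, P⁆ with hN
  have := Fintype.ofFinite (IrrCharacter (G ⧸ N))
  have hNP : N ≤ P := Subgroup.commutator_le_self P
  have hPp : IsPGroup p P := isPGroup_defectGroup hM hB hP
  have hNp : IsPGroup p N := hPp.to_le hNP
  obtain ⟨Bbar, hBbar, hsub, hdef⟩ := QuotientDefect.exists_image_block hM hNp hB
  set q := QuotientGroup.mk' N with hq
  set Pb := P.map q with hPb
  have hPbd : IsDefectGroup p M Bbar Pb := (hdef Pb).mpr ⟨P, hP, rfl⟩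
  haveI : Pb.Normal := Subgroup.Normal.map hPn q (QuotientGroup.mk'_surjective N)
  have hab : ∀ a ∈ Pb, ∀ c ∈ Pb, a * c = c * a := by
    rintro _ ⟨a, ha, rfl⟩ _ ⟨c, hc, rfl⟩
    have h1 : q ⁅a, c⁆ = 1 :=
      (QuotientGroup.eq_one_iff _).mpr (Subgroup.commutator_mem_commutator ha hc)
    rw [map_commutatorElement] at h1
    exact commutatorElement_eq_one_iff_mul_comm.mp h1
  have hzero := (NormalDefect.abelian_iff_height_zero hM hBbar hPbd).mp hab
  refine ⟨Bbar, hsub, hPbd, EqualDegree.isNilpotentBlock_of_equal_degrees (d := d) hM hBbar hPbd hab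
    fun θ hθ => ?_⟩
  have hdeg : charDegree (inflQ θ : G → ℂ) = charDegree (θ : G ⧸ N → ℂ) := by
    have h1 := (charDegree_eq (inflQ θ)).1
    rw [inflQ_apply, QuotientGroup.mk_one, (charDegree_eq θ).1] at h1
    exact_mod_cast h1.symm
  have hv := degVal_add_blockDefect hM hBbar hθ (hzero θ hθ)
  have hGN : (Nat.card G).factorization p =
      (Nat.card (G ⧸ N)).factorization p + (Nat.card N).factorization p := by
    rw [Subgroup.card_eq_card_quotient_mul_card_subgroup N,
      Nat.factorization_mul Nat.card_pos.ne' Nat.card_pos.ne', Finsupp.add_apply]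
  have hPN : Nat.card P = Nat.card N * Nat.card Pb := by
    rw [hPb, ← Subgroup.relIndex_ker (K := P) q, QuotientGroup.ker_mk', Subgroup.relIndex,
      ← Subgroup.card_mul_index (N.subgroupOf P),
      Nat.card_congr (Subgroup.subgroupOfEquivOfLe hNP).toEquiv]
  have hδ : blockDefect p B = (Nat.card N).factorization p + blockDefect p Bbar := by
    have h1 := congrArg (fun n : ℕ => n.factorization p) hPN
    simp only [defectGroup_card hM hB hP, defectGroup_card hM hBbar hPbd,
      Nat.factorization_mul Nat.card_pos.ne' (pow_ne_zero _ hp.ne_zero), Finsupp.add_apply,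
      hp.factorization_pow, Finsupp.single_eq_same] at h1
    exact h1
  obtain ⟨χ₀, hχ₀, h0⟩ := exists_height_zero hM hB
  have hv0 := degVal_add_blockDefect hM hB hχ₀ h0
  have hh : blockHeight p B (inflQ θ : G → ℂ) = 0 := by
    rw [blockHeight_eq_zero_iff (hsub θ hθ), ← (blockHeight_eq_zero_iff hχ₀).mp h0]
    have : degVal p (inflQ θ) = degVal p θ := by rw [degVal, degVal, hdeg]
    omega
  rw [← hdeg]
  exact hd _ (hsub θ hθ) hh

/-- A regular element fixing the pair of a normal defect group centralizes it. -/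
theorem regular_stab_centralizes (hM : IsPModular p M) {B : Set (IrrCharacter G)}
    (hB : IsPBlock M B) {P : Subgroup G} [hPn : P.Normal] (hP : IsDefectGroup p M B P)
    {d : ℕ} (hd : ∀ χ ∈ B, blockHeight p B (χ : G → ℂ) = 0 → charDegree (χ : G → ℂ) = d)
    {e : Set (IrrCharacter (CQ P))} (hmax : IsMaximalBrauerPair p M B P e) {x : G}
    (hx : ¬ p ∣ orderOf x) (hxe : cj x (eG M e) = eG M e) : x ∈ CQ P := by
  classical
  haveI : Fact p.Prime := ⟨hM.1⟩
  set N := ⁅P, P⁆ with hN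
  have := Fintype.ofFinite (G ⧸ N)
  have := Fintype.ofFinite (IrrCharacter (G ⧸ N))
  obtain ⟨Bbar, hsub, hPbd, hnil⟩ := exists_nilpotent_image hM hB hP hd
  have hBbar := hnil.1
  set q := QuotientGroup.mk' N with hq
  set Pb := P.map q with hPb
  haveI : Pb.Normal := Subgroup.Normal.map hPn q (QuotientGroup.mk'_surjective N)
  haveI hCbn : (CQ Pb).Normal := inferInstanceAs (Subgroup.centralizer (Pb : Set (G ⧸ N))).Normal
  haveI hCn : (CQ P).Normal := inferInstanceAs (Subgroup.centralizer (P : Set G)).Normal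
  have hPp : IsPGroup p P := isPGroup_defectGroup hM hB hP
  have hPbp : IsPGroup p Pb := hPp.map q
  set K : Subgroup G := (CQ Pb).comap q with hK
  haveI hKn : K.Normal := hCbn.comap q
  -- regular elements of the preimage
  have hreg : ∀ y ∈ K, ¬ p ∣ orderOf y → y ∈ CQ P := by
    intro y hy hy'
    refine centralizes_of_trivial_mod_commutator hPp hy' fun k hk => ?_
    refine (QuotientGroup.eq_one_iff _).mp ?_
    show q (y * k * y⁻¹ * k⁻¹) = 1
    simp only [map_mul, map_inv]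
    rw [← Subgroup.mem_centralizer_iff.mp (Subgroup.mem_comap.mp hy) _ (Subgroup.mem_map_of_mem q hk)]
    group
  have hCK : CQ P ≤ K := fun c hc => Subgroup.mem_comap.mpr
    (Subgroup.mem_centralizer_iff.mpr fun _ ⟨k, hk, hke⟩ => by
      rw [← hke, ← map_mul, ← map_mul, Subgroup.mem_centralizer_iff.mp hc k hk])
  have := Fintype.ofFinite (IrrCharacter K)
  have := Fintype.ofFinite (IrrCharacter (CQ P))
  -- a member, its constituent and its block
  obtain ⟨θ, hθ⟩ := isPBlock_nonempty hBbar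
  obtain ⟨η, hη⟩ := exists_constituent (N := CQ Pb) θ
  let f : K →* CQ Pb := q.subgroupComap (CQ Pb)
  have hfcoe : ∀ k : K, ((f k : CQ Pb) : G ⧸ N) = q k := fun k => rfl
  have hf : Function.Surjective f := by
    rintro ⟨v, hv⟩
    obtain ⟨a, rfl⟩ := QuotientGroup.mk'_surjective N v
    exact ⟨⟨a, hv⟩, rfl⟩
  let η₁ : IrrCharacter K :=
    ⟨fun k => (η : CQ Pb → ℂ) (f k), Char.isIrrCharacter_comp_surjective η.2 f hf⟩
  have hcov : Covers B (blockOf M (η₁ : K → ℂ)) := by
    refine ⟨inflQ θ, hsub θ hθ, η₁, self_mem_blockOf η₁, ?_⟩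
    exact (Weight.classInner_comp_surjective f hf
      (fun v : CQ Pb => (θ : G ⧸ N → ℂ) v) (η : CQ Pb → ℂ)).trans_ne hη
  set F := blockOf M (η₁ : K → ℂ) with hF
  have hFb : IsPBlock M F := isPBlock_blockOf η₁
  have hne := hcov.mul_eG_ne_zero hM hB hFb
  rw [← trC_blockBar hM hPp hB, trC_blockBar_eq hM hmax, eO, Finset.sum_mul] at hne
  obtain ⟨f', hf', hne'⟩ := Finset.exists_ne_zero_of_sum_ne_zero hne
  obtain ⟨g, hg, hge⟩ := mem_orbitN.mp hf'
  have hE : eG M f'.1 = cj g (eG M e) := by rw [← hge, eG_conjN hg]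
  set E := eG M f'.1 with hEdef
  have hEK : SuppIn K E := fun a ha => suppIn_eG f'.1 a fun h => ha (hCK h)
  have hcomm : ∀ S : Set (IrrCharacter K), eG M S * E = E * eG M S := by
    intro S
    rw [eq_emb_of_suppIn hEK, eG, ← emb_mul, ← emb_mul]
    exact congrArg emb (Subalgebra.mem_center_iff.mp (blockBar M S).2 _).symm
  have hFS : ∀ S : Set (IrrCharacter K), IsPBlock M S → SuppIn (CQ P) (eG M S) := by
    intro S hS a ha
    by_cases haK : a ∈ K
    · by_contra hne0
      rw [show a = ((⟨a, haK⟩ : K) : G) from rfl, coeff_eG] at hne0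
      refine ha (hreg a haK ?_)
      rw [show a = ((⟨a, haK⟩ : K) : G) from rfl, Subgroup.orderOf_coe]
      exact regular_of_coeffRes_ne_zero hM (.of_isPBlock hS) hne0
    · exact suppIn_eG S a haK
  obtain ⟨ξ, hξ⟩ := isPBlock_nonempty f'.2
  have hFE : eG M F * E = E := by
    rcases idem_mul_block hM (hFS F hFb) ((cinv_eG F).mono hCK) (eG_mul_self hM hFb) f'.2 hξ with
      ⟨h, -⟩ | ⟨h, -⟩
    · exact h
    · exact absurd ((hcomm F).symm.trans h) hne'
  -- the conjugate fixes the block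
  set x' := g * x * g⁻¹ with hx'
  have hx'E : cj x' E = E := by
    rw [hE, cj_cj, show x' * g = g * x by rw [hx']; group, ← cj_cj, hxe]
  have hFst : cjN x' '' F = F := by
    by_contra hne0
    have h1 : eG M (cjN x' '' F) * E = E := by
      rw [cj_eG_cjN]
      conv_lhs => rw [← hx'E]
      rw [← cj_mul', hFE, hx'E]
    have h2 : E = 0 := by
      rw [← h1, ← hFE, ← mul_assoc, eG_mul_eq_zero hM (isPBlock_cjN x' hFb) hFb hne0, zero_mul]
    exact eG_ne_zero hM f'.2 h2
  have hker : IsPGroup p f.ker := by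
    intro z
    obtain ⟨j, hj⟩ := (hPp.to_le (Subgroup.commutator_le_self P)) ⟨((z : K) : G),
      (QuotientGroup.eq_one_iff _).mp (congrArg Subtype.val (MonoidHom.mem_ker.mp z.2))⟩
    exact ⟨j, Subtype.ext (Subtype.ext (by simpa using congrArg Subtype.val hj))⟩
  have hsame : SameBlock M (η : CQ Pb → ℂ) (cjN (q x') η : CQ Pb → ℂ) := by
    refine sameBlock_of_comp_surjective hM f hf hker (fun y hy z hz => ?_) (η := η₁)
      (η' := cjN x' η₁) (fun a => rfl) (fun a => ?_) ?_
    · have hzP : (z : G) ∈ P := Subgroup.commutator_le_self P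
        ((QuotientGroup.eq_one_iff _).mp (congrArg Subtype.val (MonoidHom.mem_ker.mp hz)))
      exact Subtype.ext (Subgroup.mem_centralizer_iff.mp
        (hreg y y.2 (by rwa [Subgroup.orderOf_coe])) _ hzP).symm
    · rw [cjN_apply, cjN_apply]
      exact congrArg (η : CQ Pb → ℂ) (Subtype.ext (by simp [hfcoe]))
    · exact (show cjN x' η₁ ∈ F from hFst ▸ ⟨η₁, self_mem_blockOf η₁, rfl⟩)
  have hstab : cjN (q x') '' blockOf M (η : CQ Pb → ℂ) = blockOf M (η : CQ Pb → ℂ) := by
    rw [← blockOf_cjN, blockOf_eq hsame]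
  have hpair : IsBrauerPairOf p M Bbar Pb (blockOf M (η : CQ Pb → ℂ)) := by
    refine isBrauerPairOf_of_omG_one hM ⟨hPbp, isPBlock_blockOf η⟩ hBbar (self_mem_blockOf η) ?_
    have hsupp : SuppIn (CQ Pb) (blockBar M Bbar : MonoidAlgebra (ResField M) (G ⧸ N)) := by
      intro a ha
      rw [← trC_blockBar hM hPbp hBbar]
      exact suppIn_trC _ a ha
    rw [← omegaBar_eq_omG_of_constituent θ η hη _ hsupp, omegaBar_blockBar hM (.of_isPBlock hBbar),
      if_pos hθ]
  have hx'r : ¬ p ∣ orderOf x' := by rwa [hx', orderOf_conj_eq]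
  have hx'C : x' ∈ CQ P := hreg x' (Subgroup.mem_comap.mpr
    (hnil.2 Pb _ hpair (q x') (by rw [Subgroup.normalizer_eq_top]; trivial)
      (stabilizesBlock_iff_cjN.mpr hstab) fun h => hx'r (h.trans (orderOf_map_dvd q x')))) hx'r
  have := hCn.conj_mem _ hx'C g⁻¹
  rwa [hx', show g⁻¹ * (g * x * g⁻¹) * g⁻¹⁻¹ = x by group] at this

/-- Equal degrees at height zero force nilpotency for a normal defect group. -/
theorem isNilpotentBlock_of_equal_height_zero (hM : IsPModular p M) {B : Set (IrrCharacter G)}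
    (hB : IsPBlock M B) {P : Subgroup G} [hPn : P.Normal] (hP : IsDefectGroup p M B P)
    {d : ℕ} (hd : ∀ χ ∈ B, blockHeight p B (χ : G → ℂ) = 0 → charDegree (χ : G → ℂ) = d) :
    IsNilpotentBlock p M B := by
  classical
  haveI : Fact p.Prime := ⟨hM.1⟩
  have hp : p.Prime := hM.1
  haveI hCn : (CQ P).Normal := inferInstanceAs (Subgroup.centralizer (P : Set G)).Normal
  have := Fintype.ofFinite (IrrCharacter (CQ P))
  obtain ⟨e, hmax⟩ := exists_maximalPair_at hM hB hP
  have he := hmax.1.1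
  have hnorm : ∀ u : G, u ∈ Subgroup.normalizer (P : Set G) := fun u => by
    rw [Subgroup.normalizer_eq_top]; trivial
  -- the stabilizer of the pair
  let T : Subgroup G :=
    { carrier := {u | cj u (eG M e) = eG M e}
      one_mem' := cj_one _
      mul_mem' := fun {a b} ha hb => by
        show cj (a * b) (eG M e) = eG M e
        rw [← cj_cj, hb, ha]
      inv_mem' := fun {a} ha => by
        show cj a⁻¹ (eG M e) = eG M e
        conv_lhs => rw [← (show cj a (eG M e) = eG M e from ha), cj_cj, inv_mul_cancel, cj_one] }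
  have hPT : P ≤ T := fun u hu => cinv_iff_cj.mp (cinv_self_eG e) u hu
  have hCT : CQ P ≤ T := fun u hu => cinv_iff_cj.mp (cinv_eG e) u hu
  obtain ⟨F, hLT, -⟩ := exists_localBlock hM he.1 (T := T) hCT hPT (fun u _ => hnorm u) he.2
    fun u hu => hu
  have hTd := NormalDefect.defect_local hM hmax hPT hLT
  have hT : T ≤ P ⊔ CQ P := by
    intro t ht
    obtain ⟨a, b, hab, -, ⟨k, hk⟩, hb⟩ := exists_isPPart hp (⟨t, ht⟩ : T)
    have ha' : (a : G) ∈ P ⊔ CQ P :=
      hLT.pElement_le hM he hPT hTd a.2 (a := k) (by rw [Subgroup.orderOf_coe, hk])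
    have hb' : (b : G) ∈ P ⊔ CQ P := Subgroup.mem_sup_right
      (regular_stab_centralizes hM hB hP hd hmax (by rwa [Subgroup.orderOf_coe]) b.2)
    rw [show t = (a : G) * (b : G) from (congrArg Subtype.val hab).symm]
    exact mul_mem ha' hb'
  refine ⟨hB, fun Q f hpair x hxN hxS hxr => ?_⟩
  -- `Q` lies in the defect group
  obtain ⟨D', e', hmax', hle⟩ := exists_maximal_above hM Q f hpair
  have hQP : Q ≤ P := by
    obtain ⟨y, hy⟩ := defectGroup_conj hM hB hP (isDefectGroup_of_maximal hM hmax')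
    intro r hr
    have h1 := SubpairLE.le hle hr
    rw [← hy] at h1
    obtain ⟨k, hk, rfl⟩ := h1
    exact hPn.conj_mem k hk y
  have hCQ : CQ P ≤ CQ Q := cq_mono hQP
  have hPp := he.1
  have := Fintype.ofFinite (IrrCharacter (CQ Q))
  have hfb := hpair.1.2
  obtain ⟨ξ, hξ⟩ := isPBlock_nonempty hfb
  have hbS : SuppIn (CQ Q) (blockBar M B : MonoidAlgebra (ResField M) G) := by
    intro a ha
    rw [← trC_blockBar hM hPp hB]
    exact suppIn_trC _ a fun h => ha (hCQ h)
  have hBf : (blockBar M B : MonoidAlgebra (ResField M) G) * eG M f = eG M f := by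
    rcases idem_mul_block hM hbS (cinv_of_central _ _)
      (by rw [← MulMemClass.coe_mul, blockBar_mul_self hM (.of_isPBlock hB)]) hfb hξ with
      ⟨h, -⟩ | ⟨-, h⟩
    · exact h
    · exact absurd ((omG_pair_eq_one hM hpair hξ).symm.trans h) one_ne_zero
  have hne : (blockBar M B : MonoidAlgebra (ResField M) G) * eG M f ≠ 0 := by
    rw [hBf]; exact eG_ne_zero hM hfb
  rw [← trC_blockBar hM hPp hB, trC_blockBar_eq hM hmax, eO, Finset.sum_mul] at hne
  obtain ⟨f', hf', hne'⟩ := Finset.exists_ne_zero_of_sum_ne_zero hne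
  obtain ⟨n, hn, hne_n⟩ := mem_orbitN.mp hf'
  -- the orbit under `C(Q)`
  set S : Finset (BlockT M P) :=
    Finset.univ.filter (fun h => ∃ c ∈ CQ Q, cjN c '' f'.1 = h.1) with hS
  set E : MonoidAlgebra (ResField M) G := ∑ h ∈ S, eG M h.1 with hEdef
  have hES : SuppIn (CQ Q) E := fun a ha => by
    rw [hEdef, coeff_sum_apply]
    exact Finset.sum_eq_zero fun h _ => suppIn_eG h.1 a fun h' => ha (hCQ h')
  have hEC : CInv (CQ Q) E := by
    refine cinv_iff_cj.mpr fun c hc => ga_ext fun a => ?_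
    simp only [coeff_cj, hEdef, coeff_sum_apply]
    refine Finset.sum_bij' (fun h _ => ⟨cjN c '' h.1, isPBlock_cjN c h.2⟩)
      (fun h _ => ⟨cjN c⁻¹ '' h.1, isPBlock_cjN c⁻¹ h.2⟩) (fun h hh => ?_) (fun h hh => ?_)
      (fun h _ => Subtype.ext ?_) (fun h _ => Subtype.ext ?_) (fun h _ => ?_)
    · obtain ⟨c', hc', hh'⟩ := (Finset.mem_filter.mp hh).2
      refine Finset.mem_filter.mpr ⟨Finset.mem_univ _, c * c', mul_mem hc hc', ?_⟩
      show _ = cjN c '' h.1
      rw [← hh', Set.image_image]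
      exact Set.image_congr fun ψ _ => (cjN_cjN c c' ψ).symm
    · obtain ⟨c', hc', hh'⟩ := (Finset.mem_filter.mp hh).2
      refine Finset.mem_filter.mpr ⟨Finset.mem_univ _, c⁻¹ * c', mul_mem (inv_mem hc) hc', ?_⟩
      show _ = cjN c⁻¹ '' h.1
      rw [← hh', Set.image_image]
      exact Set.image_congr fun ψ _ => (cjN_cjN c⁻¹ c' ψ).symm
    · show cjN c⁻¹ '' (cjN c '' h.1) = h.1
      rw [Set.image_image, Set.image_congr (fun ψ _ => by rw [cjN_cjN, inv_mul_cancel, cjN_one]),
        Set.image_id']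
    · show cjN c '' (cjN c⁻¹ '' h.1) = h.1
      rw [Set.image_image, Set.image_congr (fun ψ _ => by rw [cjN_cjN, mul_inv_cancel, cjN_one]),
        Set.image_id']
    · show _ = (eG M (cjN c '' h.1)).coeff a
      rw [cj_eG_cjN, coeff_cj]
  have hEmul : ∀ h : BlockT M P, eG M h.1 * E = if h ∈ S then eG M h.1 else 0 := by
    intro h
    rw [hEdef, Finset.mul_sum]
    split_ifs with hh
    · rw [Finset.sum_eq_single_of_mem h hh fun k _ hk =>
        eG_mul_eq_zero hM h.2 k.2 fun e => hk (Subtype.ext e).symm, eG_mul_self hM h.2]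
    · exact Finset.sum_eq_zero fun k hk =>
        eG_mul_eq_zero hM h.2 k.2 fun e => hh (Subtype.ext e ▸ hk)
  have hEE : E * E = E := by
    conv_lhs => arg 1; rw [hEdef]
    rw [Finset.sum_mul, hEdef]
    exact Finset.sum_congr rfl fun h hh => (hEmul h).trans (if_pos hh)
  have hf'S : f' ∈ S := Finset.mem_filter.mpr ⟨Finset.mem_univ _, 1, one_mem _, by
    rw [Set.image_congr (fun ψ _ => cjN_one ψ), Set.image_id']⟩
  have hEf : E * eG M f = eG M f := by
    rcases idem_mul_block hM hES hEC hEE hfb hξ with ⟨h, -⟩ | ⟨h, -⟩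
    · exact h
    · refine absurd ?_ hne'
      rw [← (hEmul f').trans (if_pos hf'S), mul_assoc, h, mul_zero]
  set k : BlockT M P := ⟨cjN x '' f'.1, isPBlock_cjN x f'.2⟩ with hk
  have hkS : k ∈ S := by
    by_contra hkn
    refine hne' ?_
    have h1 : eG M k.1 * eG M f = 0 := by
      rw [← hEf, ← mul_assoc, (hEmul k).trans (if_neg hkn), zero_mul]
    rw [show eG M k.1 = cj x (eG M f'.1) from cj_eG_cjN x f'.1,
      ← (stabilizesBlock_iff hM hxN hfb).mp hxS, ← cj_mul'] at h1
    have h2 := congrArg (cj x⁻¹) h1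
    rw [cj_cj, inv_mul_cancel, cj_one] at h2
    rw [h2]
    exact ga_ext fun a => by simp
  obtain ⟨c, hc, hcx⟩ := (Finset.mem_filter.mp hkS).2
  have hfix : c⁻¹ * x ∈ P ⊔ CQ P := by
    have h0 : cjN c '' f'.1 = cjN x '' f'.1 := hcx
    have h1 : cj (c⁻¹ * x) (eG M f'.1) = eG M f'.1 := by
      rw [← cj_cj, ← cj_eG_cjN x, ← h0, cj_eG_cjN, cj_cj, inv_mul_cancel, cj_one]
    rw [← hne_n, eG_conjN hn, cj_cj] at h1
    have h2 : n⁻¹ * (c⁻¹ * x) * n ∈ T := by
      show cj (n⁻¹ * (c⁻¹ * x) * n) (eG M e) = eG M e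
      rw [mul_assoc, ← cj_cj, h1, cj_cj, inv_mul_cancel, cj_one]
    have h3 := (Subgroup.sup_normal P (CQ P)).conj_mem _ (hT h2) n
    rwa [show n * (n⁻¹ * (c⁻¹ * x) * n) * n⁻¹ = c⁻¹ * x by group] at h3
  obtain ⟨u, hu, w, hw, huw⟩ := Subgroup.mem_sup_of_normal_right.mp hfix
  have hact : ∀ r ∈ Q, x * r * x⁻¹ = u * r * u⁻¹ := by
    intro r hr
    have hr' : x * r * x⁻¹ ∈ Q := (Subgroup.mem_normalizer_iff.mp hxN r).mp hr
    have hwr : w * r * w⁻¹ = r := by
      rw [← Subgroup.mem_centralizer_iff.mp hw r (hQP hr), mul_inv_cancel_right]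
    have hcr : c * (x * r * x⁻¹) * c⁻¹ = x * r * x⁻¹ := by
      rw [← Subgroup.mem_centralizer_iff.mp hc _ hr', mul_inv_cancel_right]
    calc x * r * x⁻¹ = c⁻¹ * (c * (x * r * x⁻¹) * c⁻¹) * c := by group
      _ = (c⁻¹ * x) * r * (c⁻¹ * x)⁻¹ := by rw [hcr]; group
      _ = u * (w * r * w⁻¹) * u⁻¹ := by rw [← huw]; group
      _ = u * r * u⁻¹ := by rw [hwr]
  have hpow : ∀ j : ℕ, ∀ r ∈ Q, x ^ j * r * (x ^ j)⁻¹ = u ^ j * r * (u ^ j)⁻¹ := by
    intro j
    induction j with
    | zero => intro r _; simp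
    | succ j ih =>
      intro r hr
      have hr' : x * r * x⁻¹ ∈ Q := (Subgroup.mem_normalizer_iff.mp hxN r).mp hr
      calc x ^ (j + 1) * r * (x ^ (j + 1))⁻¹ = x ^ j * (x * r * x⁻¹) * (x ^ j)⁻¹ := by
            rw [pow_succ]; group
        _ = u ^ j * (x * r * x⁻¹) * (u ^ j)⁻¹ := ih _ hr'
        _ = u ^ (j + 1) * r * (u ^ (j + 1))⁻¹ := by rw [hact r hr, pow_succ]; group
  obtain ⟨a, ha⟩ := IsPGroup.iff_orderOf.mp hPp ⟨u, hu⟩
  rw [Subgroup.orderOf_mk] at ha
  have hxa : x ^ p ^ a ∈ CQ Q := by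
    refine Subgroup.mem_centralizer_iff.mpr fun r hr => ?_
    have h := hpow (p ^ a) r hr
    rw [← ha, pow_orderOf_eq_one, one_mul, inv_one, mul_one, ha, mul_inv_eq_iff_eq_mul] at h
    exact h.symm
  have hco : (p ^ a).Coprime (orderOf x) :=
    Nat.Coprime.pow_left _ (hp.coprime_iff_not_dvd.mpr hxr)
  obtain ⟨j, hj⟩ := exists_pow_eq_self_of_coprime hco
  rw [← hj]
  exact pow_mem hxa j

end CfsgLib.Block.NormalDefectDegrees
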