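import Cfsg.Agent.Lib.Block.RealBlocks
import Cfsg.Agent.Lib.Block.CoveringDefect
import Cfsg.Agent.Lib.Block.FirstMain
import Cfsg.Agent.Lib.Block.RegularIndicator

/-!
# Principal 2-blocks over a normal subgroup of odd index

`mem_principalBlock_iff_of_odd_index`: for a character real on 2-regular elements, lying in
the principal block is inherited in both directions along a normal subgroup of odd index.
-/

open Finset
open scoped ComplexConjugate

set_option linter.unusedSectionVars false

namespace CfsgLib.Block

open Cfsg

universe u

variable {p : ℕ} {M : Ideal AlgInt} [M.IsMaximal] {G : Type u} [Group G] [Fintype G] [DecidableEq G]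
  [Fintype (IrrCharacter G)]

/-- A character real on `p`-regular elements has a block closed under conjugation. -/
theorem conjChar_mem_of_real_regular (hM : IsPModular p M) {χ : IrrCharacter G}
    (hr : ∀ g : G, ¬ p ∣ orderOf g → conj ((χ : G → ℂ) g) = (χ : G → ℂ) g) :
    conjChar χ ∈ blockOf M (χ : G → ℂ) := by
  classical
  by_contra hne
  have h1 : ¬ p ∣ orderOf (1 : G) := by
    rw [orderOf_one]
    exact hM.1.not_dvd_one
  have := sum_block_eq_of_eq_regular hM (IsBlockUnion.of_isPBlock (isPBlock_blockOf (M := M) χ))
    (b := fun ψ => if ψ = χ then 1 else 0) (b' := fun ψ => if ψ = conjChar χ then 1 else 0)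
    (fun y hy => by simp [ite_mul, Finset.sum_ite_eq', conjChar_apply, hr y hy]) h1
  simp only [ite_mul, one_mul, zero_mul, Finset.sum_ite_eq', Finset.mem_filter, Finset.mem_univ,
    true_and, self_mem_blockOf χ, hne, if_true, if_false] at this
  exact Char.irr_one_ne_zero χ this

variable {N : Subgroup G} [N.Normal] [Fintype N]

/-- A block covering a block with a Sylow defect group of a subgroup of index prime to `p` has
full defect. -/
theorem Covers.full_defect_of_not_dvd_index (hM : IsPModular p M) {B : Set (IrrCharacter G)}
    (hB : IsPBlock M B) (h : Covers B (principalBlock M N)) (hidx : ¬ p ∣ N.index) :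
    blockDefect p B = (Nat.card G).factorization p := by
  classical
  have hpf : Fact p.Prime := ⟨hM.1⟩
  obtain ⟨S⟩ := (inferInstance : Nonempty (Sylow p N))
  set Q : Subgroup G := (S : Subgroup N).map N.subtype with hQ
  have hQN : Q ≤ N := Subgroup.map_subtype_le _
  have hQS : Q.subgroupOf N = (S : Subgroup N) :=
    Subgroup.comap_map_eq_self_of_injective N.subtype_injective _
  have hQd : IsDefectGroup p M (principalBlock M N) (Q.subgroupOf N) :=
    (isDefectGroup_principal_iff hM _).mpr ⟨S, hQS.symm⟩
  obtain ⟨P, hP, hPQ⟩ := h.exists_defect_inf hM hB isPBlock_principalBlock hQN hQd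
  have hcN : (Nat.card G).factorization p = (Nat.card N).factorization p := by
    rw [← Subgroup.card_mul_index N, Nat.factorization_mul Nat.card_pos.ne'
      Subgroup.index_ne_zero_of_finite, Finsupp.add_apply,
      Nat.factorization_eq_zero_of_not_dvd hidx, add_zero]
  have h1 : p ^ (Nat.card N).factorization p ≤ p ^ blockDefect p B := by
    rw [← defectGroup_card hM hB hP, ← Sylow.card_eq_multiplicity S,
      ← Subgroup.card_map_of_injective N.subtype_injective (K := (S : Subgroup N))]
    exact Subgroup.card_le_of_le (hQ.symm ▸ hPQ ▸ inf_le_left)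
  have h2 := (Nat.pow_le_pow_iff_right hM.1.one_lt).mp h1
  have h3 : blockDefect p B = (Nat.card G).factorization p - minDeg p B := rfl
  omega

/-- Over a normal subgroup of odd index, a character real on 2-regular elements is in the
principal block exactly when its constituent is. -/
theorem mem_principalBlock_iff_of_odd_index (hM : IsPModular 2 M) (hidx : Odd N.index)
    {χ : IrrCharacter G} {θ : IrrCharacter N}
    (hr : ∀ g : G, ¬ 2 ∣ orderOf g → conj ((χ : G → ℂ) g) = (χ : G → ℂ) g)
    (hc : classInner (fun n : N => (χ : G → ℂ) n) (θ : N → ℂ) ≠ 0) :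
    χ ∈ principalBlock M G ↔ θ ∈ principalBlock M N := by
  classical
  constructor
  · intro hχ
    have h0 : Covers (principalBlock M G) (principalBlock M N) := by
      refine ⟨oneChar G, one_mem_principalBlock, oneChar N, one_mem_principalBlock, ?_⟩
      show classInner (oneChar N : N → ℂ) (oneChar N : N → ℂ) ≠ 0
      rw [Char.classInner_irr_self]
      exact one_ne_zero
    have hst : ∀ g : G, cjN g '' principalBlock M N = principalBlock M N := fun g =>
      isPBlock_eq_of_mem (isPBlock_cjN g isPBlock_principalBlock) isPBlock_principalBlock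
        ⟨oneChar N, one_mem_principalBlock, Subtype.ext (funext fun _ => rfl)⟩ one_mem_principalBlock
    obtain ⟨g, hg⟩ :=
      h0.constituent_mem hM isPBlock_principalBlock isPBlock_principalBlock hχ hc
    rw [← hst g] at hg
    obtain ⟨θ', hθ', he⟩ := hg
    have h1 : θ' = θ := by
      have := congrArg (cjN g⁻¹) he
      rwa [cjN_cjN, cjN_cjN, inv_mul_cancel, cjN_one, cjN_one] at this
    exact h1 ▸ hθ'
  · intro hθ
    have hB := isPBlock_blockOf (M := M) χ
    have h0 : Covers (blockOf M (χ : G → ℂ)) (principalBlock M N) :=
      ⟨χ, self_mem_blockOf χ, θ, hθ, hc⟩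
    have hfull := h0.full_defect_of_not_dvd_index hM hB hidx.not_two_dvd_nat
    rw [← isPBlock_eq_principal_of_real hM hB hfull fun ψ hψ => ?_]
    · exact self_mem_blockOf χ
    · have h1 := conjChar_mem_blockOf hψ
      rw [← isPBlock_eq_blockOf hB (conjChar_mem_of_real_regular hM hr)] at h1
      exact h1

end CfsgLib.Block
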