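import Cfsg.Agent.Lib.Block.Cartan
import Cfsg.Agent.Lib.Block.Induced
import Cfsg.Agent.Lib.Block.Contributions

/-!
# Okuyama's criterion: `[χ°, η]` as a central character

`regN η χ` is the value of the reduced central character of `η` at a central element attached to
`χ`, which is compatible with restriction to subgroups.
-/

open Finset
open scoped ComplexConjugate

set_option linter.unusedSectionVars false

namespace CfsgLib.Block

open Cfsg

universe u

variable {p : ℕ} {M : Ideal AlgInt} [M.IsMaximal] {G : Type u} [Group G] [Fintype G] [DecidableEq G]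

variable (p M) in
/-- The central element `∑ χ g⁻¹ g` over the `p`-regular elements, modulo `M`. -/
noncomputable def regZ (χ : IrrCharacter G) : ZK M G :=
  ⟨gaOfFun fun g => if p ∣ orderOf g then 0 else res M (irrLoc M χ g⁻¹),
    mem_center_iff_isClassElt.mpr fun g h => by
      simp only [coeff_gaOfFun, orderOf_conj_eq]
      congr 2
      apply Subtype.ext
      rw [coe_irrLoc, coe_irrLoc, show (h * g * h⁻¹)⁻¹ = h * g⁻¹ * h⁻¹ by group,
        Char.isClassFunction_irr χ]⟩

theorem coeff_regZ (χ : IrrCharacter G) (g : G) :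
    ((regZ p M χ : ZK M G) : MonoidAlgebra (ResField M) G).coeff g =
      if p ∣ orderOf g then 0 else res M (irrLoc M χ g⁻¹) := by
  simp [regZ]

theorem omegaBar_regZ [Fintype (ConjClasses G)] (η χ : IrrCharacter G) :
    omegaBar M η (regZ p M χ) = regN p M η χ := by
  rw [zk_eq_sum (regZ p M χ), map_sum, regN, Finset.sum_filter]
  refine Finset.sum_congr rfl fun C _ => ?_
  rw [omegaBar_smul, omegaBar_classBar, coeff_regZ]
  by_cases h : p ∣ orderOf (rep C) <;> simp [h, mul_comm]

theorem regN_eq_zero_of_not_mem [Fintype (IrrCharacter G)] [Fintype (ConjClasses G)]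
    (hM : IsPModular p M) {B : Set (IrrCharacter G)} (hB : IsPBlock M B) {η χ : IrrCharacter G}
    (hη : η ∉ B) (hχ : χ ∈ B) : regN p M η χ = 0 := by
  classical
  obtain ⟨R, hR, hres⟩ := exists_regN_lift (p := p) (M := M) η χ
  have h0 : regInner p η χ = 0 := by
    rw [regInner_comm hM]
    exact regInner_eq_zero_of_not_mem hM (IsBlockUnion.of_isPBlock hB) hχ hη
  rw [h0, mul_zero, mul_eq_zero, or_iff_left (Char.irr_one_ne_zero η)] at hR
  rw [← hres, show R = 0 from Subtype.ext hR, map_zero]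

/-- For `χ` of height zero, `regN η χ` does not vanish exactly on the block of `χ`. -/
theorem mem_iff_regN_ne_zero [Fintype (IrrCharacter G)] [Fintype (ConjClasses G)]
    (hM : IsPModular p M) {χ : IrrCharacter G}
    (h0 : blockHeight p (blockOf M (χ : G → ℂ)) (χ : G → ℂ) = 0) (η : IrrCharacter G) :
    η ∈ blockOf M (χ : G → ℂ) ↔ regN p M η χ ≠ 0 := by
  have hB := isPBlock_blockOf (M := M) χ
  have hχ := self_mem_blockOf (M := M) χ
  refine ⟨fun hη => (regN_ne_zero_iff hM hB hη hχ).mpr fun θ hθ => ?_, fun hne => ?_⟩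
  · rw [blockHeight, Nat.sub_eq_zero_iff_le] at h0
    exact h0.trans (csInf_le (OrderBot.bddBelow _) ⟨θ, hθ, rfl⟩)
  · by_contra hη
    exact hne (regN_eq_zero_of_not_mem hM hB hη hχ)

theorem resHK_regZ {H : Subgroup G} [Fintype H] (χ : IrrCharacter G)
    (ψ : IrrCharacter H) (h : ∀ x : H, (ψ : H → ℂ) x = (χ : G → ℂ) x) :
    resHK M H (regZ p M χ) = regZ p M ψ := by
  refine Subtype.ext (ga_ext fun x => ?_)
  rw [coeff_resHK, coeff_regZ, coeff_regZ, Subgroup.orderOf_coe]
  congr 2
  apply Subtype.ext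
  simp [h]

/-- Blau: an induced block has a height zero constituent of multiplicity prime to `p`. -/
theorem exists_height_zero_constituent [Fintype (IrrCharacter G)] [Fintype (ConjClasses G)]
    (hM : IsPModular p M) {H : Subgroup G} [Fintype H] {b : Set (IrrCharacter H)}
    {B : Set (IrrCharacter G)} (hind : IsInducedBlock M H b B) {χ : IrrCharacter G} (hχ : χ ∈ B)
    (h0 : blockHeight p B (χ : G → ℂ) = 0) :
    ∃ ξ ∈ b, blockHeight p b (ξ : H → ℂ) = 0 ∧ ∃ n : ℕ,
      classInner (fun h : H => (χ : G → ℂ) h) (ξ : H → ℂ) = (n : ℂ) ∧ ¬ p ∣ n := by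
  classical
  have := Fintype.ofFinite (IrrCharacter H)
  have := Fintype.ofFinite (ConjClasses H)
  have := charP_resField hM
  obtain ⟨hb, hB, hω⟩ := isInducedBlock_iff.mp hind
  obtain ⟨φ, hφ⟩ := isPBlock_nonempty hb
  have hBeq : B = blockOf M (χ : G → ℂ) :=
    isPBlock_eq_of_mem hB (isPBlock_blockOf χ) hχ (self_mem_blockOf χ)
  subst hBeq
  have hne := (mem_iff_regN_ne_zero hM h0 χ).mp (self_mem_blockOf χ)
  rw [← omegaBar_regZ, ← hω φ hφ χ hχ] at hne
  have hsum : resHK M H (regZ p M χ) =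
      ∑ ξ : IrrCharacter H, (resMult χ ξ : ResField M) • regZ p M ξ := by
    refine Subtype.ext (ga_ext fun x => ?_)
    rw [AddSubmonoidClass.coe_finsetSum, coeff_sum_apply, coeff_resHK, coeff_regZ,
      Subgroup.orderOf_coe]
    simp only [SetLike.val_smul, MonoidAlgebra.coeff_smul, Finsupp.smul_apply, smul_eq_mul,
      coeff_regZ]
    by_cases hx : p ∣ orderOf x
    · simp [hx]
    · simp only [hx, if_false]
      rw [show irrLoc M χ (x : G)⁻¹ =
          ∑ ξ : IrrCharacter H, (resMult χ ξ : locRing M) * irrLoc M ξ x⁻¹ from Subtype.ext (by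
        rw [AddSubmonoidClass.coe_finsetSum, coe_irrLoc, ← Subgroup.coe_inv, res_eq_sum_resMult]
        rfl), map_sum]
      simp only [map_mul, map_natCast]
  rw [hsum, map_sum] at hne
  obtain ⟨ξ, -, hξ⟩ := Finset.exists_ne_zero_of_sum_ne_zero hne
  rw [omegaBar_smul, omegaBar_regZ] at hξ
  have hξb : ξ ∈ b := by
    by_contra h
    exact right_ne_zero_of_mul hξ (regN_eq_zero_of_not_mem hM (isPBlock_blockOf ξ)
      (fun h' => h (isPBlock_eq_of_mem hb (isPBlock_blockOf ξ) hφ h' ▸ self_mem_blockOf ξ))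
      (self_mem_blockOf ξ))
  have hmin := (regN_ne_zero_iff hM hb hφ hξb).mp (right_ne_zero_of_mul hξ)
  refine ⟨ξ, hξb, ?_, resMult χ ξ, ?_,
    fun hd => left_ne_zero_of_mul hξ ((CharP.cast_eq_zero_iff _ p _).mpr hd)⟩
  swap
  · unfold resMult
    convert Classical.choose_spec (Char.classInner_char_irr_nat
      (Char.isCharacter_comp (Char.isCharacter_irr χ) H.subtype) ξ)
    rfl
  rw [blockHeight, Nat.sub_eq_zero_iff_le]
  refine le_csInf ⟨_, ξ, hξb, rfl⟩ ?_
  rintro _ ⟨θ, hθ, rfl⟩
  exact hmin θ hθ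

end CfsgLib.Block
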