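import Cfsg.Agent.Lib.Block.CentralDefect
import Cfsg.Agent.Lib.Block.CoveringUnique
import Cfsg.Agent.Lib.Block.FongReynolds
import Cfsg.Agent.Lib.Block.Glauberman
import Cfsg.Agent.Lib.Block.PSolvableOne
import Cfsg.Agent.Lib.Char.Degree
import Cfsg.Agent.Lib.Char.DegreeRatio
import Cfsg.Agent.Lib.Char.ExtendCriteria
import Cfsg.Agent.Lib.Char.Gallagher
import Cfsg.Agent.Lib.Coprime.Core
import Cfsg.Agent.Lib.PGroup.CoprimeOrbits
import Cfsg.Agent.Lib.PGroup.PSolvable

/-!
# Heights in `p`-solvable groups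

The height of a member of a block with defect group `P` of a `p`-solvable group is at most the
exponent of `p` in `[P : Z(P)]`: by Fong–Reynolds the covered character of the `p'`-core may be taken
invariant; then the defect group is a Sylow subgroup and a normal subgroup containing the core and
`Z(P)` with abelian quotient over the core bounds the degrees.
-/

open Finset MonoidAlgebra
open scoped ComplexConjugate

set_option linter.unusedSectionVars false

namespace CfsgLib.Block

open Cfsg
open scoped Pair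

universe u

variable {p : ℕ} {M : Ideal AlgInt} [M.IsMaximal]

theorem index_center_congr {A B : Type*} [Group A] [Group B] (e : A ≃* B) :
    (Subgroup.center A).index = (Subgroup.center B).index := by
  have h : (Subgroup.center A).map e.toMonoidHom = Subgroup.center B := by
    ext b
    simp only [Subgroup.mem_map, MulEquiv.coe_toMonoidHom, Subgroup.mem_center_iff]
    constructor
    · rintro ⟨a, ha, rfl⟩ g
      obtain ⟨g, rfl⟩ := e.surjective g
      rw [← map_mul, ← map_mul, ha]
    · intro hb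
      refine ⟨e.symm b, fun g => e.injective ?_, e.apply_symm_apply b⟩
      rw [map_mul, map_mul, e.apply_symm_apply, hb]
  rw [← h, Subgroup.index_map_of_bijective (f := e.toMonoidHom) e.bijective]

variable {G : Type u} [Group G] [Fintype G] [DecidableEq G] [Fintype (IrrCharacter G)]

/-- The characters over a character of a normal subgroup which is invariant and extends, with abelian
quotient, have its degree. -/
theorem one_eq_of_extends_abelian {N : Subgroup G} [N.Normal] [Fintype N] {θ : IrrCharacter N}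
    (χ : IrrCharacter G) (hext : ∀ n : N, (χ : G → ℂ) n = (θ : N → ℂ) n)
    (hab : ∀ a b : G, a * b * a⁻¹ * b⁻¹ ∈ N) (ψ : IrrCharacter G)
    (hψ : classInner (fun n : N => (ψ : G → ℂ) n) (θ : N → ℂ) ≠ 0) :
    (ψ : G → ℂ) 1 = (θ : N → ℂ) 1 := by
  classical
  have hres : (fun n : N => (χ : G → ℂ) n) = (θ : N → ℂ) := funext hext
  obtain ⟨hη, hψe⟩ := Char.gallagher N χ (hres ▸ θ.2) ψ (by rw [hres]; exact hψ)
  set η := Char.cosetAvg N (fun x => (ψ : G → ℂ) x * conj ((χ : G → ℂ) x)) with hηd
  obtain ⟨η', hη'⟩ := exists_deflate (N := N) ⟨η, hη⟩ fun z hz => by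
    show η z = η 1
    have h := Char.cosetAvg_mul_left N (fun x => (ψ : G → ℂ) x * conj ((χ : G → ℂ) x)) ⟨z, hz⟩ 1
    rw [hηd]
    simpa using h
  obtain ⟨d, -, hd⟩ := Char.isIrrCharacter_degree η'.2
  have hd1 : d = 1 := by
    have h := Char.degree_dvd_index_abelian (G ⧸ N) ⊤ (fun a _ b _ => ?_) _ η'.2 d hd
    · rw [Subgroup.index_top, Nat.dvd_one] at h
      exact h
    · obtain ⟨a, rfl⟩ := QuotientGroup.mk_surjective a
      obtain ⟨b, rfl⟩ := QuotientGroup.mk_surjective b
      rw [← QuotientGroup.mk_mul, ← QuotientGroup.mk_mul, QuotientGroup.eq]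
      have h' := hab b⁻¹ a⁻¹
      simpa [mul_assoc] using h'
  have h1 : η 1 = 1 := by
    have h := hη' 1
    rw [QuotientGroup.mk_one, hd, hd1, Nat.cast_one] at h
    exact h.symm
  rw [hψe, Pi.mul_apply, h1, mul_one, ← hext 1, OneMemClass.coe_one]

/-- The degree of a character over an invariant character of a normal `p'`-subgroup `N`, when `A / N` is an
abelian `p`-group for the normal subgroup `A`. -/
theorem degVal_le_index_of_invariant [Fact p.Prime] {N A : Subgroup G} [N.Normal] [A.Normal]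
    [Fintype N] [Fintype A] (hNA : N ≤ A) (hN : ¬ p ∣ Nat.card N)
    (hAN : ∃ k : ℕ, (N.subgroupOf A).index = p ^ k)
    (hab : ∀ a ∈ A, ∀ b ∈ A, a * b * a⁻¹ * b⁻¹ ∈ N) {θ : IrrCharacter N}
    (hinv : ∀ g : G, cjN g θ = θ) (χ : IrrCharacter G)
    (hχ : classInner (fun n : N => (χ : G → ℂ) n) (θ : N → ℂ) ≠ 0) :
    degVal p χ ≤ A.index.factorization p := by
  classical
  have := Fintype.ofFinite (IrrCharacter A)
  -- a constituent on `A` lying over `θ`
  have hexp := Char.classFun_expand (f := fun a : A => (χ : G → ℂ) a)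
    fun a b => Char.isClassFunction_irr χ (a : G) (b : G)
  obtain ⟨η, hη1, hη2⟩ : ∃ η : IrrCharacter A,
      classInner (fun a : A => (χ : G → ℂ) a) (η : A → ℂ) ≠ 0 ∧
      classInner (fun n : N => (η : A → ℂ) ⟨n, hNA n.2⟩) (θ : N → ℂ) ≠ 0 := by
    by_contra hc
    push Not at hc
    refine hχ ?_
    have h1 : (fun n : N => (χ : G → ℂ) n) = ∑ η : IrrCharacter A,
        classInner (fun a : A => (χ : G → ℂ) a) (η : A → ℂ) •
          fun n : N => (η : A → ℂ) ⟨n, hNA n.2⟩ := funext fun n => by
      have h := congrFun hexp ⟨n, hNA n.2⟩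
      simpa [Finset.sum_apply] using h
    rw [h1, Char.classInner_sum_left]
    refine Finset.sum_eq_zero fun η _ => ?_
    rw [Char.classInner_smul_left]
    by_cases h : classInner (fun a : A => (χ : G → ℂ) a) (η : A → ℂ) = 0
    · rw [h, zero_mul]
    · rw [hc η h, mul_zero]
  set N' := N.subgroupOf A with hN'
  let e : N' ≃* N := Subgroup.subgroupOfEquivOfLe hNA
  let θ' : IrrCharacter N' := irrEquiv e.symm θ
  have hθ' : ∀ x : N', (θ' : N' → ℂ) x = (θ : N → ℂ) (e x) := fun x => rfl
  obtain ⟨m, ρ, hρ, hρθ⟩ := θ'.2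
  have hN'c : Nat.card N' = Nat.card N := Nat.card_congr e.toEquiv
  obtain ⟨k, hk⟩ := hAN
  have hinv' : Char.IsInvariant N' ρ := (Char.isInvariant_iff N' ρ hρθ).mpr fun g x => by
    rw [hθ', hθ']
    have h := congrFun (congrArg Subtype.val (hinv (g : G)⁻¹)) (e x)
    rw [cjN_apply] at h
    refine Eq.trans (congrArg _ (Subtype.ext ?_)) h
    show ((g * (x : A) * g⁻¹ : A) : G) = _
    simp [e, mul_assoc]
    rfl
  have hm : m ∣ Nat.card N' := by
    refine Char.degree_dvd_card θ' ?_
    rw [← hρθ, Representation.char_one, Module.finrank_fin_fun]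
  obtain ⟨σ, hσ⟩ := Char.extends_of_sylow N' ρ hinv' fun q hq hqi hqd => by
    exfalso
    rw [hk] at hqi
    obtain rfl := (Nat.prime_dvd_prime_iff_eq hq Fact.out).mp (hq.dvd_of_dvd_pow hqi)
    rcases hq.dvd_mul.mp hqd with h | h
    · exact hN (hN'c ▸ h.trans hm)
    · refine hN (hN'c ▸ h.trans (orderOf_dvd_of_pow_eq_one ?_))
      exact MonoidHom.ext fun x => by
        rw [MonoidHom.pow_apply, MonoidHom.one_apply, ← map_pow, pow_card_eq_one', map_one]
  let ext : IrrCharacter A := ⟨σ.character, Char.isIrrCharacter_of_extends N' ρ hσ⟩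
  have hext : ∀ x : N', (ext : A → ℂ) x = (θ' : N' → ℂ) x := fun x => by
    rw [← congrFun hρθ x]
    exact congrArg (LinearMap.trace ℂ _) (hσ x)
  have := Fintype.ofFinite N'
  have hηθ : classInner (fun x : N' => (η : A → ℂ) x) (θ' : N' → ℂ) ≠ 0 := by
    refine fun h0 => hη2 (Eq.trans ?_ h0)
    rw [classInner, classInner, hN'c]
    congr 1
    exact (Fintype.sum_equiv e.toEquiv _ _ fun x => rfl).symm
  have hab' : ∀ a b : A, a * b * a⁻¹ * b⁻¹ ∈ N' := fun a b =>
    Subgroup.mem_subgroupOf.mpr (hab a a.2 b b.2)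
  have hdeg := one_eq_of_extends_abelian ext hext hab' η hηθ
  -- compare the degrees
  obtain ⟨dη, hdη0, hdη⟩ := Char.isIrrCharacter_degree η.2
  have hθ1 : (θ : N → ℂ) 1 = (dη : ℂ) := by
    rw [← hdη, hdeg, hθ', map_one]
  have hdvd : dη ∣ Nat.card N := Char.degree_dvd_card θ hθ1
  obtain ⟨hd1, hd2⟩ := Char.ratio_dvd_index A χ.2 η.2 hη1 (charDegree_eq χ).1 hdη
  obtain ⟨r, hr⟩ := hd1
  rw [hr, Nat.mul_div_cancel_left _ hdη0] at hd2
  rw [degVal, hr, Nat.factorization_mul hdη0.ne' (fun h => (charDegree_eq χ).2 (by rw [hr, h, mul_zero])),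
    Finsupp.add_apply, Nat.factorization_eq_zero_of_not_dvd fun h => hN (h.trans hdvd), zero_add]
  exact (Nat.factorization_le_iff_dvd (fun h => (charDegree_eq χ).2 (by rw [hr, h, mul_zero]))
    Subgroup.index_ne_zero_of_finite).mpr hd2 p

/-- The case of an invariant character of the `p'`-core: full defect, and the bound. -/
theorem height_le_of_invariant (hM : IsPModular p M) (hsolv : IsPSolvable p G)
    {N : Subgroup G} [N.Normal] [Fintype N] (hNd : N = pPrimeCore p G) {θ : IrrCharacter N}
    (hinv : ∀ g : G, cjN g θ = θ) {B : Set (IrrCharacter G)} (hB : IsPBlock M B)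
    {χ : IrrCharacter G} (hχ : χ ∈ B)
    (hχθ : classInner (fun n : N => (χ : G → ℂ) n) (θ : N → ℂ) ≠ 0)
    {P : Subgroup G} (hP : IsDefectGroup p M B P) :
    blockHeight p B (χ : G → ℂ) ≤ (Subgroup.center P).index.factorization p := by
  classical
  have hp : Fact p.Prime := ⟨hM.1⟩
  have hNp : ¬ p ∣ Nat.card N := hNd ▸ CfsgLib.Coprime.pPrimeCore_not_dvd hM.1
  have hS : IsPSolvable p (G ⧸ N) := CfsgLib.PGroup.isPSolvable_quotient hM.1 hsolv N
  have hself := centralizer_pCore_le_of_isPSolvable hS (by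
    subst hNd; exact CfsgLib.Coprime.pPrimeCore_quotient_eq_bot hM.1)
  set W := pCore p (G ⧸ N) with hW
  have : W.Normal := CfsgLib.Coprime.pCore_normal' p
  have hWp : IsPGroup p W := CfsgLib.Coprime.pCore_isPGroup p
  set U := W.comap (QuotientGroup.mk' N) with hU
  have hNU : N ≤ U := fun n hn => by
    show QuotientGroup.mk' N n ∈ W
    rw [QuotientGroup.mk'_apply, (QuotientGroup.eq_one_iff n).mpr hn]
    exact W.one_mem
  obtain ⟨k, hk⟩ := IsPGroup.iff_card.mp hWp
  have hUN : (N.subgroupOf U).index = p ^ k := by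
    rw [← hk, ← Subgroup.relIndex]
    have h1 : (W.comap (QuotientGroup.mk' N)).map (QuotientGroup.mk' N) = W :=
      Subgroup.map_comap_eq_self_of_surjective (QuotientGroup.mk'_surjective N) _
    rw [← Subgroup.relIndex_bot_left W, ← h1, ← Subgroup.relIndex_comap, MonoidHom.comap_bot,
      QuotientGroup.ker_mk']
  have := Fintype.ofFinite (IrrCharacter U)
  -- a constituent on `U` over `θ`
  have hexp := Char.classFun_expand (f := fun a : U => (χ : G → ℂ) a)
    fun a b => Char.isClassFunction_irr χ (a : G) (b : G)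
  obtain ⟨η, hη1, hη2⟩ : ∃ η : IrrCharacter U,
      classInner (fun a : U => (χ : G → ℂ) a) (η : U → ℂ) ≠ 0 ∧
      classInner (fun n : N => (η : U → ℂ) ⟨n, hNU n.2⟩) (θ : N → ℂ) ≠ 0 := by
    by_contra hc
    push Not at hc
    refine hχθ ?_
    have h1 : (fun n : N => (χ : G → ℂ) n) = ∑ η : IrrCharacter U,
        classInner (fun a : U => (χ : G → ℂ) a) (η : U → ℂ) •
          fun n : N => (η : U → ℂ) ⟨n, hNU n.2⟩ := funext fun n => by
      have h := congrFun hexp ⟨n, hNU n.2⟩
      simpa [Finset.sum_apply] using h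
    rw [h1, Char.classInner_sum_left]
    refine Finset.sum_eq_zero fun η _ => ?_
    rw [Char.classInner_smul_left]
    by_cases h : classInner (fun a : U => (χ : G → ℂ) a) (η : U → ℂ) = 0
    · rw [h, zero_mul]
    · rw [hc η h, mul_zero]
  set N' := N.subgroupOf U with hN'
  let e : N' ≃* N := Subgroup.subgroupOfEquivOfLe hNU
  let θ' : IrrCharacter N' := irrEquiv e.symm θ
  have hN'c : Nat.card N' = Nat.card N := Nat.card_congr e.toEquiv
  have := Fintype.ofFinite (IrrCharacter N')
  have := Fintype.ofFinite (U ⧸ N')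
  have := Fintype.ofFinite (G ⧸ U)
  have hb0 : IsPBlock M ({θ'} : Set (IrrCharacter N')) := Glauberman.singleton_isPBlock hM (hN'c ▸ hNp) θ'
  have hst0 : ∀ v : U, cjN v '' ({θ'} : Set (IrrCharacter N')) = {θ'} := by
    intro v
    rw [Set.image_singleton]
    congr 1
    refine Subtype.ext (funext fun x => ?_)
    rw [cjN_apply]
    show (θ : N → ℂ) _ = (θ : N → ℂ) (e x)
    have h := congrFun (congrArg Subtype.val (hinv (v : G))) (e x)
    rw [cjN_apply] at h
    refine Eq.trans (congrArg _ (Subtype.ext ?_)) h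
    simp [e]
    rfl
  have hover : ∀ η' : IrrCharacter U,
      classInner (fun x : N' => (η' : U → ℂ) x) (θ' : N' → ℂ) =
        classInner (fun n : N => (η' : U → ℂ) ⟨n, hNU n.2⟩) (θ : N → ℂ) := by
    intro η'
    rw [classInner, classInner, hN'c]
    congr 1
    exact Fintype.sum_equiv e.toEquiv _ _ fun x => rfl
  set bU := blockOf M (η : U → ℂ) with hbU
  have hbUb : IsPBlock M bU := isPBlock_blockOf η
  have hcovU : Covers bU ({θ'} : Set (IrrCharacter N')) :=
    ⟨η, self_mem_blockOf η, θ', rfl, by rw [hover]; exact hη2⟩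
  have hstU : ∀ g : G, cjN g '' bU = bU := by
    intro g
    refine covers_unique_of_ppow hM ⟨k, hUN⟩ (isPBlock_cjN g hbUb) hbUb hb0 ?_ hcovU
    refine ⟨cjN g η, ⟨η, self_mem_blockOf η, rfl⟩, θ', rfl, ?_⟩
    rw [hover]
    refine fun h0 => hη2 (Eq.trans ?_ h0)
    simp only [classInner]
    congr 1
    refine Fintype.sum_equiv
      { toFun := fun n : N => (⟨g * n * g⁻¹, (inferInstance : N.Normal).conj_mem _ n.2 g⟩ : N)
        invFun := fun n : N => (⟨g⁻¹ * n * g, (inferInstance : N.Normal).conj_mem' _ n.2 g⟩ : N)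
        left_inv := fun n => Subtype.ext (by simp [mul_assoc])
        right_inv := fun n => Subtype.ext (by simp [mul_assoc]) } _ _ fun n => ?_
    have h := congrFun (congrArg Subtype.val (hinv g)) ⟨g * n * g⁻¹, (inferInstance : N.Normal).conj_mem _ n.2 g⟩
    rw [cjN_apply] at h
    simp only [Equiv.coe_fn_mk]
    rw [← h, cjN_apply]
    exact congrArg₂ (fun a c : ℂ => a * conj c)
      (congrArg (η : U → ℂ) (Subtype.ext (show (n : G) = g⁻¹ * (g * n * g⁻¹) * g by group)))
      (congrArg (θ : N → ℂ) (Subtype.ext (show (n : G) = g⁻¹ * (g * n * g⁻¹) * g by group)))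
  have hcovB : Covers B bU := ⟨χ, hχ, η, self_mem_blockOf η, hη1⟩
  obtain ⟨Q', hQ'⟩ := exists_defectGroup hM hbUb
  have hQp := isPGroup_defectGroup hM hbUb hQ'
  obtain ⟨htop, -⟩ := ppow_defect hM ⟨k, hUN⟩ hb0 hst0 hbUb hcovU hQ'
  have hdisj : N' ⊓ Q' = ⊥ := by
    obtain ⟨i, hi⟩ := IsPGroup.iff_card.mp hQp
    refine Subgroup.eq_bot_of_card_eq _ (Nat.eq_one_of_dvd_coprimes ?_
      (Subgroup.card_dvd_of_le inf_le_left) (Subgroup.card_dvd_of_le inf_le_right))
    rw [hN'c, hi]
    exact ((hM.1.coprime_iff_not_dvd.mpr hNp).pow_left i).symm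
  set Q := Q'.map U.subtype with hQ
  have hQU : Q ≤ U := Subgroup.map_subtype_le Q'
  have hQQ : Q.subgroupOf U = Q' := Subgroup.comap_map_eq_self_of_injective U.subtype_injective Q'
  have hNn : ∀ v ∈ Subgroup.normalizer (Q' : Set U), v ∈ Q' ⊔ CQ Q' := by
    intro v hv
    have hvt : v ∈ N' ⊔ Q' := htop ▸ Subgroup.mem_top v
    obtain ⟨m, hm, q, hq, rfl⟩ := Subgroup.mem_sup_of_normal_left.mp hvt
    have hmN : m ∈ Subgroup.normalizer (Q' : Set U) := by
      have := mul_mem hv ((Subgroup.normalizer (Q' : Set U)).inv_mem (Subgroup.le_normalizer hq))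
      rwa [mul_inv_cancel_right] at this
    refine mul_mem (Subgroup.mem_sup_right (Subgroup.mem_centralizer_iff.mpr fun w hw => ?_))
      (Subgroup.mem_sup_left hq)
    have h1 : m * w * m⁻¹ * w⁻¹ ∈ N' ⊓ Q' := by
      refine ⟨?_, mul_mem ((Subgroup.mem_normalizer_iff.mp hmN w).mp hw) (Q'.inv_mem hw)⟩
      rw [show m * w * m⁻¹ * w⁻¹ = m * (w * m⁻¹ * w⁻¹) by group]
      exact mul_mem hm ((inferInstance : N'.Normal).conj_mem _ (N'.inv_mem hm) w)
    rw [hdisj, Subgroup.mem_bot, mul_inv_eq_one, mul_inv_eq_iff_eq_mul] at h1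
    exact h1.symm
  have hCU : CQ Q ≤ U := by
    intro c hc
    refine hself (Subgroup.mem_centralizer_iff.mpr fun w hw => ?_)
    obtain ⟨u, rfl⟩ := QuotientGroup.mk_surjective w
    have hu : u ∈ U := hw
    have hut : (⟨u, hu⟩ : U) ∈ N' ⊔ Q' := htop ▸ Subgroup.mem_top _
    obtain ⟨m, hm, q, hq, hmq⟩ := Subgroup.mem_sup_of_normal_left.mp hut
    have hue : (m : G) * (q : G) = u := congrArg Subtype.val hmq
    have hmk : ((u : G) : G ⧸ N) = ((q : G) : G ⧸ N) := by
      rw [← hue, QuotientGroup.mk_mul, (QuotientGroup.eq_one_iff _).mpr (Subgroup.mem_subgroupOf.mp hm),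
        one_mul]
    rw [hmk]
    show ((q : G) : G ⧸ N) * (c : G ⧸ N) = (c : G ⧸ N) * ((q : G) : G ⧸ N)
    rw [← QuotientGroup.mk_mul, ← QuotientGroup.mk_mul]
    exact congrArg _ (Subgroup.mem_centralizer_iff.mp hc (q : G) (Subgroup.mem_map_of_mem _ hq))
  have hge := defect_ge_of_cq_le hM hbUb hstU hQU (by rw [hQQ]; exact hQ') hCU
    (by rw [hQQ]; exact hNn) hB hcovB
  -- full defect
  have hUc : Nat.card U = Nat.card N * Nat.card Q' := by
    have h := CfsgLib.PGroup.card_sup_mul_card_inf Q' N'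
    rw [sup_comm, inf_comm, htop, hdisj, Subgroup.card_top, Subgroup.card_bot, mul_one, hN'c] at h
    rw [h, mul_comm]
  have hvU : (Nat.card U).factorization p = blockDefect p bU := by
    rw [hUc, Nat.factorization_mul Nat.card_pos.ne' Nat.card_pos.ne', Finsupp.add_apply,
      Nat.factorization_eq_zero_of_not_dvd hNp, zero_add, defectGroup_card hM hbUb hQ',
      hM.1.factorization_pow, Finsupp.single_eq_same]
  have hfull : (Nat.card G).factorization p ≤ blockDefect p B := by
    rw [← U.index_mul_card, Nat.factorization_mul Subgroup.index_ne_zero_of_finite Nat.card_pos.ne',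
      Finsupp.add_apply, hvU]
    omega
  have hPc : Nat.card P = p ^ (Nat.card G).factorization p := by
    rw [defectGroup_card hM hB hP]
    congr 1
    have : blockDefect p B ≤ (Nat.card G).factorization p := Nat.sub_le _ _
    omega
  let S : Sylow p G := Sylow.ofCard P hPc
  -- the centre of `P` lies in `U`
  have hWP : W ≤ P.map (QuotientGroup.mk' N) := by
    have h1 := CfsgLib.Coprime.pCore_le_sylow (G := G ⧸ N)
      (S.mapSurjective (QuotientGroup.mk'_surjective N))
    simpa [Sylow.coe_mapSurjective, S] using h1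
  set Z := (Subgroup.center P).map P.subtype with hZ
  have hZU : ∀ z ∈ Z, (z : G ⧸ N) ∈ W ∧ ∀ w ∈ W, Commute (z : G ⧸ N) w := by
    rintro _ ⟨z, hz, rfl⟩
    have hcomm : ∀ w ∈ W, Commute ((z : G) : G ⧸ N) w := by
      intro w hw
      obtain ⟨v, hv, rfl⟩ := hWP hw
      exact congrArg (QuotientGroup.mk' N) (congrArg Subtype.val (Subgroup.mem_center_iff.mp hz ⟨v, hv⟩)).symm
    exact ⟨hself (Subgroup.mem_centralizer_iff.mpr fun w hw => (hcomm w hw).symm), hcomm⟩
  set Z₀ := (Subgroup.center W).map W.subtype with hZ₀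
  set A := Z₀.comap (QuotientGroup.mk' N) with hA
  have hNA : N ≤ A := fun n hn => by
    show QuotientGroup.mk' N n ∈ Z₀
    rw [QuotientGroup.mk'_apply, (QuotientGroup.eq_one_iff n).mpr hn]
    exact Z₀.one_mem
  have hAab : ∀ a ∈ A, ∀ b ∈ A, a * b * a⁻¹ * b⁻¹ ∈ N := by
    intro a ha b hb
    rw [← QuotientGroup.eq_one_iff]
    obtain ⟨x, hx, hxa⟩ := (ha : QuotientGroup.mk' N a ∈ Z₀)
    obtain ⟨y, -, hyb⟩ := (hb : QuotientGroup.mk' N b ∈ Z₀)
    have h : (x : G ⧸ N) * y = y * x := (congrArg Subtype.val (Subgroup.mem_center_iff.mp hx y)).symm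
    simp only [Subgroup.coe_subtype] at hxa hyb
    rw [QuotientGroup.mk'_apply] at hxa hyb
    rw [QuotientGroup.mk_mul, QuotientGroup.mk_mul, QuotientGroup.mk_mul, QuotientGroup.mk_inv,
      QuotientGroup.mk_inv, ← hxa, ← hyb, h, mul_inv_cancel_right, mul_inv_cancel]
  have hAN : ∃ j : ℕ, (N.subgroupOf A).index = p ^ j := by
    have h1 : A.map (QuotientGroup.mk' N) = Z₀ :=
      Subgroup.map_comap_eq_self_of_surjective (QuotientGroup.mk'_surjective N) _
    have h2 : (N.subgroupOf A).index = Nat.card Z₀ := by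
      rw [← Subgroup.relIndex, ← Subgroup.relIndex_bot_left Z₀, ← h1, ← Subgroup.relIndex_comap,
        MonoidHom.comap_bot, QuotientGroup.ker_mk']
    rw [h2]
    exact IsPGroup.iff_card.mp (hWp.to_le (Subgroup.map_subtype_le _))
  have hZA : Z ≤ A := fun z hz => by
    obtain ⟨hzW, hzc⟩ := hZU z hz
    exact ⟨⟨_, hzW⟩, Subgroup.mem_center_iff.mpr fun w => Subtype.ext (hzc w w.2).eq.symm, rfl⟩
  have : A.Normal := inferInstance
  have hdeg := degVal_le_index_of_invariant hNA hNp hAN hAab hinv χ hχθ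
  refine le_trans (Nat.sub_le _ _) (le_trans hdeg ?_)
  -- the index
  have hZc : Nat.card Z = Nat.card (Subgroup.center P) :=
    Subgroup.card_map_of_injective P.subtype_injective
  have h1 := congrArg (fun n : ℕ => n.factorization p) (A.index_mul_card)
  have h2 := congrArg (fun n : ℕ => n.factorization p) ((Subgroup.center P).index_mul_card)
  simp only [Nat.factorization_mul Subgroup.index_ne_zero_of_finite Nat.card_pos.ne',
    Finsupp.add_apply] at h1 h2
  have h3 : (Nat.card (Subgroup.center P)).factorization p ≤ (Nat.card A).factorization p :=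
    (Nat.factorization_le_iff_dvd Nat.card_pos.ne' Nat.card_pos.ne').mpr
      (hZc ▸ Subgroup.card_dvd_of_le hZA) p
  have h4 : (Nat.card P).factorization p = (Nat.card G).factorization p := by
    rw [hPc, hM.1.factorization_pow, Finsupp.single_eq_same]
  omega

/-- The height is at most the exponent of `p` in the index of the centre of the defect group. -/
theorem height_le_center_index : ∀ (n : ℕ) (G : Type u) [Group G] [Fintype G] [DecidableEq G]
    [Fintype (IrrCharacter G)], Nat.card G ≤ n → IsPModular p M → IsPSolvable p G →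
    ∀ B : Set (IrrCharacter G), IsPBlock M B → ∀ P : Subgroup G, IsDefectGroup p M B P →
      ∀ χ ∈ B, blockHeight p B (χ : G → ℂ) ≤ (Subgroup.center P).index.factorization p := by
  intro n
  induction n with
  | zero => intro G _ _ _ _ hn; exact absurd hn (by have := Nat.card_pos (α := G); omega)
  | succ n ih =>
    intro G _ _ _ _ hn hM hsolv B hB P hP χ hχ
    classical
    have hp : Fact p.Prime := ⟨hM.1⟩
    set N := pPrimeCore p G with hN
    have : N.Normal := Subgroup.sSup_normal _ fun _ h => h.1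
    have hNp : ¬ p ∣ Nat.card N := CfsgLib.Coprime.pPrimeCore_not_dvd hM.1
    obtain ⟨θ, hθ⟩ := exists_constituent (N := N) χ
    have := Fintype.ofFinite (IrrCharacter N)
    set b : Set (IrrCharacter N) := {θ} with hbd
    have hb : IsPBlock M b := Glauberman.singleton_isPBlock hM hNp θ
    let T : Subgroup G :=
      { carrier := {g | cjN g θ = θ}
        one_mem' := cjN_one θ
        mul_mem' := fun {g h} hg hh => by
          show cjN (g * h) θ = θ
          rw [← cjN_cjN, hh, hg]
        inv_mem' := fun {g} hg => by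
          show cjN g⁻¹ θ = θ
          conv_lhs => rw [← hg, cjN_cjN, inv_mul_cancel, cjN_one] }
    have hT : ∀ g : G, g ∈ T ↔ cjN g '' b = b := fun g => by
      rw [hbd, Set.image_singleton, Set.singleton_eq_singleton_iff]
      exact Iff.rfl
    by_cases htop : T = ⊤
    · exact height_le_of_invariant hM hsolv hN (fun g => (htop ▸ Subgroup.mem_top g : g ∈ T)) hB hχ hθ hP
    have hNT : N ≤ T := by
      intro m hm
      show cjN m θ = θ
      refine Subtype.ext (funext fun x => ?_)
      rw [cjN_apply]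
      have h := Char.isClassFunction_irr θ x ⟨m⁻¹, inv_mem hm⟩
      refine Eq.trans (congrArg _ (Subtype.ext ?_)) h
      simp
    have hlt : Nat.card T < Nat.card G := by
      refine lt_of_le_of_ne (Nat.card_le_card_of_injective _ Subtype.val_injective) fun h => htop ?_
      exact Subgroup.eq_top_of_card_eq T h
    have := Fintype.ofFinite (IrrCharacter T)
    have := Fintype.ofFinite (N.subgroupOf T)
    obtain ⟨B', hB', hov, hind⟩ := fongReynolds_surjective hNT hM hb hT hB ⟨χ, hχ, θ, rfl, hθ⟩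
    obtain ⟨C, hC, -, hirr, hmem⟩ := fongReynolds_block hNT hM hb hT hB' hov
    obtain rfl := inducedBlock_unique hC hind
    obtain ⟨ψ, hψ, hψe⟩ := (hmem χ).mp hχ
    set k := T.index.factorization p
    have hmin : minDeg p C = k + minDeg p B' := by
      obtain ⟨ψ₁, hψ₁, he₁⟩ := exists_minDeg (p := p) (isPBlock_nonempty hB')
      obtain ⟨χ₁, hχ₁, hf₁⟩ := exists_minDeg (p := p) (isPBlock_nonempty hB)
      refine le_antisymm ?_ ?_
      · rw [← he₁, ← fongReynolds_degree hM (ψ := ψ₁) (χ := ⟨_, (hirr ψ₁ hψ₁).2⟩) rfl]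
        exact minDeg_le ((hmem _).mpr ⟨ψ₁, hψ₁, rfl⟩)
      · obtain ⟨ψ₂, hψ₂, he₂⟩ := (hmem χ₁).mp hχ₁
        rw [← hf₁, fongReynolds_degree hM he₂]
        exact Nat.add_le_add_left (minDeg_le hψ₂) k
    have hh : blockHeight p C (χ : G → ℂ) = blockHeight p B' (ψ : T → ℂ) := by
      rw [blockHeight_eq, blockHeight_eq, hmin, fongReynolds_degree hM hψe]
      omega
    obtain ⟨D, hD⟩ := exists_defectGroup hM hB'
    obtain ⟨E, hE, hDE⟩ := exists_defectGroup_ge hM hC hD
    have hdef : blockDefect p C = blockDefect p B' := by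
      have hTG : (Nat.card G).factorization p = k + (Nat.card T).factorization p := by
        rw [← T.index_mul_card, Nat.factorization_mul Subgroup.index_ne_zero_of_finite Nat.card_pos.ne',
          Finsupp.add_apply]
      show (Nat.card G).factorization p - minDeg p C = (Nat.card T).factorization p - minDeg p B'
      omega
    have hDE' : D.map T.subtype = E := Subgroup.eq_of_le_of_card_ge hDE (by
      rw [Subgroup.card_map_of_injective T.subtype_injective, defectGroup_card hM hB hE,
        defectGroup_card hM hB' hD, hdef])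
    obtain ⟨c, hc⟩ := defectGroup_conj hM hB hE hP
    have hidx : (Subgroup.center P).index = (Subgroup.center D).index := by
      refine (index_center_congr ?_).symm
      exact (Subgroup.equivMapOfInjective D T.subtype T.subtype_injective).trans
        ((MulEquiv.subgroupCongr hDE').trans ((Subgroup.equivMapOfInjective E _
          (MulAut.conj c).injective).trans (MulEquiv.subgroupCongr hc)))
    rw [hh, hidx]
    exact ih T (by omega) hM (CfsgLib.CoprimeOrbit.isPSolvable_subgroup hM.1 hsolv T) B' hB' D hD ψ hψ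

end CfsgLib.Block
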