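import Cfsg.Agent.Lib.Block.CentralizerInduced
import Cfsg.Agent.Lib.Block.ChainCount
import Cfsg.Agent.Lib.Block.FreeInertial.Count
import Cfsg.Agent.Lib.Block.FirstMain
import Cfsg.Agent.Lib.Block.MaxPairs
import Cfsg.Agent.Lib.Block.PSolvableHeight
import Cfsg.Agent.Lib.Block.Principal
import Cfsg.Agent.Lib.Block.RankOne
import Cfsg.Prelude.Def_Transfer
import Mathlib.GroupTheory.FixedPointFree

/-!
# Blocks with one more character than regular rank

If `k(B) = l(B) + 1` then all non-trivial elements of a defect group `D` are conjugate and every one of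
them has a single subsection of rank one. For the principal block the centralizers of these elements
then have normal `p`-complements, and an inverting element of the normalizer acts without fixed points
on `D`; for `p`-solvable groups Fong–Reynolds reduces to an invariant character of the `p'`-core, and
then `D` is a Sylow subgroup mapping onto the `p`-core of the quotient. In both cases `D` is elementary
abelian.
-/

open Finset MonoidAlgebra
open scoped ComplexConjugate

set_option linter.unusedSectionVars false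

namespace CfsgLib.Block.OneMore

open Cfsg CfsgLib.Block
open scoped Pair

universe u

variable {p : ℕ} {M : Ideal AlgInt} [M.IsMaximal]

section elementary

variable {G : Type u} [Group G] [Finite G]

/-- A `p`-group all whose non-trivial elements are conjugate in the whole group has exponent `p`. -/
theorem pow_eq_one_of_conj (hp : p.Prime) {D : Subgroup G} (hD : IsPGroup p D)
    (hc : ∀ x ∈ D, ∀ y ∈ D, x ≠ 1 → y ≠ 1 → IsConj x y) : ∀ a ∈ D, a ^ p = 1 := by
  have : Fact p.Prime := ⟨hp⟩
  intro a ha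
  by_cases ha1 : a = 1
  · rw [ha1, one_pow]
  obtain ⟨k, hk⟩ := IsPGroup.iff_orderOf.mp hD ⟨a, ha⟩
  rw [Subgroup.orderOf_mk] at hk
  obtain _ | k := k
  · exact absurd (orderOf_eq_one_iff.mp (by rw [hk, pow_zero])) ha1
  have hb1 : a ^ p ^ k ≠ 1 := fun h => by
    have h' := Nat.le_of_dvd (pow_pos hp.pos k) (orderOf_dvd_of_pow_eq_one h)
    rw [hk] at h'
    exact absurd h' (not_le.mpr (Nat.pow_lt_pow_right hp.one_lt (Nat.lt_succ_self k)))
  obtain ⟨c, hc⟩ := isConj_iff.mp (hc _ (D.pow_mem ha (p ^ k)) a ha hb1 ha1)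
  rw [← hc, conj_pow, ← pow_mul, ← pow_succ, ← hk, pow_orderOf_eq_one, mul_one, mul_inv_cancel]

/-- A regular element centralizes a `p`-subgroup it normalizes modulo a centralizer with normal
`p`-complement. -/
theorem commute_of_complement [Fintype G] [DecidableEq G] [Fact p.Prime] {P : Subgroup G} (hP : IsPGroup p P)
    {C : Subgroup G} (hC : Cfsg.HasNormalPComplement p C) {a u : G} (ha : a ∈ C) (hu : u ∈ C)
    (hareg : ¬ p ∣ orderOf a) (hc : a * u * a⁻¹ * u⁻¹ ∈ P) : a * u * a⁻¹ = u := by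
  classical
  have := Fintype.ofFinite (IrrCharacter C)
  have hC' : ∀ g : C, g ∈ Cfsg.pResidual p C ↔ ¬ p ∣ orderOf g := fun g => mem_pResidual_iff_regular hC
  have : (Cfsg.pResidual p C).Normal := CfsgLib.Fusion.pResidual_normal
  have h1 : (⟨a, ha⟩ : C) * ⟨u, hu⟩ * (⟨a, ha⟩ : C)⁻¹ * (⟨u, hu⟩ : C)⁻¹ ∈ Cfsg.pResidual p C := by
    have haK : (⟨a, ha⟩ : C) ∈ Cfsg.pResidual p C := (hC' _).mpr (by rwa [Subgroup.orderOf_mk])
    rw [show ∀ x y : C, x * y * x⁻¹ * y⁻¹ = x * (y * x⁻¹ * y⁻¹) from fun x y => by group]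
    exact mul_mem haK (this.conj_mem _ (inv_mem haK) _)
  have h2 := (hC' _).mp h1
  obtain ⟨k, hk⟩ := IsPGroup.iff_orderOf.mp hP ⟨_, hc⟩
  rw [Subgroup.orderOf_mk] at hk
  rw [← Subgroup.orderOf_coe] at h2
  simp only [Subgroup.coe_mul, InvMemClass.coe_inv, hk] at h2
  obtain _ | k := k
  · rw [pow_zero, orderOf_eq_one_iff, mul_inv_eq_one] at hk
    exact hk
  · exact absurd (dvd_pow_self p k.succ_ne_zero) h2

end elementary

variable {G : Type u} [Group G] [Fintype G] [DecidableEq G] [Fintype (IrrCharacter G)]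

/-- Each element of a defect group carries a subsection. -/
theorem exists_block_centralizer (hM : IsPModular p M) {B : Set (IrrCharacter G)} (hB : IsPBlock M B)
    {D : Subgroup G} (hD : IsDefectGroup p M B D) {x : G} (hx : x ∈ D) :
    ∃ b, IsInducedBlock M (Subgroup.centralizer ({x} : Set G)) b B := by
  classical
  obtain ⟨D₀, e, he⟩ := exists_maximalPair hM hB
  obtain ⟨c, rfl⟩ := defectGroup_conj hM hB (isDefectGroup_of_maximal hM he) hD
  have hpair := IsBrauerPairOf.conj hM c ((isMaximalBrauerPair_iff hM).mp he).1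
  obtain ⟨f, -, hle⟩ := exists_subpairLE hM hpair.1 (Subgroup.zpowers x) ((Subgroup.zpowers_le).mpr hx)
  have hf := (SubpairLE.isBrauerPairOf_iff hM hle).mp hpair
  have hCP : CQ (Subgroup.zpowers x) = Subgroup.centralizer ({x} : Set G) := by
    show Subgroup.centralizer _ = _
    rw [Subgroup.zpowers_eq_closure, Subgroup.centralizer_closure]
  have h : ∃ b, IsInducedBlock M (CQ (Subgroup.zpowers x)) b B :=
    ⟨f, isInducedBlock_of_pair hM le_rfl hf.1.2 (fun ξ hξ η hη w => by
      rw [omG_eq ξ _ w (fun k => (coeff_emb_coe _ k).symm)]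
      rw [omegaBar_eq_of_mem hf.1.2 hξ hη]) hf⟩
  rw [hCP] at h
  exact h

theorem one_le_lRank (hM : IsPModular p M) {B : Set (IrrCharacter G)} (hB : IsPBlock M B)
    {D : Subgroup G} (hD : IsDefectGroup p M B D) {x : G} (hx : x ∈ D) :
    1 ≤ ChainCount.lRank p M B (Subgroup.centralizer ({x} : Set G)) := by
  classical
  obtain ⟨b, hb⟩ := exists_block_centralizer hM hB hD hx
  have := Fintype.ofFinite (IrrCharacter (Subgroup.centralizer ({x} : Set G)))
  have h1 : 1 ≤ blockRank p b := FreeInertial.one_le_blockRank hM.1.ne_one (isPBlock_nonempty hb.1)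
  rw [ChainCount.lRank, finsum_mem_eq_finite_toFinset_sum _ (Set.toFinite _)]
  refine le_trans ?_ (Finset.single_le_sum (fun i _ => Int.natCast_nonneg _) ((Set.Finite.mem_toFinset _).mpr hb))
  exact_mod_cast h1

/-- Sum of centralizer orders over a class. -/
theorem sum_card_centralizer (x : G) [DecidablePred (IsConj x)] :
    ∑ y ∈ Finset.univ.filter (IsConj x), (Nat.card (Subgroup.centralizer ({y} : Set G)) : ℤ) =
      Nat.card G := by
  classical
  have h : ∀ y, IsConj x y → (Subgroup.centralizer ({y} : Set G)).index =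
      (Finset.univ.filter (IsConj x)).card := by
    intro y hy
    rw [← Char.card_isConj, Nat.card_eq_fintype_card, Fintype.card_subtype]
    exact congrArg Finset.card (Finset.filter_congr fun z _ => ⟨fun h => hy.trans h, fun h => hy.symm.trans h⟩)
  rw [Finset.sum_congr rfl (g := fun _ => (Nat.card (Subgroup.centralizer ({x} : Set G)) : ℤ)) fun y hy => ?_,
    Finset.sum_const, nsmul_eq_mul, ← Nat.cast_mul, ← h x (IsConj.refl x), Subgroup.index_mul_card]
  have h1 := Subgroup.index_mul_card (Subgroup.centralizer ({y} : Set G))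
  have h2 := Subgroup.index_mul_card (Subgroup.centralizer ({x} : Set G))
  rw [h y (Finset.mem_filter.mp hy).2] at h1
  rw [h x (IsConj.refl x), ← h1] at h2
  exact_mod_cast (Nat.eq_of_mul_eq_mul_left (Finset.card_pos.mpr
    ⟨x, Finset.mem_filter.mpr ⟨Finset.mem_univ _, IsConj.refl x⟩⟩) h2).symm

/-- All non-trivial elements of a defect group are conjugate, with one subsection of rank one. -/
theorem conj_of_card_eq (hM : IsPModular p M) {B : Set (IrrCharacter G)} (hB : IsPBlock M B)
    (hk : Nat.card B = blockRank p B + 1) {D : Subgroup G} (hD : IsDefectGroup p M B D) {x : G}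
    (hx : x ∈ D) (hx1 : x ≠ 1) :
    (∀ y ∈ D, y ≠ 1 → IsConj x y) ∧
      ChainCount.lRank p M B (Subgroup.centralizer ({x} : Set G)) = 1 := by
  classical
  have : Fact p.Prime := ⟨hM.1⟩
  have hsum := ChainCount.card_mul_sub_eq_sum (p := p) hM hB
  rw [hk] at hsum
  simp only [Nat.cast_add, Nat.cast_one, add_sub_cancel_left, mul_one] at hsum
  set I := Finset.univ.filter (fun x : G => (∃ k : ℕ, orderOf x = p ^ k) ∧ x ≠ 1) with hI
  set f : G → ℤ := fun y => (Nat.card (Subgroup.centralizer ({y} : Set G)) : ℤ) *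
    ChainCount.lRank p M B (Subgroup.centralizer ({y} : Set G)) with hf
  have hnn : ∀ y, 0 ≤ f y := fun y => mul_nonneg (Int.natCast_nonneg _) (by
    rw [ChainCount.lRank, finsum_mem_eq_finite_toFinset_sum _ (Set.toFinite _)]
    exact Finset.sum_nonneg fun i _ => Int.natCast_nonneg _)
  have hcls : ∀ u ∈ D, u ≠ 1 → Finset.univ.filter (IsConj u) ⊆ I ∧
      ∀ y ∈ Finset.univ.filter (IsConj u),
        1 ≤ ChainCount.lRank p M B (Subgroup.centralizer ({y} : Set G)) := by
    intro u hu hu1
    obtain ⟨k, hk'⟩ := IsPGroup.iff_orderOf.mp (isPGroup_defectGroup hM hB hD) ⟨u, hu⟩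
    rw [Subgroup.orderOf_mk] at hk'
    refine ⟨fun y hy => ?_, fun y hy => ?_⟩ <;> obtain ⟨c, rfl⟩ := isConj_iff.mp (Finset.mem_filter.mp hy).2
    · refine Finset.mem_filter.mpr ⟨Finset.mem_univ _, ⟨k, by rw [orderOf_conj_eq, hk']⟩, fun h => hu1 ?_⟩
      exact (conj_eq_one_iff).mp h
    · exact one_le_lRank hM hB (isDefectGroup_conj hM hB hD c) ⟨u, hu, rfl⟩
  have hge : ∀ u ∈ D, u ≠ 1 → (Nat.card G : ℤ) ≤ ∑ y ∈ Finset.univ.filter (IsConj u), f y := by
    intro u hu hu1
    rw [← sum_card_centralizer u]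
    exact Finset.sum_le_sum fun y hy => le_mul_of_one_le_right (Int.natCast_nonneg _) ((hcls u hu hu1).2 y hy)
  have hG : (0 : ℤ) < Nat.card G := by exact_mod_cast Nat.card_pos
  refine ⟨fun y hy hy1 => ?_, ?_⟩
  · by_contra hne
    have hdis : Disjoint (Finset.univ.filter (IsConj x)) (Finset.univ.filter (IsConj y)) :=
      Finset.disjoint_left.mpr fun z h1 h2 =>
        hne ((Finset.mem_filter.mp h1).2.trans (Finset.mem_filter.mp h2).2.symm)
    have h1 := Finset.sum_le_sum_of_subset_of_nonneg (f := f)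
      (Finset.union_subset (hcls x hx hx1).1 (hcls y hy hy1).1) fun i _ _ => hnn i
    rw [Finset.sum_union hdis] at h1
    have h2 := hge x hx hx1
    have h3 := hge y hy hy1
    linarith [hsum]
  · have h1 := Finset.sum_le_sum_of_subset_of_nonneg (f := f) (hcls x hx hx1).1 fun i _ _ => hnn i
    have h0 : ∑ y ∈ Finset.univ.filter (IsConj x),
        (f y - (Nat.card (Subgroup.centralizer ({y} : Set G)) : ℤ)) = 0 := by
      rw [Finset.sum_sub_distrib, sum_card_centralizer]
      have h2 := hge x hx hx1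
      linarith [hsum]
    have hx' := (Finset.sum_eq_zero_iff_of_nonneg fun y hy => sub_nonneg.mpr
      (le_mul_of_one_le_right (Int.natCast_nonneg _) ((hcls x hx hx1).2 y hy))).mp h0 x
      (Finset.mem_filter.mpr ⟨Finset.mem_univ _, IsConj.refl x⟩)
    have hc : (Nat.card (Subgroup.centralizer ({x} : Set G)) : ℤ) ≠ 0 := by
      exact_mod_cast Nat.card_pos.ne'
    rw [sub_eq_zero] at hx'
    exact mul_left_cancel₀ hc (hx'.trans (mul_one _).symm)

/-- The principal block case. -/
theorem elementary_principal (hM : IsPModular p M)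
    (hk : Nat.card (principalBlock M G) = blockRank p (principalBlock M G) + 1) {D : Subgroup G}
    (hD : IsDefectGroup p M (principalBlock M G) D) : Cfsg.IsElementaryAbelian p D := by
  classical
  have : Fact p.Prime := ⟨hM.1⟩
  have hB : IsPBlock M (principalBlock M G) := isPBlock_principalBlock
  obtain ⟨S, rfl⟩ := (isDefectGroup_principal_iff hM D).mp hD
  have hconj : ∀ x ∈ (S : Subgroup G), ∀ y ∈ (S : Subgroup G), x ≠ 1 → y ≠ 1 → IsConj x y :=
    fun x hx y hy hx1 hy1 => (conj_of_card_eq hM hB hk hD hx hx1).1 y hy hy1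
  have hexp := pow_eq_one_of_conj hM.1 S.isPGroup' hconj
  refine ⟨⟨⟨fun a b => Subtype.ext ?_⟩⟩, hexp⟩
  show (a : G) * b = b * a
  rcases hM.1.eq_two_or_odd' with rfl | hodd
  · have h2 : ∀ u ∈ (S : Subgroup G), u⁻¹ = u := fun u hu => by
      rw [inv_eq_iff_mul_eq_one, ← sq]
      exact hexp u hu
    calc (a : G) * b = ((a : G) * b)⁻¹ := (h2 _ (mul_mem a.2 b.2)).symm
      _ = b * a := by rw [mul_inv_rev, h2 _ a.2, h2 _ b.2]
  rcases eq_or_ne (S : Subgroup G) ⊥ with hbot | hne
  · have := a.2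
    simp only [hbot, Subgroup.mem_bot] at this
    rw [this, one_mul, mul_one]
  have hcompl : ∀ x ∈ (S : Subgroup G), x ≠ 1 →
      Cfsg.HasNormalPComplement p (Subgroup.centralizer ({x} : Set G)) := by
    intro x hx hx1
    have hxp : ∃ k : ℕ, orderOf x = p ^ k := by
      obtain ⟨k, hk'⟩ := IsPGroup.iff_orderOf.mp S.isPGroup' ⟨x, hx⟩
      exact ⟨k, by rwa [Subgroup.orderOf_mk] at hk'⟩
    have := Fintype.ofFinite (IrrCharacter (Subgroup.centralizer ({x} : Set G)))
    have hset : {b : Set (IrrCharacter (Subgroup.centralizer ({x} : Set G))) |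
        IsInducedBlock M (Subgroup.centralizer ({x} : Set G)) b (principalBlock M G)} =
        {principalBlock M (Subgroup.centralizer ({x} : Set G))} := by
      ext b
      constructor
      · exact fun hb => (isInducedBlock_principal_iff hM hb).1 rfl
      · rintro rfl
        obtain ⟨B, hB'⟩ := exists_induced_centralizer hM hxp
          (fun t => Subgroup.mem_centralizer_singleton_iff) (isPBlock_principalBlock (M := M))
        rwa [(isInducedBlock_principal_iff hM hB').mpr rfl] at hB'
    have h := (conj_of_card_eq hM hB hk hD hx hx1).2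
    rw [ChainCount.lRank, hset, finsum_mem_singleton] at h
    exact (blockRank_principal_eq_one_iff hM).mp (by exact_mod_cast h)
  -- a central element of order `p` and an element inverting it
  have : Nontrivial (S : Subgroup G) := (Subgroup.nontrivial_iff_ne_bot _).mpr hne
  have hzn : Nontrivial (Subgroup.center (S : Subgroup G)) := S.isPGroup'.center_nontrivial
  obtain ⟨z', hz'⟩ := exists_ne (1 : Subgroup.center (S : Subgroup G))
  set z : G := ((z' : (S : Subgroup G)) : G) with hzd
  have hz1 : z ≠ 1 := fun h => hz' (Subtype.ext (Subtype.ext h))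
  have hzS : z ∈ (S : Subgroup G) := (z' : (S : Subgroup G)).2
  have hzc : ∀ u ∈ (S : Subgroup G), u * z = z * u := fun u hu =>
    congrArg Subtype.val (Subgroup.mem_center_iff.mp z'.2 ⟨u, hu⟩)
  have hz2 : z⁻¹ ≠ z := fun h => hz1 <| by
    have h2 : z ^ 2 = 1 := by rw [sq]; nth_rw 1 [← h]; exact inv_mul_cancel z
    have h3 := pow_gcd_eq_one.mpr ⟨h2, hexp z hzS⟩
    rwa [(Nat.coprime_two_left.mpr hodd).gcd_eq_one, pow_one] at h3
  obtain ⟨c, hc⟩ := isConj_iff.mp (hconj z hzS z⁻¹ (inv_mem hzS) hz1 (inv_ne_one.mpr hz1))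
  have hzC : z ∈ Subgroup.centralizer ((S : Subgroup G) : Set G) :=
    Subgroup.mem_centralizer_iff.mpr fun u hu => hzc u hu
  obtain ⟨n', hn', hnz'⟩ := Sylow.conj_eq_normalizer_conj_of_mem_centralizer S z c⁻¹ hzC
    (by rw [inv_inv, hc]; exact inv_mem hzC)
  rw [inv_inv, hc] at hnz'
  -- replace it by its `2`-part
  obtain ⟨i, m, hm, hord⟩ := Nat.exists_eq_two_pow_mul_odd (orderOf_pos n'⁻¹).ne'
  set n := n'⁻¹ with hnd
  have hn : n ∈ Subgroup.normalizer ((S : Subgroup G) : Set G) := inv_mem hn'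
  have hnz : n * z * n⁻¹ = z⁻¹ := by rw [hnd, inv_inv, ← hnz']
  have hit : ∀ j : ℕ, n ^ j * z * (n ^ j)⁻¹ = if Even j then z else z⁻¹ := by
    intro j
    induction j with
    | zero => simp
    | succ j ih =>
      rw [pow_succ', mul_inv_rev, show n * n ^ j * z * ((n ^ j)⁻¹ * n⁻¹) =
        n * (n ^ j * z * (n ^ j)⁻¹) * n⁻¹ by group, ih]
      by_cases hj : Even j
      · rw [if_pos hj, if_neg (Nat.not_even_iff_odd.mpr hj.add_one), hnz]
      · rw [if_neg hj, if_pos (Nat.not_even_iff_odd.mp hj).add_one, ← conj_inv, hnz, inv_inv]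
  set t := n ^ m with htd
  have htz : t * z * t⁻¹ = z⁻¹ := by rw [htd, hit, if_neg (Nat.not_even_iff_odd.mpr hm)]
  have htreg : ∀ j : ℕ, ¬ p ∣ orderOf (t ^ j) := by
    intro j hdvd
    have h1 : orderOf (t ^ j) ∣ 2 ^ i := orderOf_dvd_of_pow_eq_one <| by
      rw [htd, ← pow_mul, ← pow_mul, show m * (j * 2 ^ i) = orderOf n * j by rw [hord]; ring, pow_mul,
        pow_orderOf_eq_one, one_pow]
    have h2 := (Nat.prime_dvd_prime_iff_eq hM.1 Nat.prime_two).mp (hM.1.dvd_of_dvd_pow (hdvd.trans h1))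
    exact absurd hodd (by rw [h2]; decide)
  have htN : t ∈ Subgroup.normalizer ((S : Subgroup G) : Set G) := pow_mem hn m
  have htS : ∀ u ∈ (S : Subgroup G), t * u * t⁻¹ ∈ (S : Subgroup G) := fun u hu =>
    (Subgroup.mem_normalizer_iff.mp htN u).mp hu
  have ht2 : ∀ u ∈ (S : Subgroup G), t * (t * u * t⁻¹) * t⁻¹ = u := by
    intro u hu
    have h2z : t ^ 2 * z * (t ^ 2)⁻¹ = z := by
      rw [sq, mul_inv_rev, show t * t * z * (t⁻¹ * t⁻¹) = t * (t * z * t⁻¹) * t⁻¹ by group, htz,
        ← conj_inv, htz, inv_inv]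
    have h := commute_of_complement S.isPGroup' (hcompl z hzS hz1)
      (Subgroup.mem_centralizer_singleton_iff.mpr (mul_inv_eq_iff_eq_mul.mp h2z))
      (Subgroup.mem_centralizer_singleton_iff.mpr (hzc u hu)) (htreg 2)
      (mul_mem ((Subgroup.mem_normalizer_iff.mp (pow_mem htN 2) u).mp hu) (inv_mem hu))
    rw [show t * (t * u * t⁻¹) * t⁻¹ = t ^ 2 * u * (t ^ 2)⁻¹ by rw [sq, mul_inv_rev]; group, h]
  let φ : (S : Subgroup G) →* (S : Subgroup G) :=
    { toFun := fun u => ⟨t * u * t⁻¹, htS u u.2⟩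
      map_one' := Subtype.ext (by simp)
      map_mul' := fun u v => Subtype.ext (by simp [mul_assoc]) }
  have hfree : MonoidHom.FixedPointFree φ := by
    intro y hy
    by_contra hy1
    have hy' : t * (y : G) * t⁻¹ = y := congrArg Subtype.val hy
    have hy1' : (y : G) ≠ 1 := fun h => hy1 (Subtype.ext h)
    have h := commute_of_complement S.isPGroup' (hcompl y y.2 hy1')
      (Subgroup.mem_centralizer_singleton_iff.mpr (mul_inv_eq_iff_eq_mul.mp hy'))
      (Subgroup.mem_centralizer_singleton_iff.mpr (hzc y y.2).symm)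
      (by simpa using htreg 1) (mul_mem (htS z hzS) (inv_mem hzS))
    exact hz2 (htz.symm.trans h)
  have hinv : Function.Involutive φ := fun u => Subtype.ext (ht2 u u.2)
  exact congrArg Subtype.val (hfree.commute_all_of_involutive hinv a b)

/-- With an invariant character of the `p'`-core the defect group is a Sylow subgroup. -/
theorem card_defect_of_invariant (hM : IsPModular p M) (hsolv : IsPSolvable p G)
    {N : Subgroup G} [N.Normal] [Fintype N] (hNd : N = pPrimeCore p G) {θ : IrrCharacter N}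
    (hinv : ∀ g : G, cjN g θ = θ) {B : Set (IrrCharacter G)} (hB : IsPBlock M B)
    {χ : IrrCharacter G} (hχ : χ ∈ B)
    (hχθ : classInner (fun n : N => (χ : G → ℂ) n) (θ : N → ℂ) ≠ 0)
    {P : Subgroup G} (hP : IsDefectGroup p M B P) :
    Nat.card P = p ^ (Nat.card G).factorization p := by
  classical
  have hp : Fact p.Prime := ⟨hM.1⟩
  have hNp : ¬ p ∣ Nat.card N := hNd ▸ CfsgLib.Coprime.pPrimeCore_not_dvd hM.1
  have hS : IsPSolvable p (G ⧸ N) := CfsgLib.PGroup.isPSolvable_quotient hM.1 hsolv N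
  have hself := centralizer_pCore_le_of_isPSolvable hS (by
    subst hNd; exact CfsgLib.Coprime.pPrimeCore_quotient_eq_bot hM.1)
  set W := pCore p (G ⧸ N) with hW
  have : W.Normal := CfsgLib.Coprime.pCore_normal' p
  have hWp : IsPGroup p W := CfsgLib.Coprime.pCore_isPGroup p
  set U := W.comap (QuotientGroup.mk' N) with hU
  have hNU : N ≤ U := fun n hn => by
    show QuotientGroup.mk' N n ∈ W
    rw [QuotientGroup.mk'_apply, (QuotientGroup.eq_one_iff n).mpr hn]
    exact W.one_mem
  obtain ⟨k, hk⟩ := IsPGroup.iff_card.mp hWp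
  have hUN : (N.subgroupOf U).index = p ^ k := by
    rw [← hk, ← Subgroup.relIndex]
    have h1 : (W.comap (QuotientGroup.mk' N)).map (QuotientGroup.mk' N) = W :=
      Subgroup.map_comap_eq_self_of_surjective (QuotientGroup.mk'_surjective N) _
    rw [← Subgroup.relIndex_bot_left W, ← h1, ← Subgroup.relIndex_comap, MonoidHom.comap_bot,
      QuotientGroup.ker_mk']
  have := Fintype.ofFinite (IrrCharacter U)
  -- a constituent on `U` over `θ`
  have hexp := Char.classFun_expand (f := fun a : U => (χ : G → ℂ) a)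
    fun a b => Char.isClassFunction_irr χ (a : G) (b : G)
  obtain ⟨η, hη1, hη2⟩ : ∃ η : IrrCharacter U,
      classInner (fun a : U => (χ : G → ℂ) a) (η : U → ℂ) ≠ 0 ∧
      classInner (fun n : N => (η : U → ℂ) ⟨n, hNU n.2⟩) (θ : N → ℂ) ≠ 0 := by
    by_contra hc
    push Not at hc
    refine hχθ ?_
    have h1 : (fun n : N => (χ : G → ℂ) n) = ∑ η : IrrCharacter U,
        classInner (fun a : U => (χ : G → ℂ) a) (η : U → ℂ) •
          fun n : N => (η : U → ℂ) ⟨n, hNU n.2⟩ := funext fun n => by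
      have h := congrFun hexp ⟨n, hNU n.2⟩
      simpa [Finset.sum_apply] using h
    rw [h1, Char.classInner_sum_left]
    refine Finset.sum_eq_zero fun η _ => ?_
    rw [Char.classInner_smul_left]
    by_cases h : classInner (fun a : U => (χ : G → ℂ) a) (η : U → ℂ) = 0
    · rw [h, zero_mul]
    · rw [hc η h, mul_zero]
  set N' := N.subgroupOf U with hN'
  let e : N' ≃* N := Subgroup.subgroupOfEquivOfLe hNU
  let θ' : IrrCharacter N' := irrEquiv e.symm θ
  have hN'c : Nat.card N' = Nat.card N := Nat.card_congr e.toEquiv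
  have := Fintype.ofFinite (IrrCharacter N')
  have := Fintype.ofFinite (U ⧸ N')
  have := Fintype.ofFinite (G ⧸ U)
  have hb0 : IsPBlock M ({θ'} : Set (IrrCharacter N')) := Glauberman.singleton_isPBlock hM (hN'c ▸ hNp) θ'
  have hst0 : ∀ v : U, cjN v '' ({θ'} : Set (IrrCharacter N')) = {θ'} := by
    intro v
    rw [Set.image_singleton]
    congr 1
    refine Subtype.ext (funext fun x => ?_)
    rw [cjN_apply]
    show (θ : N → ℂ) _ = (θ : N → ℂ) (e x)
    have h := congrFun (congrArg Subtype.val (hinv (v : G))) (e x)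
    rw [cjN_apply] at h
    refine Eq.trans (congrArg _ (Subtype.ext ?_)) h
    simp [e]
    rfl
  have hover : ∀ η' : IrrCharacter U,
      classInner (fun x : N' => (η' : U → ℂ) x) (θ' : N' → ℂ) =
        classInner (fun n : N => (η' : U → ℂ) ⟨n, hNU n.2⟩) (θ : N → ℂ) := by
    intro η'
    rw [classInner, classInner, hN'c]
    congr 1
    exact Fintype.sum_equiv e.toEquiv _ _ fun x => rfl
  set bU := blockOf M (η : U → ℂ) with hbU
  have hbUb : IsPBlock M bU := isPBlock_blockOf η
  have hcovU : Covers bU ({θ'} : Set (IrrCharacter N')) :=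
    ⟨η, self_mem_blockOf η, θ', rfl, by rw [hover]; exact hη2⟩
  have hstU : ∀ g : G, cjN g '' bU = bU := by
    intro g
    refine covers_unique_of_ppow hM ⟨k, hUN⟩ (isPBlock_cjN g hbUb) hbUb hb0 ?_ hcovU
    refine ⟨cjN g η, ⟨η, self_mem_blockOf η, rfl⟩, θ', rfl, ?_⟩
    rw [hover]
    refine fun h0 => hη2 (Eq.trans ?_ h0)
    simp only [classInner]
    congr 1
    refine Fintype.sum_equiv
      { toFun := fun n : N => (⟨g * n * g⁻¹, (inferInstance : N.Normal).conj_mem _ n.2 g⟩ : N)
        invFun := fun n : N => (⟨g⁻¹ * n * g, (inferInstance : N.Normal).conj_mem' _ n.2 g⟩ : N)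
        left_inv := fun n => Subtype.ext (by simp [mul_assoc])
        right_inv := fun n => Subtype.ext (by simp [mul_assoc]) } _ _ fun n => ?_
    have h := congrFun (congrArg Subtype.val (hinv g)) ⟨g * n * g⁻¹, (inferInstance : N.Normal).conj_mem _ n.2 g⟩
    rw [cjN_apply] at h
    simp only [Equiv.coe_fn_mk]
    rw [← h, cjN_apply]
    exact congrArg₂ (fun a c : ℂ => a * conj c)
      (congrArg (η : U → ℂ) (Subtype.ext (show (n : G) = g⁻¹ * (g * n * g⁻¹) * g by group)))
      (congrArg (θ : N → ℂ) (Subtype.ext (show (n : G) = g⁻¹ * (g * n * g⁻¹) * g by group)))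
  have hcovB : Covers B bU := ⟨χ, hχ, η, self_mem_blockOf η, hη1⟩
  obtain ⟨Q', hQ'⟩ := exists_defectGroup hM hbUb
  have hQp := isPGroup_defectGroup hM hbUb hQ'
  obtain ⟨htop, -⟩ := ppow_defect hM ⟨k, hUN⟩ hb0 hst0 hbUb hcovU hQ'
  have hdisj : N' ⊓ Q' = ⊥ := by
    obtain ⟨i, hi⟩ := IsPGroup.iff_card.mp hQp
    refine Subgroup.eq_bot_of_card_eq _ (Nat.eq_one_of_dvd_coprimes ?_
      (Subgroup.card_dvd_of_le inf_le_left) (Subgroup.card_dvd_of_le inf_le_right))
    rw [hN'c, hi]
    exact ((hM.1.coprime_iff_not_dvd.mpr hNp).pow_left i).symm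
  set Q := Q'.map U.subtype with hQ
  have hQU : Q ≤ U := Subgroup.map_subtype_le Q'
  have hQQ : Q.subgroupOf U = Q' := Subgroup.comap_map_eq_self_of_injective U.subtype_injective Q'
  have hNn : ∀ v ∈ Subgroup.normalizer (Q' : Set U), v ∈ Q' ⊔ CQ Q' := by
    intro v hv
    have hvt : v ∈ N' ⊔ Q' := htop ▸ Subgroup.mem_top v
    obtain ⟨m, hm, q, hq, rfl⟩ := Subgroup.mem_sup_of_normal_left.mp hvt
    have hmN : m ∈ Subgroup.normalizer (Q' : Set U) := by
      have := mul_mem hv ((Subgroup.normalizer (Q' : Set U)).inv_mem (Subgroup.le_normalizer hq))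
      rwa [mul_inv_cancel_right] at this
    refine mul_mem (Subgroup.mem_sup_right (Subgroup.mem_centralizer_iff.mpr fun w hw => ?_))
      (Subgroup.mem_sup_left hq)
    have h1 : m * w * m⁻¹ * w⁻¹ ∈ N' ⊓ Q' := by
      refine ⟨?_, mul_mem ((Subgroup.mem_normalizer_iff.mp hmN w).mp hw) (Q'.inv_mem hw)⟩
      rw [show m * w * m⁻¹ * w⁻¹ = m * (w * m⁻¹ * w⁻¹) by group]
      exact mul_mem hm ((inferInstance : N'.Normal).conj_mem _ (N'.inv_mem hm) w)
    rw [hdisj, Subgroup.mem_bot, mul_inv_eq_one, mul_inv_eq_iff_eq_mul] at h1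
    exact h1.symm
  have hCU : CQ Q ≤ U := by
    intro c hc
    refine hself (Subgroup.mem_centralizer_iff.mpr fun w hw => ?_)
    obtain ⟨u, rfl⟩ := QuotientGroup.mk_surjective w
    have hu : u ∈ U := hw
    have hut : (⟨u, hu⟩ : U) ∈ N' ⊔ Q' := htop ▸ Subgroup.mem_top _
    obtain ⟨m, hm, q, hq, hmq⟩ := Subgroup.mem_sup_of_normal_left.mp hut
    have hue : (m : G) * (q : G) = u := congrArg Subtype.val hmq
    have hmk : ((u : G) : G ⧸ N) = ((q : G) : G ⧸ N) := by
      rw [← hue, QuotientGroup.mk_mul, (QuotientGroup.eq_one_iff _).mpr (Subgroup.mem_subgroupOf.mp hm),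
        one_mul]
    rw [hmk]
    show ((q : G) : G ⧸ N) * (c : G ⧸ N) = (c : G ⧸ N) * ((q : G) : G ⧸ N)
    rw [← QuotientGroup.mk_mul, ← QuotientGroup.mk_mul]
    exact congrArg _ (Subgroup.mem_centralizer_iff.mp hc (q : G) (Subgroup.mem_map_of_mem _ hq))
  have hge := defect_ge_of_cq_le hM hbUb hstU hQU (by rw [hQQ]; exact hQ') hCU
    (by rw [hQQ]; exact hNn) hB hcovB
  -- full defect
  have hUc : Nat.card U = Nat.card N * Nat.card Q' := by
    have h := CfsgLib.PGroup.card_sup_mul_card_inf Q' N'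
    rw [sup_comm, inf_comm, htop, hdisj, Subgroup.card_top, Subgroup.card_bot, mul_one, hN'c] at h
    rw [h, mul_comm]
  have hvU : (Nat.card U).factorization p = blockDefect p bU := by
    rw [hUc, Nat.factorization_mul Nat.card_pos.ne' Nat.card_pos.ne', Finsupp.add_apply,
      Nat.factorization_eq_zero_of_not_dvd hNp, zero_add, defectGroup_card hM hbUb hQ',
      hM.1.factorization_pow, Finsupp.single_eq_same]
  have hfull : (Nat.card G).factorization p ≤ blockDefect p B := by
    rw [← U.index_mul_card, Nat.factorization_mul Subgroup.index_ne_zero_of_finite Nat.card_pos.ne',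
      Finsupp.add_apply, hvU]
    omega
  have hPc : Nat.card P = p ^ (Nat.card G).factorization p := by
    rw [defectGroup_card hM hB hP]
    congr 1
    have : blockDefect p B ≤ (Nat.card G).factorization p := Nat.sub_le _ _
    omega
  exact hPc

/-- The invariant case. -/
theorem elementary_invariant (hM : IsPModular p M) (hsolv : IsPSolvable p G)
    {N : Subgroup G} [N.Normal] [Fintype N] (hNd : N = pPrimeCore p G) {θ : IrrCharacter N}
    (hinv : ∀ g : G, cjN g θ = θ) {B : Set (IrrCharacter G)} (hB : IsPBlock M B)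
    (hk : Nat.card B = blockRank p B + 1) {χ : IrrCharacter G} (hχ : χ ∈ B)
    (hχθ : classInner (fun n : N => (χ : G → ℂ) n) (θ : N → ℂ) ≠ 0)
    {D : Subgroup G} (hD : IsDefectGroup p M B D) : Cfsg.IsElementaryAbelian p D := by
  classical
  have hp : Fact p.Prime := ⟨hM.1⟩
  have hconj : ∀ x ∈ D, ∀ y ∈ D, x ≠ 1 → y ≠ 1 → IsConj x y :=
    fun x hx y hy hx1 hy1 => (conj_of_card_eq hM hB hk hD hx hx1).1 y hy hy1
  have hDp := isPGroup_defectGroup hM hB hD
  refine ⟨⟨⟨fun a b => ?_⟩⟩, pow_eq_one_of_conj hM.1 hDp hconj⟩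
  let S : Sylow p G := Sylow.ofCard D (card_defect_of_invariant hM hsolv hNd hinv hB hχ hχθ hD)
  have hNp : ¬ p ∣ Nat.card N := hNd ▸ CfsgLib.Coprime.pPrimeCore_not_dvd hM.1
  have hS : IsPSolvable p (G ⧸ N) := CfsgLib.PGroup.isPSolvable_quotient hM.1 hsolv N
  have hself := centralizer_pCore_le_of_isPSolvable hS (by
    subst hNd; exact CfsgLib.Coprime.pPrimeCore_quotient_eq_bot hM.1)
  set W := pCore p (G ⧸ N) with hW
  have hWn : W.Normal := CfsgLib.Coprime.pCore_normal' p
  have hWD : W ≤ D.map (QuotientGroup.mk' N) := by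
    have h1 := CfsgLib.Coprime.pCore_le_sylow (G := G ⧸ N)
      (S.mapSurjective (QuotientGroup.mk'_surjective N))
    simpa [Sylow.coe_mapSurjective, S] using h1
  have hinj : ∀ x ∈ D, QuotientGroup.mk' N x = 1 → x = 1 := by
    intro x hx h
    rw [QuotientGroup.mk'_apply, QuotientGroup.eq_one_iff] at h
    obtain ⟨i, hi⟩ := IsPGroup.iff_card.mp hDp
    refine orderOf_eq_one_iff.mp (Nat.eq_one_of_dvd_coprimes
      (((hM.1.coprime_iff_not_dvd.mpr hNp).pow_left i)) ?_ (Subgroup.orderOf_dvd_natCard _ h))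
    rw [← hi]
    exact Subgroup.orderOf_dvd_natCard _ hx
  have htrans : ∀ x ∈ D, ∀ v ∈ D, x ≠ 1 → v ≠ 1 →
      ∀ A : Subgroup (G ⧸ N), A.Normal → QuotientGroup.mk' N v ∈ A → QuotientGroup.mk' N x ∈ A := by
    intro x hx v hv hx1 hv1 A hA hvA
    obtain ⟨c, rfl⟩ := isConj_iff.mp (hconj v hv x hx hv1 hx1)
    rw [map_mul, map_mul, map_inv]
    exact hA.conj_mem _ hvA _
  by_cases ha : (a : G) = 1
  · rw [show a = 1 from Subtype.ext ha, one_mul, mul_one]
  have hWne : W ≠ ⊥ := by
    intro hbot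
    refine ha (hinj a a.2 ?_)
    have h := hself (Subgroup.mem_centralizer_iff.mpr fun w hw => by
      rw [hbot, SetLike.mem_coe, Subgroup.mem_bot] at hw
      rw [hw, one_mul, mul_one] : QuotientGroup.mk' N a ∈ Subgroup.centralizer (W : Set (G ⧸ N)))
    rwa [hbot, Subgroup.mem_bot] at h
  have : Nontrivial W := (Subgroup.nontrivial_iff_ne_bot _).mpr hWne
  have : Nontrivial (Subgroup.center W) :=
    IsPGroup.center_nontrivial (CfsgLib.Coprime.pCore_isPGroup p)
  obtain ⟨w, hw1⟩ := exists_ne (1 : Subgroup.center W)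
  set Z := (Subgroup.center W).map W.subtype with hZ
  have hwZ : ((w : W) : G ⧸ N) ∈ Z := Subgroup.mem_map_of_mem _ w.2
  obtain ⟨v, hv, hvw⟩ := hWD ((Subgroup.map_subtype_le _) hwZ)
  have hv1 : v ≠ 1 := by
    rintro rfl
    exact hw1 (Subtype.ext (Subtype.ext (by rw [← hvw, map_one]; rfl)))
  have hall : ∀ x ∈ D, QuotientGroup.mk' N x ∈ Z := by
    intro x hx
    rcases eq_or_ne x 1 with rfl | hx1
    · rw [map_one]; exact Z.one_mem
    · exact htrans x hx v hv hx1 hv1 Z inferInstance (hvw ▸ hwZ)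
  obtain ⟨a', ha', hae⟩ := hall a a.2
  obtain ⟨b', -, hbe⟩ := hall b b.2
  have hab : QuotientGroup.mk' N a * QuotientGroup.mk' N b =
      QuotientGroup.mk' N b * QuotientGroup.mk' N a := by
    rw [← hae, ← hbe]
    exact (congrArg Subtype.val (Subgroup.mem_center_iff.mp ha' b')).symm
  refine Subtype.ext (mul_inv_eq_one.mp (hinj _ (mul_mem (mul_mem a.2 b.2) (inv_mem (mul_mem b.2 a.2))) ?_))
  rw [map_mul, map_inv, Subgroup.coe_mul, Subgroup.coe_mul, map_mul, map_mul, hab, mul_inv_cancel]

theorem pRegularPart_indFun (T : Subgroup G) (ψ : T → ℂ) :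
    pRegularPart p (indFun T ψ) = indFun T (pRegularPart p ψ) := by
  classical
  funext g
  have ho : ∀ x : G, orderOf (x⁻¹ * g * x) = orderOf g := fun x => by
    simpa using orderOf_conj_eq x⁻¹ g
  by_cases hg : IsPRegular p g
  · simp only [pRegularPart, if_pos hg, indFun, Char.extendByZero_eq_ite]
    congr 1
    refine Finset.sum_congr rfl fun x _ => ?_
    split_ifs with hx hy
    · rfl
    · exact absurd (by simpa [IsPRegular, Subgroup.orderOf_mk, ho] using hg) hy
    · rfl
  · simp only [pRegularPart, if_neg hg, indFun, Char.extendByZero_eq_ite]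
    symm
    refine mul_eq_zero_of_right _ (Finset.sum_eq_zero fun x _ => ?_)
    split_ifs with hx hy
    · exact absurd (by simpa [IsPRegular, Subgroup.orderOf_mk, ho] using hy) hg
    · rfl
    · rfl

theorem isElementaryAbelian_of_equiv {A B : Type u} [Group A] [Group B] {S : Subgroup A}
    {R : Subgroup B} (e : S ≃* R) (h : Cfsg.IsElementaryAbelian p S) :
    Cfsg.IsElementaryAbelian p R := by
  refine ⟨⟨⟨fun a b => e.symm.injective ?_⟩⟩, fun b hb => ?_⟩
  · rw [map_mul, map_mul]
    exact h.1.1.comm _ _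
  · have h1 : (e.symm ⟨b, hb⟩) ^ p = 1 := Subtype.ext (by
      rw [SubmonoidClass.coe_pow]; exact h.2 _ (e.symm ⟨b, hb⟩).2)
    have h2 := congrArg (fun x => ((e x : R) : B)) h1
    simpa using h2

/-- The `p`-solvable case. -/
theorem elementary_pSolvable : ∀ (n : ℕ) (G : Type u) [Group G] [Fintype G] [DecidableEq G]
    [Fintype (IrrCharacter G)], Nat.card G ≤ n → IsPModular p M → IsPSolvable p G →
    ∀ B : Set (IrrCharacter G), IsPBlock M B → Nat.card B = blockRank p B + 1 →
      ∀ D : Subgroup G, IsDefectGroup p M B D → Cfsg.IsElementaryAbelian p D := by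
  intro n
  induction n with
  | zero => intro G _ _ _ _ hn; exact absurd hn (by have := Nat.card_pos (α := G); omega)
  | succ n ih =>
    intro G _ _ _ _ hn hM hsolv B hB hk P hP
    classical
    have hp : Fact p.Prime := ⟨hM.1⟩
    obtain ⟨χ, hχ⟩ := isPBlock_nonempty hB
    set N := pPrimeCore p G with hN
    have : N.Normal := Subgroup.sSup_normal _ fun _ h => h.1
    have hNp : ¬ p ∣ Nat.card N := CfsgLib.Coprime.pPrimeCore_not_dvd hM.1
    obtain ⟨θ, hθ⟩ := exists_constituent (N := N) χ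
    have := Fintype.ofFinite (IrrCharacter N)
    set b : Set (IrrCharacter N) := {θ} with hbd
    have hb : IsPBlock M b := Glauberman.singleton_isPBlock hM hNp θ
    let T : Subgroup G :=
      { carrier := {g | cjN g θ = θ}
        one_mem' := cjN_one θ
        mul_mem' := fun {g h} hg hh => by
          show cjN (g * h) θ = θ
          rw [← cjN_cjN, hh, hg]
        inv_mem' := fun {g} hg => by
          show cjN g⁻¹ θ = θ
          conv_lhs => rw [← hg, cjN_cjN, inv_mul_cancel, cjN_one] }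
    have hT : ∀ g : G, g ∈ T ↔ cjN g '' b = b := fun g => by
      rw [hbd, Set.image_singleton, Set.singleton_eq_singleton_iff]
      exact Iff.rfl
    by_cases htop : T = ⊤
    · exact elementary_invariant hM hsolv hN (fun g => (htop ▸ Subgroup.mem_top g : g ∈ T)) hB hk hχ hθ hP
    have hNT : N ≤ T := by
      intro m hm
      show cjN m θ = θ
      refine Subtype.ext (funext fun x => ?_)
      rw [cjN_apply]
      have h := Char.isClassFunction_irr θ x ⟨m⁻¹, inv_mem hm⟩
      refine Eq.trans (congrArg _ (Subtype.ext ?_)) h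
      simp
    have hlt : Nat.card T < Nat.card G := by
      refine lt_of_le_of_ne (Nat.card_le_card_of_injective _ Subtype.val_injective) fun h => htop ?_
      exact Subgroup.eq_top_of_card_eq T h
    have := Fintype.ofFinite (IrrCharacter T)
    have := Fintype.ofFinite (N.subgroupOf T)
    obtain ⟨B', hB', hov, hind⟩ := fongReynolds_surjective hNT hM hb hT hB ⟨χ, hχ, θ, rfl, hθ⟩
    obtain ⟨C, hC, -, hirr, hmem⟩ := fongReynolds_block hNT hM hb hT hB' hov
    obtain rfl := inducedBlock_unique hC hind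
    set k := T.index.factorization p
    have hmin : minDeg p C = k + minDeg p B' := by
      obtain ⟨ψ₁, hψ₁, he₁⟩ := exists_minDeg (p := p) (isPBlock_nonempty hB')
      obtain ⟨χ₁, hχ₁, hf₁⟩ := exists_minDeg (p := p) (isPBlock_nonempty hB)
      refine le_antisymm ?_ ?_
      · rw [← he₁, ← fongReynolds_degree hM (ψ := ψ₁) (χ := ⟨_, (hirr ψ₁ hψ₁).2⟩) rfl]
        exact minDeg_le ((hmem _).mpr ⟨ψ₁, hψ₁, rfl⟩)
      · obtain ⟨ψ₂, hψ₂, he₂⟩ := (hmem χ₁).mp hχ₁
        rw [← hf₁, fongReynolds_degree hM he₂]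
        exact Nat.add_le_add_left (minDeg_le hψ₂) k
    obtain ⟨D, hD⟩ := exists_defectGroup hM hB'
    obtain ⟨E, hE, hDE⟩ := exists_defectGroup_ge hM hC hD
    have hdef : blockDefect p C = blockDefect p B' := by
      have hTG : (Nat.card G).factorization p = k + (Nat.card T).factorization p := by
        rw [← T.index_mul_card, Nat.factorization_mul Subgroup.index_ne_zero_of_finite Nat.card_pos.ne',
          Finsupp.add_apply]
      show (Nat.card G).factorization p - minDeg p C = (Nat.card T).factorization p - minDeg p B'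
      omega
    have hDE' : D.map T.subtype = E := Subgroup.eq_of_le_of_card_ge hDE (by
      rw [Subgroup.card_map_of_injective T.subtype_injective, defectGroup_card hM hB hE,
        defectGroup_card hM hB' hD, hdef])
    obtain ⟨c, hc⟩ := defectGroup_conj hM hB hE hP
    let e : D ≃* P := (Subgroup.equivMapOfInjective D T.subtype T.subtype_injective).trans
        ((MulEquiv.subgroupCongr hDE').trans ((Subgroup.equivMapOfInjective E _
          (MulAut.conj c).injective).trans (MulEquiv.subgroupCongr hc)))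
    refine isElementaryAbelian_of_equiv e ?_
    -- the numbers of characters agree
    have hcard : Nat.card C = Nat.card B' := by
      symm
      refine Nat.card_congr (Equiv.ofBijective
        (fun ψ : B' => (⟨⟨_, (hirr ψ ψ.2).2⟩, (hmem _).mpr ⟨ψ, ψ.2, rfl⟩⟩ : C)) ⟨fun ψ ψ' h => ?_, fun χ' => ?_⟩)
      · exact (Subtype.ext (indFun_injective_of_overB hNT hM hb hT (hirr ψ ψ.2).1 (hirr ψ' ψ'.2).1
          (congrArg (fun x : C => ((x : IrrCharacter G) : G → ℂ)) h))).symm
      · obtain ⟨ψ, hψ, he⟩ := (hmem χ').mp χ'.2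
        exact ⟨⟨ψ, hψ⟩, Subtype.ext (Subtype.ext he.symm)⟩
    have hrank : blockRank p C ≤ blockRank p B' := by
      let L : (T → ℂ) →ₗ[ℂ] (G → ℂ) :=
        { toFun := indFun T
          map_add' := Char.indFun_add T
          map_smul' := fun c θ => Char.indFun_smul T c θ }
      rw [blockRank, blockRank]
      refine le_trans (Submodule.finrank_mono ?_) (Submodule.finrank_map_le L _)
      rw [Submodule.map_span]
      refine Submodule.span_mono ?_
      rintro _ ⟨χ', hχ', rfl⟩
      obtain ⟨ψ, hψ, he⟩ := (hmem χ').mp hχ'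
      exact ⟨_, ⟨ψ, hψ, rfl⟩, (pRegularPart_indFun T (ψ : T → ℂ)).symm.trans (congrArg _ he.symm)⟩
    have hle := blockRank_le_card (p := p) (B := B')
    by_cases heq : blockRank p B' = Nat.card B'
    · have h0 := blockDefect_eq_zero_of_rank_eq_card hM hB' heq
      have hD1 : D = ⊥ := Subgroup.card_eq_one.mp (by rw [defectGroup_card hM hB' hD, h0, pow_zero])
      subst hD1
      exact ⟨⟨⟨fun a b => Subtype.ext (by
        rw [Subgroup.coe_mul, Subgroup.coe_mul, Subgroup.mem_bot.mp a.2, Subgroup.mem_bot.mp b.2])⟩⟩,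
        fun a ha => by rw [Subgroup.mem_bot.mp ha, one_pow]⟩
    · exact ih T (by omega) hM (CfsgLib.CoprimeOrbit.isPSolvable_subgroup hM.1 hsolv T) B' hB'
        (by omega) D hD

end CfsgLib.Block.OneMore
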