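import Mathlib

/-!
# Groups of order `p ^ 4` and maximal abelianization
-/

open scoped commutatorElement

set_option linter.unusedSectionVars false

namespace CfsgLib.Block

variable {P : Type*} [Group P] [Finite P] {p : ℕ} [Fact p.Prime]

theorem comm_mul_right (x a b : P) : ⁅x, a * b⁆ = ⁅x, a⁆ * (a * ⁅x, b⁆ * a⁻¹) := by
  simp [commutatorElement_def, mul_assoc]

theorem top_of_sup_commutator (hP : IsPGroup p P) {H : Subgroup P} (h : H ⊔ commutator P = ⊤) :
    H = ⊤ := by
  by_contra hne
  obtain ⟨M, hM, hHM⟩ := (eq_top_or_exists_le_coatom H).resolve_left hne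
  have := hP.isNilpotent
  have hMn : M.Normal := Subgroup.NormalizerCondition.normal_of_coatom M Group.normalizerCondition_of_isNilpotent hM
  have hq : IsPGroup p (P ⧸ M) := hP.to_quotient M
  have : Nontrivial (P ⧸ M) := QuotientGroup.nontrivial_iff.mpr hM.1
  have hc : Subgroup.center (P ⧸ M) = ⊤ := by
    by_contra hc
    have h1 : M ≤ (Subgroup.center (P ⧸ M)).comap (QuotientGroup.mk' M) := by
      conv_lhs => rw [← QuotientGroup.ker_mk' M]
      exact Subgroup.comap_mono bot_le
    rcases eq_or_lt_of_le h1 with h2 | h2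
    · have := hq.center_nontrivial
      obtain ⟨⟨z, hz⟩, hz1⟩ := exists_ne (1 : Subgroup.center (P ⧸ M))
      obtain ⟨w, rfl⟩ := QuotientGroup.mk'_surjective M z
      have hwM : w ∈ M := h2 ▸ hz
      exact hz1 (Subtype.ext ((QuotientGroup.eq_one_iff w).mpr hwM))
    · have h3 := hM.2 _ h2
      refine hc (Subgroup.comap_injective (QuotientGroup.mk'_surjective M) (by rw [h3, Subgroup.comap_top]))
  have hle : commutator P ≤ M := by
    rw [commutator_def, Subgroup.commutator_le]
    intro a _ b _
    rw [← QuotientGroup.eq_one_iff, ← QuotientGroup.mk'_apply, map_commutatorElement,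
      commutatorElement_eq_one_iff_mul_comm]
    exact Subgroup.mem_center_iff.mp (hc ▸ Subgroup.mem_top _) _
  exact hM.1 (top_le_iff.mp (h ▸ sup_le hHM hle))

theorem commutator_eq_bot_or_index (hP : IsPGroup p P) :
    commutator P = ⊥ ∨ p ^ 2 ∣ (commutator P).index := by
  obtain ⟨k, hk⟩ := hP.index (commutator P)
  by_cases h2 : 2 ≤ k
  · exact Or.inr (hk ▸ pow_dvd_pow p h2)
  refine Or.inl ?_
  obtain ⟨x, hx⟩ : ∃ x : P, Subgroup.zpowers x ⊔ commutator P = ⊤ := by
    interval_cases k
    · exact ⟨1, by rw [Subgroup.index_eq_one.mp (hk.trans (pow_zero p)), sup_top_eq]⟩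
    · have hc : Nat.card (P ⧸ commutator P) = p := by simpa [← Subgroup.index_eq_card] using hk
      obtain ⟨y, hy⟩ := (isCyclic_of_prime_card hc).exists_generator
      obtain ⟨x, rfl⟩ := QuotientGroup.mk_surjective y
      refine ⟨x, eq_top_iff.mpr fun g _ => ?_⟩
      obtain ⟨i, hi⟩ := Subgroup.mem_zpowers_iff.mp (hy (g : P ⧸ commutator P))
      rw [← QuotientGroup.mk_zpow, QuotientGroup.eq] at hi
      have : g = x ^ i * ((x ^ i)⁻¹ * g) := (mul_inv_cancel_left _ _).symm
      rw [this]
      exact Subgroup.mul_mem_sup (Subgroup.zpow_mem _ (Subgroup.mem_zpowers x) i) hi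
  have htop := top_of_sup_commutator hP hx
  rw [commutator_def, Subgroup.commutator_eq_bot_iff_le_centralizer]
  intro a _ b _
  obtain ⟨i, rfl⟩ := Subgroup.mem_zpowers_iff.mp (htop ▸ Subgroup.mem_top a)
  obtain ⟨j, rfl⟩ := Subgroup.mem_zpowers_iff.mp (htop ▸ Subgroup.mem_top b)
  exact (Commute.zpow_zpow (Commute.refl x) j i).eq

theorem center_index_ne_prime (hnc : commutator P ≠ ⊥) : (Subgroup.center P).index ≠ p := by
  intro h
  have := isCyclic_of_prime_card (α := P ⧸ Subgroup.center P) (p := p) (by rwa [← Subgroup.index_eq_card])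
  refine hnc ?_
  rw [commutator_def, Subgroup.commutator_eq_bot_iff_le_centralizer]
  intro a _ b _
  exact (commutative_of_cyclic_center_quotient (QuotientGroup.mk' (Subgroup.center P))
    (by rw [QuotientGroup.ker_mk']) b a)

theorem card_commutator_of_center_index (hi : (Subgroup.center P).index = p ^ 2) :
    Nat.card (commutator P) = p := by
  classical
  have hp : p.Prime := Fact.out
  set Z := Subgroup.center P
  have hc : Nat.card (P ⧸ Z) = p ^ 2 := by rw [← Subgroup.index_eq_card]; exact hi
  have hnc : ¬ ∀ a b : P, a * b = b * a := fun h => by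
    have : Z = ⊤ := eq_top_iff.mpr fun g _ => Subgroup.mem_center_iff.mpr fun a => h a g
    rw [this, Subgroup.index_top] at hi
    exact (one_lt_pow₀ hp.one_lt two_ne_zero).ne hi
  push Not at hnc
  obtain ⟨a, b, hab⟩ := hnc
  have hq : ∀ u v : P, ⁅u, v⁆ ∈ Z := fun u v => by
    rw [← QuotientGroup.eq_one_iff, ← QuotientGroup.mk'_apply, map_commutatorElement,
      commutatorElement_eq_one_iff_mul_comm]
    letI := IsPGroup.commGroupOfCardEqPrimeSq hc
    exact mul_comm _ _
  -- left multiplicativity into the centre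
  have hmul : ∀ u v w : P, ⁅u, v * w⁆ = ⁅u, v⁆ * ⁅u, w⁆ := fun u v w => by
    rw [comm_mul_right, Subgroup.mem_center_iff.mp (hq u w) v, mul_inv_cancel_right]
  have hpow : ∀ (u v : P) (n : ℕ), ⁅u, v ^ n⁆ = ⁅u, v⁆ ^ n := fun u v n => by
    induction n with
    | zero => simp
    | succ n ih => rw [pow_succ, hmul, ih, ← pow_succ]
  have hdecomp : ∀ g : P, ∃ (i j : ℕ), ∃ z ∈ Z, g = a ^ i * b ^ j * z := by
    intro g
    set K := Subgroup.closure ({(a : P ⧸ Z), (b : P ⧸ Z)} : Set (P ⧸ Z)) with hK
    letI := IsPGroup.commGroupOfCardEqPrimeSq hc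
    have ha : (a : P ⧸ Z) ∈ K := Subgroup.subset_closure (by simp)
    have hb : (b : P ⧸ Z) ∈ K := Subgroup.subset_closure (by simp)
    have hKtop : K = ⊤ := by
      refine Subgroup.eq_top_of_card_eq _ ?_
      obtain ⟨k, hk, hk'⟩ := (Nat.dvd_prime_pow hp).mp (hc ▸ Subgroup.card_subgroup_dvd_card K)
      rcases Nat.lt_or_ge k 2 with hk2 | hk2
      · exfalso
        have hcyc : IsCyclic K := by
          interval_cases k
          · have : Subsingleton K := (Nat.card_eq_one_iff_unique.mp (by simpa using hk')).1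
            exact isCyclic_of_subsingleton
          · exact isCyclic_of_prime_card (p := p) (by simpa using hk')
        obtain ⟨t, ht⟩ := hcyc.exists_generator
        obtain ⟨w, hw⟩ := QuotientGroup.mk_surjective (t : P ⧸ Z)
        have hrep : ∀ x : P, (x : P ⧸ Z) ∈ K → ∃ i : ℤ, ∃ z ∈ Z, x = w ^ i * z := fun x hx => by
          obtain ⟨i, hi'⟩ := Subgroup.mem_zpowers_iff.mp (ht ⟨(x : P ⧸ Z), hx⟩)
          have := congrArg Subtype.val hi'
          rw [SubgroupClass.coe_zpow, ← hw, ← QuotientGroup.mk_zpow, QuotientGroup.eq] at this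
          exact ⟨i, _, this, (mul_inv_cancel_left _ _).symm⟩
        obtain ⟨i, z, hz, rfl⟩ := hrep a ha
        obtain ⟨j, z', hz', rfl⟩ := hrep b hb
        refine hab ?_
        have c1 : ∀ x : P, Commute x z := fun x => Subgroup.mem_center_iff.mp hz x
        have c2 : ∀ x : P, Commute x z' := fun x => Subgroup.mem_center_iff.mp hz' x
        exact (((Commute.zpow_zpow (Commute.refl w) i j).mul_left (c1 _).symm).mul_right (c2 _)).eq
      · have hk2' : k = 2 := by omega
        rw [hk', hk2', hc]
    have hg : (g : P ⧸ Z) ∈ K := hKtop ▸ Subgroup.mem_top _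
    rw [hK, Subgroup.mem_closure_pair] at hg
    obtain ⟨m, n, hmn⟩ := hg
    have hnat : ∀ (x : P ⧸ Z) (m : ℤ), ∃ i : ℕ, x ^ m = x ^ i := fun x m => by
      have hx : x ^ m ∈ Submonoid.powers x :=
        mem_powers_iff_mem_zpowers.mpr (Subgroup.zpow_mem _ (Subgroup.mem_zpowers x) m)
      obtain ⟨i, hi⟩ := hx
      exact ⟨i, hi.symm⟩
    obtain ⟨i, hi⟩ := hnat (a : P ⧸ Z) m
    obtain ⟨j, hj⟩ := hnat (b : P ⧸ Z) n
    rw [hi, hj, ← QuotientGroup.mk_pow, ← QuotientGroup.mk_pow, ← QuotientGroup.mk_mul,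
      QuotientGroup.eq] at hmn
    exact ⟨i, j, _, hmn, (mul_inv_cancel_left _ _).symm⟩
  set d := ⁅a, b⁆ with hd
  have hd1 : d ≠ 1 := fun h => hab (commutatorElement_eq_one_iff_mul_comm.mp h)
  have hdp : d ^ p = 1 := by
    have h1 : b ^ p ∈ Z := by
      have hb2 : ∃ k ≤ 2, orderOf (b : P ⧸ Z) = p ^ k :=
        (Nat.dvd_prime_pow hp).mp (hc ▸ orderOf_dvd_natCard _)
      obtain ⟨k, hk, hk'⟩ := hb2
      by_cases hk1 : k ≤ 1
      · rw [← QuotientGroup.eq_one_iff, QuotientGroup.mk_pow]
        exact orderOf_dvd_iff_pow_eq_one.mp (hk' ▸ (pow_dvd_pow p hk1).trans (by rw [pow_one]))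
      · exfalso
        have hk2 : k = 2 := by omega
        have : IsCyclic (P ⧸ Z) := isCyclic_of_orderOf_eq_card _ (by rw [hk', hk2, hc])
        exact hab (commutative_of_cyclic_center_quotient (QuotientGroup.mk' Z)
          (by rw [QuotientGroup.ker_mk']) a b)
    rw [hd, ← hpow, commutatorElement_eq_one_iff_mul_comm]
    exact Subgroup.mem_center_iff.mp h1 a
  have hle : commutator P = Subgroup.zpowers d := by
    refine le_antisymm ?_ (Subgroup.zpowers_le.mpr (Subgroup.commutator_mem_commutator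
      (Subgroup.mem_top a) (Subgroup.mem_top b)))
    rw [commutator_def, Subgroup.commutator_le]
    intro u _ v _
    have hright : ∀ x : P, (⁅x, a⁆ ∈ Subgroup.zpowers d ∧ ⁅x, b⁆ ∈ Subgroup.zpowers d) →
        ∀ g : P, ⁅x, g⁆ ∈ Subgroup.zpowers d := by
      intro x hx g
      obtain ⟨i, j, z, hz, rfl⟩ := hdecomp g
      rw [hmul, hmul, hpow, hpow, commutatorElement_eq_one_iff_mul_comm.mpr (Subgroup.mem_center_iff.mp hz x),
        mul_one]
      exact mul_mem (Subgroup.pow_mem _ hx.1 i) (Subgroup.pow_mem _ hx.2 j)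
    have hsym : ∀ x y : P, ⁅x, y⁆ ∈ Subgroup.zpowers d → ⁅y, x⁆ ∈ Subgroup.zpowers d := fun x y h => by
      rw [← commutatorElement_inv]; exact inv_mem h
    have ha' := hright a ⟨by simp [commutatorElement_self], Subgroup.mem_zpowers _⟩
    have hb' := hright b ⟨hsym a b (Subgroup.mem_zpowers _), by simp [commutatorElement_self]⟩
    exact hright u ⟨hsym a u (ha' u), hsym b u (hb' u)⟩ v
  rw [hle, Nat.card_zpowers]
  exact orderOf_eq_prime hdp hd1

theorem center_index_of_card_commutator (h4 : Nat.card P = p ^ 4) (hc : Nat.card (commutator P) = p) :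
    (Subgroup.center P).index = p ^ 2 := by
  classical
  have hp : p.Prime := Fact.out
  have hP : IsPGroup p P := IsPGroup.of_card h4
  have hnc : commutator P ≠ ⊥ := fun h => hp.ne_one (by rw [← hc, h, Subgroup.card_bot])
  set Z := Subgroup.center P
  have hcZ : commutator P ≤ Z := by
    intro d hd
    rw [Subgroup.mem_center_iff]
    intro x
    by_cases hd1 : d = 1
    · subst hd1; simp
    have hinf : commutator P ⊓ Z ≠ ⊥ := by
      obtain ⟨z, hz, hz1⟩ : ∃ z ∈ commutator P ⊓ Z, z ≠ 1 := by
        have : Fintype (commutator P) := Fintype.ofFinite _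
        let _ : MulAction P (commutator P) := MulAction.compHom _ (MulAut.conjNormal : P →* MulAut (commutator P))
        have hfix : (1 : commutator P) ∈ MulAction.fixedPoints P (commutator P) := fun g => map_one (MulAut.conjNormal g : MulAut (commutator P))
        obtain ⟨z, hz, hzne⟩ := hP.exists_fixed_point_of_prime_dvd_card_of_fixed_point (commutator P)
          (by rw [hc]) hfix
        refine ⟨z, ⟨z.2, Subgroup.mem_center_iff.mpr fun y => ?_⟩, fun h => hzne (Subtype.ext h.symm)⟩
        have := congrArg Subtype.val (hz y)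
        change y * (z : P) * y⁻¹ = z at this
        exact mul_inv_eq_iff_eq_mul.mp this
      intro h
      rw [h, Subgroup.mem_bot] at hz
      exact hz1 hz
    have heq : commutator P ⊓ Z = commutator P :=
      Subgroup.eq_of_le_of_card_ge inf_le_left (by
        rw [hc]
        have h1 := Subgroup.card_dvd_of_le (inf_le_left : commutator P ⊓ Z ≤ commutator P)
        rw [hc] at h1
        rcases (Nat.dvd_prime hp).mp h1 with h2 | h2
        · exact absurd (Subgroup.card_eq_one.mp h2) hinf
        · exact h2.ge)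
    exact Subgroup.mem_center_iff.mp (inf_eq_left.mp heq hd) x
  obtain ⟨k, hk, hZk⟩ := (Nat.dvd_prime_pow hp).mp (h4 ▸ Subgroup.index_dvd_card Z)
  have hk1 : k ≠ 1 := fun h => center_index_ne_prime hnc (by rw [hZk, h, pow_one])
  have hk0 : k ≠ 0 := fun h => hnc (by
    rw [h, pow_zero, Subgroup.index_eq_one] at hZk
    rw [commutator_def, Subgroup.commutator_eq_bot_iff_le_centralizer]
    intro a _ b _
    have ha : a ∈ Z := by rw [hZk]; exact Subgroup.mem_top a
    exact Subgroup.mem_center_iff.mp ha b)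
  have hcardZ : p ^ k * Nat.card Z = p ^ 4 := by rw [← hZk, Subgroup.index_mul_card, h4]
  have hZge : p ∣ Nat.card Z := hc ▸ Subgroup.card_dvd_of_le hcZ
  by_contra hne
  have hk3 : k = 3 := by
    have : k ≠ 2 := fun h => hne (by rw [hZk, h])
    have : k ≠ 4 := fun h => by
      rw [h] at hcardZ
      have h1 : Nat.card Z = 1 := mul_left_cancel₀ (pow_pos hp.pos 4).ne' (hcardZ.trans (mul_one _).symm)
      exact hp.not_dvd_one (h1 ▸ hZge)
    omega
  have hZp : Nat.card Z = p := by
    rw [hk3, pow_succ p 3] at hcardZ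
    exact Nat.eq_of_mul_eq_mul_left (pow_pos hp.pos 3) hcardZ
  have hmul : ∀ u v w : P, ⁅u, v * w⁆ = ⁅u, v⁆ * ⁅u, w⁆ := fun u v w => by
    rw [comm_mul_right, Subgroup.mem_center_iff.mp (hcZ (Subgroup.commutator_mem_commutator
      (Subgroup.mem_top u) (Subgroup.mem_top w))) v, mul_inv_cancel_right]
  have hnc' : ¬ ∀ a b : P, a * b = b * a := fun h => hnc (by
    rw [commutator_def, Subgroup.commutator_eq_bot_iff_le_centralizer]
    intro a _ b _
    exact h b a)
  push Not at hnc'
  obtain ⟨a, b, hab⟩ := hnc'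
  -- the pairing with `a` and `b`
  let f : P →* commutator P × commutator P :=
    { toFun := fun y => (⟨⁅a, y⁆, Subgroup.commutator_mem_commutator (Subgroup.mem_top a) (Subgroup.mem_top y)⟩,
        ⟨⁅b, y⁆, Subgroup.commutator_mem_commutator (Subgroup.mem_top b) (Subgroup.mem_top y)⟩)
      map_one' := by simp
      map_mul' := fun u v => Prod.ext (Subtype.ext (hmul a u v)) (Subtype.ext (hmul b u v)) }
  have hker : ∀ y ∈ f.ker, a * y = y * a ∧ b * y = y * b := fun y hy => by
    rw [MonoidHom.mem_ker] at hy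
    exact ⟨commutatorElement_eq_one_iff_mul_comm.mp (congrArg (fun q => (q.1 : P)) hy),
      commutatorElement_eq_one_iff_mul_comm.mp (congrArg (fun q => (q.2 : P)) hy)⟩
  have hkerge : p ^ 2 ≤ Nat.card f.ker := by
    have h1 : Nat.card (P ⧸ f.ker) ≤ p ^ 2 := by
      rw [Nat.card_congr (QuotientGroup.quotientKerEquivRange f).toEquiv]
      exact (Nat.card_le_card_of_injective _ f.range.subtype_injective).trans (by
        rw [Nat.card_prod, hc, sq])
    have h2 := Subgroup.card_eq_card_quotient_mul_card_subgroup f.ker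
    rw [h4] at h2
    by_contra hlt
    push Not at hlt
    have h3 : p ^ 4 < p ^ 4 := calc
      p ^ 4 = Nat.card (P ⧸ f.ker) * Nat.card f.ker := h2
      _ ≤ p ^ 2 * Nat.card f.ker := Nat.mul_le_mul h1 le_rfl
      _ < p ^ 2 * p ^ 2 := Nat.mul_lt_mul_of_pos_left hlt (pow_pos hp.pos 2)
      _ = p ^ 4 := (pow_add p 2 2).symm
    exact lt_irrefl _ h3
  -- it contains a non-central element
  obtain ⟨y, hy, hyZ⟩ : ∃ y ∈ f.ker, y ∉ Z := by
    by_contra hno
    push Not at hno
    have := Subgroup.card_le_of_le hno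
    rw [hZp] at this
    have h2 : p < p ^ 2 := by nlinarith [hp.one_lt]
    omega
  -- the kernel of the pairing centralizes the subgroup generated by `a`, `b` and itself
  set H := Subgroup.closure ({a, b} : Set P) ⊔ f.ker with hH
  have hfa : f a ≠ 1 := fun h => hab (hker a (MonoidHom.mem_ker.mpr h)).2.symm
  have hrange : Nat.card f.ker * p ^ 2 ≤ Nat.card H := by
    have hab1 : (⁅a, b⁆ : P) ≠ 1 := fun h => hab (commutatorElement_eq_one_iff_mul_comm.mp h)
    have htop : H.map f = ⊤ := by
      refine Subgroup.eq_top_of_card_eq _ (le_antisymm (Nat.card_le_card_of_injective _ (H.map f).subtype_injective) ?_)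
      rw [Nat.card_prod, hc]
      set u : commutator P := ⟨⁅a, b⁆, Subgroup.commutator_mem_commutator (Subgroup.mem_top a) (Subgroup.mem_top b)⟩
      have hu : ∀ w : commutator P, w ∈ Subgroup.zpowers u :=
        fun w => mem_zpowers_of_prime_card hc fun h => hab1 (congrArg Subtype.val h)
      rw [show p * p = Nat.card (commutator P × commutator P) by rw [Nat.card_prod, hc]]
      refine Nat.card_le_card_of_injective (fun q => (⟨q, ?_⟩ : H.map f)) fun _ _ h => congrArg Subtype.val h
      obtain ⟨i, hi⟩ := Subgroup.mem_zpowers_iff.mp (hu q.1)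
      obtain ⟨j, hj⟩ := Subgroup.mem_zpowers_iff.mp (hu q.2)
      have hfb : f b = (u, 1) := Prod.ext rfl (Subtype.ext (commutatorElement_self b))
      have hfa : f a = (1, u⁻¹) := Prod.ext (Subtype.ext (commutatorElement_self a))
        (Subtype.ext (by rw [InvMemClass.coe_inv]; exact (commutatorElement_inv a b).symm))
      refine ⟨b ^ i * a ^ (-j), Subgroup.mem_sup_left (mul_mem (Subgroup.zpow_mem _ (Subgroup.subset_closure (by simp)) _)
        (Subgroup.zpow_mem _ (Subgroup.subset_closure (by simp)) _)), ?_⟩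
      rw [map_mul, map_zpow, map_zpow, hfb, hfa]
      ext1 <;> simp [hi, hj]
    have h1 := Subgroup.card_map_dvd H f
    have h2 : Nat.card (H.map f) * Nat.card f.ker = Nat.card H := by
      have e := Subgroup.card_eq_card_quotient_mul_card_subgroup (f.comp H.subtype).ker
      rw [Nat.card_congr (QuotientGroup.quotientKerEquivRange (f.comp H.subtype)).toEquiv,
        MonoidHom.range_comp, Subgroup.range_subtype] at e
      rw [e]
      congr 1
      rw [← Subgroup.card_map_of_injective H.subtype_injective]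
      congr 2
      ext t
      constructor
      · intro ht; exact ⟨⟨t, Subgroup.mem_sup_right ht⟩, ht, rfl⟩
      · rintro ⟨s, hs, rfl⟩; exact hs
    rw [← h2, htop, Subgroup.card_top, Nat.card_prod, hc, sq, mul_comm]
  have hcentral : ∀ w ∈ f.ker, (∀ t ∈ f.ker, w * t = t * w) → w ∈ Z := by
    intro w hw hcomm
    have hHC : H ≤ Subgroup.centralizer ({w} : Set P) := by
      refine sup_le ((Subgroup.closure_le _).mpr ?_) fun t ht =>
        Subgroup.mem_centralizer_singleton_iff.mpr (hcomm t ht).symm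
      rintro t (rfl | rfl)
      · exact Subgroup.mem_centralizer_singleton_iff.mpr (hker w hw).1
      · exact Subgroup.mem_centralizer_singleton_iff.mpr (hker w hw).2
    have hge : p ^ 4 ≤ Nat.card H := by
      refine le_trans ?_ hrange
      calc p ^ 4 = p ^ 2 * p ^ 2 := by rw [← pow_add]
        _ ≤ _ := Nat.mul_le_mul hkerge le_rfl
    have htop : Subgroup.centralizer ({w} : Set P) = ⊤ :=
      Subgroup.eq_top_of_le_card _ (h4 ▸ hge.trans (Subgroup.card_le_of_le hHC))
    exact Subgroup.mem_center_iff.mpr fun t =>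
      Subgroup.mem_centralizer_singleton_iff.mp (htop ▸ Subgroup.mem_top t)
  have hkercard : Nat.card f.ker = p ^ 2 := by
    refine le_antisymm ?_ hkerge
    have := hrange.trans (Subgroup.card_le_card_group H)
    rw [h4, show (4 : ℕ) = 2 + 2 from rfl, pow_add] at this
    exact Nat.le_of_mul_le_mul_right this (pow_pos hp.pos 2)
  letI := IsPGroup.commGroupOfCardEqPrimeSq hkercard
  exact hyZ (hcentral y hy fun t ht => congrArg Subtype.val (mul_comm (⟨y, hy⟩ : f.ker) ⟨t, ht⟩))

end CfsgLib.Block
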