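import Cfsg.Agent.Lib.Block.Orthogonality
import Cfsg.Agent.Lib.Block.Cartan

/-!
# Blocks for two primes without elements of order `p q`

For such primes the sum `∑ χ(1) χ(y)` over the intersection of a `p`-block and a `q`-block is, at a
`p`-singular `y`, the `q`-part of the group order times an algebraic integer.
-/

open Finset
open scoped ComplexConjugate

set_option linter.unusedSectionVars false

namespace CfsgLib.Block

open Cfsg

universe u

variable {p q : ℕ} [Fact p.Prime] [Fact q.Prime] {Mp Mq : Ideal AlgInt} [Mp.IsMaximal] [Mq.IsMaximal]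
  {G : Type u} [Group G] [Fintype G] [DecidableEq G] [Fintype (IrrCharacter G)]

theorem intersection_congr (hMp : IsPModular p Mp) (hMq : IsPModular q Mq) (hpq : p ≠ q)
    (hno : ∀ g : G, orderOf g ≠ p * q) {b : ℕ} (hb : (Nat.card G).factorization q = b)
    {Bp Bq : Set (IrrCharacter G)} (hBp : IsPBlock Mp Bp) (hBq : IsPBlock Mq Bq) {y : G}
    (hy : p ∣ orderOf y) :
    ∃ ω : AlgInt, ∑ᶠ χ ∈ Bp ∩ Bq, (charDegree (χ : G → ℂ) : ℂ) * (χ : G → ℂ) y =
      (q : ℂ) ^ b * (ω : ℂ) := by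
  classical
  set S := Finset.univ.filter (fun χ : IrrCharacter G => χ ∈ Bp ∧ χ ∈ Bq) with hS
  set sp := Finset.univ.filter (fun χ : IrrCharacter G => χ ∈ Bp) with hsp
  set sq := Finset.univ.filter (fun χ : IrrCharacter G => χ ∈ Bq) with hsq
  let F : G → ℂ := fun x => ∑ χ ∈ sp, (χ : G → ℂ) y * conj ((χ : G → ℂ) x)
  let H : G → ℂ := fun x => ∑ χ ∈ S, (χ : G → ℂ) y * conj ((χ : G → ℂ) x)
  have hF : ∀ x, q ∣ orderOf x → F x = 0 := by
    intro x hx
    have hreg : ¬ p ∣ orderOf x := fun hp' => by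
      have hd : p * q ∣ orderOf x :=
        ((Nat.coprime_primes Fact.out Fact.out).mpr hpq).mul_dvd_of_dvd_of_dvd hp' hx
      refine hno (x ^ (orderOf x / (p * q))) ?_
      rw [orderOf_pow_of_dvd (Nat.div_ne_zero_iff.mpr ⟨(mul_pos (Fact.out : p.Prime).pos (Fact.out : q.Prime).pos).ne',
        Nat.le_of_dvd (orderOf_pos x) hd⟩) (Nat.div_dvd_of_dvd hd), Nat.div_div_self hd (orderOf_pos x).ne']
    have h := blockUnion_orthogonal_regular_singular hMp (IsBlockUnion.of_isPBlock hBp) hreg hy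
    rw [finsum_mem_eq_finite_toFinset_sum _ (Set.toFinite _)] at h
    have h' := congrArg conj h
    rw [map_sum, map_zero] at h'
    rw [← h']
    refine Finset.sum_congr (by ext; simp [hsp]) fun χ _ => ?_
    rw [map_mul (starRingEnd ℂ), Complex.conj_conj, mul_comm]
  have hproj : ∀ x, H x = (Nat.card G : ℂ)⁻¹ * ∑ u : G, F u * ∑ ξ ∈ sq, (ξ : G → ℂ) u * conj ((ξ : G → ℂ) x) := by
    intro x
    have hG : (Nat.card G : ℂ) ≠ 0 := Nat.cast_ne_zero.mpr Nat.card_pos.ne'
    have horth : ∀ χ ξ : IrrCharacter G, ∑ u : G, (ξ : G → ℂ) u * conj ((χ : G → ℂ) u) =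
        if ξ = χ then (Nat.card G : ℂ) else 0 := fun χ ξ => by
      have h := Char.classInner_irr ξ χ
      rw [classInner, inv_mul_eq_iff_eq_mul₀ hG] at h
      rw [h, mul_ite, mul_one, mul_zero]
    calc H x = (Nat.card G : ℂ)⁻¹ * ∑ χ ∈ sp, ∑ ξ ∈ sq,
          (χ : G → ℂ) y * conj ((ξ : G → ℂ) x) * (if ξ = χ then (Nat.card G : ℂ) else 0) := by
          simp only [mul_ite, mul_zero, Finset.sum_ite_eq', ← Finset.sum_filter, H, Finset.mul_sum]
          refine Finset.sum_congr (by ext; simp [hS, hsp, hsq]) fun χ _ => ?_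
          field_simp
      _ = _ := by
          congr 1
          simp only [← horth, F, Finset.mul_sum, Finset.sum_mul]
          rw [Finset.sum_congr rfl fun χ _ => Finset.sum_comm, Finset.sum_comm]
          refine Finset.sum_congr rfl fun u _ => ?_
          rw [Finset.sum_comm]
          exact Finset.sum_congr rfl fun ξ _ => Finset.sum_congr rfl fun χ _ => by ring
  have hH : ∀ x, q ∣ orderOf x → H x = 0 := by
    intro x hx
    rw [hproj, Finset.sum_eq_zero fun u _ => ?_, mul_zero]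
    by_cases hu : q ∣ orderOf u
    · rw [hF u hu, zero_mul]
    · have h := blockUnion_orthogonal_regular_singular hMq (IsBlockUnion.of_isPBlock hBq) hu hx
      rw [finsum_mem_eq_finite_toFinset_sum _ (Set.toFinite _)] at h
      rw [show ∑ ξ ∈ sq, (ξ : G → ℂ) u * conj ((ξ : G → ℂ) x) = 0 from
        Eq.trans (Finset.sum_congr (by ext; simp [hsq]) fun _ _ => rfl) h, mul_zero]
  obtain ⟨Q⟩ : Nonempty (Sylow q G) := inferInstance
  have hQ : Nat.card (Q : Subgroup G) = q ^ b := by rw [← hb]; exact Q.card_eq_multiplicity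
  have := Fintype.ofFinite (Q : Subgroup G)
  choose n hn using fun χ : IrrCharacter G => Char.classInner_char_irr_nat
    (Char.isCharacter_comp (Char.isCharacter_conj (Char.isCharacter_irr χ)) (Q : Subgroup G).subtype)
    ⟨fun _ => 1, Char.isIrrCharacter_one⟩
  refine ⟨∑ χ ∈ S, (n χ : AlgInt) * ⟨(χ : G → ℂ) y, irr_isIntegral χ y⟩, ?_⟩
  have hsum : ∑ u : (Q : Subgroup G), H (u : G) = H 1 := by
    rw [Finset.sum_eq_single 1 (fun u _ hu => hH _ ?_) (by simp), OneMemClass.coe_one]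
    obtain ⟨j, hj⟩ := IsPGroup.iff_orderOf.mp Q.isPGroup' u
    rw [Subgroup.orderOf_coe, hj]
    exact dvd_pow_self q fun h => hu (orderOf_eq_one_iff.mp (by rw [hj, h, pow_zero]))
  have hH1 : H 1 = ∑ᶠ χ ∈ Bp ∩ Bq, (charDegree (χ : G → ℂ) : ℂ) * (χ : G → ℂ) y := by
    rw [finsum_mem_eq_finite_toFinset_sum _ (Set.toFinite _)]
    refine Finset.sum_congr (by ext; simp [hS]) fun χ _ => ?_
    rw [Char.conj_irr_one, ← (charDegree_eq χ).1, mul_comm]
  rw [← hH1, ← hsum]
  simp only [H]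
  rw [Finset.sum_comm]
  push_cast
  rw [Finset.mul_sum]
  refine Finset.sum_congr rfl fun χ _ => ?_
  have h := hn χ
  rw [classInner, inv_mul_eq_iff_eq_mul₀ (Nat.cast_ne_zero.mpr Nat.card_pos.ne'), hQ] at h
  simp only [map_one, mul_one, Subgroup.coe_subtype, Nat.cast_pow] at h
  rw [← Finset.mul_sum, h]
  ring

end CfsgLib.Block
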