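import Cfsg.Agent.Lib.Block.CoveringDefect
import Cfsg.Agent.Lib.Block.ExtensionPrincipal
import Cfsg.Agent.Lib.Block.PrincipalCoreInflation
import Cfsg.Agent.Lib.Block.RealExtension
import Cfsg.Agent.Lib.Block.Transport
import Cfsg.Agent.Lib.Char.AutExtend
import Cfsg.Agent.Lib.Char.CoprimeCyclicAction
import Cfsg.Agent.Lib.Char.ExtendCriteria
import Cfsg.Agent.S4923

/-!
# `p`-rational extensions in the principal block

For `G = N C(Q)`, `Q` Sylow in `N`, an extendible member of the principal block of `N` of `p'`-degree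
and `p'`-determinantal order has exactly one extension of `p'`-determinantal order lying in the
principal block of every overgroup of `N`. It is therefore invariant, extends canonically over a
`p`-group on top, and is fixed by every Galois twist fixing the character.
-/

open Finset
open scoped ComplexConjugate

set_option linter.unusedSectionVars false

namespace CfsgLib.Block.PRationalExtension

open Cfsg CfsgLib.Block
open Representation Module

universe u

attribute [-instance] MonoidHom.instPow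

variable {p : ℕ} [Fact p.Prime] {M : Ideal AlgInt} [M.IsMaximal]

/-- Restrictions to the overgroups of `N` lie in their principal blocks. -/
def PrincipalAbove (M : Ideal AlgInt) {G : Type u} [Group G] (N : Subgroup G) (χ : G → ℂ) : Prop :=
  ∀ {A : Type u} [Group A] [Finite A] (f : A →* G), Function.Injective f → N ≤ f.range →
    ∃ ξ ∈ principalBlock M A, ∀ a, (ξ : A → ℂ) a = χ (f a)

section elementary

variable {G : Type u} [Group G] [Finite G]

theorem detOrder_character {m : ℕ} (σ : Representation ℂ G (Fin m → ℂ)) :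
    detOrder σ.character = orderOf (Char.detHom σ) := by
  rw [detOrder, Char.detChar_eq, Char.orderOf_fun_hom]

theorem orderOf_hom_ne_zero (f : G →* ℂˣ) : orderOf f ≠ 0 := by
  refine (IsOfFinOrder.orderOf_pos (isOfFinOrder_iff_pow_eq_one.mpr ⟨Nat.card G, Nat.card_pos, ?_⟩)).ne'
  refine MonoidHom.ext fun g => ?_
  rw [MonoidHom.pow_apply, ← map_pow, pow_card_eq_one', map_one, MonoidHom.one_apply]

/-- A linear twist of `p`-power order making the determinantal order prime to `p`. -/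
theorem exists_good_twist (N : Subgroup G) {d : ℕ} (hd : ¬ p ∣ d) (δ : G →* ℂˣ)
    (hδ : ¬ p ∣ orderOf (δ.comp N.subtype)) :
    ∃ (μ : G →* ℂˣ) (a : ℕ), μ ^ p ^ a = 1 ∧ (∀ n : N, μ n = 1) ∧ ¬ p ∣ orderOf (δ * μ ^ d) := by
  have hp : p.Prime := Fact.out
  have h0 := orderOf_hom_ne_zero δ
  set a := (orderOf δ).factorization p with ha
  set m := ordCompl[p] (orderOf δ) with hm
  have ham : p ^ a * m = orderOf δ := Nat.ordProj_mul_ordCompl_eq_self _ _
  have hpm : ¬ p ∣ m := Nat.not_dvd_ordCompl hp h0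
  have hm0 : m ≠ 0 := fun e => hpm (e ▸ dvd_zero p)
  have hcop : Nat.Coprime (d * m) (p ^ a) :=
    Nat.Coprime.pow_right a (Nat.Coprime.symm (hp.coprime_iff_not_dvd.mpr fun h =>
      (hp.dvd_mul.mp h).elim hd hpm))
  obtain ⟨j, hj⟩ : ∃ j : ℕ, (p ^ a) ∣ 1 + d * (m * j) := by
    have hu : IsUnit ((d * m : ℕ) : ZMod (p ^ a)) := (ZMod.isUnit_iff_coprime _ _).mpr hcop
    obtain ⟨v, hv⟩ := hu.exists_right_inv
    haveI : NeZero (p ^ a) := ⟨pow_ne_zero a hp.ne_zero⟩
    refine ⟨(-v).val, (ZMod.natCast_eq_zero_iff _ _).mp ?_⟩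
    push_cast
    rw [ZMod.natCast_zmod_val, ← mul_assoc, ← Nat.cast_mul, mul_neg, hv, add_neg_cancel]
  refine ⟨δ ^ (m * j), a, ?_, fun n => ?_, ?_⟩
  · rw [← pow_mul, show m * j * p ^ a = orderOf δ * j by rw [← ham]; ring, pow_mul, pow_orderOf_eq_one,
      one_pow]
  · have h1 : orderOf ((δ.comp N.subtype) ^ m) ∣ p ^ a := orderOf_dvd_of_pow_eq_one <| by
      rw [← pow_mul, mul_comm, ham]
      exact MonoidHom.ext fun x => DFunLike.congr_fun (pow_orderOf_eq_one δ) (x : G)
    have h2 : orderOf ((δ.comp N.subtype) ^ m) ∣ orderOf (δ.comp N.subtype) := orderOf_pow_dvd _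
    have h3 : (δ.comp N.subtype) ^ m = 1 := orderOf_eq_one_iff.mp <| Nat.eq_one_of_dvd_coprimes
      ((hp.coprime_iff_not_dvd.mpr hδ).pow_left a) h1 h2
    have h4 := DFunLike.congr_fun h3 n
    rw [MonoidHom.pow_apply, MonoidHom.comp_apply, MonoidHom.one_apply] at h4
    rw [MonoidHom.pow_apply, pow_mul]
    show (δ (n : G) ^ m) ^ j = 1
    rw [show δ (n : G) ^ m = 1 from h4, one_pow]
  · refine fun hdvd => hpm (hdvd.trans (orderOf_dvd_of_pow_eq_one ?_))
    obtain ⟨c, hc⟩ := hj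
    rw [← pow_mul, show δ * δ ^ (m * j * d) = δ ^ (p ^ a * c) by
      rw [← pow_succ', ← hc]; congr 1; ring, ← pow_mul,
      show p ^ a * c * m = orderOf δ * c by rw [← ham]; ring, pow_mul, pow_orderOf_eq_one, one_pow]

/-- A `p`-power twist of an extension by a linear character is the identity once both determinantal
orders are prime to `p`. -/
theorem twist_eq_one {d : ℕ} (hd : ¬ p ∣ d) {δ δ' ν : G →* ℂˣ} (h : δ' = δ * ν ^ d)
    (hδ : ¬ p ∣ orderOf δ) (hδ' : ¬ p ∣ orderOf δ')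
    (hν : ∀ g, ∃ a : ℕ, ν g ^ p ^ a = 1) : ν = 1 := by
  have hp : p.Prime := Fact.out
  refine MonoidHom.ext fun g => ?_
  obtain ⟨a, ha⟩ := hν g
  rw [MonoidHom.one_apply, ← orderOf_eq_one_iff]
  refine Nat.eq_one_of_dvd_coprimes (Nat.Coprime.pow_left a (hp.coprime_iff_not_dvd.mpr fun hdvd =>
    (hp.dvd_mul.mp hdvd).elim hd fun hdvd => (hp.dvd_mul.mp hdvd).elim hδ hδ')) (orderOf_dvd_of_pow_eq_one ha)
    (orderOf_dvd_of_pow_eq_one (n := d * (orderOf δ * orderOf δ')) ?_)
  have h1 : ν g ^ d = δ' g / δ g := by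
    rw [h, MonoidHom.mul_apply, MonoidHom.pow_apply, mul_div_cancel_left]
  rw [pow_mul, h1, div_pow]
  have e1 : δ' g ^ orderOf δ' = 1 := DFunLike.congr_fun (pow_orderOf_eq_one δ') g
  have e2 : δ g ^ orderOf δ = 1 := DFunLike.congr_fun (pow_orderOf_eq_one δ) g
  rw [mul_comm (orderOf δ), pow_mul, e1, one_pow, mul_comm (orderOf δ'), pow_mul, e2, one_pow, div_one]

end elementary

section supplemented

variable {G : Type u} [Group G] [Fintype G] [DecidableEq G] {N : Subgroup G} [N.Normal] [Fintype N]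
  {Q : Subgroup G} {θ : IrrCharacter N}

theorem exists_sylow_over [Finite G] (hQN : Q ≤ N) (hQp : IsPGroup p Q) (hQ : ¬ p ∣ (Q.subgroupOf N).index)
    {H : Subgroup G} (hNH : N ≤ H) (hidx : ¬ p ∣ (N.subgroupOf H).index) :
    ∃ S : Sylow p H, (S : Subgroup H) = Q.subgroupOf H := by
  have hp' : IsPGroup p (Q.subgroupOf H) := hQp.comap_subtype
  have hi : ¬ p ∣ (Q.subgroupOf H).index := by
    rw [show (Q.subgroupOf H).index = Q.relIndex H from rfl, ← Subgroup.relIndex_mul_relIndex Q N H hQN hNH]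
    exact fun h => ((Fact.out : p.Prime).dvd_mul.mp h).elim hQ hidx
  exact ⟨hp'.toSylow hi, rfl⟩

/-- Two such extensions of `p'`-determinantal order agree. -/
theorem eq_of_above (hM : IsPModular p M) (hθ : θ ∈ principalBlock M N)
    (hd : ¬ p ∣ charDegree (θ : N → ℂ)) (hQN : Q ≤ N) (hQp : IsPGroup p Q)
    (hQ : ¬ p ∣ (Q.subgroupOf N).index) (hsup : N ⊔ Subgroup.centralizer (Q : Set G) = ⊤)
    {χ χ' : IrrCharacter G} (hr : ∀ n : N, (χ : G → ℂ) n = (θ : N → ℂ) n)
    (hr' : ∀ n : N, (χ' : G → ℂ) n = (θ : N → ℂ) n) (hg : ¬ p ∣ detOrder (χ : G → ℂ))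
    (hg' : ¬ p ∣ detOrder (χ' : G → ℂ)) (hP : PrincipalAbove M N (χ : G → ℂ))
    (hP' : PrincipalAbove M N (χ' : G → ℂ)) : χ = χ' := by
  classical
  have hp : p.Prime := Fact.out
  obtain ⟨d, ρ, hρ, hρθ⟩ := θ.2
  haveI := hρ
  have hdd : charDegree (θ : N → ℂ) = d := by
    rw [← hρθ]; simp [charDegree, Representation.char_one, Module.finrank_fin_fun]
  rw [hdd] at hd
  obtain ⟨σ, hσ, hσc⟩ := Char.exists_rep_extension_top N ρ (Char.isCharacter_irr χ)
    (fun n => by rw [hr n, ← hρθ])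
  obtain ⟨σ', hσ', hσc'⟩ := Char.exists_rep_extension_top N ρ (Char.isCharacter_irr χ')
    (fun n => by rw [hr' n, ← hρθ])
  obtain ⟨ν, hνN, hν⟩ := Char.exists_twist_eq N ρ hσ hσ'
  have := Char.nontrivial_coord N ρ
  have hreg : ∀ g : G, ¬ p ∣ orderOf g → ν g = 1 := by
    intro g hgreg
    set H := N ⊔ Subgroup.zpowers g with hH
    have hgH : g ∈ H := Subgroup.mem_sup_right (Subgroup.mem_zpowers g)
    have hNH : N ≤ H := le_sup_left
    have := Fintype.ofFinite H
    have := Fintype.ofFinite (N.subgroupOf H)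
    have hidx : ¬ p ∣ (N.subgroupOf H).index := by
      intro h
      refine hgreg (h.trans ?_)
      rw [← Nat.card_zpowers]
      show N.relIndex H ∣ _
      rw [hH, sup_comm, Subgroup.relIndex_sup_right]
      exact Subgroup.index_dvd_card _
    obtain ⟨S, hS⟩ := exists_sylow_over hQN hQp hQ hNH hidx
    have hsetup : Iso.Setup (N.subgroupOf H) S := by
      refine ⟨hidx, eq_top_iff.mpr fun x _ => ?_⟩
      have hx : (x : G) ∈ N ⊔ Subgroup.centralizer (Q : Set G) := hsup ▸ Subgroup.mem_top _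
      obtain ⟨n, hn, c, hc, hnc⟩ := Subgroup.mem_sup_of_normal_left.mp hx
      have hcH : c ∈ H := by
        have : c = n⁻¹ * (x : G) := by rw [← hnc, inv_mul_cancel_left]
        rw [this]
        exact H.mul_mem (H.inv_mem (hNH hn)) x.2
      refine Subgroup.mem_sup_of_normal_left.mpr ⟨⟨n, hNH hn⟩, hn, ⟨c, hcH⟩, ?_, Subtype.ext hnc⟩
      rw [hS]
      exact Subgroup.mem_centralizer_iff.mpr fun u hu =>
        Subtype.ext (Subgroup.mem_centralizer_iff.mp hc (u : G) hu)
    obtain ⟨a, ha⟩ := hsetup.exists_rho_eq (M := M) hM ⟨g, hgH⟩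
    have key : ∀ (η : IrrCharacter G) (τ : Representation ℂ G (Fin d → ℂ)), τ.character = (η : G → ℂ) →
        (∀ n : N, τ n = ρ n) → PrincipalAbove M N (η : G → ℂ) →
        τ g = ∑ x : N.subgroupOf H, a x • ρ ⟨((x : H) : G), x.2⟩ := by
      intro η τ hτc hτ hη
      obtain ⟨ξ, hξ, hξv⟩ := hη H.subtype Subtype.val_injective (by rw [H.range_subtype]; exact hNH)
      have hirr : Representation.IsIrreducible (τ.comp H.subtype) := by
        let i : N →* H := Subgroup.inclusion hNH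
        haveI : Representation.IsIrreducible ((τ.comp H.subtype).comp i) := by
          rw [show (τ.comp H.subtype).comp i = ρ from MonoidHom.ext fun n => hτ n]
          exact hρ
        exact ExtensionPrincipal.isIrreducible_of_comp (G := H) (τ.comp H.subtype) i
      have hc : Representation.character (τ.comp H.subtype) = (ξ : H → ℂ) := funext fun x => by
        rw [hξv]
        exact congrFun hτc (x : G)
      refine (ha (τ.comp H.subtype) ξ hirr hc hξ).trans (Finset.sum_congr rfl fun x _ => ?_)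
      rw [← hτ]
      rfl
    have he : σ' g = σ g := (key χ' σ' hσc' hσ' hP').trans (key χ σ hσc hσ hP).symm
    rw [hν] at he
    have he' : (ν g : ℂ) • σ g = (1 : ℂ) • σ g := by rw [one_smul]; exact he
    refine Units.ext ((smul_left_injective ℂ (m := σ g) ?_ he').trans Units.val_one.symm)
    intro h0
    have h1 : σ g * σ g⁻¹ = 1 := by rw [← map_mul, mul_inv_cancel, map_one]
    rw [h0, zero_mul] at h1
    exact zero_ne_one h1
  have hν1 : ν = 1 := by
    refine twist_eq_one hd (δ := Char.detHom σ) (δ' := Char.detHom σ') ?_ ?_ ?_ fun g => ?_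
    · rw [hν, Char.detHom_twistRep, Module.finrank_fin_fun]
    · rwa [← detOrder_character, hσc]
    · rwa [← detOrder_character, hσc']
    · refine ⟨(orderOf g).factorization p, ?_⟩
      rw [← map_pow]
      refine hreg _ fun h => Nat.not_dvd_ordCompl hp (orderOf_pos g).ne' (h.trans ?_)
      rw [orderOf_pow' _ (pow_ne_zero _ hp.ne_zero), Nat.gcd_eq_right (Nat.ordProj_dvd _ _)]
  refine Subtype.ext (hσc.symm.trans (Eq.trans (funext fun g => ?_) hσc'))
  rw [hν, hν1]
  simp [Representation.character, Char.twistRep]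

/-- Existence of such an extension. -/
theorem exists_above (hM : IsPModular p M) (hθ : θ ∈ principalBlock M N)
    (hd : ¬ p ∣ charDegree (θ : N → ℂ)) (ho : ¬ p ∣ detOrder (θ : N → ℂ))
    (hinv : ∀ (g : G) (n : N), (θ : N → ℂ) ⟨g * n * g⁻¹, ‹N.Normal›.conj_mem (n : G) n.2 g⟩ = (θ : N → ℂ) n)
    (hQN : Q ≤ N) (hQp : IsPGroup p Q)
    (hQ : ¬ p ∣ (Q.subgroupOf N).index) (hsup : N ⊔ Subgroup.centralizer (Q : Set G) = ⊤) :
    ∃ χ : IrrCharacter G, (∀ n : N, (χ : G → ℂ) n = (θ : N → ℂ) n) ∧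
      ¬ p ∣ detOrder (χ : G → ℂ) ∧ PrincipalAbove M N (χ : G → ℂ) := by
  classical
  have hp : p.Prime := Fact.out
  obtain ⟨d, ρ, hρ, hρθ⟩ := θ.2
  haveI := hρ
  have hdd : charDegree (θ : N → ℂ) = d := by
    rw [← hρθ]; simp [charDegree, Representation.char_one, Module.finrank_fin_fun]
  rw [hdd] at hd
  rw [← hρθ, detOrder_character] at ho
  obtain ⟨σ, hσ⟩ := Char.extends_of_sylow N ρ ((Char.isInvariant_iff N ρ hρθ).mpr hinv)
    fun q hq hqi hqd => by
      have : Fact q.Prime := ⟨hq⟩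
      have hqp : q ≠ p := fun e => by
        subst e
        exact (hq.dvd_mul.mp hqd).elim hd ho
      obtain ⟨S⟩ : Nonempty (Sylow q (G ⧸ N)) := inferInstance
      set H := (S : Subgroup (G ⧸ N)).comap (QuotientGroup.mk' N) with hH
      have hNH : N ≤ H := fun n hn => by
        rw [hH, Subgroup.mem_comap, QuotientGroup.mk'_apply, (QuotientGroup.eq_one_iff n).mpr hn]
        exact one_mem _
      have hHi : ¬ q ∣ H.index := by
        rw [hH, Subgroup.index_comap_of_surjective _ (QuotientGroup.mk'_surjective N)]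
        exact S.not_dvd_index
      have hNHi : ¬ p ∣ (N.subgroupOf H).index := by
        have h1 : N.relIndex H = Nat.card (S : Subgroup (G ⧸ N)) := by
          have h3 : H.map (QuotientGroup.mk' N) = (S : Subgroup (G ⧸ N)) :=
            Subgroup.map_comap_eq_self_of_surjective (QuotientGroup.mk'_surjective N) _
          rw [← Subgroup.relIndex_bot_left (S : Subgroup (G ⧸ N)), ← h3, ← Subgroup.relIndex_comap,
            MonoidHom.comap_bot, QuotientGroup.ker_mk']
        intro h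
        obtain ⟨k, hk⟩ := IsPGroup.iff_card.mp S.isPGroup'
        rw [← Subgroup.relIndex, h1, hk] at h
        exact hqp ((Nat.prime_dvd_prime_iff_eq hp hq).mp (hp.dvd_of_dvd_pow h)).symm
      have := Fintype.ofFinite H
      have := Fintype.ofFinite (N.subgroupOf H)
      obtain ⟨S', hS'⟩ := exists_sylow_over hQN hQp hQ hNH hNHi
      have hsetup : Iso.Setup (N.subgroupOf H) S' := by
        refine ⟨hNHi, eq_top_iff.mpr fun x _ => ?_⟩
        have hx : (x : G) ∈ N ⊔ Subgroup.centralizer (Q : Set G) := hsup ▸ Subgroup.mem_top _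
        obtain ⟨n, hn, c, hc, hnc⟩ := Subgroup.mem_sup_of_normal_left.mp hx
        have hcH : c ∈ H := by
          have : c = n⁻¹ * (x : G) := by rw [← hnc, inv_mul_cancel_left]
          rw [this]
          exact H.mul_mem (H.inv_mem (hNH hn)) x.2
        refine Subgroup.mem_sup_of_normal_left.mpr ⟨⟨n, hNH hn⟩, hn, ⟨c, hcH⟩, ?_, Subtype.ext hnc⟩
        rw [hS']
        exact Subgroup.mem_centralizer_iff.mpr fun u hu =>
          Subtype.ext (Subgroup.mem_centralizer_iff.mp hc (u : G) hu)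
      let e : N ≃* N.subgroupOf H := (Subgroup.subgroupOfEquivOfLe hNH).symm
      have hθ' : irrEquiv e θ ∈ principalBlock M (N.subgroupOf H) := by
        have h1 : irrEquiv e (oneChar N) = oneChar (N.subgroupOf H) := rfl
        show SameBlock M (oneChar (N.subgroupOf H) : ↥(N.subgroupOf H) → ℂ) (irrEquiv e θ : ↥(N.subgroupOf H) → ℂ)
        rw [← h1, sameBlock_irrEquiv]
        exact hθ
      obtain ⟨η, ⟨-, hη⟩, -⟩ := hsetup.exists_extension hM hθ'
      obtain ⟨τ, hτ, -⟩ := Char.exists_rep_extension N ρ H hNH (Char.isCharacter_irr η) fun n => by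
        rw [hρθ]
        refine (hη ⟨⟨(n : G), hNH n.2⟩, n.2⟩).trans ?_
        exact congrArg (θ : N → ℂ) (Subtype.ext rfl)
      exact ⟨H, hNH, τ, hHi, hτ⟩
  have hψ : ∀ n : N, σ.character n = (θ : N → ℂ) n := fun n => by
    rw [← congrFun hρθ n]; exact congrArg (LinearMap.trace ℂ _) (hσ n)
  obtain ⟨χ₀, hχ₀r, hχ₀⟩ := ExtensionPrincipal.exists_principal_extension hM hθ
    (ψ := ⟨σ.character, Char.isIrrCharacter_of_extends N ρ hσ⟩) hψ hQ hsup
  obtain ⟨σ₀, hσ₀, hσ₀c⟩ := Char.exists_rep_extension_top N ρ (Char.isCharacter_irr χ₀)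
    (fun n => by rw [hχ₀r n, ← hρθ])
  obtain ⟨μ, a, hμa, hμN, hμo⟩ := exists_good_twist (p := p) N hd (Char.detHom σ₀)
    (by rwa [Char.detHom_comp N ρ hσ₀])
  refine ⟨Char.linMul μ χ₀, fun n => ?_, ?_, fun {A} _ _ f hf hNf => ?_⟩
  · show (μ (n : G) : ℂ) * (χ₀ : G → ℂ) n = _
    rw [hμN, Units.val_one, one_mul, hχ₀r]
  · have hc : (Char.linMul μ χ₀ : G → ℂ) = (Char.twistRep σ₀ μ).character := funext fun g => by
      show (μ g : ℂ) * (χ₀ : G → ℂ) g = LinearMap.trace ℂ _ ((μ g : ℂ) • σ₀ g)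
      rw [map_smul, smul_eq_mul, ← hσ₀c]
      rfl
    rwa [hc, detOrder_character, Char.detHom_twistRep, Module.finrank_fin_fun]
  · obtain ⟨ξ, hξ, hξv⟩ := hχ₀ f hf hNf
    refine ⟨Char.linMul (μ.comp f) ξ, ?_, fun x => ?_⟩
    · have h1 := linMul_mem_blockOf hM (μ.comp f) (a := a) (MonoidHom.ext fun x => by
        rw [MonoidHom.pow_apply]; exact DFunLike.congr_fun hμa (f x)) ξ
      exact sameBlock_trans hξ h1
    · show ((μ (f x) : ℂˣ) : ℂ) * (ξ : A → ℂ) x = _
      rw [hξv]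
      rfl

end supplemented

section top

variable {G : Type u} [Group G] [Fintype G] [DecidableEq G] (N : Subgroup G) [N.Normal] [Fintype N]

/-- Over a `p`-group on top the extension of `p'`-determinantal order is unique. -/
theorem eq_of_ppow {a : ℕ} (hidx : N.index = p ^ a) {θ : IrrCharacter N}
    (hd : ¬ p ∣ charDegree (θ : N → ℂ)) {χ χ' : IrrCharacter G}
    (hr : ∀ n : N, (χ : G → ℂ) n = (θ : N → ℂ) n) (hr' : ∀ n : N, (χ' : G → ℂ) n = (θ : N → ℂ) n)
    (hg : ¬ p ∣ detOrder (χ : G → ℂ)) (hg' : ¬ p ∣ detOrder (χ' : G → ℂ)) : χ = χ' := by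
  have hp : p.Prime := Fact.out
  obtain ⟨d, ρ, hρ, hρθ⟩ := θ.2
  haveI := hρ
  have hdd : charDegree (θ : N → ℂ) = d := by
    rw [← hρθ]; simp [charDegree, Representation.char_one, Module.finrank_fin_fun]
  rw [hdd] at hd
  obtain ⟨σ, hσ, hσc⟩ := Char.exists_rep_extension_top N ρ (Char.isCharacter_irr χ)
    (fun n => by rw [hr n, ← hρθ])
  obtain ⟨σ', hσ', hσc'⟩ := Char.exists_rep_extension_top N ρ (Char.isCharacter_irr χ')
    (fun n => by rw [hr' n, ← hρθ])
  obtain ⟨ν, hνN, hν⟩ := Char.exists_twist_eq N ρ hσ hσ'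
  have hν1 : ν = 1 := by
    refine twist_eq_one hd (δ := Char.detHom σ) (δ' := Char.detHom σ') ?_ ?_ ?_ fun g => ⟨a, ?_⟩
    · rw [hν, Char.detHom_twistRep, Module.finrank_fin_fun]
    · rwa [← detOrder_character, hσc]
    · rwa [← detOrder_character, hσc']
    · rw [← map_pow, ← hidx]
      exact hνN ⟨_, N.pow_index_mem g⟩
  refine Subtype.ext (hσc.symm.trans (Eq.trans (funext fun g => ?_) hσc'))
  rw [hν, hν1]
  simp [Representation.character, Char.twistRep]

theorem exists_ppow {a : ℕ} (hidx : N.index = p ^ a) {θ : IrrCharacter N}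
    (hd : ¬ p ∣ charDegree (θ : N → ℂ)) (ho : ¬ p ∣ detOrder (θ : N → ℂ))
    (hinv : ∀ (g : G) (n : N), (θ : N → ℂ) ⟨g * n * g⁻¹, ‹N.Normal›.conj_mem (n : G) n.2 g⟩ = (θ : N → ℂ) n) :
    ∃ χ : IrrCharacter G, (∀ n : N, (χ : G → ℂ) n = (θ : N → ℂ) n) ∧ ¬ p ∣ detOrder (χ : G → ℂ) := by
  have hp : p.Prime := Fact.out
  obtain ⟨d, ρ, hρ, hρθ⟩ := θ.2
  haveI := hρ
  have hdd : charDegree (θ : N → ℂ) = d := by
    rw [← hρθ]; simp [charDegree, Representation.char_one, Module.finrank_fin_fun]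
  rw [hdd] at hd
  rw [← hρθ, detOrder_character] at ho
  obtain ⟨σ, hσ⟩ := Char.extends_of_sylow N ρ ((Char.isInvariant_iff N ρ hρθ).mpr hinv)
    fun q hq hqi hqd => by
      exfalso
      obtain rfl : q = p := (Nat.prime_dvd_prime_iff_eq hq hp).mp (hq.dvd_of_dvd_pow (hidx ▸ hqi))
      exact (hq.dvd_mul.mp hqd).elim hd ho
  obtain ⟨μ, b, -, hμN, hμo⟩ := exists_good_twist (p := p) N hd (Char.detHom σ)
    (by rwa [Char.detHom_comp N ρ hσ])
  refine ⟨⟨_, Char.isIrrCharacter_of_extends N ρ (Char.twistRep_extends N ρ hσ hμN)⟩, fun n => ?_, ?_⟩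
  · rw [← congrFun hρθ n]
    exact congrArg (LinearMap.trace ℂ _) (Char.twistRep_extends N ρ hσ hμN n)
  · show ¬ p ∣ detOrder (Char.twistRep σ μ).character
    rwa [detOrder_character, Char.detHom_twistRep, Module.finrank_fin_fun]

end top

section galois

variable {G : Type u} [Group G] [Finite G]

theorem detOrder_galois (τ : ℂ ≃+* ℂ) (χ : IrrCharacter G) :
    detOrder (fun g => τ ((χ : G → ℂ) g)) = detOrder (χ : G → ℂ) := by
  obtain ⟨d, ρ, -, hρ⟩ := χ.2
  rw [← hρ, show (fun g => τ (ρ.character g)) = (Char.CoprimeCyclic.galoisRep τ ρ).character from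
    funext fun g => (Char.CoprimeCyclic.galoisRep_character τ ρ g).symm,
    detOrder_character, detOrder_character]
  have he : Char.detHom (Char.CoprimeCyclic.galoisRep τ ρ) =
      (Units.map τ.toRingHom.toMonoidHom).comp (Char.detHom ρ) :=
    MonoidHom.ext fun g => Units.ext (Char.CoprimeCyclic.galoisRep_det τ ρ g)
  have hinj : Function.Injective (Units.map τ.toRingHom.toMonoidHom) :=
    fun x y h => Units.ext (τ.injective (congrArg Units.val h))
  rw [he]
  exact orderOf_injective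
    ({ toFun := fun f => (Units.map τ.toRingHom.toMonoidHom).comp f
       map_one' := MonoidHom.ext fun g => by simp
       map_mul' := fun f h => MonoidHom.ext fun g => by simp } : (G →* ℂˣ) →* (G →* ℂˣ))
    (fun f h e => MonoidHom.ext fun g => hinj (DFunLike.congr_fun e g)) _

theorem detOrder_comp_equiv {A : Type u} [Group A] [Finite A] (e : A ≃* G) (χ : IrrCharacter G) :
    detOrder (fun a => (χ : G → ℂ) (e a)) = detOrder (χ : G → ℂ) := by
  obtain ⟨d, ρ, -, hρ⟩ := χ.2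
  rw [← hρ, show (fun a => ρ.character (e a)) = Representation.character (ρ.comp e.toMonoidHom) from rfl,
    detOrder_character, detOrder_character,
    show Char.detHom (ρ.comp e.toMonoidHom) = (Char.detHom ρ).comp e.toMonoidHom from
      MonoidHom.ext fun a => Units.ext (by simp [Char.detHom_coe])]
  exact orderOf_injective
    ({ toFun := fun f => f.comp e.toMonoidHom
       map_one' := MonoidHom.ext fun g => by simp
       map_mul' := fun f h => MonoidHom.ext fun g => by simp } : (G →* ℂˣ) →* (A →* ℂˣ))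
    (fun f h he => MonoidHom.ext fun g => by
      obtain ⟨x, rfl⟩ := e.surjective g
      exact DFunLike.congr_fun he x) (Char.detHom ρ)

theorem fixed_of_mem {n : ℕ} {τ : ℂ ≃+* ℂ}
    (hτ : τ (Complex.exp (2 * Real.pi * Complex.I / n)) = Complex.exp (2 * Real.pi * Complex.I / n))
    {x : ℂ} (hx : x ∈ IntermediateField.adjoin ℚ ({Complex.exp (2 * Real.pi * Complex.I / n)} : Set ℂ)) :
    τ x = x := by
  induction hx using IntermediateField.adjoin_induction with
  | mem y hy => rw [Set.mem_singleton_iff.mp hy]; exact hτ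
  | algebraMap y => rw [eq_ratCast, map_ratCast]
  | add x y _ _ hx hy => rw [map_add, hx, hy]
  | inv x _ hx => rw [map_inv₀, hx]
  | mul x y _ _ hx hy => rw [map_mul, hx, hy]

/-- A `p`-rational irreducible character has determinantal order prime to `p`, for `p` odd. -/
theorem detOrder_not_dvd_of_rational (hp2 : p ≠ 2) (θ : IrrCharacter G) {m : ℕ} (hm : ¬ p ∣ m)
    (hθ : ∀ g : G, (θ : G → ℂ) g ∈
      IntermediateField.adjoin ℚ ({Complex.exp (2 * Real.pi * Complex.I / m)} : Set ℂ)) :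
    ¬ p ∣ detOrder (θ : G → ℂ) := by
  have hp : p.Prime := Fact.out
  obtain ⟨d, ρ, -, hρ⟩ := θ.2
  rw [← hρ, detOrder_character]
  intro hdvd
  obtain ⟨τ, hτm, hτp⟩ := Char.exists_aut_fix_pow (n := m) (m := p) (fun e => hm (e ▸ dvd_zero p))
    hp.ne_zero (Nat.Coprime.symm (hp.coprime_iff_not_dvd.mpr hm)) (a := 2)
    ((Nat.coprime_primes Nat.prime_two hp).mpr (Ne.symm hp2))
  have hfix : ∀ g, τ (Char.detHom ρ g : ℂ) = (Char.detHom ρ g : ℂ) := by
    intro g
    obtain ⟨φ⟩ := Char.nonempty_equiv_of_character_eq (Char.CoprimeCyclic.galoisRep τ ρ) ρ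
      (funext fun x => by
        rw [Char.CoprimeCyclic.galoisRep_character, hρ]
        exact fixed_of_mem hτm (hθ x))
    rw [← Char.CoprimeCyclic.galoisRep_det, Char.detHom_coe, Char.detHom_coe,
      Char.det_eq_of_equiv φ g]
  set o := orderOf (Char.detHom ρ) with ho
  have ho0 : o ≠ 0 := orderOf_hom_ne_zero _
  have hlt : Char.detHom ρ ^ (o / p) ≠ 1 := fun h => by
    have h1 := Nat.le_of_dvd (Nat.div_pos (Nat.le_of_dvd (Nat.pos_of_ne_zero ho0) hdvd) hp.pos)
      (orderOf_dvd_of_pow_eq_one h)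
    exact absurd h1 (not_le.mpr (Nat.div_lt_self (Nat.pos_of_ne_zero ho0) hp.one_lt))
  refine hlt (MonoidHom.ext fun g => Units.ext ?_)
  set y := (((Char.detHom ρ ^ (o / p)) g : ℂˣ) : ℂ) with hy
  have hyp : y ^ p = 1 := by
    rw [hy, MonoidHom.pow_apply, ← Units.val_pow_eq_pow_val, ← pow_mul, Nat.div_mul_cancel hdvd,
      ← MonoidHom.pow_apply, ho, pow_orderOf_eq_one]
    rfl
  have hτy : τ y = y := by
    rw [hy, MonoidHom.pow_apply, Units.val_pow_eq_pow_val, map_pow, hfix]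
  obtain ⟨i, -, hi⟩ := (Complex.isPrimitiveRoot_exp p hp.ne_zero).eq_pow_of_pow_eq_one hyp
  rw [← hi, map_pow, hτp, pow_right_comm, hi, sq] at hτy
  have hy0 : y ≠ 0 := Units.ne_zero _
  rw [MonoidHom.one_apply, Units.val_one]
  exact mul_left_cancel₀ hy0 (hτy.trans (mul_one y).symm)

/-- An automorphism of `ℂ` acts on all characters as a power map. -/
theorem exists_powMap (τ : ℂ ≃+* ℂ) :
    ∃ k : ℕ, (Nat.card G).Coprime k ∧ ∀ χ : G → ℂ, IsCharacter G χ → ∀ g, τ (χ g) = χ (g ^ k) := by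
  have h0 : Nat.card G ≠ 0 := Nat.card_pos.ne'
  have hζ := Complex.isPrimitiveRoot_exp (Nat.card G) h0
  obtain ⟨k, -, hkc, hk⟩ := hζ.isPrimitiveRoot_iff.mp
    (hζ.map_of_injective (f := τ.toRingHom) τ.injective)
  refine ⟨k, Nat.Coprime.symm hkc, ?_⟩
  rintro _ ⟨n, ρ, rfl⟩ g
  obtain ⟨b, μ, h1, -, h3⟩ := Char.exists_eigen_data ρ g
  have e := h3 1
  simp only [pow_one] at e
  rw [h3 k, e, map_sum]
  refine Finset.sum_congr rfl fun i _ => ?_
  obtain ⟨c, hc⟩ := orderOf_dvd_natCard g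
  have hμ : μ i ^ Nat.card G = 1 := by rw [hc, pow_mul, h1, one_pow]
  obtain ⟨j, -, hj⟩ := hζ.eq_pow_of_pow_eq_one hμ
  rw [← hj, map_pow]
  refine (congrArg (· ^ j) hk.symm).trans ?_
  rw [← pow_mul, ← pow_mul, Nat.mul_comm k j]

end galois

/-- A `p`-rational member of the principal block of `N` of `p'`-degree has a `p`-rational extension in
the principal block, if `N C(Q)` has `p`-power index for `Q` Sylow in `N`. -/
theorem exists_rational_extension {G : Type u} [Group G] [Fintype G] [DecidableEq G]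
    [Fintype (IrrCharacter G)] (hp2 : p ≠ 2) (hM : IsPModular p M) (N : Subgroup G) [N.Normal]
    [Fintype N] (θ : IrrCharacter N)
    (hinv : ∀ g : G, ∀ n n' : N, (n' : G) = g * (n : G) * g⁻¹ → (θ : N → ℂ) n' = (θ : N → ℂ) n)
    (hd : ¬ p ∣ charDegree (θ : N → ℂ)) {m : ℕ} (hm : ¬ p ∣ m)
    (hrat : ∀ n : N, (θ : N → ℂ) n ∈
      IntermediateField.adjoin ℚ ({Complex.exp (2 * Real.pi * Complex.I / m)} : Set ℂ))
    (hB : θ ∈ principalBlock M N) (Q : Sylow p N) {a : ℕ}
    (hidx : (N ⊔ Subgroup.centralizer (((Q : Subgroup N).map N.subtype : Subgroup G) : Set G)).index = p ^ a) :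
    ∃ χ : IrrCharacter G, χ ∈ principalBlock M G ∧
      (∃ n : ℕ, ¬ p ∣ n ∧ ∀ g : G, (χ : G → ℂ) g ∈
        IntermediateField.adjoin ℚ ({Complex.exp (2 * Real.pi * Complex.I / n)} : Set ℂ)) ∧
      ∀ n : N, (χ : G → ℂ) n = (θ : N → ℂ) n := by
  classical
  have hp : p.Prime := Fact.out
  set Q' : Subgroup G := (Q : Subgroup N).map N.subtype with hQ'
  set K := N ⊔ Subgroup.centralizer (Q' : Set G) with hK
  have hNK : N ≤ K := le_sup_left
  have hQ'N : Q' ≤ N := Subgroup.map_subtype_le _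
  have hKn : K.Normal := ⟨fun x hx g => by
    obtain ⟨h, hh, n, hn, rfl⟩ := Subgroup.mem_sup_of_normal_right.mp
      (show g ∈ Subgroup.normalizer (Q' : Set G) ⊔ N by rw [Sylow.normalizer_sup_eq_top]; trivial)
    obtain ⟨m', hm', c, hc, rfl⟩ := Subgroup.mem_sup_of_normal_left.mp hx
    have h1 : n * (m' * c) * n⁻¹ ∈ K :=
      K.mul_mem (K.mul_mem (hNK hn) (Subgroup.mul_mem_sup hm' hc)) (K.inv_mem (hNK hn))
    obtain ⟨n₂, hn₂, c₂, hc₂, e⟩ := Subgroup.mem_sup_of_normal_left.mp h1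
    rw [show h * n * (m' * c) * (h * n)⁻¹ = (h * n₂ * h⁻¹) * (h * c₂ * h⁻¹) by
      rw [show h * n * (m' * c) * (h * n)⁻¹ = h * (n * (m' * c) * n⁻¹) * h⁻¹ by group, ← e]; group]
    refine Subgroup.mul_mem_sup (‹N.Normal›.conj_mem _ hn₂ h) (Subgroup.mem_centralizer_iff.mpr fun u hu => ?_)
    have hu' : h⁻¹ * u * h ∈ Q' := (Subgroup.mem_normalizer_iff''.mp hh u).mp hu
    have h2 := Subgroup.mem_centralizer_iff.mp hc₂ _ hu'
    calc u * (h * c₂ * h⁻¹) = h * ((h⁻¹ * u * h) * c₂) * h⁻¹ := by group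
      _ = h * (c₂ * (h⁻¹ * u * h)) * h⁻¹ := by rw [h2]
      _ = h * c₂ * h⁻¹ * u := by group⟩
  have := hKn
  have := Fintype.ofFinite K
  have := Fintype.ofFinite (N.subgroupOf K)
  have := Fintype.ofFinite (IrrCharacter K)
  have := Fintype.ofFinite (IrrCharacter N)
  -- transport to `K`
  let e : N ≃* N.subgroupOf K := (Subgroup.subgroupOfEquivOfLe hNK).symm
  set θ' : IrrCharacter (N.subgroupOf K) := irrEquiv e θ with hθ'
  have hval' : ∀ x : N.subgroupOf K, (θ' : ↥(N.subgroupOf K) → ℂ) x = (θ : N → ℂ) ⟨((x : K) : G), x.2⟩ :=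
    fun x => rfl
  have hθ'B : θ' ∈ principalBlock M (N.subgroupOf K) := by
    show SameBlock M (oneChar (N.subgroupOf K) : ↥(N.subgroupOf K) → ℂ) (irrEquiv e θ : ↥(N.subgroupOf K) → ℂ)
    rw [show oneChar (N.subgroupOf K) = irrEquiv e (oneChar N) from rfl, sameBlock_irrEquiv]
    exact hB
  have hθ'd : ¬ p ∣ charDegree (θ' : ↥(N.subgroupOf K) → ℂ) := by
    have h1 := (charDegree_eq θ').1
    rw [hval', show (⟨(((1 : N.subgroupOf K) : K) : G), (1 : N.subgroupOf K).2⟩ : N) = 1 from rfl,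
      (charDegree_eq θ).1, Nat.cast_inj] at h1
    rwa [← h1]
  have hθ'o : ¬ p ∣ detOrder (θ' : ↥(N.subgroupOf K) → ℂ) :=
    detOrder_not_dvd_of_rational hp2 θ' hm fun x => by rw [hval']; exact hrat _
  have hQK : Q' ≤ K := hQ'N.trans hNK
  set QK := Q'.subgroupOf K with hQKd
  have hQKN : QK ≤ N.subgroupOf K := fun x hx => hQ'N hx
  have hQp : IsPGroup p QK := (Q.isPGroup'.map N.subtype).comap_subtype
  have hQKi : ¬ p ∣ (QK.subgroupOf (N.subgroupOf K)).index := by
    show ¬ p ∣ QK.relIndex (N.subgroupOf K)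
    rw [hQKd, Subgroup.relIndex_subgroupOf hNK]
    rw [hQ', Subgroup.relIndex, Subgroup.subgroupOf, Subgroup.comap_map_eq_self_of_injective N.subtype_injective]
    exact Q.not_dvd_index
  have hsup : N.subgroupOf K ⊔ Subgroup.centralizer (QK : Set K) = ⊤ := by
    refine eq_top_iff.mpr fun x _ => ?_
    obtain ⟨n, hn, c, hc, hnc⟩ := Subgroup.mem_sup_of_normal_left.mp x.2
    refine Subgroup.mem_sup_of_normal_left.mpr ⟨⟨n, hNK hn⟩, hn, ⟨c, le_sup_right (a := N) hc⟩, ?_,
      Subtype.ext hnc⟩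
    exact Subgroup.mem_centralizer_iff.mpr fun u hu =>
      Subtype.ext (Subgroup.mem_centralizer_iff.mp hc (u : G) hu)
  have hinvK : ∀ (g : K) (x : N.subgroupOf K), (θ' : ↥(N.subgroupOf K) → ℂ)
      ⟨g * x * g⁻¹, (inferInstance : (N.subgroupOf K).Normal).conj_mem (x : K) x.2 g⟩ =
      (θ' : ↥(N.subgroupOf K) → ℂ) x := fun g x => by
    rw [hval', hval']
    exact hinv (g : G) _ _ rfl
  obtain ⟨χ₀, hχ₀r, hχ₀o, hχ₀P⟩ := exists_above (Q := QK) hM hθ'B hθ'd hθ'o hinvK hQKN hQp hQKi hsup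
  have huniq : ∀ χ' : IrrCharacter K, (∀ x : N.subgroupOf K, (χ' : K → ℂ) x = (θ' : ↥(N.subgroupOf K) → ℂ) x) →
      ¬ p ∣ detOrder (χ' : K → ℂ) → PrincipalAbove M (N.subgroupOf K) (χ' : K → ℂ) → χ' = χ₀ :=
    fun χ' h1 h2 h3 => eq_of_above hM hθ'B hθ'd hQKN hQp hQKi hsup h1 hχ₀r h2 hχ₀o h3 hχ₀P
  have hχ₀d : ¬ p ∣ charDegree (χ₀ : K → ℂ) := by
    have h1 := hχ₀r 1
    rw [OneMemClass.coe_one, (charDegree_eq χ₀).1, (charDegree_eq θ').1, Nat.cast_inj] at h1
    rwa [h1]
  -- invariance under `G`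
  have hinv₀ : ∀ (g : G) (x : K), (χ₀ : K → ℂ) ⟨g * x * g⁻¹, hKn.conj_mem (x : G) x.2 g⟩ = (χ₀ : K → ℂ) x := by
    intro g x
    let α : K ≃* K := MulAut.conjNormal g
    have hα : ∀ y : K, ((α y : K) : G) = g * y * g⁻¹ := fun y => MulAut.conjNormal_apply g y
    have h := huniq (irrEquiv α.symm χ₀) (fun y => ?_) ?_ ?_
    · have h' := congrFun (congrArg Subtype.val h) x
      rw [irrEquiv_apply, MulEquiv.symm_symm] at h'
      rw [← h']
      exact congrArg (χ₀ : K → ℂ) (Subtype.ext (hα x).symm)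
    · rw [irrEquiv_apply, MulEquiv.symm_symm]
      have hmem : α (y : K) ∈ N.subgroupOf K := by
        rw [Subgroup.mem_subgroupOf, hα]
        exact ‹N.Normal›.conj_mem _ y.2 g
      rw [show α (y : K) = ((⟨α y, hmem⟩ : N.subgroupOf K) : K) from rfl, hχ₀r, hval', hval']
      exact hinv g _ _ (hα _)
    · rw [show ((irrEquiv α.symm χ₀ : IrrCharacter K) : K → ℂ) = fun y => (χ₀ : K → ℂ) (α y) from
        funext fun y => by rw [irrEquiv_apply, MulEquiv.symm_symm], detOrder_comp_equiv]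
      exact hχ₀o
    · intro A _ _ f hf hNf
      obtain ⟨ξ, hξ, hξv⟩ := hχ₀P (α.toMonoidHom.comp f) (α.injective.comp hf) fun y hy => by
        obtain ⟨y', rfl⟩ := α.surjective y
        have hy' : y' ∈ N.subgroupOf K := by
          rw [Subgroup.mem_subgroupOf] at hy ⊢
          rw [hα] at hy
          have := ‹N.Normal›.conj_mem' _ hy g
          rwa [show g⁻¹ * (g * (y' : G) * g⁻¹) * g = y' by group] at this
        obtain ⟨z, hz⟩ := hNf hy'
        exact ⟨z, by rw [MonoidHom.comp_apply, hz]; rfl⟩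
      exact ⟨ξ, hξ, fun z => by rw [hξv, irrEquiv_apply, MulEquiv.symm_symm]; rfl⟩
  obtain ⟨χ, hχr, hχo⟩ := exists_ppow K hidx hχ₀d hχ₀o hinv₀
  have hχ₀K : χ₀ ∈ principalBlock M K := by
    obtain ⟨ξ, hξ, hξv⟩ := hχ₀P (MonoidHom.id K) Function.injective_id (fun x _ => ⟨x, rfl⟩)
    rwa [show χ₀ = ξ from Subtype.ext (funext fun x => (hξv x).symm)]
  refine ⟨χ, ?_, ⟨m * ordCompl[p] (Nat.card G), ?_, fun g => ?_⟩, fun n => ?_⟩
  · have hone : classInner (fun k : K => (oneChar G : G → ℂ) k) (oneChar K : K → ℂ) ≠ 0 := by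
      show classInner (oneChar K : K → ℂ) (oneChar K : K → ℂ) ≠ 0
      rw [Char.classInner_irr_self]
      exact one_ne_zero
    have hχc : classInner (fun k : K => (χ : G → ℂ) k) (χ₀ : K → ℂ) ≠ 0 := by
      rw [show (fun k : K => (χ : G → ℂ) k) = (χ₀ : K → ℂ) from funext hχr, Char.classInner_irr_self]
      exact one_ne_zero
    have h := covers_unique_of_ppow hM ⟨a, hidx⟩ (isPBlock_principalBlock (M := M) (G := G))
      (isPBlock_blockOf χ) (b := principalBlock M K) isPBlock_principalBlock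
      ⟨oneChar G, one_mem_principalBlock, oneChar K, one_mem_principalBlock, hone⟩
      ⟨χ, self_mem_blockOf χ, χ₀, hχ₀K, hχc⟩
    rw [h]
    exact self_mem_blockOf χ
  · exact fun h => (hp.dvd_mul.mp h).elim hm (Nat.not_dvd_ordCompl hp Nat.card_pos.ne')
  · set n := m * ordCompl[p] (Nat.card G) with hn
    have hn0 : n ≠ 0 := mul_ne_zero (fun e => hm (e ▸ dvd_zero p))
      (fun e => Nat.not_dvd_ordCompl hp (Nat.card_pos (α := G)).ne' (e.symm ▸ dvd_zero p))
    have hS : ∀ x ∈ ({Complex.exp (2 * Real.pi * Complex.I / n)} : Set ℂ), x ∈ Char.Alg := fun x hx => by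
      rw [Set.mem_singleton_iff.mp hx]
      exact Char.mem_alg_of_isIntegral ((Complex.isPrimitiveRoot_exp n hn0).isIntegral (Nat.pos_of_ne_zero hn0))
    refine Cfsg.Agent.S4923.mem_adjoin_of_fixed _ hS _
      (Char.mem_alg_of_isIntegral (Char.isCharacter_isIntegral (Char.isCharacter_irr χ) g)) fun φ hφ => ?_
    obtain ⟨τ, hτ⟩ := Char.exists_ringEquiv_extend φ
    rw [← hτ]
    have hτn : τ (Complex.exp (2 * Real.pi * Complex.I / n)) = Complex.exp (2 * Real.pi * Complex.I / n) :=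
      (hτ ⟨_, hS _ rfl⟩).trans (hφ ⟨_, hS _ rfl⟩ rfl)
    have hτm : τ (Complex.exp (2 * Real.pi * Complex.I / m)) = Complex.exp (2 * Real.pi * Complex.I / m) := by
      haveI : NeZero n := ⟨hn0⟩
      refine Char.fix_root_of_fix_exp hτn ?_
      rw [hn, pow_mul, (Complex.isPrimitiveRoot_exp m (fun e => hm (e ▸ dvd_zero p))).pow_eq_one, one_pow]
    obtain ⟨k, hk, hpow⟩ := exists_powMap (G := G) τ
    have hKk : (Nat.card K).Coprime k := hk.coprime_dvd_left (Subgroup.card_subgroup_dvd_card K)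
    -- the twist of the extension on `K`
    let χ₁ : IrrCharacter K := ⟨_, Char.isIrrCharacter_powMap hKk χ₀⟩
    have hτK : ∀ x : K, (χ₁ : K → ℂ) x = τ ((χ₀ : K → ℂ) x) := fun x => by
      show (χ₀ : K → ℂ) (x ^ k) = τ ((χ₀ : K → ℂ) x)
      rw [← hχr, ← hχr, hpow _ (Char.isCharacter_irr χ)]
      rfl
    have h₁ : χ₁ = χ₀ := by
      refine huniq χ₁ (fun x => ?_) ?_ ?_
      · rw [hτK, hχ₀r, hval']
        exact fixed_of_mem hτm (hrat _)
      · rw [show (χ₁ : K → ℂ) = fun x => τ ((χ₀ : K → ℂ) x) from funext hτK, detOrder_galois]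
        exact hχ₀o
      · intro A _ _ f hf hNf
        obtain ⟨ξ, hξ, hξv⟩ := hχ₀P f hf hNf
        haveI := Fintype.ofFinite A
        have hAk : (Nat.card A).Coprime k := hKk.coprime_dvd_left (Subgroup.card_dvd_of_injective f hf)
        refine ⟨_, PrincipalCore.powTwist_mem_principalBlock hM hAk hξ, fun x => ?_⟩
        show (ξ : A → ℂ) (x ^ k) = (χ₀ : K → ℂ) (f x ^ k)
        rw [hξv, map_pow]
    let χ₂ : IrrCharacter G := ⟨_, Char.isIrrCharacter_powMap hk χ⟩
    have hτG : (χ₂ : G → ℂ) = fun x => τ ((χ : G → ℂ) x) :=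
      funext fun x => (hpow _ (Char.isCharacter_irr χ) x).symm
    have h₂ : χ₂ = χ := by
      refine eq_of_ppow K hidx hχ₀d (fun x => ?_) hχr ?_ hχo
      · rw [hτG]
        show τ ((χ : G → ℂ) x) = _
        rw [hχr, ← hτK, h₁]
      · rw [hτG, detOrder_galois]
        exact hχo
    have h := congrFun (congrArg Subtype.val h₂) g
    rw [hτG] at h
    exact h
  · refine (hχr ⟨n, hNK n.2⟩).trans ?_
    exact (hχ₀r ⟨⟨n, hNK n.2⟩, n.2⟩).trans (hval' _)

end CfsgLib.Block.PRationalExtension
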