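import Cfsg.Agent.Lib.Block.PrincipalCoreInflation
import Cfsg.Agent.Lib.Block.PrincipalResidual
import Cfsg.Agent.Lib.Invol.PrincipalBlock
import Cfsg.Agent.Lib.PGroup.PSolvable
import Cfsg.Agent.S0915

/-!
# The principal block of a `p`-solvable group consists of the characters of `G / O_{p'}(G)`
-/

set_option autoImplicit false
set_option linter.unusedSectionVars false
set_option linter.style.haveILetI false

namespace CfsgLib.Block.PSolvablePrincipal

open Cfsg CfsgLib CfsgLib.Block.Cyclic
open scoped Pair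

universe u

variable {p : ℕ} [hp : Fact p.Prime] {M : Ideal AlgInt} {G : Type u} [Group G] [Finite G]

theorem mem_iff (hM : IsPModular p M) (hsolv : IsPSolvable p G) (χ : IrrCharacter G) :
    χ ∈ principalBlock M G ↔
      ∀ n ∈ Cfsg.pPrimeCore p G, (χ : G → ℂ) n = (χ : G → ℂ) 1 := by
  classical
  have := hM.2.1
  letI := Fintype.ofFinite G
  set N := Cfsg.pPrimeCore p G
  have : N.Characteristic := CfsgLib.Coprime.pPrimeCore_characteristic p
  have hN : ¬ p ∣ Nat.card N := CfsgLib.Coprime.pPrimeCore_not_dvd hp.out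
  refine ⟨fun h n hn => ?_, fun h => ?_⟩
  · have := CfsgLib.Invol.irr_mul_eq_of_mem_principalBlock hM h N hN 1 hn
    rwa [one_mul] at this
  · letI := Fintype.ofFinite (G ⧸ N)
    obtain ⟨θ, hθ⟩ := exists_deflate (N := N) χ h
    have e : inflQ θ = χ := Subtype.ext (funext hθ)
    rw [← e, PrincipalCore.inflQ_mem_iff hM hN]
    exact Agent.S0915.result p M hM (CfsgLib.PGroup.isPSolvable_quotient hp.out hsolv N)
      (CfsgLib.Coprime.pPrimeCore_quotient_eq_bot hp.out) (oneChar (G ⧸ N)) θ

/-- The heights in the principal block vanish iff the degrees of `G / O_{p'}(G)` are prime to `p`. -/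
theorem heights_zero_iff (hM : IsPModular p M) (hsolv : IsPSolvable p G)
    [(Cfsg.pPrimeCore p G).Normal] :
    (∀ χ ∈ principalBlock M G, blockHeight p (principalBlock M G) (χ : G → ℂ) = 0) ↔
      ∀ θ : IrrCharacter (G ⧸ Cfsg.pPrimeCore p G),
        ¬ p ∣ charDegree (θ : G ⧸ Cfsg.pPrimeCore p G → ℂ) := by
  classical
  have := hM.2.1
  letI := Fintype.ofFinite G
  have := Fintype.ofFinite (IrrCharacter G)
  letI := Fintype.ofFinite (G ⧸ Cfsg.pPrimeCore p G)
  refine ⟨fun h θ hθ => ?_, fun h χ hχ => ?_⟩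
  · have hmem : inflQ θ ∈ principalBlock M G := (mem_iff hM hsolv _).2 fun n hn => by
      rw [inflQ_apply, inflQ_apply, (QuotientGroup.eq_one_iff n).2 hn, QuotientGroup.mk_one]
    exact (blockHeight_principal_eq_zero_iff hp.out hmem).1 (h _ hmem) hθ
  · obtain ⟨θ, hθ⟩ := exists_deflate (N := Cfsg.pPrimeCore p G) χ ((mem_iff hM hsolv χ).1 hχ)
    rw [blockHeight_principal_eq_zero_iff hp.out hχ]
    have e : charDegree (χ : G → ℂ) = charDegree (θ : G ⧸ Cfsg.pPrimeCore p G → ℂ) := by
      simp only [charDegree, ← hθ, QuotientGroup.mk_one]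
    rw [e]
    exact h θ

end CfsgLib.Block.PSolvablePrincipal
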