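import Cfsg.Agent.Lib.Block.GroupAlg
import Cfsg.Agent.Lib.Char.TITransfer
import Mathlib.LinearAlgebra.Matrix.ToLin
import Mathlib.LinearAlgebra.Dual.Lemmas

/-!
# Invariant idempotent matrices on a set with an action of a `p`-group

An invariant idempotent matrix in characteristic `p` maps onto the functions on some orbit.  If the
rank is at most the length of that orbit, an invariant vector of the image with a nonzero entry at
a fixed point has a fixed point on that orbit.
-/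

set_option autoImplicit false
set_option linter.unusedSectionVars false

open Finset

namespace CfsgLib.Block.PermIdem

variable {p : ℕ} [Fact p.Prime] {k : Type*} [Field k] [CharP k p] {Γ : Type*} [Group Γ] [Fintype Γ]
  {X : Type*} [Fintype X] [DecidableEq X] [MulAction Γ X] {K : Matrix X X k}

open scoped Classical in
/-- The orbit, as a finite set. -/
noncomputable def orb (Γ : Type*) [Group Γ] [MulAction Γ X] (x : X) : Finset X :=
  Finset.univ.filter (· ∈ MulAction.orbit Γ x)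

theorem mem_orb {x y : X} : y ∈ orb Γ x ↔ y ∈ MulAction.orbit Γ x := by
  simp [orb]

/-- Translation of functions. -/
def shift : Γ →* Module.End k (X → k) where
  toFun γ := LinearMap.funLeft k k fun x => γ⁻¹ • x
  map_one' := by ext f x; simp [LinearMap.funLeft_apply]
  map_mul' a b := by ext f x; simp [LinearMap.funLeft_apply, Module.End.mul_apply, mul_smul]

theorem shift_apply (γ : Γ) (f : X → k) (x : X) : shift γ f x = f (γ⁻¹ • x) := rfl

theorem shift_mulVec (hinv : ∀ (γ : Γ) x y, K (γ • x) (γ • y) = K x y) (γ : Γ) (f : X → k) :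
    shift γ (K.mulVec f) = K.mulVec (shift γ f) := by
  funext x
  show ∑ y, K (γ⁻¹ • x) y * f y = ∑ y, K x y * f (γ⁻¹ • y)
  refine Fintype.sum_equiv (MulAction.toPerm γ) _ _ fun y => ?_
  rw [MulAction.toPerm_apply, inv_smul_smul, ← hinv γ⁻¹ x (γ • y), inv_smul_smul]

theorem shift_mem_range (hinv : ∀ (γ : Γ) x y, K (γ • x) (γ • y) = K x y) (γ : Γ) {f : X → k}
    (hf : f ∈ LinearMap.range K.mulVecLin) : shift γ f ∈ LinearMap.range K.mulVecLin := by
  obtain ⟨g, rfl⟩ := hf
  exact ⟨shift γ g, (shift_mulVec hinv γ g).symm⟩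

theorem col_mem_range (y : X) : (fun x => K x y) ∈ LinearMap.range K.mulVecLin :=
  ⟨Pi.single y 1, by funext x; simp⟩

theorem row_orbit_eq (hinv : ∀ (γ : Γ) x y, K (γ • x) (γ • y) = K x y) (γ : Γ) (x y : X) :
    ∑ g ∈ orb Γ y, K (γ • x) g = ∑ g ∈ orb Γ y, K x g := by
  refine Finset.sum_equiv (MulAction.toPerm γ⁻¹) (fun g => ?_) fun g _ => ?_
  · simp only [mem_orb, MulAction.toPerm_apply]
    exact ⟨fun h => MulAction.mem_orbit_of_mem_orbit γ⁻¹ h, fun h => by
      simpa using MulAction.mem_orbit_of_mem_orbit γ h⟩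
  · rw [MulAction.toPerm_apply, ← hinv γ⁻¹ (γ • x) g, inv_smul_smul]

theorem orb_eq_of_mem {y g : X} (h : g ∈ orb Γ y) : orb Γ g = orb Γ y := by
  ext x
  rw [mem_orb, mem_orb, MulAction.orbit_eq_iff.mpr (mem_orb.mp h)]

open scoped Classical in
theorem exists_fixed_of_sum_orb {S : Subgroup Γ} (hΓ : IsPGroup p Γ) (y : X) (f : X → k)
    (hf : ∀ γ ∈ S, ∀ x ∈ orb Γ y, f (γ • x) = f x) (h : ∑ x ∈ orb Γ y, f x ≠ 0) :
    ∃ x ∈ orb Γ y, (∀ γ ∈ S, γ • x = x) ∧ f x ≠ 0 := by
  by_contra hno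
  push Not at hno
  apply h
  rw [← Finset.sum_coe_sort]
  have hmem : ∀ (γ : Γ) {x : X}, x ∈ orb Γ y → γ • x ∈ orb Γ y := fun γ x hx =>
    mem_orb.mpr (MulAction.mem_orbit_of_mem_orbit γ (mem_orb.mp hx))
  letI : MulAction S (orb Γ y) :=
    { smul := fun s x => ⟨(s : Γ) • (x : X), hmem _ x.2⟩
      one_smul := fun x => Subtype.ext (one_smul Γ (x : X))
      mul_smul := fun a b x => Subtype.ext (mul_smul (a : Γ) (b : Γ) (x : X)) }
  rw [sum_eq_sum_fixedPoints (p := p) (hΓ.to_subgroup S) (fun x : orb Γ y => f x)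
    fun s x => hf s s.2 x x.2]
  refine Finset.sum_eq_zero fun x hx => hno x x.2 fun γ hγ => ?_
  exact congrArg Subtype.val ((Finset.mem_filter.mp hx).2 ⟨γ, hγ⟩)

theorem card_stab_eq_of_mem_orb {y g : X} (h : g ∈ orb Γ y) :
    Nat.card (MulAction.stabilizer Γ g) = Nat.card (MulAction.stabilizer Γ y) := by
  obtain ⟨γ, rfl⟩ := mem_orb.mp h
  show Nat.card (MulAction.stabilizer Γ (γ • y)) = _
  rw [MulAction.stabilizer_smul_eq_stabilizer_map_conj]
  exact Nat.card_congr (Subgroup.equivMapOfInjective _ _ (MulAut.conj γ).injective).toEquiv.symm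

/-- An invariant nonzero idempotent has a nonzero orbit sum along an entry joining points with the
same stabilizer. -/
theorem exists_row_orbit (hΓ : IsPGroup p Γ) (hinv : ∀ (γ : Γ) x y, K (γ • x) (γ • y) = K x y)
    (hidem : K * K = K) (hne : K ≠ 0) :
    ∃ x y, MulAction.stabilizer Γ x = MulAction.stabilizer Γ y ∧ K x y ≠ 0 ∧
      ∑ g ∈ orb Γ y, K x g ≠ 0 := by
  classical
  have hfib : ∀ (f : X → k), (∀ y, ∑ g ∈ orb Γ y, f g = 0) → ∑ g, f g = 0 := by
    intro f hf
    rw [← Finset.sum_fiberwise Finset.univ (fun g => Quotient.mk (MulAction.orbitRel Γ X) g) f]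
    refine Finset.sum_eq_zero fun ω _ => ?_
    obtain ⟨y, rfl⟩ := Quotient.mk_surjective ω
    refine Eq.trans (Finset.sum_congr ?_ fun _ _ => rfl) (hf y)
    ext g
    simp only [Finset.mem_filter, Finset.mem_univ, true_and, Quotient.eq, mem_orb,
      MulAction.orbitRel_apply]
  obtain ⟨a, b, hab⟩ : ∃ a b, K a b ≠ 0 := by
    by_contra h
    push Not at h
    exact hne (Matrix.ext h)
  obtain ⟨w, ⟨w', hw'⟩, hw0, hfix⟩ := CfsgLib.Char.TITransfer.exists_fixed_ne_zero hΓ shift
    (LinearMap.range K.mulVecLin) (fun γ f hf => shift_mem_range hinv γ hf) (col_mem_range b)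
    fun e => hab (congrFun e a)
  have hT : ∃ x y, ∑ g ∈ orb Γ y, K x g ≠ 0 := by
    by_contra h
    push Not at h
    refine hw0 (funext fun x => ?_)
    have hKw : K.mulVec w = w := by
      rw [← hw', Matrix.mulVecLin_apply, Matrix.mulVec_mulVec, hidem]
    rw [Pi.zero_apply, ← hKw]
    show ∑ g, K x g * w g = 0
    refine hfib _ fun y => ?_
    have hconst : ∀ g ∈ orb Γ y, w g = w y := by
      intro g hg
      obtain ⟨γ, rfl⟩ := mem_orb.mp hg
      have := congrFun (hfix γ) (γ • y)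
      rw [shift_apply, inv_smul_smul] at this
      exact this.symm
    rw [Finset.sum_congr rfl fun g hg => by rw [hconst g hg], ← Finset.sum_mul, h, zero_mul]
  obtain ⟨y₀, hy₀, hmin⟩ := Finset.exists_min_image
    (Finset.univ.filter fun y => ∃ x, ∑ g ∈ orb Γ y, K x g ≠ 0)
    (fun y => Nat.card (MulAction.stabilizer Γ y))
    (by obtain ⟨x, y, h⟩ := hT; exact ⟨y, Finset.mem_filter.mpr ⟨Finset.mem_univ _, x, h⟩⟩)
  obtain ⟨x₀, hx₀⟩ := (Finset.mem_filter.mp hy₀).2
  obtain ⟨z, hz1, hz2⟩ : ∃ z, (∑ g ∈ orb Γ z, K x₀ g ≠ 0) ∧ ∑ g ∈ orb Γ y₀, K z g ≠ 0 := by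
    by_contra h
    push Not at h
    refine hx₀ ?_
    rw [Finset.sum_congr rfl fun g _ => show K x₀ g = ∑ v, K x₀ v * K v g from
      (congrFun (congrFun hidem x₀) g).symm.trans Matrix.mul_apply, Finset.sum_comm]
    simp only [← Finset.mul_sum]
    refine hfib _ fun v => ?_
    rw [Finset.sum_congr rfl (g := fun u => K x₀ u * ∑ g ∈ orb Γ y₀, K v g) fun u hu => by
      obtain ⟨γ, rfl⟩ := mem_orb.mp hu
      rw [row_orbit_eq hinv], ← Finset.sum_mul]
    by_cases hv : ∑ g ∈ orb Γ v, K x₀ g = 0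
    · rw [hv, zero_mul]
    · rw [h v hv, mul_zero]
  obtain ⟨y, hy, hfy, hKy⟩ := exists_fixed_of_sum_orb (S := MulAction.stabilizer Γ z) hΓ y₀
    (fun g => K z g) (fun γ hγ g _ => by
      conv_lhs => rw [← show γ • z = z from hγ]
      rw [hinv]) hz2
  refine ⟨z, y, Subgroup.eq_of_le_of_card_ge (fun γ hγ => hfy γ hγ) ?_, hKy, ?_⟩
  · rw [card_stab_eq_of_mem_orb hy]
    exact hmin z (Finset.mem_filter.mpr ⟨Finset.mem_univ _, x₀, hz1⟩)
  · rwa [orb_eq_of_mem hy]

/-- Same, along a column. -/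
theorem exists_col_orbit (hΓ : IsPGroup p Γ) (hinv : ∀ (γ : Γ) x y, K (γ • x) (γ • y) = K x y)
    (hidem : K * K = K) (hne : K ≠ 0) :
    ∃ z g, MulAction.stabilizer Γ z = MulAction.stabilizer Γ g ∧ K z g ≠ 0 ∧
      ∑ h ∈ orb Γ z, K h g ≠ 0 := by
  obtain ⟨g, z, h1, h2, h3⟩ := exists_row_orbit (K := K.transpose) hΓ (fun γ x y => hinv γ y x)
    (by rw [← Matrix.transpose_mul, hidem]) (by rwa [Ne, Matrix.transpose_eq_zero])
  exact ⟨z, g, h1.symm, h2, h3⟩

/-- The image maps onto the functions on an orbit with a nonzero column sum. -/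
theorem surjective_restrict (hΓ : IsPGroup p Γ) (hinv : ∀ (γ : Γ) x y, K (γ • x) (γ • y) = K x y)
    {z g : X} (hsum : ∑ h ∈ orb Γ z, K h g ≠ 0) :
    (LinearMap.range K.mulVecLin).map (LinearMap.funLeft k k ((↑) : orb Γ z → X)) = ⊤ := by
  classical
  by_contra hU
  set U := (LinearMap.range K.mulVecLin).map (LinearMap.funLeft k k ((↑) : orb Γ z → X)) with hUdef
  obtain ⟨φ, hφ0, hφ⟩ := Submodule.exists_le_ker_of_lt_top U (lt_top_iff_ne_top.mpr hU)
  let W : Submodule k (X → k) :=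
    { carrier := {a | (∀ x ∉ orb Γ z, a x = 0) ∧
        ∀ w ∈ LinearMap.range K.mulVecLin, ∑ x ∈ orb Γ z, a x * w x = 0}
      add_mem' := fun {a b} ha hb => ⟨fun x hx => by simp [ha.1 x hx, hb.1 x hx], fun w hw => by
        simp only [Pi.add_apply, add_mul, Finset.sum_add_distrib, ha.2 w hw, hb.2 w hw, add_zero]⟩
      zero_mem' := ⟨fun x _ => rfl, fun w _ => by simp⟩
      smul_mem' := fun c a ha => ⟨fun x hx => by simp [ha.1 x hx], fun w hw => by
        simp only [Pi.smul_apply, smul_eq_mul, mul_assoc, ← Finset.mul_sum, ha.2 w hw, mul_zero]⟩ }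
  let a : X → k := fun x => if hx : x ∈ orb Γ z then φ (Pi.single ⟨x, hx⟩ 1) else 0
  have ha : a ∈ W := by
    refine ⟨fun x hx => dif_neg hx, fun w hw => ?_⟩
    have h0 : φ (fun x : orb Γ z => w x) = 0 :=
      LinearMap.mem_ker.mp (hφ ⟨w, hw, rfl⟩)
    rw [← h0, pi_eq_sum_univ (fun x : orb Γ z => w x), map_sum, ← Finset.sum_coe_sort]
    refine Finset.sum_congr rfl fun x _ => ?_
    rw [map_smul, smul_eq_mul, mul_comm]
    congr 1
    simp only [a, dif_pos x.2]
    congr 1
    funext y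
    simp [Pi.single_apply, eq_comm]
  have ha0 : a ≠ 0 := fun e => hφ0 (by
    refine LinearMap.ext fun f => ?_
    rw [LinearMap.zero_apply, pi_eq_sum_univ f, map_sum]
    refine Finset.sum_eq_zero fun x _ => ?_
    have hx : a x = 0 := congrFun e x
    simp only [a, dif_pos x.2] at hx
    rw [map_smul, smul_eq_zero]
    right
    refine Eq.trans (congrArg φ (funext fun y => ?_)) hx
    simp [Pi.single_apply, eq_comm])
  have hmem : ∀ (γ : Γ) {x : X}, x ∈ orb Γ z → γ • x ∈ orb Γ z := fun γ x hx =>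
    mem_orb.mpr (MulAction.mem_orbit_of_mem_orbit γ (mem_orb.mp hx))
  obtain ⟨c, ⟨hc1, hc2⟩, hc0, hfix⟩ := CfsgLib.Char.TITransfer.exists_fixed_ne_zero hΓ shift W
    (fun γ b hb => ⟨fun x hx => hb.1 _ fun h => hx (by simpa using hmem γ h), fun w hw => by
      rw [← hb.2 _ (shift_mem_range hinv γ⁻¹ hw)]
      refine Finset.sum_equiv (MulAction.toPerm γ⁻¹) (fun x => ⟨fun h => hmem γ⁻¹ h,
        fun h => by simpa using hmem γ h⟩) fun x _ => ?_
      rw [shift_apply, shift_apply, MulAction.toPerm_apply, inv_inv, smul_inv_smul]⟩) ha ha0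
  have hconst : ∀ x ∈ orb Γ z, c x = c z := by
    intro x hx
    obtain ⟨γ, rfl⟩ := mem_orb.mp hx
    have := congrFun (hfix γ) (γ • z)
    rw [shift_apply, inv_smul_smul] at this
    exact this.symm
  have hz0 : c z ≠ 0 := fun e => hc0 (funext fun x => by
    by_cases hx : x ∈ orb Γ z
    · rw [hconst x hx, e]; rfl
    · exact hc1 x hx)
  have h2 := hc2 _ (col_mem_range g)
  rw [Finset.sum_congr rfl fun x hx => by rw [hconst x hx], ← Finset.mul_sum] at h2
  exact hsum ((mul_eq_zero.mp h2).resolve_left hz0)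

/-- If the rank is at most the length of the orbit, an invariant element of the image which is
nonzero at a fixed point has a fixed point on the orbit. -/
theorem exists_fixed_on_orbit (hΓ : IsPGroup p Γ)
    (hinv : ∀ (γ : Γ) x y, K (γ • x) (γ • y) = K x y) {z g : X}
    (hsum : ∑ h ∈ orb Γ z, K h g ≠ 0) (hrank : K.rank ≤ (orb Γ z).card) {Y : Subgroup Γ}
    {f : X → k} (hf : f ∈ LinearMap.range K.mulVecLin) (hfY : ∀ γ ∈ Y, shift γ f = f) {y₀ : X}
    (hy₀ : ∀ γ ∈ Y, γ • y₀ = y₀) (hf0 : f y₀ ≠ 0) :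
    ∃ h ∈ orb Γ z, ∀ γ ∈ Y, γ • h = h := by
  classical
  set R := LinearMap.range K.mulVecLin with hR
  let r : R →ₗ[k] (orb Γ z → k) := (LinearMap.funLeft k k ((↑) : orb Γ z → X)).comp R.subtype
  have hr : Function.Surjective r := by
    rw [← LinearMap.range_eq_top, LinearMap.range_comp, Submodule.range_subtype]
    exact surjective_restrict hΓ hinv hsum
  have hinj : Function.Injective r := by
    have he : Module.finrank k R = Module.finrank k (orb Γ z → k) :=
      le_antisymm (by rw [Module.finrank_fintype_fun_eq_card, Fintype.card_coe]; exact hrank)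
        (LinearMap.finrank_le_finrank_of_surjective hr |>.trans le_rfl)
    exact (LinearMap.injective_iff_surjective_of_finrank_eq_finrank he).mpr hr
  have hext : ∀ a b : R, (∀ x ∈ orb Γ z, (a : X → k) x = (b : X → k) x) → a = b := fun a b h =>
    hinj (funext fun x => h x x.2)
  choose φ hφ using fun x : orb Γ z => hr (Pi.single x 1)
  have hφ' : ∀ (x : orb Γ z) (y : X) (hy : y ∈ orb Γ z),
      (φ x : X → k) y = if (⟨y, hy⟩ : orb Γ z) = x then 1 else 0 := fun x y hy => by
    have := congrFun (hφ x) ⟨y, hy⟩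
    rw [Pi.single_apply] at this
    exact this
  have hmem : ∀ (γ : Γ) {x : X}, x ∈ orb Γ z → γ • x ∈ orb Γ z := fun γ x hx =>
    mem_orb.mpr (MulAction.mem_orbit_of_mem_orbit γ (mem_orb.mp hx))
  have hdec : (⟨f, hf⟩ : R) = ∑ x : orb Γ z, f x • φ x := by
    refine hinj ?_
    rw [map_sum]
    funext y
    simp [map_smul, hφ, Finset.sum_apply, Pi.single_apply]
    rfl
  have hmove : ∀ (γ : Γ) (x : orb Γ z) (y : X),
      (φ ⟨γ • (x : X), hmem γ x.2⟩ : X → k) y = (φ x : X → k) (γ⁻¹ • y) := by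
    intro γ x y
    have h := hext (φ ⟨γ • (x : X), hmem γ x.2⟩) ⟨_, shift_mem_range hinv γ (φ x).2⟩ fun u hu => by
      have hu' : γ⁻¹ • u ∈ orb Γ z := hmem γ⁻¹ hu
      show _ = (φ x : X → k) (γ⁻¹ • u)
      rw [hφ' _ u hu, hφ' x _ hu']
      refine if_congr ?_ rfl rfl
      simp only [Subtype.ext_iff]
      exact inv_smul_eq_iff.symm
    exact congrFun (congrArg Subtype.val h) y
  have hval : f y₀ = ∑ x ∈ orb Γ z, f x * (if hx : x ∈ orb Γ z then (φ ⟨x, hx⟩ : X → k) y₀ else 0) := by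
    have := congrFun (congrArg Subtype.val hdec) y₀
    rw [show f y₀ = _ from this, ← Finset.sum_coe_sort (orb Γ z)]
    simp only [Submodule.coe_sum, Finset.sum_apply, SetLike.val_smul, Pi.smul_apply, smul_eq_mul]
    exact Finset.sum_congr rfl fun x _ => by rw [dif_pos x.2]
  obtain ⟨x, hx, hfx, -⟩ := exists_fixed_of_sum_orb hΓ z
    (fun x => f x * (if hx : x ∈ orb Γ z then (φ ⟨x, hx⟩ : X → k) y₀ else 0))
    (fun γ hγ x hx => by
      rw [dif_pos (hmem γ hx), dif_pos hx]
      rw [show f (γ • x) = f x from by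
        conv_lhs => rw [← hfY γ hγ]
        rw [shift_apply, inv_smul_smul], hmove γ ⟨x, hx⟩ y₀,
        hy₀ _ (Y.inv_mem hγ)]) (hval ▸ hf0)
  exact ⟨x, hx, hfx⟩

end CfsgLib.Block.PermIdem
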