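import Cfsg.Agent.Lib.Block.Subsection
import Cfsg.Agent.Lib.Block.SecondMain
import Cfsg.Agent.Lib.Block.NormalDefectCount
import Cfsg.Agent.Lib.Block.PrincipalCoreInflation
import Cfsg.Agent.Lib.Block.RegularIndicator
import Cfsg.Agent.Lib.Block.WeightCentric
import Cfsg.Agent.Lib.Coprime.Core

/-!
# Two principal blocks meeting trivially

If the principal blocks for `p` and `q` meet only in the principal character, the centralizer of every
`q`-element has order divisible by the full `p`-part of `|G|`.  Hence a prime with this property against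
all others has a Sylow subgroup that is a direct factor.
-/

open Finset
open scoped ComplexConjugate

set_option linter.unusedSectionVars false

namespace CfsgLib.Block.PrincipalBlocksMeet

open Cfsg CfsgLib.Block

universe u

variable {G : Type u} [Group G] [Fintype G]

theorem pow_dvd_card_centralizer {p q : ℕ} {M N : Ideal AlgInt}
    (hM : IsPModular p M) (hN : IsPModular q N)
    (hmeet : ∀ χ : IrrCharacter G, χ ∈ principalBlock M G → χ ∈ principalBlock N G →
      (χ : G → ℂ) = fun _ => 1)
    {y : G} (hy : ∃ k, orderOf y = q ^ k) :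
    p ^ (Nat.card G).factorization p ∣ Nat.card (Subgroup.centralizer ({y} : Set G)) := by
  classical
  haveI : M.IsMaximal := hM.2.1
  haveI : N.IsMaximal := hN.2.1
  haveI : Fact q.Prime := ⟨hN.1⟩
  haveI : Fact p.Prime := ⟨hM.1⟩
  set C := Subgroup.centralizer ({y} : Set G) with hCdef
  letI : Fintype C := Fintype.ofFinite _
  letI := Fintype.ofFinite (IrrCharacter C)
  letI := Fintype.ofFinite (IrrCharacter G)
  have hC : ∀ t : G, t ∈ C ↔ Commute t y := fun t => Subgroup.mem_centralizer_singleton_iff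
  let yC : C := ⟨y, (hC y).mpr (Commute.refl y)⟩
  obtain ⟨B, hB⟩ := exists_induced_centralizer hN hy hC (isPBlock_principalBlock (M := N) (G := C))
  rw [(isInducedBlock_principal_iff hN hB).mpr rfl] at hB
  set b := principalBlock N C with hb
  have hz : IsPPart q ((yC : C) : G) y :=
    ⟨1, mul_one y, Commute.one_right y, hy, by rw [orderOf_one]; exact hN.1.not_dvd_one⟩
  -- the second main theorem
  have h2 : ∀ χ : IrrCharacter G, χ ∈ principalBlock M G → χ ≠ oneChar G →
      ∑ t : C, blockCoeff b t * (χ : G → ℂ) ((t : G) * y) = 0 := fun χ hχ hne =>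
    second_main_theorem hN hB hz (fun t ht => (hC t).mpr ht)
      fun hχN => hne (Subtype.ext (hmeet χ hχ hχN))
  have hone : ∑ t : C, blockCoeff b t = 1 := by
    have h := Weight.sum_blockCoeff_mul b (oneChar C : C → ℂ)
    rw [Finset.sum_congr rfl (g := fun t => blockCoeff b t) fun t _ => by
      rw [show (oneChar C : C → ℂ) t = 1 from rfl, mul_one]] at h
    rw [h, Finset.sum_eq_single (oneChar C)]
    · rw [Char.classInner_irr_self, mul_one]
      rfl
    · intro θ _ hne
      rw [Char.classInner_irr_ne hne.symm, mul_zero]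
    · exact fun hh => absurd (Finset.mem_filter.mpr ⟨Finset.mem_univ _, one_mem_principalBlock⟩) hh
  set sB := Finset.univ.filter (· ∈ principalBlock M G) with hsB
  have hsum : ∑ t : C, blockCoeff b t *
      (∑ χ ∈ sB, (χ : G → ℂ) 1 * (χ : G → ℂ) ((t : G) * y)) = 1 := by
    simp only [Finset.mul_sum]
    rw [Finset.sum_comm, Finset.sum_eq_single (oneChar G)]
    · show ∑ t : C, blockCoeff b t * (1 * 1) = 1
      simpa using hone
    · intro χ hχ hne
      rw [Finset.sum_congr rfl fun t _ => mul_left_comm _ _ _, ← Finset.mul_sum,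
        h2 χ (Finset.mem_filter.mp hχ).2 hne, mul_zero]
    · exact fun hh => absurd (Finset.mem_filter.mpr ⟨Finset.mem_univ _, one_mem_principalBlock⟩) hh
  have hG : ∀ g : G, ∑ χ ∈ sB, (χ : G → ℂ) 1 * (χ : G → ℂ) g =
      (Nat.card G : ℂ) * blockCoeff (principalBlock M G) g⁻¹ := fun g => by
    rw [blockCoeff, mul_inv_cancel_left₀ (Nat.cast_ne_zero.mpr Nat.card_pos.ne'),
      finsum_mem_eq_toFinset_sum]
    refine Finset.sum_congr (by ext; simp [hsB]) fun χ _ => ?_
    rw [Char.irr_inv, Complex.conj_conj]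
  simp only [hG] at hsum
  set Z := ∑ t : C, ((Nat.card C : ℂ) * blockCoeff b t) *
    blockCoeff (principalBlock M G) ((t : G) * y)⁻¹ with hZ
  have hcard : (Nat.card C : ℂ) = (Nat.card G : ℂ) * Z := by
    conv_lhs => rw [← mul_one (Nat.card C : ℂ), ← hsum]
    rw [hZ, Finset.mul_sum, Finset.mul_sum]
    exact Finset.sum_congr rfl fun t _ => by ring
  have hZmem : Z ∈ locRing M := by
    refine Subring.sum_mem _ fun t _ => Subring.mul_mem _ ?_
      (blockCoeff_mem hM (.of_isPBlock isPBlock_principalBlock) _)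
    rw [blockCoeff, mul_inv_cancel_left₀ (Nat.cast_ne_zero.mpr Nat.card_pos.ne'),
      finsum_mem_eq_toFinset_sum]
    refine Subring.sum_mem _ fun ψ _ => Subring.mul_mem _ (irr_mem_locRing M ψ 1) ?_
    rw [← Char.irr_inv]
    exact irr_mem_locRing M ψ _
  obtain ⟨m, hm⟩ := Nat.ordProj_dvd (Nat.card G) p
  refine NormalDefectCount.pow_dvd_of_eq_mul hM (Subring.mul_mem _ (natCast_mem _ m) hZmem) (hcard.trans ?_)
  conv_lhs => rw [hm]
  push_cast
  ring_nf

/-- All conjugates of a `p`-element lie in one Sylow `p`-subgroup, if its class has `p`-power size. -/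
theorem conj_mem_sylow {p : ℕ} [Fact p.Prime] {x : G} (hx : ∃ k, orderOf x = p ^ k)
    (hcls : ∀ q : ℕ, q.Prime → q ≠ p →
      q ^ (Nat.card G).factorization q ∣ Nat.card (Subgroup.centralizer ({x} : Set G))) :
    ∃ P : Sylow p G, ∀ g : G, g * x * g⁻¹ ∈ (P : Subgroup G) := by
  classical
  set C := Subgroup.centralizer ({x} : Set G) with hC
  obtain ⟨S⟩ : Nonempty (Sylow p C) := inferInstance
  obtain ⟨P, hP⟩ := ((S.isPGroup'.map C.subtype) : IsPGroup p ((S : Subgroup C).map C.subtype)).exists_le_sylow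
  have hxC : x ∈ C := Subgroup.mem_centralizer_singleton_iff.mpr rfl
  have hxS : (⟨x, hxC⟩ : C) ∈ (S : Subgroup C) := by
    set Z := Subgroup.zpowers (⟨x, hxC⟩ : C)
    have hZn : Z ≤ Subgroup.center C := Subgroup.zpowers_le.mpr (Subgroup.mem_center_iff.mpr fun t =>
      Subtype.ext (Subgroup.mem_centralizer_singleton_iff.mp t.2))
    obtain ⟨k, hk⟩ := hx
    have hZp : IsPGroup p Z := IsPGroup.of_card (n := k) (by
      rw [Nat.card_zpowers, Subgroup.orderOf_mk, hk])
    have h := S.isPGroup'.to_sup_of_normal_left' hZp fun z hz => Subgroup.mem_normalizer_iff.mpr fun t => by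
      rw [← Subgroup.mem_center_iff.mp (hZn hz) t, mul_inv_cancel_right]
    exact (S.is_maximal' h le_sup_left) ▸ Subgroup.mem_sup_right (Subgroup.mem_zpowers _)
  have hxP : x ∈ (P : Subgroup G) := hP ⟨_, hxS, rfl⟩
  refine ⟨P, ?_⟩
  -- the orbit under `P` is the whole class
  have hPC : ((P : Subgroup G) ⊓ C) = (S : Subgroup C).map C.subtype := by
    refine le_antisymm (fun z hz => ?_) (le_inf hP (Subgroup.map_subtype_le _))
    have hp : IsPGroup p (((P : Subgroup G) ⊓ C).subgroupOf C) :=
      (P.isPGroup'.to_le (inf_le_left : (P : Subgroup G) ⊓ C ≤ _)).of_injective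
        (Subgroup.subgroupOfEquivOfLe (inf_le_right : (P : Subgroup G) ⊓ C ≤ C)).toMonoidHom
        (Subgroup.subgroupOfEquivOfLe (inf_le_right : (P : Subgroup G) ⊓ C ≤ C)).injective
    have hle : (S : Subgroup C) ≤ ((P : Subgroup G) ⊓ C).subgroupOf C := fun s hs =>
      Subgroup.mem_inf.mpr ⟨hP ⟨s, hs, rfl⟩, s.2⟩
    refine ⟨⟨z, hz.2⟩, ?_, rfl⟩
    rw [← S.is_maximal' hp hle]
    exact hz
  have hv : ∀ q : ℕ, q.Prime → q ≠ p → (Nat.card C).factorization q = (Nat.card G).factorization q :=
    fun q hq hne => le_antisymm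
      ((Nat.factorization_le_iff_dvd Nat.card_pos.ne' Nat.card_pos.ne').mpr (Subgroup.card_subgroup_dvd_card C) q)
      ((hq.pow_dvd_iff_le_factorization Nat.card_pos.ne').mp (hcls q hq hne))
  have hindex : C.index * Nat.card ((P : Subgroup G) ⊓ C : Subgroup G) = Nat.card (P : Subgroup G) := by
    rw [hPC, Subgroup.card_map_of_injective C.subtype_injective, S.card_eq_multiplicity,
      P.card_eq_multiplicity]
    have hGC := C.index_mul_card
    have hC0 : C.index ≠ 0 := fun h => (Nat.card_pos (α := G)).ne' (by rw [← hGC, h, zero_mul])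
    have hC0' : Nat.card C ≠ 0 := Nat.card_pos.ne'
    have hf : C.index = p ^ C.index.factorization p := by
      refine Nat.eq_of_factorization_eq hC0 (pow_ne_zero _ (Fact.out : p.Prime).ne_zero) fun q => ?_
      rw [Nat.Prime.factorization_pow (Fact.out : p.Prime)]
      rcases eq_or_ne q p with rfl | hne
      · rw [Finsupp.single_eq_same]
      · rw [Finsupp.single_eq_of_ne hne]
        by_cases hq : q.Prime
        · have := hv q hq hne
          rw [← hGC, Nat.factorization_mul hC0 hC0', Finsupp.add_apply] at this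
          omega
        · exact Nat.factorization_eq_zero_of_not_prime _ hq
    conv_rhs => rw [← hGC, Nat.factorization_mul hC0 hC0', Finsupp.add_apply, pow_add, ← hf]
  set cls := Finset.univ.filter (fun z : G => IsConj x z) with hcls'
  set orb := (Finset.univ : Finset (P : Subgroup G)).image (fun u : (P : Subgroup G) => (u : G) * x * (u : G)⁻¹) with horb
  have hsub : orb ⊆ cls := by
    intro z hz
    obtain ⟨u, -, rfl⟩ := Finset.mem_image.mp hz
    exact Finset.mem_filter.mpr ⟨Finset.mem_univ _, isConj_iff.mpr ⟨u, rfl⟩⟩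
  have hcardcls : cls.card = C.index := by
    rw [← Char.card_isConj x, Nat.card_eq_fintype_card, Fintype.card_subtype]
  have horbcard : orb.card * Nat.card ((P : Subgroup G) ⊓ C : Subgroup G) = Nat.card (P : Subgroup G) := by
    rw [Nat.card_eq_fintype_card (α := (P : Subgroup G)), ← Finset.card_univ, Finset.card_eq_sum_card_image
      (fun u : (P : Subgroup G) => (u : G) * x * (u : G)⁻¹) Finset.univ, ← horb,
      Finset.sum_congr rfl (g := fun _ => Nat.card ((P : Subgroup G) ⊓ C : Subgroup G)), Finset.sum_const,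
      smul_eq_mul]
    intro z hz
    obtain ⟨u₀, -, rfl⟩ := Finset.mem_image.mp hz
    rw [Nat.card_eq_fintype_card, ← Finset.card_univ]
    refine (Finset.card_bij (fun (w : ((P : Subgroup G) ⊓ C : Subgroup G)) _ =>
      (⟨(u₀ : G) * w, (P : Subgroup G).mul_mem u₀.2 w.2.1⟩ : (P : Subgroup G))) ?_ ?_ ?_).symm
    · intro w _
      refine Finset.mem_filter.mpr ⟨Finset.mem_univ _, ?_⟩
      have hw : (w : G) * x = x * (w : G) := Subgroup.mem_centralizer_singleton_iff.mp w.2.2
      show (u₀ : G) * w * x * ((u₀ : G) * w)⁻¹ = _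
      rw [mul_assoc (u₀ : G) (w : G) x, hw, mul_inv_rev]
      group
    · intro a _ c _ h
      exact Subtype.ext (mul_left_cancel (congrArg Subtype.val h))
    · intro v hv
      have hv' := (Finset.mem_filter.mp hv).2
      refine ⟨⟨(u₀ : G)⁻¹ * v, (P : Subgroup G).mul_mem ((P : Subgroup G).inv_mem u₀.2) v.2,
        Subgroup.mem_centralizer_singleton_iff.mpr ?_⟩, Finset.mem_univ _, Subtype.ext (mul_inv_cancel_left _ _)⟩
      calc (u₀ : G)⁻¹ * v * x = (u₀ : G)⁻¹ * ((v : G) * x * (v : G)⁻¹) * v := by group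
        _ = (u₀ : G)⁻¹ * ((u₀ : G) * x * (u₀ : G)⁻¹) * v := by rw [hv']
        _ = x * ((u₀ : G)⁻¹ * v) := by group
  have heq : orb = cls := Finset.eq_of_subset_of_card_le hsub (le_of_eq (by
    rw [hcardcls]
    exact Nat.eq_of_mul_eq_mul_right Nat.card_pos (hindex.trans horbcard.symm)))
  intro g
  have hg : g * x * g⁻¹ ∈ orb := heq ▸ Finset.mem_filter.mpr ⟨Finset.mem_univ _, isConj_iff.mpr ⟨g, rfl⟩⟩
  obtain ⟨u, -, hu⟩ := Finset.mem_image.mp hg
  rw [← hu]
  exact (P : Subgroup G).mul_mem ((P : Subgroup G).mul_mem u.2 hxP) ((P : Subgroup G).inv_mem u.2)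

theorem sylow_direct_factor_iff {p : ℕ} [hpf : Fact p.Prime] (M : ℕ → Ideal AlgInt)
    (hM : ∀ r : ℕ, r.Prime → IsPModular r (M r)) (P : Sylow p G) :
    (∀ q : ℕ, q.Prime → q ≠ p → q ∣ Nat.card G →
        ∀ χ : IrrCharacter G, χ ∈ principalBlock (M p) G → χ ∈ principalBlock (M q) G →
          (χ : G → ℂ) = fun _ => 1) ↔
      ((P : Subgroup G).Normal ∧ (P : Subgroup G) ⊔ Cfsg.pPrimeCore p G = ⊤) := by
  classical
  have hp : p.Prime := hpf.out
  constructor
  · intro h
    have hx : ∀ x : G, (∃ k, orderOf x = p ^ k) → x ∈ (P : Subgroup G) := by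
      intro x hxp
      obtain ⟨Q, hQ⟩ := conj_mem_sylow hxp fun q hq hne => by
        by_cases hdvd : q ∣ Nat.card G
        · exact pow_dvd_card_centralizer (hM q hq) (hM p hp)
            (fun χ h1 h2 => h q hq hne hdvd χ h2 h1) hxp
        · rw [Nat.factorization_eq_zero_of_not_dvd hdvd, pow_zero]; exact one_dvd _
      obtain ⟨g, hg⟩ := MulAction.exists_smul_eq G Q P
      have h1 := hQ g⁻¹
      have h2 : g * (g⁻¹ * x * g⁻¹⁻¹) * g⁻¹ ∈ ((g • Q : Sylow p G) : Subgroup G) := by
        rw [Sylow.coe_subgroup_smul]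
        exact ⟨_, h1, rfl⟩
      rw [hg, show g * (g⁻¹ * x * g⁻¹⁻¹) * g⁻¹ = x by group] at h2
      exact h2
    have hPn : (P : Subgroup G).Normal := ⟨fun u hu g => by
      refine hx _ ?_
      obtain ⟨k, hk⟩ := IsPGroup.iff_orderOf.mp P.isPGroup' ⟨u, hu⟩
      exact ⟨k, by rw [orderOf_conj_eq g u, ← hk, Subgroup.orderOf_mk]⟩⟩
    refine ⟨hPn, ?_⟩
    obtain ⟨K, hK⟩ := Subgroup.exists_right_complement'_of_coprime (N := (P : Subgroup G)) P.card_coprime_index
    have hKc : ¬ p ∣ Nat.card K := by
      rw [← hK.symm.index_eq_card]; exact P.not_dvd_index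
    have hcent : ∀ k ∈ K, ∀ u ∈ (P : Subgroup G), u * k = k * u := by
      set D := Subgroup.centralizer ((P : Subgroup G) : Set G) with hD
      have hKD : K ≤ D := by
        have hdvd : Nat.card K ∣ Nat.card (K ⊓ D : Subgroup G) := by
          rw [← Nat.factorization_le_iff_dvd Nat.card_pos.ne' Nat.card_pos.ne']
          intro q
          by_cases hqK : q ∣ Nat.card K ∧ q.Prime
          · obtain ⟨hqK, hq⟩ := hqK
            haveI : Fact q.Prime := ⟨hq⟩
            obtain ⟨R⟩ : Nonempty (Sylow q K) := inferInstance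
            have hne : q ≠ p := fun e => hKc (e ▸ hqK)
            have hRD : (R : Subgroup K).map K.subtype ≤ K ⊓ D := by
              rintro _ ⟨r, hr, rfl⟩
              refine Subgroup.mem_inf.mpr ⟨r.2, Subgroup.mem_centralizer_iff.mpr fun u hu => ?_⟩
              obtain ⟨k, hk⟩ := IsPGroup.iff_orderOf.mp R.isPGroup' ⟨r, hr⟩
              have hrq : ∃ k, orderOf (r : G) = q ^ k := ⟨k, by
                rw [← hk]; exact orderOf_injective (K.subtype.comp (R : Subgroup K).subtype) (K.subtype_injective.comp (R : Subgroup K).subtype_injective) ⟨r, hr⟩⟩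
              have hdv := pow_dvd_card_centralizer (hM p hp) (hM q hq)
                (h q hq hne (hqK.trans (Subgroup.card_subgroup_dvd_card K))) hrq
              haveI := hPn
              set C := Subgroup.centralizer ({(r : G)} : Set G)
              obtain ⟨S⟩ : Nonempty (Sylow p C) := inferInstance
              have hSP : (S : Subgroup C).map C.subtype = (P : Subgroup G) := by
                refine Subgroup.eq_of_le_of_card_ge (fun z hz => hx z ?_) ?_
                · obtain ⟨j, hj⟩ := IsPGroup.iff_orderOf.mp (S.isPGroup'.map C.subtype) ⟨z, hz⟩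
                  exact ⟨j, by rw [← hj, Subgroup.orderOf_mk]⟩
                · rw [Subgroup.card_map_of_injective C.subtype_injective, S.card_eq_multiplicity,
                    P.card_eq_multiplicity]
                  exact Nat.pow_le_pow_right hp.pos ((hp.pow_dvd_iff_le_factorization Nat.card_pos.ne').mp hdv)
              have huC : u ∈ C := Subgroup.map_subtype_le _ (hSP.symm ▸ hu)
              exact Subgroup.mem_centralizer_singleton_iff.mp huC
            have h1 := Subgroup.card_dvd_of_le hRD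
            rw [Subgroup.card_map_of_injective K.subtype_injective, R.card_eq_multiplicity] at h1
            exact (hq.pow_dvd_iff_le_factorization Nat.card_pos.ne').mp h1
          · rcases not_and_or.mp hqK with hh | hh
            · rw [Nat.factorization_eq_zero_of_not_dvd hh]; exact Nat.zero_le _
            · rw [Nat.factorization_eq_zero_of_not_prime _ hh]; exact Nat.zero_le _
        exact inf_eq_left.mp (Subgroup.eq_of_le_of_card_ge inf_le_left (Nat.le_of_dvd Nat.card_pos hdvd))
      exact fun k hk u hu => Subgroup.mem_centralizer_iff.mp (hKD hk) u hu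
    have hKn : K.Normal := by
      rw [← Subgroup.normalizer_eq_top_iff, ← top_le_iff, ← hK.sup_eq_top]
      refine sup_le (fun u hu => ?_) Subgroup.le_normalizer
      refine Subgroup.mem_normalizer_iff.mpr fun k => ?_
      have hcom : ∀ k ∈ K, u * k * u⁻¹ = k := fun k hk => by rw [hcent k hk u hu, mul_inv_cancel_right]
      refine ⟨fun hk => by rwa [hcom k hk], fun hk => ?_⟩
      have h1 := hcom _ hk
      have h2 : u * k * u⁻¹ = k := by
        have := mul_left_cancel (mul_right_cancel h1)
        exact this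
      rwa [h2] at hk
    rw [eq_top_iff, ← hK.sup_eq_top]
    exact sup_le_sup_left (CfsgLib.Coprime.le_pPrimeCore_of_not_dvd hp hKc) _
  · rintro ⟨hPn, hsup⟩ q hq hne - χ hχp hχq
    haveI : (M p).IsMaximal := (hM p hp).2.1
    haveI : (M q).IsMaximal := (hM q hq).2.1
    haveI := hPn
    haveI : Fact q.Prime := ⟨hq⟩
    letI := Fintype.ofFinite (P : Subgroup G)
    letI := Fintype.ofFinite (Cfsg.pPrimeCore p G)
    have h1 : ∀ z ∈ (P : Subgroup G), (χ : G → ℂ) z = (χ : G → ℂ) 1 := fun z hz =>
      trivial_of_sameBlock (N := (P : Subgroup G)) (hM q hq)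
        (fun hd => by
          obtain ⟨k, hk⟩ := IsPGroup.iff_card.mp P.isPGroup'
          exact hne ((Nat.prime_dvd_prime_iff_eq hq hp).mp (hq.dvd_of_dvd_pow (hk ▸ hd))))
        (show SameBlock (M q) (oneChar G : G → ℂ) (χ : G → ℂ) from hχq) (fun _ _ => rfl) hz
    have h2 : ∀ z ∈ Cfsg.pPrimeCore p G, (χ : G → ℂ) z = (χ : G → ℂ) 1 := fun z hz =>
      trivial_of_sameBlock (N := Cfsg.pPrimeCore p G) (hM p hp) (CfsgLib.Coprime.pPrimeCore_not_dvd hp)
        (show SameBlock (M p) (oneChar G : G → ℂ) (χ : G → ℂ) from hχp) (fun _ _ => rfl) hz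
    obtain ⟨d, ρ, hρi, hρ⟩ := χ.2
    set K : Subgroup G := ρ.ker with hKdef
    have hker : ∀ z, (χ : G → ℂ) z = (χ : G → ℂ) 1 → z ∈ K := fun z hz => by
      rw [← hρ] at hz
      exact MonoidHom.mem_ker.mpr ((Char.char_eq_degree_iff ρ z).mp (hz.trans (Representation.char_one ρ)))
    have htop : K = ⊤ := top_le_iff.mp (hsup ▸ sup_le (fun z hz => hker z (h1 z hz)) fun z hz => hker z (h2 z hz))
    have hall : ∀ g, (χ : G → ℂ) g = (χ : G → ℂ) 1 := fun g => by
      have hg : ρ g = 1 := MonoidHom.mem_ker.mp (by rw [← hKdef, htop]; exact Subgroup.mem_top g)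
      rw [← hρ]
      show LinearMap.trace ℂ _ (ρ g) = LinearMap.trace ℂ _ (ρ 1)
      rw [hg, map_one ρ]
    funext g
    have h3 := Char.classInner_irr_self χ
    have h4 := Char.classInner_irr χ (oneChar G)
    rw [classInner, Finset.sum_congr rfl (g := fun _ => (χ : G → ℂ) 1) fun g _ => by
      rw [hall g, show ((oneChar G : G → ℂ) g) = 1 from rfl, map_one, mul_one], Finset.sum_const,
      Finset.card_univ, nsmul_eq_mul, ← Nat.card_eq_fintype_card,
      inv_mul_cancel_left₀ (Nat.cast_ne_zero.mpr Nat.card_pos.ne')] at h4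
    split_ifs at h4 with he
    · rw [he]; rfl
    · exact absurd h4 (Char.irr_one_ne_zero χ)

end CfsgLib.Block.PrincipalBlocksMeet
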