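import Cfsg.Agent.Lib.Block.IsoBlocks
import Cfsg.Agent.Lib.Block.Rank
import Cfsg.Agent.Lib.Block.InducedDegree
import Cfsg.Agent.Lib.Fusion.Transfer

/-!
# Induction into the principal block from a subgroup containing a Sylow subgroup

The Brauer map at a Sylow subgroup sends the principal idempotent to that of its centralizer, whose
coefficients are constant on the regular elements.  So the principal block part of a character
induced from the principal block of `H ⊇ P` has the full `p`-part of the degree.
-/

open Finset MonoidAlgebra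
open scoped ComplexConjugate

set_option linter.unusedSectionVars false

namespace CfsgLib.Block.PrincipalInduce

open Cfsg CfsgLib.Block.Iso

universe u

variable {p : ℕ} [Fact p.Prime] {M : Ideal AlgInt} [M.IsMaximal] {G : Type u} [Group G] [Fintype G]
  [DecidableEq G] (P : Sylow p G)

theorem hasNormalPComplement_centralizer :
    Cfsg.HasNormalPComplement p (Subgroup.centralizer ((P : Subgroup G) : Set G)) := by
  obtain ⟨S⟩ : Nonempty (Sylow p (Subgroup.centralizer ((P : Subgroup G) : Set G))) := inferInstance
  refine CfsgLib.Fusion.hasNormalPComplement_of_normalizer_le_centralizer S fun c _ =>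
    Subgroup.mem_centralizer_iff.mpr fun u hu => Subtype.ext ?_
  have huP : (u : G) ∈ (P : Subgroup G) := by
    set S' : Subgroup G :=
      (S : Subgroup (Subgroup.centralizer ((P : Subgroup G) : Set G))).map (Subgroup.subtype _) with hS'
    have hle : S' ≤ Subgroup.normalizer ((P : Subgroup G) : Set G) :=
      (Subgroup.map_subtype_le _).trans (centralizer_le_normalizer' _)
    have hp' : IsPGroup p ↥((P : Subgroup G) ⊔ S') :=
      P.isPGroup'.to_sup_of_normal_left' (S.isPGroup'.map _) hle
    exact (P.is_maximal' hp' le_sup_left).le ((le_sup_right : S' ≤ (P : Subgroup G) ⊔ S') ⟨u, hu, rfl⟩)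
  exact Subgroup.mem_centralizer_iff.mp c.2 u huP

variable [Fintype (Subgroup.centralizer ((P : Subgroup G) : Set G))]

/-- The Brauer image of the principal idempotent is the principal idempotent of the centralizer. -/
theorem brC_blockBar (hM : IsPModular p M) :
    brC M hM P.isPGroup' (blockBar M (principalBlock M G)) =
      blockBar M (principalBlock M (Subgroup.centralizer ((P : Subgroup G) : Set G))) := by
  classical
  refine eq_of_omegaBar_eq_of_idem hM ?_ (blockBar_mul_self hM (.of_isPBlock isPBlock_principalBlock))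
    fun ξ => ?_
  · rw [← map_mul, blockBar_mul_self hM (.of_isPBlock isPBlock_principalBlock)]
  rw [omegaBar_blockBar hM (.of_isPBlock isPBlock_principalBlock)]
  obtain ⟨χ, hχ⟩ := exists_omegaBar_eq hM ((omegaBar M ξ).comp (brC M hM P.isPGroup')) fun c => by
    rw [RingHom.comp_apply, brC_algebraMap, omegaBar_algebraMap]
  have hiff : χ ∈ principalBlock M G ↔ ξ ∈ principalBlock M (Subgroup.centralizer ((P : Subgroup G) : Set G)) := by
    rw [mem_principalBlock_iff hM, mem_principalBlock_iff hM,
      ← brC_regBar (G := G) hM P.isPGroup', ← hχ]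
    rfl
  rw [show omegaBar M ξ (brC M hM P.isPGroup' (blockBar M (principalBlock M G))) =
      omegaBar M χ (blockBar M (principalBlock M G)) from RingHom.congr_fun hχ _,
    omegaBar_blockBar hM (.of_isPBlock isPBlock_principalBlock)]
  exact if_congr hiff rfl rfl

/-- The coefficients of the principal idempotent on the regular part of the centralizer. -/
theorem coeffRes_regular (hM : IsPModular p M)
    {c : Subgroup.centralizer ((P : Subgroup G) : Set G)} (hc : ¬ p ∣ orderOf c) :
    coeffRes M (principalBlock M G) (c : G) = coeffRes M (principalBlock M G) 1 := by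
  classical
  have h : ∀ d : (Subgroup.centralizer ((P : Subgroup G) : Set G)), coeffRes M (principalBlock M G) (d : G) = coeffRes M (principalBlock M (Subgroup.centralizer ((P : Subgroup G) : Set G))) d := by
    intro d
    rw [← coeff_blockBar, ← coeff_blockBar, ← brC_blockBar P hM, coeff_brC hM P.isPGroup']
  rw [h c, ← OneMemClass.coe_one (Subgroup.centralizer ((P : Subgroup G) : Set G)), h 1]
  have hS := IsBlockUnion.of_isPBlock (isPBlock_principalBlock (M := M) (G := (Subgroup.centralizer ((P : Subgroup G) : Set G))))
  unfold coeffRes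
  congr 1
  apply Subtype.ext
  rw [coe_coeff_blockIdem hM hS, coe_coeff_blockIdem hM hS, blockCoeff, blockCoeff]
  congr 1
  have := Fintype.ofFinite (IrrCharacter (Subgroup.centralizer ((P : Subgroup G) : Set G)))
  have := Fintype.ofFinite (ConjClasses (Subgroup.centralizer ((P : Subgroup G) : Set G)))
  refine finsum_congr fun χ => finsum_congr fun hχ => ?_
  rw [irr_eq_one_of_regular hM (hasNormalPComplement_centralizer P) hχ hc]

include P in
theorem coeffRes_one_ne_zero (hM : IsPModular p M) : coeffRes M (principalBlock M G) 1 ≠ 0 := by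
  classical
  intro h0
  have hz : blockBar M (principalBlock M (Subgroup.centralizer ((P : Subgroup G) : Set G))) = (0 : ZK M (Subgroup.centralizer ((P : Subgroup G) : Set G))) := by
    refine Subtype.ext (ga_ext fun c => ?_)
    rw [← brC_blockBar P hM, coeff_brC hM P.isPGroup', coeff_blockBar]
    by_cases hc : p ∣ orderOf c
    · by_contra hne
      exact regular_of_coeffRes_ne_zero hM (.of_isPBlock isPBlock_principalBlock) (by simpa using hne)
        (by rwa [Subgroup.orderOf_coe])
    · rw [coeffRes_regular P hM hc, h0]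
      simp
  have h1 := omegaBar_blockBar hM (.of_isPBlock (isPBlock_principalBlock (M := M) (G := (Subgroup.centralizer ((P : Subgroup G) : Set G)))))
    (χ := oneChar (Subgroup.centralizer ((P : Subgroup G) : Set G)))
  rw [hz, map_zero, if_pos one_mem_principalBlock] at h1
  exact zero_ne_one h1

variable {H : Subgroup G} [Fintype H]

/-- The trivial character of `H ⊇ P` does not kill the principal idempotent. -/
theorem omegaBar_one_ne_zero (hM : IsPModular p M) (hPH : (P : Subgroup G) ≤ H) :
    omegaBar M (oneChar H) (resHK M H (blockBar M (principalBlock M G))) ≠ 0 := by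
  classical
  have := charP_resField (M := M) hM
  set B := principalBlock M G
  rw [omegaBar_oneChar_eq_aug]
  show ∑ h : H, _ ≠ 0
  simp only [coeff_resHK, coeff_blockBar]
  letI : MulAction (P : Subgroup G) H :=
    MulAction.compHom H (MulAut.conj.comp (Subgroup.inclusion hPH))
  have hsm : ∀ (u : (P : Subgroup G)) (x : H),
      ((u • x : H) : G) = (u : G) * (x : G) * (u : G)⁻¹ := fun _ _ => rfl
  rw [sum_eq_sum_fixedPoints (p := p) P.isPGroup' _ fun u x => by rw [hsm, coeffRes_conj]]
  set s := Finset.univ.filter (fun x : H => ∀ u : (P : Subgroup G), u • x = x) with hs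
  have hmem : ∀ x ∈ s, (x : G) ∈ Subgroup.centralizer ((P : Subgroup G) : Set G) := by
    intro x hx
    rw [Subgroup.mem_centralizer_iff]
    intro u hu
    have h := congrArg Subtype.val ((Finset.mem_filter.mp hx).2 ⟨u, hu⟩)
    rw [hsm] at h
    exact mul_inv_eq_iff_eq_mul.mp h
  rw [← Finset.sum_filter_add_sum_filter_not s (fun x : H => ¬ p ∣ orderOf x),
    Finset.sum_eq_zero (s := s.filter fun x : H => ¬ ¬ p ∣ orderOf x) fun x hx => by
      by_contra hne
      exact regular_of_coeffRes_ne_zero hM (.of_isPBlock isPBlock_principalBlock) hne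
        (by rw [Subgroup.orderOf_coe]; exact not_not.mp (Finset.mem_filter.mp hx).2),
    add_zero, Finset.sum_congr rfl (g := fun _ => coeffRes M B 1) fun x hx => by
      obtain ⟨hxs, hxr⟩ := Finset.mem_filter.mp hx
      exact coeffRes_regular P hM (c := ⟨x, hmem x hxs⟩)
        (by rwa [← Subgroup.orderOf_coe, Subgroup.orderOf_coe x]),
    Finset.sum_const, nsmul_eq_mul]
  refine mul_ne_zero (fun hd => ?_) (coeffRes_one_ne_zero P hM)
  rw [CharP.cast_eq_zero_iff (ResField M) p] at hd
  -- the regular elements of `(Subgroup.centralizer ((P : Subgroup G) : Set G))(P) ∩ H` form a subgroup of order prime to `p`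
  set R : Subgroup H := ((Cfsg.pResidual p (Subgroup.centralizer ((P : Subgroup G) : Set G))).map (Subgroup.centralizer ((P : Subgroup G) : Set G)).subtype).subgroupOf H with hR
  have := Fintype.ofFinite (IrrCharacter (Subgroup.centralizer ((P : Subgroup G) : Set G)))
  have := Fintype.ofFinite (ConjClasses (Subgroup.centralizer ((P : Subgroup G) : Set G)))
  have hreg : ∀ {g : Subgroup.centralizer ((P : Subgroup G) : Set G)},
      g ∈ Cfsg.pResidual p (Subgroup.centralizer ((P : Subgroup G) : Set G)) ↔ ¬ p ∣ orderOf g :=
    fun {g} => mem_pResidual_iff_regular (hasNormalPComplement_centralizer P)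
  have hcard : (s.filter fun x : H => ¬ p ∣ orderOf x).card = Nat.card R := by
    rw [Nat.card_eq_fintype_card, Fintype.card_subtype]
    congr 1
    ext x
    simp only [Finset.mem_filter, Finset.mem_univ, true_and, hR, Subgroup.mem_subgroupOf,
      Subgroup.mem_map]
    constructor
    · rintro ⟨hxs, hxr⟩
      exact ⟨⟨x, hmem x hxs⟩, hreg.mpr (by rwa [← Subgroup.orderOf_coe, Subgroup.orderOf_coe x]), rfl⟩
    · rintro ⟨c, hc, hcx⟩
      refine ⟨Finset.mem_filter.mpr ⟨Finset.mem_univ _, fun u => Subtype.ext ?_⟩, ?_⟩
      · rw [hsm, ← hcx]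
        show (u : G) * (c : G) * (u : G)⁻¹ = (c : G)
        rw [mul_inv_eq_iff_eq_mul]
        exact Subgroup.mem_centralizer_iff.mp c.2 u u.2
      · rw [← Subgroup.orderOf_coe, ← hcx]
        show ¬ p ∣ orderOf (c : G)
        rw [Subgroup.orderOf_coe]
        exact hreg.mp hc
  rw [hcard] at hd
  obtain ⟨x, hx⟩ := exists_prime_orderOf_dvd_card' p hd
  obtain ⟨c, hc, hcx⟩ := Subgroup.mem_subgroupOf.mp x.2
  refine hreg.mp hc ?_
  rw [← Subgroup.orderOf_coe, show ((c : (Subgroup.centralizer ((P : Subgroup G) : Set G))) : G) = ((x : H) : G) from hcx, Subgroup.orderOf_coe,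
    Subgroup.orderOf_coe, hx]

/-- A character over `η` in the principal block with degree and multiplicity of full `p`-part. -/
theorem exists_constituent_principal (hM : IsPModular p M) (hPH : (P : Subgroup G) ≤ H)
    {η : IrrCharacter H} (hη : η ∈ principalBlock M H)
    (hdeg : ¬ p ∣ charDegree (η : H → ℂ)) :
    ∃ χ ∈ principalBlock M G, ¬ p ∣ charDegree (χ : G → ℂ) ∧
      classInner (fun h : H => (χ : G → ℂ) h) (η : H → ℂ) ≠ 0 := by
  classical
  have := Fintype.ofFinite (IrrCharacter G)
  have hp : p.Prime := Fact.out
  choose m hm using fun χ : IrrCharacter G =>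
    Char.classInner_char_irr_nat (Char.isCharacter_indFun H (Char.isCharacter_irr η)) χ
  set n := ∑ χ ∈ Finset.univ.filter (· ∈ principalBlock M G), m χ * charDegree (χ : G → ℂ) with hn
  set d := H.index * charDegree (η : H → ℂ) with hd
  have hdp : ¬ p ∣ d := by
    intro h
    rcases hp.dvd_mul.mp h with h | h
    · exact P.not_dvd_index (h.trans (Subgroup.index_dvd_of_le hPH))
    · exact hdeg h
  have hd0 : d ≠ 0 := fun e => hdp (e ▸ dvd_zero p)
  have h1 := blockPart_indFun_one hM (isPBlock_principalBlock (M := M) (G := G)) η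
  rw [Char.indFun_one, (charDegree_eq η).1, ← Nat.cast_mul, ← hd] at h1
  have hnC : (n : ℂ) = blockPart (principalBlock M G) (indFun H (η : H → ℂ)) 1 := by
    rw [blockPart, finsum_mem_eq_finite_toFinset_sum _ (Set.toFinite _), hn]
    push_cast
    refine Finset.sum_congr (by ext; simp) fun χ _ => ?_
    rw [← hm χ, ← (charDegree_eq χ).1]
    congr 1
    convert rfl
  rw [← hnC] at h1
  obtain ⟨hn0, hfac⟩ := (factorization_of_eq_mul hM hd0 h1).1 (by
    have h := omegaBar_one_ne_zero P hM hPH
    rw [← omegaBar_eq_of_mem isPBlock_principalBlock hη one_mem_principalBlock, blockBar,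
      resHK_toKC, omegaBar_toKC] at h
    exact h)
  have hndvd : ¬ p ∣ n := fun h => by
    have h2 : 1 ≤ n.factorization p := hp.dvd_iff_one_le_factorization hn0 |>.mp h
    rw [hfac, Nat.factorization_eq_zero_of_not_dvd hdp] at h2
    omega
  obtain ⟨χ, hχ, hχd⟩ : ∃ χ ∈ Finset.univ.filter (· ∈ principalBlock M G),
      ¬ p ∣ m χ * charDegree (χ : G → ℂ) := by
    by_contra hall
    push Not at hall
    exact hndvd (Finset.dvd_sum hall)
  refine ⟨χ, (Finset.mem_filter.mp hχ).2, fun h => hχd (dvd_mul_of_dvd_right h _), fun h0 => hχd ?_⟩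
  have h2 := hm χ
  rw [Char.classInner_indFun H (η : H → ℂ) _ (Char.isClassFunction_irr χ), ← Char.classInner_conj,
    h0, map_zero] at h2
  rw [show m χ = 0 by exact_mod_cast h2.symm, zero_mul]
  exact dvd_zero p

end CfsgLib.Block.PrincipalInduce
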