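import Cfsg.Agent.Lib.Block.TwoCharacters
import Cfsg.Agent.Lib.Block.LocalSymmetric
import Cfsg.Agent.Lib.Block.Rank
import Cfsg.Agent.Lib.Block.Defect

/-!
# Blocks of regular rank one with at most four characters

`equal_degrees_of_rank_one`: all degrees agree and the sum of the members vanishes at the singular elements.
-/

open Finset MonoidAlgebra
open scoped ComplexConjugate

set_option autoImplicit false
set_option linter.unusedSectionVars false
set_option linter.style.haveILetI false

namespace CfsgLib.Block.LocalAlg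

universe v

theorem exists_independent_fin {k : Type*} [Field k] {A : Type v} [AddCommGroup A] [Module k A]
    [FiniteDimensional k A] (D : Submodule k (A →ₗ[k] k)) {n : ℕ} (hle : n ≤ Module.finrank k D) :
    ∃ φ : Fin n → A →ₗ[k] k, (∀ i, φ i ∈ D) ∧ LinearIndependent k φ := by
  haveI : Module.Free k D := Module.Free.of_divisionRing (K := k) (V := D)
  let b : Module.Basis (Fin (Module.finrank k D)) k D := Module.finBasis k D
  refine ⟨fun i => (b (Fin.castLE hle i)).1, fun i => (b _).2, ?_⟩
  exact LinearIndependent.map_injOn (b.linearIndependent.comp _ (Fin.castLE_injective hle)) D.subtype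
    Subtype.val_injective.injOn

/-- Tracial functionals bound the codimension of the commutators. -/
theorem finrank_le_commutators {k : Type*} [Field k] {A : Type v} [Ring A] [Algebra k A] [FiniteDimensional k A]
    {m : ℕ} (h : ∀ φ : Fin (m + 1) → A →ₗ[k] k, (∀ i x y, φ i (x * y) = φ i (y * x)) → ¬ LinearIndependent k φ) :
    Module.finrank k A ≤
      Module.finrank k (Submodule.span k (Set.range fun z : A × A => z.1 * z.2 - z.2 * z.1)) + m := by
  set W := Submodule.span k (Set.range fun z : A × A => z.1 * z.2 - z.2 * z.1) with hW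
  have hd : Module.finrank k (W.dualAnnihilator : Submodule k (A →ₗ[k] k)) ≤ m := by
    by_contra hlt
    obtain ⟨φ, hφ, hli⟩ := exists_independent_fin (W.dualAnnihilator : Submodule k (A →ₗ[k] k))
      (Nat.lt_of_not_le hlt)
    refine h φ (fun i x y => ?_) hli
    rw [← sub_eq_zero, ← map_sub]
    exact (Submodule.mem_dualAnnihilator _).mp (hφ i) _ (Submodule.subset_span ⟨(x, y), rfl⟩)
  have := Subspace.finrank_add_finrank_dualAnnihilator_eq W
  omega

end CfsgLib.Block.LocalAlg

namespace CfsgLib.Block.RankOneSmall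

open Cfsg CfsgLib.Char CfsgLib.Block CfsgLib.Block.LocalAlg CfsgLib.Block.TwoChar

universe u

variable {p : ℕ} {M : Ideal AlgInt} [M.IsMaximal] {G : Type u} [Group G] [Fintype G] [DecidableEq G]
  [Fintype (IrrCharacter G)]

/-- More tracial functionals than characters are dependent. -/
theorem not_linearIndependent_of_card (hM : IsPModular p M) {B : Set (IrrCharacter G)} (hB : IsPBlock M B)
    {m : ℕ} (hm : Nat.card B ≤ m)
    (φ : Fin (m + 1) → MonoidAlgebra (ResField M) G →ₗ[ResField M] ResField M)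
    (htr : ∀ i x y, φ i (x * y) = φ i (y * x))
    (hsupp : ∀ i y, φ i (y * toK M (blockIdem M B : MonoidAlgebra (locRing M) G)) = φ i y) :
    ¬ LinearIndependent (ResField M) φ := by
  classical
  intro hli
  choose l hl using res_surjective (M := M)
  let F : Fin (m + 1) → G → ℂ := fun i g => (l (φ i (single g 1)) : ℂ)
  have hF : ∀ i, IsClassFunction G (F i) := fun i g h => by
    simp only [F]
    rw [single_conj, htr i, mul_assoc, MonoidAlgebra.single_mul_single, inv_mul_cancel, one_mul,
      ← MonoidAlgebra.one_def, mul_one]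
  let FL : Fin (m + 1) → G → locRing M := fun i g =>
    ∑ t, (single g 1 * (blockIdem M B : MonoidAlgebra (locRing M) G)).coeff t * l (φ i (single t 1))
  have hFLres : ∀ i g, res M (FL i g) = φ i (single g 1) := fun i g => by
    rw [← hsupp i (single g 1), linMap_apply, map_sum]
    refine Finset.sum_congr rfl fun t _ => ?_
    rw [map_mul, hl, ← coeff_toK, map_mul]
    congr 2
    simp [toK]
  set S := Finset.univ.filter (· ∈ B) with hS
  have hFL : ∀ i g, (FL i g : ℂ) = ∑ ψ : S, classInner (F i) ((ψ : IrrCharacter G) : G → ℂ) *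
      ((ψ : IrrCharacter G) : G → ℂ) g := fun i g => by
    have e := evalGA_classFun_mul_blockIdem hM (.of_isPBlock hB) (hF i) (single g 1)
    have h1 : ∀ ψ : IrrCharacter G, evalGA (ψ : G → ℂ) (single g (1 : locRing M)) = (ψ : G → ℂ) g := fun ψ => by
      rw [evalGA, Finset.sum_eq_single g] <;> simp +contextual
    simp only [h1] at e
    rw [← hS, ← Finset.sum_coe_sort] at e
    rw [← e, evalGA]
    simp [FL, F]
  let f : Fin (m + 1) → G → ResField M := fun i g => φ i (single g 1)
  have hinj : LinearMap.ker (Fintype.linearCombination (ResField M) f) = ⊥ := by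
    refine LinearMap.ker_eq_bot'.mpr fun c hc => ?_
    rw [Fintype.linearIndependent_iff] at hli
    refine funext fun i => hli c (LinearMap.ext fun y => ?_) i
    rw [LinearMap.sum_apply, LinearMap.zero_apply]
    simp only [LinearMap.smul_apply, linMap_apply _ y, smul_eq_mul, Finset.mul_sum]
    rw [Finset.sum_comm]
    refine Finset.sum_eq_zero fun t _ => ?_
    have := congrFun hc t
    rw [Fintype.linearCombination_apply, Finset.sum_apply] at this
    simp only [Pi.smul_apply, smul_eq_mul, Pi.zero_apply, f] at this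
    rw [← mul_zero (y.coeff t), ← this, Finset.mul_sum]
  obtain ⟨L, hL⟩ := LinearMap.exists_leftInverse_of_injective _ hinj
  obtain ⟨sel, -, -, hdet⟩ := exists_injective_det_ne_zero (K := ResField M) (Finset.univ : Finset G)
    (fun b i => f i b) (fun b j => L (Pi.single b 1) j) fun i j => by
      have e := congrFun (LinearMap.congr_fun hL (Pi.single i 1)) j
      rw [LinearMap.comp_apply, Fintype.linearCombination_apply_single, one_smul, LinearMap.id_apply,
        pi_eq_sum_univ (f i)] at e
      rw [map_sum, Finset.sum_apply, Pi.single_apply] at e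
      rw [show (if i = j then (1 : ResField M) else 0) = if j = i then 1 else 0 by simp only [eq_comm], ← e]
      refine Finset.sum_congr rfl fun b _ => ?_
      rw [map_smul, Pi.smul_apply, smul_eq_mul]
      rw [show (fun x => if b = x then (1 : ResField M) else 0) = Pi.single b 1 from
        funext fun x => by simp [Pi.single_apply, eq_comm]]
  set D : Matrix (Fin (m + 1)) (Fin (m + 1)) (locRing M) := Matrix.of fun a j => FL j (sel a) with hD
  have h1 : (Matrix.of fun a j => f j (sel a)) = D.map (res M) := Matrix.ext fun a j => (hFLres j (sel a)).symm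
  rw [h1, ← RingHom.mapMatrix_apply, ← RingHom.map_det] at hdet
  refine hdet ?_
  rw [show D.det = 0 from Subtype.ext ?_, map_zero]
  rw [show ((D.det : locRing M) : ℂ) = (D.map (locRing M).subtype).det from RingHom.map_det (locRing M).subtype D]
  let V : Matrix S (Fin (m + 1)) ℂ := Matrix.of fun ψ j => classInner (F j) ((ψ : IrrCharacter G) : G → ℂ)
  have hker : LinearMap.ker V.mulVecLin ≠ ⊥ := LinearMap.ker_ne_bot_of_finrank_lt (by
    rw [Module.finrank_fintype_fun_eq_card, Module.finrank_fintype_fun_eq_card, Fintype.card_fin,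
      Fintype.card_coe, hS, ← Fintype.card_subtype, ← Nat.card_eq_fintype_card]
    exact Nat.lt_succ_of_le hm)
  obtain ⟨v, hv, hv0⟩ := (Submodule.ne_bot_iff _).mp hker
  refine Matrix.exists_mulVec_eq_zero_iff.mp ⟨v, hv0, ?_⟩
  have hfac : D.map (locRing M).subtype =
      (Matrix.of fun a (ψ : S) => ((ψ : IrrCharacter G) : G → ℂ) (sel a)) * V := by
    refine Matrix.ext fun a j => ?_
    show (FL j (sel a) : ℂ) = _
    rw [hFL, Matrix.mul_apply]
    exact Finset.sum_congr rfl fun ψ _ => mul_comm _ _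
  rw [hfac, ← Matrix.mulVec_mulVec, show V.mulVec v = 0 from hv, Matrix.mulVec_zero]

/-- Rank one: regular values are proportional to the degrees. -/
theorem regular_proportional (hM : IsPModular p M) {B : Set (IrrCharacter G)} (hl : blockRank p B = 1)
    {θ ψ : IrrCharacter G} (hθ : θ ∈ B) (hψ : ψ ∈ B) {y : G} (hy : ¬ p ∣ orderOf y) :
    (ψ : G → ℂ) y * (θ : G → ℂ) 1 = (ψ : G → ℂ) 1 * (θ : G → ℂ) y := by
  classical
  set W := Submodule.span ℂ ((fun χ : IrrCharacter G => pRegularPart p (χ : G → ℂ)) '' B) with hW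
  have hv : pRegularPart p (θ : G → ℂ) ∈ W := Submodule.subset_span ⟨θ, hθ, rfl⟩
  have hw : pRegularPart p (ψ : G → ℂ) ∈ W := Submodule.subset_span ⟨ψ, hψ, rfl⟩
  have hne : (⟨_, hv⟩ : W) ≠ 0 := fun h => Char.irr_one_ne_zero θ (by
    have h' : pRegularPart p (θ : G → ℂ) = 0 := congrArg Subtype.val h
    have := congrFun h' 1
    simpa [pRegularPart, IsPRegular, hM.1.ne_one] using this)
  obtain ⟨r, hr⟩ := (finrank_eq_one_iff_of_nonzero' ⟨_, hv⟩ hne).mp hl ⟨_, hw⟩
  have hr' : ∀ g, ¬ p ∣ orderOf g → r * (θ : G → ℂ) g = (ψ : G → ℂ) g := fun g hg => by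
    have := congrFun (congrArg Subtype.val hr) g
    simpa [pRegularPart, IsPRegular, hg] using this
  rw [← hr' y hy, ← hr' 1 (by simp [hM.1.ne_one])]
  ring

theorem classInner_sum_irr (s : Finset (IrrCharacter G)) (c : IrrCharacter G → ℂ) {η : IrrCharacter G}
    (hη : η ∈ s) : classInner (∑ ψ ∈ s, c ψ • (ψ : G → ℂ)) (η : G → ℂ) = c η := by
  classical
  rw [classInner_sum_left, Finset.sum_eq_single η]
  · rw [classInner_smul_left, classInner_irr, if_pos rfl, mul_one]
  · intro ψ _ hne
    rw [classInner_smul_left, classInner_irr, if_neg hne, mul_zero]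
  · exact fun h => absurd hη h

/-- Projective combinations in a block of rank one are proportional to the degrees. -/
theorem coeff_proportional (hM : IsPModular p M) {B : Set (IrrCharacter G)} [DecidablePred (· ∈ B)]
    (hB : IsPBlock M B) (hl : blockRank p B = 1) (n : IrrCharacter G → ℂ)
    (hn : ∀ g, p ∣ orderOf g → ∑ ψ ∈ Finset.univ.filter (· ∈ B), n ψ * (ψ : G → ℂ) g = 0)
    {η : IrrCharacter G} (hη : η ∈ B) :
    (∑ ψ ∈ Finset.univ.filter (· ∈ B), (ψ : G → ℂ) 1 * (ψ : G → ℂ) 1) * n η =
      (∑ ψ ∈ Finset.univ.filter (· ∈ B), n ψ * (ψ : G → ℂ) 1) * (η : G → ℂ) 1 := by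
  classical
  set S := Finset.univ.filter (· ∈ B) with hS
  have hmem : ∀ {ψ}, ψ ∈ S → ψ ∈ B := fun h => (Finset.mem_filter.mp h).2
  obtain ⟨θ, hθ⟩ := isPBlock_nonempty hB
  have hθ1 := Char.irr_one_ne_zero θ
  have hΨ : ∀ g, p ∣ orderOf g → ∑ ψ ∈ S, (ψ : G → ℂ) 1 * (ψ : G → ℂ) g = 0 := fun g hg => by
    have h := blockUnion_orthogonal_regular_singular hM (.of_isPBlock hB) (g := 1) (by simp [hM.1.ne_one]) hg
    rw [finsum_mem_eq_toFinset_sum] at h
    have h' := congrArg (starRingEnd ℂ) h
    rw [map_sum, map_zero] at h'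
    rw [← h', show B.toFinset = S by ext; simp [hS]]
    exact Finset.sum_congr rfl fun ψ _ => by rw [map_mul, Complex.conj_conj, Char.conj_irr_one]
  set s₁ := ∑ ψ ∈ S, n ψ * (ψ : G → ℂ) 1
  set s₂ := ∑ ψ ∈ S, (ψ : G → ℂ) 1 * (ψ : G → ℂ) 1
  have hfun : (∑ ψ ∈ S, (s₂ * n ψ) • (ψ : G → ℂ)) = ∑ ψ ∈ S, (s₁ * (ψ : G → ℂ) 1) • (ψ : G → ℂ) := funext fun g => by
    simp only [Finset.sum_apply, Pi.smul_apply, smul_eq_mul, mul_assoc, ← Finset.mul_sum]
    by_cases hg : p ∣ orderOf g
    · rw [hn g hg, hΨ g hg, mul_zero, mul_zero]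
    · refine mul_right_cancel₀ hθ1 ?_
      have e : ∀ c : IrrCharacter G → ℂ, (∑ ψ ∈ S, c ψ * (ψ : G → ℂ) g) * (θ : G → ℂ) 1 =
          (∑ ψ ∈ S, c ψ * (ψ : G → ℂ) 1) * (θ : G → ℂ) g := fun c => by
        rw [Finset.sum_mul, Finset.sum_mul]
        exact Finset.sum_congr rfl fun ψ hψ => by
          rw [mul_assoc, regular_proportional hM hl hθ (hmem hψ) hg, ← mul_assoc]
      rw [mul_assoc, e, mul_assoc, e]
      ring
  have hηS : η ∈ S := Finset.mem_filter.mpr ⟨Finset.mem_univ _, hη⟩
  have := congrArg (fun F => classInner F (η : G → ℂ)) hfun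
  simpa only [classInner_sum_irr S _ hηS] using this

/-- Blocks of rank one with at most four characters have equal degrees. -/
theorem equal_degrees_of_rank_one (hM : IsPModular p M) {B : Set (IrrCharacter G)} (hB : IsPBlock M B)
    [DecidablePred (· ∈ B)] (hl : blockRank p B = 1) (hk : Nat.card B ≤ 4) :
    (∀ χ ∈ B, ∀ ψ ∈ B, (χ : G → ℂ) 1 = (ψ : G → ℂ) 1) ∧
      ∀ g, p ∣ orderOf g → ∑ χ ∈ Finset.univ.filter (· ∈ B), (χ : G → ℂ) g = 0 := by
  classical
  haveI : IsAlgClosed (ResField M) := isAlgClosed_resField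
  have hU := IsBlockUnion.of_isPBlock hB
  set S := Finset.univ.filter (· ∈ B) with hS
  set eL : MonoidAlgebra (locRing M) G := (blockIdem M B : MonoidAlgebra (locRing M) G) with heL
  set e : MonoidAlgebra (ResField M) G := toK M eL with he
  have heLc : ∀ z, Commute eL z := (mem_center_iff_isClassElt.mp (blockIdem M B).2).commute
  have hec : ∀ z, Commute e z := ((mem_center_iff_isClassElt.mp (blockIdem M B).2).map _).commute
  have hee : e * e = e := by
    rw [he, ← map_mul]
    exact congrArg (toK M) (congrArg Subtype.val (blockIdem_mul_self hM hU))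
  obtain ⟨χ₀, hχ₀⟩ := isPBlock_nonempty hB
  have he0 : e ≠ 0 := fun h => by
    have h1 : blockBar M B = 0 := Subtype.ext h
    have := omegaBar_blockBar hM hU χ₀
    rw [h1, map_zero, if_pos hχ₀] at this
    exact zero_ne_one this
  have hlift : ∀ f, f * f = f → f * e = f → ∃ (c : MonoidAlgebra (locRing M) G) (n : IrrCharacter G → ℕ),
      c * c = c ∧ toK M c = f ∧ (∀ ψ : IrrCharacter G, evalGA (ψ : G → ℂ) c = n ψ) ∧ ∀ ψ, ψ ∉ B → n ψ = 0 := by
    intro f hff hfe
    obtain ⟨c₀, hc₀, hc₀f, -⟩ := exists_lift_idem_commute hff (S := ∅) (fun g hg => hg.elim)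
    have hc : c₀ * eL * (c₀ * eL) = c₀ * eL := by
      rw [mul_assoc c₀ eL, ← mul_assoc eL c₀ eL, (heLc c₀).eq, mul_assoc c₀ eL eL,
        show eL * eL = eL from congrArg Subtype.val (blockIdem_mul_self hM hU), ← mul_assoc, hc₀]
    choose n hn using fun ψ : IrrCharacter G => exists_evalGA_eq_natCast hc ψ
    refine ⟨c₀ * eL, n, hc, by rw [map_mul, hc₀f, ← he, hfe], hn, fun ψ hψ => ?_⟩
    have := hn ψ
    rw [evalGA_mul_blockIdem hM hU, if_neg hψ] at this
    exact_mod_cast this.symm
  have hsumB : ∀ (n : IrrCharacter G → ℕ), (∀ ψ, ψ ∉ B → n ψ = 0) → ∀ {R : Type} [CommRing R] (w : IrrCharacter G → R),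
      ∑ ψ, w ψ * (n ψ : R) = ∑ ψ ∈ S, w ψ * (n ψ : R) := by
    intro n hn R _ w
    exact (Finset.sum_subset (Finset.subset_univ S) fun ψ _ h => by
      rw [hn ψ (fun hψ => h (Finset.mem_filter.mpr ⟨Finset.mem_univ _, hψ⟩)), Nat.cast_zero, mul_zero]).symm
  set s₂ : ℕ := ∑ ψ ∈ S, charDegree (ψ : G → ℂ) * charDegree (ψ : G → ℂ) with hs₂
  have hs₂C : (∑ ψ ∈ S, (ψ : G → ℂ) 1 * (ψ : G → ℂ) 1) = (s₂ : ℂ) := by
    rw [hs₂, Nat.cast_sum]
    exact Finset.sum_congr rfl fun ψ _ => by rw [Nat.cast_mul, (charDegree_eq ψ).1]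
  have hdeg0 : ∀ ψ : IrrCharacter G, charDegree (ψ : G → ℂ) ≠ 0 := fun ψ h =>
    Char.irr_one_ne_zero ψ (by rw [(charDegree_eq ψ).1, h, Nat.cast_zero])
  have hs₂0 : s₂ ≠ 0 := by
    intro h
    rw [hs₂, Finset.sum_eq_zero_iff] at h
    exact hdeg0 χ₀ (Nat.mul_self_inj.mp (by rw [h χ₀ (Finset.mem_filter.mpr ⟨Finset.mem_univ _, hχ₀⟩), mul_zero]))
  -- proportionality of the values of idempotents
  have hprop : ∀ {c : MonoidAlgebra (locRing M) G} {n : IrrCharacter G → ℕ}, c * c = c →
      (∀ ψ : IrrCharacter G, evalGA (ψ : G → ℂ) c = n ψ) → (∀ ψ, ψ ∉ B → n ψ = 0) →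
      (∀ g, p ∣ orderOf g → ∑ ψ ∈ S, (n ψ : ℂ) * (ψ : G → ℂ) g = 0) ∧
        ∀ η ∈ B, s₂ * n η = (∑ ψ ∈ S, n ψ * charDegree (ψ : G → ℂ)) * charDegree (η : G → ℂ) := by
    intro c n hc hn hn0
    have hz : ∀ g, p ∣ orderOf g → ∑ ψ ∈ S, (n ψ : ℂ) * (ψ : G → ℂ) g = 0 := fun g hg => by
      have h := sum_irr_mul_evalGA_eq_zero hM hc hg
      simp only [hn] at h
      rw [hsumB n hn0 (fun ψ => (ψ : G → ℂ) g)] at h
      rw [← h]
      exact Finset.sum_congr rfl fun ψ _ => mul_comm _ _
    refine ⟨hz, fun η hη => ?_⟩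
    have h := coeff_proportional hM hB hl (fun ψ => (n ψ : ℂ)) hz hη
    rw [← hS, hs₂C, (charDegree_eq η).1, Finset.sum_congr rfl fun ψ _ => by rw [(charDegree_eq ψ).1, ← Nat.cast_mul],
      ← Nat.cast_sum, ← Nat.cast_mul, ← Nat.cast_mul, Nat.cast_inj] at h
    exact h
  obtain ⟨f, hff, hef, hfe, hf0, hprim⟩ := exists_primitive (⊥ : Submodule (ResField M) _) e hee
    (fun h => he0 ((Submodule.mem_bot _).mp h))
  have hf0' : f ≠ 0 := fun h => hf0 ((Submodule.mem_bot _).mpr h)
  have hf : IsIdempotentElem f := hff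
  obtain ⟨c, n, hc, hcf, hn, hn0⟩ := hlift f hff hfe
  obtain ⟨τ, hτc, hτr, hτf, -⟩ := exists_functional hM hf hf0' hprim
  obtain ⟨A, hA⟩ := exists_combination hM τ hτc hτr
  have hAf : ∑ ψ ∈ S, res M (A ψ) * (n ψ : ResField M) = 1 := by
    rw [← hsumB n hn0 (fun ψ => res M (A ψ)), ← hA c n hc hn, hcf, hτf]
  obtain ⟨hnz, hnp⟩ := hprop hc hn hn0
  set s₁ := ∑ ψ ∈ S, n ψ * charDegree (ψ : G → ℂ) with hs₁
  set I : Submodule (ResField M) (MonoidAlgebra (ResField M) G) :=
    Submodule.span (ResField M) (Set.range fun uv : MonoidAlgebra (ResField M) G × MonoidAlgebra (ResField M) G =>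
      uv.1 * f * uv.2) with hI
  have heI : e ∈ I := by
    by_contra heI
    obtain ⟨g, hgg, heg, hge, hgI, hgprim⟩ := exists_primitive I e hee heI
    have hgg' : IsIdempotentElem g := hgg
    obtain ⟨σ, hσc, hσr, hσg, hσ0⟩ := exists_functional hM hgg' (fun h => hgI (h ▸ zero_mem I)) hgprim
    obtain ⟨c', n', hc', hcg, hn', hn0'⟩ := hlift g hgg hge
    obtain ⟨-, hnp'⟩ := hprop hc' hn' hn0'
    obtain ⟨C, hC⟩ := exists_combination hM σ hσc hσr
    have hCg : ∑ ψ ∈ S, res M (C ψ) * (n' ψ : ResField M) = 1 := by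
      rw [← hsumB n' hn0' (fun ψ => res M (C ψ)), ← hC c' n' hc' hn', hcg, hσg]
    have hCf : ∑ ψ ∈ S, res M (C ψ) * (n ψ : ResField M) = 0 := by
      rw [← hsumB n hn0 (fun ψ => res M (C ψ)), ← hC c n hc hn, hcf]
      refine hσ0 f fun a b _ => ?_
      haveI : Nontrivial hgg'.Corner := corner_nontrivial fun h => hgI (h ▸ zero_mem I)
      obtain ⟨ε, hε⟩ := exists_scalar_hom (k := ResField M) (A := hgg'.Corner) (corner_idem hgprim)
      set w := cornerProj (ResField M) hgg' (a * f * b) with hw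
      by_cases hw0 : ε w = 0
      · simpa [hw0] using hε w
      · exfalso
        have hu : IsUnit w := by
          have h1 : IsUnit (algebraMap (ResField M) hgg'.Corner (ε w)) := (isUnit_iff_ne_zero.mpr hw0).map _
          have := (hε w).isUnit_add_left_of_commute h1 (Algebra.commute_algebraMap_right _ _)
          rwa [add_sub_cancel] at this
        obtain ⟨v, hv⟩ := hu.exists_right_inv
        refine hgI ?_
        have h1 : g * (a * f * b) * g * v.1 = g := congrArg Subtype.val hv
        rw [← h1, show g * (a * f * b) * g * v.1 = (g * a) * f * (b * g * v.1) by simp only [mul_assoc]]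
        exact Submodule.subset_span ⟨(g * a, b * g * v.1), rfl⟩
    have hcross : ∀ ψ ∈ S, ∀ θ ∈ S, n ψ * n' θ = n θ * n' ψ := by
      intro ψ hψ θ hθ
      refine Nat.eq_of_mul_eq_mul_left (Nat.pos_of_ne_zero (mul_ne_zero hs₂0 hs₂0)) ?_
      calc s₂ * s₂ * (n ψ * n' θ) = (s₂ * n ψ) * (s₂ * n' θ) := by ring
        _ = (s₂ * n θ) * (s₂ * n' ψ) := by
          rw [hnp ψ (Finset.mem_filter.mp hψ).2, hnp' θ (Finset.mem_filter.mp hθ).2,
            hnp θ (Finset.mem_filter.mp hθ).2, hnp' ψ (Finset.mem_filter.mp hψ).2]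
          ring
        _ = s₂ * s₂ * (n θ * n' ψ) := by ring
    refine one_ne_zero (α := ResField M) ?_
    have hid : (∑ ψ ∈ S, res M (A ψ) * (n ψ : ResField M)) * (∑ ψ ∈ S, res M (C ψ) * (n' ψ : ResField M)) =
        (∑ ψ ∈ S, res M (A ψ) * (n' ψ : ResField M)) * (∑ ψ ∈ S, res M (C ψ) * (n ψ : ResField M)) := by
      rw [Finset.sum_mul_sum, Finset.sum_mul_sum]
      refine Finset.sum_congr rfl fun ψ hψ => Finset.sum_congr rfl fun θ hθ => ?_
      have := congrArg (Nat.cast : ℕ → ResField M) (hcross ψ hψ θ hθ)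
      push_cast at this
      linear_combination res M (A ψ) * res M (C θ) * this
    rwa [hAf, hCg, hCf, mul_zero, mul_one] at hid
  obtain ⟨m, d, s, hs⟩ := (Submodule.mem_span_set' ..).mp heI
  choose uv huv using fun i => (s i).2
  set U : Fin m → MonoidAlgebra (ResField M) G := fun i => e * (d i • (uv i).1) with hUdef
  set W : Fin m → MonoidAlgebra (ResField M) G := fun i => (uv i).2 * e with hWdef
  have hsum : ∑ i, U i * f * W i = e := by
    have h1 : e = e * e * e := by rw [hee, hee]
    conv_rhs => rw [h1]; arg 1; arg 2; rw [← hs]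
    rw [Finset.mul_sum, Finset.sum_mul]
    refine Finset.sum_congr rfl fun i _ => ?_
    rw [← huv i, hUdef, hWdef]
    simp only [Algebra.smul_mul_assoc, Algebra.mul_smul_comm, mul_assoc]
  haveI : Nontrivial hf.Corner := corner_nontrivial hf0'
  have hprodc : ∀ a b, cornerProj (ResField M) hf a * cornerProj (ResField M) hf b =
      cornerProj (ResField M) hf (a * f * b) := fun a b => Subtype.ext (by
    show (f * a * f) * (f * b * f) = f * (a * f * b) * f
    rw [show (f * a * f) * (f * b * f) = f * a * (f * f) * b * f by simp only [mul_assoc], hff]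
    simp only [mul_assoc])
  have hcodim : Module.finrank (ResField M) hf.Corner ≤ Module.finrank (ResField M)
      (Submodule.span (ResField M) (Set.range fun z : hf.Corner × hf.Corner => z.1 * z.2 - z.2 * z.1)) + Nat.card B := by
    refine finrank_le_commutators fun φ hφ hli => ?_
    let T : MonoidAlgebra (ResField M) G →ₗ[ResField M] hf.Corner :=
      ∑ i, (cornerProj (ResField M) hf).comp
        ((LinearMap.mulRight (ResField M) (U i)).comp (LinearMap.mulLeft (ResField M) (W i)))
    have hT : ∀ y, T y = ∑ i, cornerProj (ResField M) hf (W i * y * U i) := fun y => by simp [T]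
    have heU : ∀ i, e * U i = U i := fun i => by rw [hUdef, ← mul_assoc, hee]
    have hkey : ∀ i x y, φ i (T (x * y)) = ∑ j, ∑ l, φ i
        (cornerProj (ResField M) hf (W j * x * U l) * cornerProj (ResField M) hf (W l * y * U j)) := by
      intro i x y
      rw [hT, map_sum]
      refine Finset.sum_congr rfl fun j _ => ?_
      rw [← map_sum]
      simp only [hprodc, ← map_sum]
      congr 2
      calc W j * (x * y) * U j = W j * x * e * (y * U j) := by
            rw [mul_assoc (W j * x) e, ← mul_assoc e y, (hec y).eq, mul_assoc y e, heU]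
            simp only [mul_assoc]
        _ = _ := by
            rw [← hsum, Finset.mul_sum, Finset.sum_mul]
            exact Finset.sum_congr rfl fun l _ => by simp only [mul_assoc]
    refine not_linearIndependent_of_card hM hB le_rfl (fun i => (φ i).comp T) (fun i x y => ?_) (fun i y => ?_) ?_
    · show φ i (T (x * y)) = φ i (T (y * x))
      rw [hkey, hkey, Finset.sum_comm]
      exact Finset.sum_congr rfl fun j _ => Finset.sum_congr rfl fun l _ => hφ i _ _
    · show φ i (T (y * e)) = φ i (T y)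
      rw [hT, hT]
      congr 1
      exact Finset.sum_congr rfl fun j _ => by rw [← mul_assoc (W j), mul_assoc (W j * y), heU]
    · refine LinearIndependent.of_comp (LinearMap.lcomp (ResField M) (ResField M) (cornerVal (ResField M) hf)) ?_
      have hres : (LinearMap.lcomp (ResField M) (ResField M) (cornerVal (ResField M) hf)) ∘
          (fun i => (φ i).comp T) = φ := funext fun i => LinearMap.ext fun a => by
        show φ i (T a.1) = φ i a
        obtain ⟨r, hr⟩ := a.2
        simp only at hr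
        have h1 : f * a.1 * f = a.1 := congrArg Subtype.val (cornerProj_val (k := ResField M) a)
        have hsplit : ∀ j, cornerProj (ResField M) hf (W j * a.1 * U j) =
            cornerProj (ResField M) hf (W j) * a * cornerProj (ResField M) hf (U j) := fun j => by
          conv_rhs => rw [← cornerProj_val (k := ResField M) a, hprodc, hprodc]
          refine congrArg _ ?_
          conv_lhs => rw [← h1]
          simp only [mul_assoc]
        rw [hT, map_sum, Finset.sum_congr rfl fun j _ => show φ i (cornerProj (ResField M) hf (W j * a.1 * U j)) =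
          φ i (a * (cornerProj (ResField M) hf (U j) * cornerProj (ResField M) hf (W j))) by
            rw [hsplit, mul_assoc, hφ, mul_assoc], ← map_sum, ← Finset.mul_sum]
        simp only [hprodc, ← map_sum, hsum]
        rw [show cornerProj (ResField M) hf e = 1 from Subtype.ext (show f * e * f = f by rw [hfe, hff]), mul_one]
      rw [hres]
      exact hli
  -- the symmetrizing form on the corner
  let lam : hf.Corner →ₗ[ResField M] ResField M :=
    { toFun := fun x => x.1.coeff 1
      map_add' := fun x y => by simp [show (x + y).1 = x.1 + y.1 from rfl]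
      map_smul' := fun d x => by simp [corner_coe_smul] }
  have hc1 : ∀ a b : MonoidAlgebra (ResField M) G, (a * b).coeff 1 = (b * a).coeff 1 := fun a b => by
    rw [coeff_mul_sum, coeff_mul_sum]
    exact Fintype.sum_equiv (Equiv.inv G) _ _ fun h => by simp [mul_comm]
  have hcomm : ∀ a b : hf.Corner, a * b = b * a := by
    refine comm_of_symmetric (corner_idem hprim) lam (fun x y => ?_) (fun x hx => ?_) _ rfl
      (hcodim.trans (by omega))
    · exact hc1 x.1 y.1
    · have hx1 : f * x.1 * f = x.1 := congrArg Subtype.val (cornerProj_val (k := ResField M) x)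
      have hxf : x.1 * f = x.1 := by rw [← hx1, mul_assoc _ f f, hff]
      have hfx : f * x.1 = x.1 := by rw [← hx1, ← mul_assoc, ← mul_assoc, hff]
      refine Subtype.ext (ga_ext fun g => ?_)
      have h := hx (cornerProj (ResField M) hf (single g⁻¹ 1))
      have h2 : (x.1 * (f * single g⁻¹ 1 * f)).coeff 1 = x.1.coeff g := by
        rw [← mul_assoc, hc1, ← mul_assoc, ← mul_assoc, hfx, hxf, coeff_mul_single']
        simp
      rw [← h2]
      exact h
  have hspan : Submodule.span (ResField M) (Set.range fun z : hf.Corner × hf.Corner => z.1 * z.2 - z.2 * z.1) = ⊥ := by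
    rw [Submodule.span_eq_bot]
    rintro _ ⟨z, rfl⟩
    exact sub_eq_zero.mpr (hcomm _ _)
  rw [hspan, finrank_bot, zero_add] at hcodim
  have hsq : ∑ ψ ∈ S, n ψ ^ 2 ≤ S.card := by
    refine (Finset.sum_le_sum_of_subset (Finset.subset_univ S)).trans ((sum_sq_le hM hc hcf hf hn).trans ?_)
    rw [hS, ← Fintype.card_subtype, ← Nat.card_eq_fintype_card]
    exact hcodim
  have hs₁0 : s₁ ≠ 0 := by
    intro h
    refine one_ne_zero (α := ResField M) ?_
    rw [← hAf]
    refine Finset.sum_eq_zero fun ψ hψ => ?_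
    have := hnp ψ (Finset.mem_filter.mp hψ).2
    rw [h, zero_mul, mul_eq_zero, or_iff_right hs₂0] at this
    rw [this, Nat.cast_zero, mul_zero]
  have hpos : ∀ ψ ∈ S, 1 ≤ n ψ := fun ψ hψ => Nat.pos_of_ne_zero fun h => by
    have := hnp ψ (Finset.mem_filter.mp hψ).2
    rw [h, mul_zero, eq_comm, mul_eq_zero] at this
    exact this.elim hs₁0 (hdeg0 ψ)
  have hone : ∀ ψ ∈ S, n ψ = 1 := by
    by_contra hcon
    push Not at hcon
    obtain ⟨ψ, hψ, hne⟩ := hcon
    have : ∑ _θ ∈ S, 1 < ∑ θ ∈ S, n θ ^ 2 := Finset.sum_lt_sum (fun θ hθ => Nat.one_le_pow _ _ (hpos θ hθ))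
      ⟨ψ, hψ, Nat.one_lt_pow (by norm_num) (by have := hpos ψ hψ; omega)⟩
    simp only [Finset.sum_const, smul_eq_mul, mul_one] at this
    omega
  refine ⟨fun χ hχ ψ hψ => ?_, fun g hg => ?_⟩
  · have e1 := hnp χ hχ
    have e2 := hnp ψ hψ
    rw [hone χ (Finset.mem_filter.mpr ⟨Finset.mem_univ _, hχ⟩), mul_one] at e1
    rw [hone ψ (Finset.mem_filter.mpr ⟨Finset.mem_univ _, hψ⟩), mul_one] at e2
    rw [(charDegree_eq χ).1, (charDegree_eq ψ).1, Nat.eq_of_mul_eq_mul_left (Nat.pos_of_ne_zero hs₁0) (e1.symm.trans e2)]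
  · rw [← hnz g hg]
    exact Finset.sum_congr rfl fun ψ hψ => by rw [hone ψ hψ, Nat.cast_one, one_mul]

end CfsgLib.Block.RankOneSmall
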