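import Cfsg.Agent.Lib.Block.Orthogonality
import Cfsg.Agent.Lib.Block.Principal
import Cfsg.Agent.Lib.Char.DefectZero
import Cfsg.Agent.Lib.Char.Integrality
import Cfsg.Agent.S0910

/-!
# Simple groups of order `p ^ a * q ^ b * r`: a Sylow `r`-subgroup is self-centralizing

An element `g` of order divisible by `p * r` would give, by block orthogonality in the principal
`p`-block, `∑ χ(1) χ(g) = 0`. Here characters of degree divisible by `r` vanish at `g`, and by
Brauer–Tuan the only degree in the block prime to `q * r` is that of the principal character; so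
`1 ≡ 0` modulo `q`.
-/

set_option autoImplicit false
set_option linter.unusedSectionVars false

open scoped ComplexConjugate
open Cfsg CfsgLib.Block

namespace CfsgLib.Block.SelfCentralPrime

variable {G : Type*} [Group G] [Finite G] [IsSimpleGroup G]

theorem not_dvd_orderOf (hna : ∃ a b : G, a * b ≠ b * a) {p q r a b : ℕ} (hp : p.Prime)
    (hq : q.Prime) (hr : r.Prime) (hpr : p ≠ r) (hqr : q ≠ r)
    (hcard : Nat.card G = p ^ a * q ^ b * r) (g : G) (hgp : p ∣ orderOf g)
    (hgr : r ∣ orderOf g) : False := by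
  classical
  letI := Fintype.ofFinite G
  haveI : Fact p.Prime := ⟨hp⟩
  haveI : Fact r.Prime := ⟨hr⟩
  obtain ⟨M, hM⟩ := exists_pModular hp
  haveI := hM.2.1
  have hr1 : r ^ 1 ∣ Nat.card G := ⟨p ^ a * q ^ b, by rw [hcard]; ring⟩
  have hr2 : ¬ r ^ (1 + 1) ∣ Nat.card G := by
    rw [hcard, pow_succ, pow_one]
    intro h
    rcases (Nat.Prime.dvd_mul hr).1 (Nat.dvd_of_mul_dvd_mul_right hr.pos h) with h' | h'
    · exact hpr ((Nat.prime_dvd_prime_iff_eq hr hp).1 (hr.dvd_of_dvd_pow h')).symm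
    · exact hqr ((Nat.prime_dvd_prime_iff_eq hr hq).1 (hr.dvd_of_dvd_pow h')).symm
  have hB : IsPBlock M (principalBlock M G) := isPBlock_principalBlock
  have hsum := blockUnion_orthogonal_regular_singular hM (IsBlockUnion.of_isPBlock hB)
    (g := (1 : G)) (h := g) (by rw [orderOf_one]; exact hp.not_dvd_one) hgp
  set B := (principalBlock M G).toFinite.toFinset with hBdef
  rw [finsum_mem_eq_finite_toFinset_sum _ (principalBlock M G).toFinite, ← hBdef] at hsum
  have hone : oneChar G ∈ B := by simp [hBdef, one_mem_principalBlock]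
  rw [← Finset.add_sum_erase _ _ hone] at hsum
  have hterm : ∀ χ ∈ B.erase (oneChar G), ∃ w : ℂ, IsIntegral ℤ w ∧
      (χ : G → ℂ) 1 * conj ((χ : G → ℂ) g) = (q : ℂ) * w := by
    intro χ hχ
    rw [Finset.mem_erase, hBdef, Set.Finite.mem_toFinset] at hχ
    set d := charDegree (χ : G → ℂ) with hd
    have hd1 : (χ : G → ℂ) 1 = d := (charDegree_eq χ).1
    by_cases hrd : r ∣ d
    · refine ⟨0, isIntegral_zero, ?_⟩
      rw [CfsgLib.Char.char_defect_zero_vanishes χ hr1 hr2 hd1 (by rwa [pow_one]) hgr, map_zero,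
        mul_zero, mul_zero]
    by_cases hqd : q ∣ d
    · obtain ⟨m, hm⟩ := hqd
      refine ⟨(m : ℂ) * conj ((χ : G → ℂ) g), ?_, ?_⟩
      · exact (isIntegral_natCast (R := ℤ) (B := ℂ) m).mul
          ((irr_isIntegral χ g).map (RingHom.toIntAlgHom (starRingEnd ℂ)))
      · rw [hd1, hm, Nat.cast_mul, mul_assoc]
    exfalso
    have hdvd : d ∣ p ^ a * q ^ b * r := hcard ▸ CfsgLib.Char.degree_dvd_card χ hd1
    have hdp : d ∣ p ^ a :=
      (((hq.coprime_iff_not_dvd.2 hqd).symm).pow_right b).dvd_of_dvd_mul_right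
        ((hr.coprime_iff_not_dvd.2 hrd).symm.dvd_of_dvd_mul_right hdvd)
    obtain ⟨k, -, hk⟩ := (Nat.dvd_prime_pow hp).1 hdp
    refine hχ.1 (Subtype.ext ?_)
    rw [Cfsg.Agent.S0910.result p M hM hna χ hχ.2 k (by rw [hd1, hk]; push_cast; rfl)]
    rfl
  choose w hw hwe using hterm
  rw [show ((oneChar G : IrrCharacter G) : G → ℂ) 1 * conj (((oneChar G : IrrCharacter G) : G → ℂ) g)
    = 1 by simp [oneChar], ← Finset.sum_attach (B.erase (oneChar G)),
    Finset.sum_congr rfl (fun χ _ => hwe χ.1 χ.2), ← Finset.mul_sum] at hsum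
  set W := ∑ χ ∈ (B.erase (oneChar G)).attach, w χ.1 χ.2 with hW
  have hWi : IsIntegral ℤ W := IsIntegral.sum _ fun χ _ => hw χ.1 χ.2
  have hWq : W = ((-(1 : ℚ) / q : ℚ) : ℂ) := by
    have hq0 : (q : ℂ) ≠ 0 := Nat.cast_ne_zero.2 hq.ne_zero
    push_cast
    field_simp
    linear_combination hsum
  rw [hWq] at hWi
  have h' : IsIntegral ℤ (-(1 : ℚ) / q) :=
    (isIntegral_algHom_iff (RingHom.toIntAlgHom (Rat.castHom ℂ)) Rat.cast_injective).1 hWi
  obtain ⟨z, hz⟩ := IsIntegrallyClosed.isIntegral_iff.1 h'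
  have hzq : (z : ℚ) * q = -1 := by
    rw [show (z : ℚ) = -(1 : ℚ) / q by simpa using hz]
    field_simp [hq.ne_zero]
  have hzq' : z * (q : ℤ) = -1 := by exact_mod_cast hzq
  have : (q : ℤ) ∣ 1 := ⟨-z, by linarith⟩
  exact hq.not_dvd_one (by exact_mod_cast this)

theorem centralizer_sylow_eq {p q r a b : ℕ} (hp : p.Prime) (hq : q.Prime) [hr : Fact r.Prime]
    (hpr : p ≠ r) (hqr : q ≠ r) (hcard : Nat.card G = p ^ a * q ^ b * r) (S : Sylow r G) :
    Subgroup.centralizer (S : Set G) = (S : Subgroup G) := by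
  classical
  have hS : Nat.card S = r := by
    have hne : p ^ a * q ^ b ≠ 0 := mul_ne_zero (pow_ne_zero _ hp.ne_zero) (pow_ne_zero _ hq.ne_zero)
    rw [Sylow.card_eq_multiplicity, hcard, Nat.factorization_mul hne hr.out.ne_zero,
      Finsupp.add_apply, hr.out.factorization_self,
      Nat.factorization_eq_zero_of_not_dvd (fun h => ?_), zero_add, pow_one]
    rcases (Nat.Prime.dvd_mul hr.out).1 h with h' | h'
    · exact hpr ((Nat.prime_dvd_prime_iff_eq hr.out hp).1 (hr.out.dvd_of_dvd_pow h')).symm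
    · exact hqr ((Nat.prime_dvd_prime_iff_eq hr.out hq).1 (hr.out.dvd_of_dvd_pow h')).symm
  haveI : IsCyclic S := isCyclic_of_prime_card hS
  have hSC : (S : Subgroup G) ≤ Subgroup.centralizer (S : Set G) :=
    Subgroup.le_centralizer (S : Subgroup G)
  by_cases hna : ∃ a b : G, a * b ≠ b * a
  swap
  · push Not at hna
    refine le_antisymm (fun w _ => ?_) hSC
    have hprime : (Nat.card G).Prime := by
      letI : CommGroup G := { (inferInstance : Group G) with mul_comm := hna }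
      exact IsSimpleGroup.prime_card
    have hrG : r = Nat.card G := (Nat.prime_dvd_prime_iff_eq hr.out hprime).1
      ⟨p ^ a * q ^ b, by rw [hcard]; ring⟩
    have : (S : Subgroup G) = ⊤ := Subgroup.eq_top_of_card_eq _ (hS.trans hrG)
    rw [this]
    trivial
  by_contra hne
  set C := Subgroup.centralizer (S : Set G) with hC
  have hdvd : r ∣ Nat.card C := hS ▸ Subgroup.card_dvd_of_le hSC
  obtain ⟨m, hm⟩ := hdvd
  have hm1 : m ≠ 1 := fun h => hne
    (Subgroup.eq_of_le_of_card_ge hSC (by rw [hm, h, mul_one, hS])).symm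
  obtain ⟨ℓ, hℓ, hℓm⟩ := Nat.exists_prime_and_dvd hm1
  have hmG : r * m ∣ p ^ a * q ^ b * r := hm ▸ hcard ▸ Subgroup.card_subgroup_dvd_card C
  have hmpq : m ∣ p ^ a * q ^ b := Nat.dvd_of_mul_dvd_mul_left hr.out.pos (by
    rwa [mul_comm (p ^ a * q ^ b) r] at hmG)
  have hℓ' : ℓ = p ∨ ℓ = q := by
    rcases (Nat.Prime.dvd_mul hℓ).1 (hℓm.trans hmpq) with h | h
    · exact Or.inl ((Nat.prime_dvd_prime_iff_eq hℓ hp).1 (hℓ.dvd_of_dvd_pow h))
    · exact Or.inr ((Nat.prime_dvd_prime_iff_eq hℓ hq).1 (hℓ.dvd_of_dvd_pow h))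
  have hℓr : ℓ ≠ r := by rcases hℓ' with rfl | rfl <;> assumption
  haveI : Fact ℓ.Prime := ⟨hℓ⟩
  obtain ⟨x, hx⟩ := exists_prime_orderOf_dvd_card' (G := C) ℓ (hm ▸ hℓm.mul_left r)
  obtain ⟨s, hs⟩ := exists_prime_orderOf_dvd_card' (G := (S : Subgroup G)) r (dvd_of_eq hS.symm)
  have hcomm : Commute (s : G) (x : G) := Subgroup.mem_centralizer_iff.1 x.2 s s.2
  have hord : orderOf ((s : G) * (x : G)) = r * ℓ := by
    rw [hcomm.orderOf_mul_eq_mul_orderOf_of_coprime]
    · rw [Subgroup.orderOf_coe, Subgroup.orderOf_coe, hs, hx]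
    · rw [Subgroup.orderOf_coe, Subgroup.orderOf_coe, hs, hx]
      exact (Nat.coprime_primes hr.out hℓ).2 hℓr.symm
  rcases hℓ' with rfl | rfl
  · exact not_dvd_orderOf hna hp hq hr.out hpr hqr hcard _ (hord ▸ dvd_mul_left _ _)
      (hord ▸ dvd_mul_right _ _)
  · exact not_dvd_orderOf hna hq hp hr.out hqr hpr (a := b) (b := a) (by rw [hcard]; ring) _
      (hord ▸ dvd_mul_left _ _) (hord ▸ dvd_mul_right _ _)

end CfsgLib.Block.SelfCentralPrime
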