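import Cfsg.Agent.Lib.Block.BrauerFeit
import Cfsg.Agent.Lib.Block.LocalComb
import Cfsg.Agent.Lib.Block.Sections
import Mathlib.LinearAlgebra.Matrix.NonsingularInverse
import Mathlib.LinearAlgebra.Dimension.Constructions

/-!
# Blocks from `p`-separated classes (Brauer, Tsushima)

`sum_sepClass`: the orthogonality relation for `p`-separated classes;
`exists_blocks_of_separated`: blocks with a given defect group.
-/

open Finset MonoidAlgebra
open scoped ComplexConjugate

set_option linter.unusedSectionVars false

namespace CfsgLib.Block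

open Cfsg

universe u

/-- Vectors pairing to the identity contain a basis. -/
theorem exists_injective_det_ne_zero {K : Type*} [Field K] {r : ℕ} {ι : Type*} (T : Finset ι)
    (L W : ι → Fin r → K) (h : ∀ i j, ∑ b ∈ T, L b i * W b j = if i = j then 1 else 0) :
    ∃ sel : Fin r → ι, Function.Injective sel ∧ (∀ i, sel i ∈ T) ∧
      (Matrix.of fun i j => L (sel i) j).det ≠ 0 := by
  classical
  have hsp : Submodule.span K (L '' (T : Set ι)) = ⊤ := by
    rw [eq_top_iff]
    intro v _
    have hv : v = ∑ b ∈ T, (∑ j, W b j * v j) • L b := by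
      funext i
      simp only [Finset.sum_apply, Pi.smul_apply, smul_eq_mul, Finset.sum_mul]
      rw [Finset.sum_comm, Finset.sum_congr rfl fun j _ => show
        ∑ b ∈ T, W b j * v j * L b i = (∑ b ∈ T, L b i * W b j) * v j by
          rw [Finset.sum_mul]; exact Finset.sum_congr rfl fun b _ => by ring]
      simp [h]
    rw [hv]
    exact Submodule.sum_mem _ fun b hb => Submodule.smul_mem _ _
      (Submodule.subset_span ⟨b, hb, rfl⟩)
  obtain ⟨s, hs, hsspan, hli⟩ := exists_linearIndependent K (L '' (T : Set ι))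
  have : Fintype s := ((T.finite_toSet.image L).subset hs).fintype
  let bas : Module.Basis s K (Fin r → K) :=
    Module.Basis.mk hli (by rw [Subtype.range_coe_subtype, Set.ofPred_mem_eq, hsspan, hsp])
  have hcard : Fintype.card s = r := by
    rw [← Module.finrank_eq_card_basis bas, Module.finrank_fin_fun]
  let e : Fin r ≃ s := (Fintype.equivFinOfCardEq hcard).symm
  choose sel hsel using fun i : Fin r => hs (e i).2
  refine ⟨sel, fun i j hij => e.injective (Subtype.ext ?_), fun i => (hsel i).1, ?_⟩
  · rw [← (hsel i).2, ← (hsel j).2, hij]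
  · refine ((Matrix.isUnit_iff_isUnit_det _).mp
      (Matrix.linearIndependent_rows_iff_isUnit.mp ?_)).ne_zero
    have : (Matrix.of fun i j => L (sel i) j).row = (Subtype.val : s → Fin r → K) ∘ e := by
      funext i; exact (hsel i).2
    rw [this]
    exact hli.comp e e.injective

variable {p : ℕ} {M : Ideal AlgInt} [M.IsMaximal] {G : Type u} [Group G] [Fintype G] [DecidableEq G]
  [Fintype (IrrCharacter G)]

/-- The orthogonality relation for classes with no nontrivial `p`-elements among quotients. -/
theorem exists_sep_relation (hM : IsPModular p M) {ι : Type*} [DecidableEq ι] (x : ι → G)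
    (hx : ∀ i j, IsConj (x i) (x j) → i = j)
    (hsep : ∀ i j, ∀ g h : G, IsConj (x i) g → IsConj (x j) h → ∀ k : ℕ, 0 < k →
      orderOf (g * h⁻¹) ≠ p ^ k) :
    ∃ a : IrrCharacter G → locRing M, ∀ i j, ∑ χ : IrrCharacter G,
      a χ * ⟨_, centralChar_mem χ (x i)⟩ * irrLoc M χ (x j)⁻¹ = if i = j then 1 else 0 := by
  classical
  have hpf : Fact p.Prime := ⟨hM.1⟩
  set T : Set G := {g | ∃ k, orderOf g = p ^ k} with hT
  set f : G → ℂ := fun g => if g ∈ T then 1 else 0 with hf
  have hloc : IsLocComb M f := isLocComb_sectionIndicator hM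
    (fun y c => by simp only [hT, Set.mem_ofPred_eq, orderOf_conj_eq]) fun u y hc ⟨k, hk⟩ hy => by
      simp only [hT, Set.mem_ofPred_eq]
      constructor
      · rintro ⟨m, hm⟩
        have h1 : (u * y) ^ p ^ (k + m) = 1 := orderOf_dvd_iff_pow_eq_one.mp
          (hm ▸ pow_dvd_pow p (Nat.le_add_left m k))
        rw [hc.mul_pow, pow_add, pow_mul u, ← hk, pow_orderOf_eq_one, one_pow, one_mul, hk,
          ← pow_add] at h1
        obtain ⟨l, -, hl⟩ := (Nat.dvd_prime_pow hM.1).mp (orderOf_dvd_of_pow_eq_one h1)
        rcases Nat.eq_zero_or_pos l with rfl | hl0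
        · exact ⟨0, hl⟩
        · exact absurd (hl ▸ dvd_pow_self p hl0.ne') hy
      · rintro ⟨l, hl⟩
        have hy1 : y = 1 := orderOf_eq_one_iff.mp (by
          rcases Nat.eq_zero_or_pos l with rfl | hl0
          · exact hl
          · exact absurd (hl ▸ dvd_pow_self p hl0.ne') hy)
        exact ⟨k, by rw [hy1, mul_one, hk]⟩
  refine ⟨fun χ => ⟨_, hloc.inner_mem χ⟩, fun i j => ?_⟩
  have hexp : ∀ g, f g = ∑ χ : IrrCharacter G,
      classInner f (χ : G → ℂ) * (χ : G → ℂ) g := fun g => by
    have h := congrFun (Char.classFun_expand hloc.classFun) g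
    simpa using h
  set A : MonoidAlgebra ℂ G := classSum ℂ (x i) with hA
  set A' : MonoidAlgebra ℂ G := classSum ℂ (x j)⁻¹ with hA'
  have hleft : ∑ g, (A * A').coeff g * f g =
      if i = j then ((Subgroup.centralizer ({x i} : Set G)).index : ℂ) else 0 := by
    rw [Finset.sum_congr rfl fun g _ => show (A * A').coeff g * f g =
      ∑ h, A.coeff h * A'.coeff (h⁻¹ * g) * f g by rw [coeff_mul_sum, Finset.sum_mul],
      Finset.sum_comm]
    have h1 : ∀ h : G, ∑ g, A.coeff h * A'.coeff (h⁻¹ * g) * f g =
        if IsConj (x i) h ∧ i = j then 1 else 0 := by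
      intro h
      by_cases hh : IsConj (x i) h
      · rw [Finset.sum_eq_single (1 : G)]
        · have hf1 : f 1 = 1 := if_pos ⟨0, by simp⟩
          have hih : IsConj (x j)⁻¹ h⁻¹ ↔ i = j := by
            constructor
            · intro hc
              obtain ⟨c, hc⟩ := isConj_iff.mp hc
              refine hx i j (hh.trans (isConj_iff.mpr ⟨c⁻¹, ?_⟩))
              rw [← inv_inv h, ← hc]
              group
            · rintro rfl
              obtain ⟨c, hc⟩ := isConj_iff.mp hh
              exact isConj_iff.mpr ⟨c, by rw [← hc]; group⟩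
          simp only [hA, hA', classSum, coeff_gaOfFun, mul_one, hf1, hih, hh, true_and, if_true,
            one_mul]
        · intro g _ hg
          by_cases hv : IsConj (x j)⁻¹ (h⁻¹ * g)
          · have hgT : g ∉ T := by
              rintro ⟨k, hk⟩
              rcases Nat.eq_zero_or_pos k with rfl | hk0
              · exact hg (orderOf_eq_one_iff.mp hk)
              · obtain ⟨c, hc⟩ := isConj_iff.mp hv
                have hconj : IsConj (x j) (h⁻¹ * g)⁻¹ :=
                  isConj_iff.mpr ⟨c, by rw [← hc]; group⟩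
                refine hsep i j h _ hh hconj k hk0 ?_
                rwa [inv_inv, mul_inv_cancel_left]
            simp [hf, hgT]
          · simp only [hA', classSum, coeff_gaOfFun, if_neg hv, mul_zero, zero_mul]
        · simp
      · simp only [hA, classSum, coeff_gaOfFun, hh, if_false, zero_mul, Finset.sum_const_zero,
          false_and]
    rw [Finset.sum_congr rfl fun h _ => h1 h, Finset.sum_boole]
    by_cases hij : i = j
    · simp only [hij, and_true, if_true]
      rw [← Char.card_isConj, Nat.card_eq_fintype_card, Fintype.card_subtype]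
    · simp [hij]
  have hright : ∑ g, (A * A').coeff g * f g = ∑ χ : IrrCharacter G,
      classInner f (χ : G → ℂ) * ((χ : G → ℂ) 1 *
        (centralChar (χ : G → ℂ) (x i) * centralChar (χ : G → ℂ) (x j)⁻¹)) := by
    simp only [hexp, Finset.mul_sum]
    rw [Finset.sum_comm]
    refine Finset.sum_congr rfl fun χ _ => ?_
    have h := omega_mul χ.2 (isClassElt_classSum (R := ℂ) (x i))
      (isClassElt_classSum (R := ℂ) (x j)⁻¹)
    rw [omega_classSum (Char.isClassFunction_irr χ), omega_classSum (Char.isClassFunction_irr χ),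
      omega, div_eq_iff (Char.irr_one_ne_zero χ)] at h
    rw [mul_comm ((χ : G → ℂ) 1), ← h, Finset.mul_sum]
    exact Finset.sum_congr rfl fun g _ => by rw [hA, hA']; ring
  have hinv : (Subgroup.centralizer ({(x j)⁻¹} : Set G)).index =
      (Subgroup.centralizer ({x j} : Set G)).index := by
    congr 1
    ext c
    simp only [Subgroup.mem_centralizer_singleton_iff]
    exact Commute.inv_right_iff
  have hne : ((Subgroup.centralizer ({x j} : Set G)).index : ℂ) ≠ 0 :=
    Nat.cast_ne_zero.mpr Subgroup.index_ne_zero_of_finite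
  apply Subtype.ext
  rw [AddSubmonoidClass.coe_finsetSum]
  simp only [Subring.coe_mul, coe_irrLoc]
  apply mul_left_cancel₀ hne
  rw [Finset.mul_sum]
  refine Eq.trans (b := ∑ g, (A * A').coeff g * f g) ?_ ?_
  · rw [hright]
    refine Finset.sum_congr rfl fun χ _ => ?_
    have := Char.irr_one_ne_zero χ
    simp only [centralChar, hinv]
    field_simp
  · rw [hleft]
    split_ifs with hij
    · rw [hij, OneMemClass.coe_one, mul_one]
    · rw [ZeroMemClass.coe_zero, mul_zero]

/-- Brauer–Tsushima: `p`-separated classes of defect group `D` give as many blocks with defect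
group `D`, with non-singular values at characters of height zero. -/
theorem exists_blocks_of_separated (hM : IsPModular p M) {D : Subgroup G} {r : ℕ} (x : Fin r → G)
    (hx : ∀ i j, IsConj (x i) (x j) → i = j) (hD : ∀ i, IsSylowCent p (x i) D)
    (hsep : ∀ i j, ∀ g h : G, IsConj (x i) g → IsConj (x j) h → ∀ k : ℕ, 0 < k →
      orderOf (g * h⁻¹) ≠ p ^ k) :
    ∃ B : Fin r → Set (IrrCharacter G), Function.Injective B ∧
      (∀ i, IsPBlock M (B i) ∧ IsDefectGroup p M (B i) D) ∧
      ∀ χ : Fin r → IrrCharacter G,
        (∀ i, χ i ∈ B i ∧ blockHeight p (B i) (χ i : G → ℂ) = 0) →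
        ¬ MemLocalIdeal M (Matrix.det (Matrix.of fun i j : Fin r => (χ i : G → ℂ) (x j))) := by
  classical
  have hpf : Fact p.Prime := ⟨hM.1⟩
  have := charP_resField hM
  obtain ⟨a, ha⟩ := exists_sep_relation hM x hx hsep
  have hrel : ∀ i j, ∑ χ : IrrCharacter G,
      centralRes M χ (x i) * (res M (a χ) * res M (irrLoc M χ (x j)⁻¹)) =
        if i = j then 1 else 0 := fun i j => by
    have h := congrArg (res M) (ha i j)
    rw [map_sum, apply_ite (res M), map_one, map_zero] at h
    rw [← h]
    refine Finset.sum_congr rfl fun χ _ => ?_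
    rw [map_mul, map_mul]
    show _ * _ = _ * centralRes M χ (x i) * _
    ring
  have hfac : ∀ j, (Subgroup.centralizer ({x j} : Set G)).index.factorization p +
      (Nat.card (Subgroup.centralizer ({x j} : Set G))).factorization p =
      (Nat.card G).factorization p := fun j => by
    conv_rhs => rw [← Subgroup.index_mul_card (Subgroup.centralizer ({x j} : Set G)),
      Nat.factorization_mul Subgroup.index_ne_zero_of_finite Nat.card_pos.ne', Finsupp.add_apply]
  -- only blocks with defect group `D` contribute
  have hkey : ∀ (χ : IrrCharacter G) i j, centralRes M χ (x i) ≠ 0 →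
      res M (irrLoc M χ (x j)⁻¹) ≠ 0 → IsDefectGroup p M (blockOf M (χ : G → ℂ)) D := by
    intro χ i j hω hv
    have hB := isPBlock_blockOf (M := M) χ
    obtain ⟨E, hE⟩ := exists_defectGroup hM hB
    obtain ⟨g, hg, hga, -⟩ := exists_isSylowCent_of_isDefectGroup hM hB hE
    have hle := sylowCent_conjLE hM hB hga (self_mem_blockOf χ) hω hg (hD i)
    have h1 := degVal_le_index hM hv
    have h2 := minDeg_le (p := p) (self_mem_blockOf (M := M) χ)
    have hinv : (Subgroup.centralizer ({(x j)⁻¹} : Set G)) = Subgroup.centralizer ({x j} : Set G) := by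
      ext c
      simp only [Subgroup.mem_centralizer_singleton_iff]
      exact Commute.inv_right_iff
    rw [hinv] at h1
    have h3 := hfac j
    have hcard : Nat.card D ≤ Nat.card E := by
      rw [(hD j).card_eq, defectGroup_card hM hB hE]
      refine Nat.pow_le_pow_right hM.1.pos ?_
      show _ ≤ (Nat.card G).factorization p - minDeg p _
      omega
    obtain ⟨c, hc⟩ := hle.exists_eq hcard
    exact hc ▸ isDefectGroup_conj hM hB hE c
  set T : Finset (Set (IrrCharacter G)) :=
    Finset.univ.filter (fun B => IsPBlock M B ∧ IsDefectGroup p M B D) with hT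
  let L : Set (IrrCharacter G) → Fin r → ResField M := fun B i =>
    if h : B.Nonempty then centralRes M h.choose (x i) else 0
  let W : Set (IrrCharacter G) → Fin r → ResField M := fun B j =>
    ∑ χ ∈ Finset.univ.filter (fun χ : IrrCharacter G => blockOf M (χ : G → ℂ) = B),
      res M (a χ) * res M (irrLoc M χ (x j)⁻¹)
  have hL : ∀ B, IsPBlock M B → ∀ χ ∈ B, ∀ i, L B i = centralRes M χ (x i) := fun B hB χ hχ i => by
    have hne : B.Nonempty := ⟨χ, hχ⟩
    simp only [L, dif_pos hne]
    exact centralRes_eq_of_mem hB hne.choose_spec hχ _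
  have hLW : ∀ i j, ∑ B ∈ T, L B i * W B j = if i = j then 1 else 0 := by
    intro i j
    rw [← hrel i j, ← Finset.sum_fiberwise Finset.univ
      (fun χ : IrrCharacter G => blockOf M (χ : G → ℂ))]
    rw [← Finset.sum_subset (Finset.subset_univ T)]
    · refine Finset.sum_congr rfl fun B hB => ?_
      simp only [W, Finset.mul_sum]
      refine Finset.sum_congr rfl fun χ hχ => ?_
      rw [hL B (Finset.mem_filter.mp hB).2.1 χ ((Finset.mem_filter.mp hχ).2 ▸ self_mem_blockOf χ)]
    · intro B _ hB
      refine Finset.sum_eq_zero fun χ hχ => ?_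
      by_contra hne
      apply hB
      rw [hT, Finset.mem_filter]
      refine ⟨Finset.mem_univ _, ?_⟩
      rw [← (Finset.mem_filter.mp hχ).2]
      exact ⟨isPBlock_blockOf χ, hkey χ i j (left_ne_zero_of_mul hne)
        (right_ne_zero_of_mul (right_ne_zero_of_mul hne))⟩
  obtain ⟨sel, hinj, hsel, hdet⟩ := exists_injective_det_ne_zero T L W hLW
  refine ⟨sel, hinj, fun i => (Finset.mem_filter.mp (hsel i)).2, fun χ hχ => ?_⟩
  rw [show Matrix.det (Matrix.of fun i j : Fin r => (χ i : G → ℂ) (x j)) =
    ((Matrix.det (Matrix.of fun i j : Fin r => irrLoc M (χ i) (x j)) : locRing M) : ℂ) by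
      rw [← Subring.coe_subtype, RingHom.map_det]
      rfl, memLocalIdeal_coe, RingHom.map_det]
  -- split off row and column units
  let cr : Fin r → ResField M := fun i => ((ordCompl[p] (charDegree (χ i : G → ℂ)) : ℕ) : ResField M)
  let cc : Fin r → ResField M := fun j =>
    ((ordCompl[p] (Subgroup.centralizer ({x j} : Set G)).index : ℕ) : ResField M)
  have hcc : ∀ j, cc j ≠ 0 := fun j => by
    rw [Ne, CharP.cast_eq_zero_iff (ResField M) p]
    exact Nat.not_dvd_ordCompl hM.1 Subgroup.index_ne_zero_of_finite
  have hcr : ∀ i, cr i ≠ 0 := fun i => by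
    rw [Ne, CharP.cast_eq_zero_iff (ResField M) p]
    exact Nat.not_dvd_ordCompl hM.1 (charDegree_eq (χ i)).2
  have hent : ∀ i j, res M (irrLoc M (χ i) (x j)) = cr i * ((cc j)⁻¹ * L (sel i) j) := by
    intro i j
    obtain ⟨hB, hDB⟩ := (Finset.mem_filter.mp (hsel i)).2
    have hv : degVal p (χ i) = (Subgroup.centralizer ({x j} : Set G)).index.factorization p := by
      have h1 := (blockHeight_eq_zero_iff (hχ i).1).mp (hχ i).2
      have h2 : blockDefect p (sel i) = (Nat.card (Subgroup.centralizer ({x j} : Set G))).factorization p :=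
        (Nat.pow_right_injective hM.1.two_le
          ((defectGroup_card hM hB hDB).symm.trans (hD j).card_eq))
      have h3 := hfac j
      have h4 : blockDefect p (sel i) = (Nat.card G).factorization p - minDeg p (sel i) := rfl
      have h5 := degVal_le_card (p := p) (χ i)
      omega
    rw [hL _ hB _ (hχ i).1]
    suffices h : cc j * res M (irrLoc M (χ i) (x j)) = cr i * centralRes M (χ i) (x j) by
      rw [mul_left_comm, ← h, inv_mul_cancel_left₀ (hcc j)]
    show _ = _ * res M ⟨_, centralChar_mem (χ i) (x j)⟩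
    simp only [cr, cc, ← res_natCast, ← map_mul]
    refine congrArg (res M) (Subtype.ext ?_)
    simp only [Subring.coe_mul, SubringClass.coe_natCast, coe_irrLoc, centralChar]
    have hp0 : (p : ℂ) ^ degVal p (χ i) ≠ 0 := pow_ne_zero _ (Nat.cast_ne_zero.mpr hM.1.ne_zero)
    have e1 : ((p : ℂ) ^ degVal p (χ i)) * (ordCompl[p] (charDegree (χ i : G → ℂ)) : ℕ) =
        (χ i : G → ℂ) 1 := by
      rw [(charDegree_eq (χ i)).1]
      exact_mod_cast Nat.ordProj_mul_ordCompl_eq_self _ p
    have e2 : ((p : ℂ) ^ degVal p (χ i)) *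
        (ordCompl[p] (Subgroup.centralizer ({x j} : Set G)).index : ℕ) =
        ((Subgroup.centralizer ({x j} : Set G)).index : ℂ) := by
      rw [hv]
      exact_mod_cast Nat.ordProj_mul_ordCompl_eq_self _ p
    rw [← e1, ← e2]
    have : ((ordCompl[p] (charDegree (χ i : G → ℂ)) : ℕ) : ℂ) ≠ 0 :=
      Nat.cast_ne_zero.mpr (Nat.ordCompl_pos p (charDegree_eq (χ i)).2).ne'
    field_simp
  rw [show (res M).mapMatrix (Matrix.of fun i j : Fin r => irrLoc M (χ i) (x j)) =
    Matrix.of fun i j => cr i * (Matrix.of fun i j => (cc j)⁻¹ * L (sel i) j) i j from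
    Matrix.ext fun i j => hent i j, Matrix.det_mul_column,
    show (Matrix.of fun i j => (cc j)⁻¹ * L (sel i) j).det =
      (Matrix.of fun i j => (cc j)⁻¹ * (Matrix.of fun i j => L (sel i) j) i j).det from rfl,
    Matrix.det_mul_row]
  exact mul_ne_zero (Finset.prod_ne_zero_iff.mpr fun i _ => hcr i)
    (mul_ne_zero (Finset.prod_ne_zero_iff.mpr fun j _ => inv_ne_zero (hcc j)) hdet)

end CfsgLib.Block
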