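import Cfsg.Agent.Lib.Block.PrincipalCoreInflation
import Cfsg.Agent.Lib.Block.PrincipalInduce
import Cfsg.Agent.Lib.Char.ExtendChar
import Cfsg.Agent.Lib.Fusion.Tate

/-!
# Odd-degree characters of the principal 2-block fixed by a Galois twist

For `k` prime to `|G|` with `k ≡ 1` modulo every odd element order, the twist `χ ↦ χ (· ^ k)` permutes
the principal `2`-block in orbits of `2`-power length. A linear character `λ` of a Sylow `2`-subgroup
with `λ ^ k = λ` is a constituent of a fixed member of odd degree. If all such members are linear,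
every sign character of the Sylow subgroup extends and Tate's theorem gives a normal `2`-complement.
-/

open Finset
open scoped ComplexConjugate

set_option linter.unusedSectionVars false

namespace CfsgLib.Block.SigmaFixed

open Cfsg CfsgLib.Block

universe u

/-- Parity of a sum over the orbits of a permutation of `2`-power order. -/
theorem sum_fixed_zmod_two {α : Type*} [DecidableEq α] (τ : α → α) : ∀ (N : ℕ) (s : Finset α)
    (f : α → ZMod 2), (∀ a ∈ s, τ a ∈ s) → (∀ a ∈ s, f (τ a) = f a) →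
    (∀ a ∈ s, τ^[2 ^ N] a = a) → ∑ a ∈ s, f a = ∑ a ∈ s.filter (fun a => τ a = a), f a := by
  intro N
  induction N with
  | zero =>
    intro s f _ _ h
    rw [Finset.filter_true_of_mem fun a ha => by simpa using h a ha]
  | succ N ih =>
    intro s f hs hf h
    set σ := τ^[2 ^ N] with hσ
    have hσs : ∀ j, ∀ a ∈ s, τ^[j] a ∈ s ∧ f (τ^[j] a) = f a := by
      intro j
      induction j with
      | zero => exact fun a ha => ⟨ha, rfl⟩
      | succ j ihj =>
        intro a ha
        rw [Function.iterate_succ_apply']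
        exact ⟨hs _ (ihj a ha).1, (hf _ (ihj a ha).1).trans (ihj a ha).2⟩
    have hσσ : ∀ a ∈ s, σ (σ a) = a := fun a ha => by
      rw [hσ, ← Function.iterate_add_apply, ← two_mul, ← pow_succ']
      exact h a ha
    rw [← Finset.sum_filter_add_sum_filter_not s (fun a => σ a = a)]
    have h0 : ∑ a ∈ s.filter (fun a => ¬ σ a = a), f a = 0 := by
      refine Finset.sum_involution (fun a _ => σ a) (fun a ha => ?_) (fun a ha _ => (Finset.mem_filter.mp ha).2)
        (fun a ha => ?_) (fun a ha => hσσ a (Finset.mem_filter.mp ha).1)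
      · rw [(hσs (2 ^ N) a (Finset.mem_filter.mp ha).1).2]
        exact CharTwo.add_self_eq_zero _
      · obtain ⟨ha, hne⟩ := Finset.mem_filter.mp ha
        exact Finset.mem_filter.mpr ⟨(hσs _ a ha).1, fun he => hne (he.symm.trans (hσσ a ha))⟩
    rw [h0, add_zero, ih (s.filter fun a => σ a = a) f (fun a ha => ?_)
      (fun a ha => hf a (Finset.mem_filter.mp ha).1) (fun a ha => (Finset.mem_filter.mp ha).2),
      Finset.filter_filter]
    · refine Finset.sum_congr (Finset.filter_congr fun a _ => ⟨fun h => h.2, fun h => ⟨?_, h⟩⟩) fun _ _ => rfl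
      exact Function.iterate_fixed h _
    · obtain ⟨ha, he⟩ := Finset.mem_filter.mp ha
      refine Finset.mem_filter.mpr ⟨hs a ha, ?_⟩
      show τ^[2 ^ N] (τ a) = τ a
      rw [← Function.iterate_succ_apply, Function.iterate_succ_apply']
      exact congrArg τ he

variable {G : Type u} [Group G] [Fintype G]

/-- The two conditions make `k` prime to the order. -/
theorem coprime_of_hyps {k : ℕ} (hk₁ : ∀ g : G, (∃ j : ℕ, orderOf g = 2 ^ j) → g ^ k = g ^ 3)
    (hk₂ : ∀ g : G, Odd (orderOf g) → g ^ k = g) : (Nat.card G).Coprime k := by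
  refine Nat.coprime_of_dvd fun q hq hqG hqk => ?_
  have : Fact q.Prime := ⟨hq⟩
  obtain ⟨g, hg⟩ := exists_prime_orderOf_dvd_card' q hqG
  have hg1 : g ≠ 1 := fun e => hq.ne_one (by rw [← hg, e, orderOf_one])
  have hgk : g ^ k = 1 := orderOf_dvd_iff_pow_eq_one.mp (hg ▸ hqk)
  rcases hq.eq_two_or_odd' with rfl | ho
  · have h := hk₁ g ⟨1, by rw [hg, pow_one]⟩
    rw [hgk, pow_succ, ← hg, pow_orderOf_eq_one, one_mul] at h
    exact hg1 h.symm
  · exact hg1 ((hk₂ g (hg ▸ ho)).symm.trans hgk)

/-- A power of two iterates of the twist is the identity. -/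
theorem exists_iterate_eq {k : ℕ} (hcop : (Nat.card G).Coprime k)
    (hk₂ : ∀ g : G, Odd (orderOf g) → g ^ k = g) (g : G) :
    g ^ (k ^ (2 ^ (Nat.card G).factorization 2)) = g := by
  set n := orderOf g with hn
  have hn0 : n ≠ 0 := (orderOf_pos g).ne'
  obtain ⟨a, m, hm, hnam⟩ := Nat.exists_eq_two_pow_mul_odd hn0
  have haN : a ≤ (Nat.card G).factorization 2 := by
    refine (Nat.Prime.pow_dvd_iff_le_factorization Nat.prime_two Nat.card_pos.ne').mp ?_
    exact (Dvd.intro m hnam.symm).trans (orderOf_dvd_natCard g)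
  have h1 : k ^ (2 ^ (Nat.card G).factorization 2) ≡ 1 [MOD m] := by
    have ho : orderOf (g ^ 2 ^ a) = m := by
      rw [orderOf_pow' _ (by positivity), ← hn, hnam, Nat.gcd_mul_right_left, Nat.mul_div_cancel_left _ (by positivity)]
    have h := hk₂ (g ^ 2 ^ a) (ho.symm ▸ hm)
    nth_rw 2 [← pow_one (g ^ 2 ^ a)] at h
    rw [pow_eq_pow_iff_modEq, ho] at h
    simpa using h.pow (2 ^ (Nat.card G).factorization 2)
  have h2 : k ^ (2 ^ (Nat.card G).factorization 2) ≡ 1 [MOD 2 ^ a] := by
    obtain _ | a := a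
    · exact Nat.modEq_one
    have hko : Nat.Coprime k (2 ^ (a + 1)) :=
      (Nat.Coprime.coprime_dvd_left ((Dvd.intro m hnam.symm).trans (orderOf_dvd_natCard g)) hcop).symm
    have h := Nat.ModEq.pow_totient hko
    rw [Nat.totient_prime_pow_succ Nat.prime_two, Nat.add_one_sub_one, mul_one] at h
    have e : 2 ^ (Nat.card G).factorization 2 = 2 ^ a * 2 ^ ((Nat.card G).factorization 2 - a) := by
      rw [← pow_add, Nat.add_sub_cancel' (by omega)]
    rw [e, pow_mul]
    simpa using h.pow (2 ^ ((Nat.card G).factorization 2 - a))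
  have h3 := (Nat.modEq_and_modEq_iff_modEq_mul (Nat.Coprime.pow_left a (Nat.coprime_two_left.mpr hm))).mp ⟨h2, h1⟩
  rw [← hnam, hn] at h3
  conv_rhs => rw [← pow_one g]
  exact pow_eq_pow_iff_modEq.mpr h3

variable [DecidableEq G] {M : Ideal AlgInt} [M.IsMaximal]

/-- A fixed odd-degree member of the principal block over a fixed linear character of a Sylow subgroup. -/
theorem exists_fixed_over (hM : IsPModular 2 M) (P : Sylow 2 G) [Fintype (P : Subgroup G)] {k : ℕ}
    (hk₁ : ∀ g : G, (∃ j : ℕ, orderOf g = 2 ^ j) → g ^ k = g ^ 3)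
    (hk₂ : ∀ g : G, Odd (orderOf g) → g ^ k = g)
    (η : IrrCharacter (P : Subgroup G)) (hη : η ∈ principalBlock M (P : Subgroup G))
    (hη1 : (η : ↥(P : Subgroup G) → ℂ) 1 = 1)
    (hηk : ∀ h : (P : Subgroup G), (η : ↥(P : Subgroup G) → ℂ) (h ^ k) = (η : ↥(P : Subgroup G) → ℂ) h) :
    ∃ χ ∈ principalBlock M G, Odd (charDegree (χ : G → ℂ)) ∧
      (∀ g : G, (χ : G → ℂ) (g ^ k) = (χ : G → ℂ) g) ∧
      classInner (fun h : (P : Subgroup G) => (χ : G → ℂ) h) (η : ↥(P : Subgroup G) → ℂ) ≠ 0 := by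
  classical
  have : Fact (Nat.Prime 2) := ⟨Nat.prime_two⟩
  have := Fintype.ofFinite (IrrCharacter G)
  have hcop := coprime_of_hyps hk₁ hk₂
  choose m hm using fun χ : IrrCharacter G =>
    Char.classInner_char_irr_nat (Char.isCharacter_indFun (P : Subgroup G) (Char.isCharacter_irr η)) χ
  set s := Finset.univ.filter (· ∈ principalBlock M G) with hs
  set n := ∑ χ ∈ s, m χ * charDegree (χ : G → ℂ) with hn
  have hdp : ¬ 2 ∣ (P : Subgroup G).index := P.not_dvd_index
  have hd0 : (P : Subgroup G).index ≠ 0 := fun e => hdp (e ▸ dvd_zero 2)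
  have h1 := blockPart_indFun_one hM (isPBlock_principalBlock (M := M) (G := G)) η
  rw [Char.indFun_one, hη1, mul_one] at h1
  have hnC : (n : ℂ) = blockPart (principalBlock M G) (indFun (P : Subgroup G) (η : ↥(P : Subgroup G) → ℂ)) 1 := by
    rw [blockPart, finsum_mem_eq_finite_toFinset_sum _ (Set.toFinite _), hn, hs]
    push_cast
    refine Finset.sum_congr (by ext; simp) fun χ _ => ?_
    rw [← hm χ, ← (charDegree_eq χ).1]
    congr 1
    convert rfl
  rw [← hnC] at h1
  obtain ⟨hn0, hfac⟩ := (factorization_of_eq_mul hM hd0 h1).1 (by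
    have h := PrincipalInduce.omegaBar_one_ne_zero P hM (le_refl (P : Subgroup G))
    rw [← omegaBar_eq_of_mem isPBlock_principalBlock hη one_mem_principalBlock, blockBar,
      resHK_toKC, omegaBar_toKC] at h
    exact h)
  have hndvd : ¬ 2 ∣ n := fun h => by
    have h2 : 1 ≤ n.factorization 2 := Nat.prime_two.dvd_iff_one_le_factorization hn0 |>.mp h
    rw [hfac, Nat.factorization_eq_zero_of_not_dvd hdp] at h2
    omega
  -- the twist
  set tw : IrrCharacter G → IrrCharacter G := fun χ => ⟨_, Char.isIrrCharacter_powMap hcop χ⟩ with htw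
  have htwj : ∀ (j : ℕ) (χ : IrrCharacter G) (g : G), (tw^[j] χ : G → ℂ) g = (χ : G → ℂ) (g ^ (k ^ j)) := by
    intro j
    induction j with
    | zero => intro χ g; simp
    | succ j ih =>
      intro χ g
      rw [Function.iterate_succ_apply']
      show (tw^[j] χ : G → ℂ) (g ^ k) = _
      rw [ih, ← pow_mul, ← pow_succ']
  have hmt : ∀ χ : IrrCharacter G, m (tw χ) = m χ := by
    intro χ
    have h := hm (tw χ)
    have hcopH : (Nat.card G).Coprime k := hcop
    have hind : indFun (P : Subgroup G) (η : ↥(P : Subgroup G) → ℂ) = fun g => indFun (P : Subgroup G) (η : ↥(P : Subgroup G) → ℂ) (g ^ k) := funext fun g => by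
      rw [Char.indFun_powMap hcopH]
      exact congrArg (fun f => indFun (P : Subgroup G) f g) (funext fun h => (hηk h).symm)
    rw [hind] at h
    exact_mod_cast h.symm.trans ((Char.classInner_powMap hcopH (indFun (P : Subgroup G) (η : ↥(P : Subgroup G) → ℂ)) (χ : G → ℂ)).trans (hm χ))
  have hdt : ∀ χ : IrrCharacter G, charDegree (tw χ : G → ℂ) = charDegree (χ : G → ℂ) := by
    intro χ
    have h := (charDegree_eq (tw χ)).1
    have h' : (tw χ : G → ℂ) 1 = (χ : G → ℂ) 1 := by
      show (χ : G → ℂ) (1 ^ k) = _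
      rw [one_pow]
    rw [h', (charDegree_eq χ).1] at h
    exact_mod_cast h.symm
  have hfix := sum_fixed_zmod_two tw ((Nat.card G).factorization 2) s
    (fun χ => ((m χ * charDegree (χ : G → ℂ) : ℕ) : ZMod 2))
    (fun χ hχ => Finset.mem_filter.mpr ⟨Finset.mem_univ _,
      PrincipalCore.powTwist_mem_principalBlock hM hcop (Finset.mem_filter.mp hχ).2⟩)
    (fun χ _ => by simp only [hmt, hdt])
    (fun χ _ => Subtype.ext (funext fun g => by rw [htwj, exists_iterate_eq hcop hk₂]))
  rw [← Nat.cast_sum, ← Nat.cast_sum] at hfix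
  obtain ⟨χ, hχ, hχd⟩ : ∃ χ ∈ s.filter (fun χ => tw χ = χ), ¬ 2 ∣ m χ * charDegree (χ : G → ℂ) := by
    by_contra hall
    push Not at hall
    refine hndvd ((ZMod.natCast_eq_zero_iff _ _).mp ?_ : 2 ∣ n) |>.elim
    rw [hn, hfix, ZMod.natCast_eq_zero_iff]
    exact Finset.dvd_sum hall
  obtain ⟨hχs, hχt⟩ := Finset.mem_filter.mp hχ
  refine ⟨χ, (Finset.mem_filter.mp hχs).2,
    Nat.not_even_iff_odd.mp fun h => hχd (dvd_mul_of_dvd_right h.two_dvd _),
    fun g => congrFun (congrArg Subtype.val hχt) g, fun h0 => hχd ?_⟩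
  have h2 := hm χ
  rw [Char.classInner_indFun (P : Subgroup G) (η : ↥(P : Subgroup G) → ℂ) _ (Char.isClassFunction_irr χ), ← Char.classInner_conj,
    h0, map_zero] at h2
  rw [show m χ = 0 by exact_mod_cast h2.symm, zero_mul]
  exact dvd_zero 2

/-- All fixed odd-degree members linear: a normal `2`-complement. -/
theorem hasNormalPComplement_of_linear (hM : IsPModular 2 M) {k : ℕ}
    (hk₁ : ∀ g : G, (∃ j : ℕ, orderOf g = 2 ^ j) → g ^ k = g ^ 3)
    (hk₂ : ∀ g : G, Odd (orderOf g) → g ^ k = g)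
    (hlin : ∀ χ ∈ principalBlock M G, Odd (charDegree (χ : G → ℂ)) →
      (∀ g : G, (χ : G → ℂ) (g ^ k) = (χ : G → ℂ) g) → charDegree (χ : G → ℂ) = 1) :
    Cfsg.HasNormalPComplement 2 G := by
  classical
  have : Fact (Nat.Prime 2) := ⟨Nat.prime_two⟩
  obtain ⟨P⟩ : Nonempty (Sylow 2 G) := inferInstance
  have := Fintype.ofFinite (P : Subgroup G)
  have := Fintype.ofFinite (IrrCharacter (P : Subgroup G))
  have := Fintype.ofFinite (ConjClasses (P : Subgroup G))
  have hall : ∀ η : IrrCharacter (P : Subgroup G), η ∈ principalBlock M (P : Subgroup G) := by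
    intro η
    rw [mem_principalBlock_iff hM, show regBar M 2 (P : Subgroup G) = 1 from ?_, map_one]
    · exact one_ne_zero
    refine Subtype.ext (ga_ext fun g => ?_)
    rw [coeff_regBar]
    obtain ⟨j, hj⟩ := IsPGroup.iff_orderOf.mp P.isPGroup' g
    rcases eq_or_ne g 1 with rfl | hg
    · simp [MonoidAlgebra.one_def]
    · obtain _ | j := j
      · exact absurd (orderOf_eq_one_iff.mp (hj.trans (pow_zero 2))) hg
      · rw [if_pos (hj ▸ dvd_pow_self 2 j.succ_ne_zero)]
        simp [MonoidAlgebra.one_def, Finsupp.single_eq_of_ne hg]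
  -- extension of sign characters
  set N := (Nat.card G).factorization 2 with hN
  set m := ordCompl[2] (Nat.card G) with hm
  have hmo : Odd m := Nat.not_even_iff_odd.mp fun h =>
    Nat.not_dvd_ordCompl Nat.prime_two Nat.card_pos.ne' h.two_dvd
  have hext : ∀ x : (P : Subgroup G), x ∉ frattini (P : Subgroup G) →
      ∃ μ : G →* ℂˣ, μ ((x : G) ^ m) ≠ 1 := by
    intro x hx
    obtain ⟨Q, hQ, hxQ⟩ : ∃ Q : Subgroup (P : Subgroup G), IsCoatom Q ∧ x ∉ Q := by
      by_contra h
      push Not at h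
      refine hx ?_
      rw [frattini, Order.radical]
      simpa [Subgroup.mem_iInf] using h
    have : Group.IsNilpotent (P : Subgroup G) := P.isPGroup'.isNilpotent
    have : Q.Normal := Subgroup.NormalizerCondition.normal_of_coatom Q normalizerCondition_of_isNilpotent hQ
    have hQ2 : Q.index = 2 := by
      have hq := P.isPGroup'.to_quotient Q
      obtain ⟨j, hj⟩ := IsPGroup.iff_card.mp hq
      obtain _ | j := j
      · exact absurd (Subgroup.index_eq_one.mp (hj.trans (pow_zero 2))) hQ.1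
      obtain ⟨K, hK⟩ := Sylow.exists_subgroup_card_pow_prime (G := (P : Subgroup G) ⧸ Q) 2 (n := 1)
        (by rw [hj]; exact pow_dvd_pow 2 (by omega))
      rw [pow_one] at hK
      have hKne : K ≠ ⊥ := fun e => by simp [e] at hK
      have hlt : Q < K.comap (QuotientGroup.mk' Q) := by
        refine lt_of_le_of_ne (fun y hy => ?_) fun e => hKne ?_
        · rw [Subgroup.mem_comap, QuotientGroup.mk'_apply, (QuotientGroup.eq_one_iff y).mpr hy]
          exact K.one_mem
        · rw [← Subgroup.map_comap_eq_self_of_surjective (QuotientGroup.mk'_surjective Q) K, ← e,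
            QuotientGroup.map_mk'_self]
      have htop := hQ.2 _ hlt
      have hKtop : K = ⊤ := by
        rw [← Subgroup.map_comap_eq_self_of_surjective (QuotientGroup.mk'_surjective Q) K, htop,
          Subgroup.map_top_of_surjective _ (QuotientGroup.mk'_surjective Q)]
      rw [hKtop, Subgroup.card_top] at hK
      exact hK
    let lam : (P : Subgroup G) →* ℂˣ :=
      { toFun := fun y => if y ∈ Q then 1 else -1
        map_one' := if_pos Q.one_mem
        map_mul' := fun a b => by
          have h := Subgroup.mul_mem_iff_of_index_two hQ2 (a := a) (b := b)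
          by_cases ha : a ∈ Q <;> by_cases hb : b ∈ Q <;> simp [h, ha, hb] }
    have hlx : lam x = -1 := if_neg hxQ
    have hlam2 : ∀ y, lam y * lam y = 1 := fun y => by
      show (if y ∈ Q then (1 : ℂˣ) else -1) * (if y ∈ Q then (1 : ℂˣ) else -1) = 1
      split_ifs <;> simp
    let η : IrrCharacter (P : Subgroup G) := ⟨_, Char.isIrrCharacter_lin lam⟩
    have hηk : ∀ h : (P : Subgroup G), (η : ↥(P : Subgroup G) → ℂ) (h ^ k) = (η : ↥(P : Subgroup G) → ℂ) h := by
      intro h
      have hh : h ^ k = h ^ 3 := Subtype.ext (by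
        simp only [SubmonoidClass.coe_pow]
        refine hk₁ (h : G) ?_
        obtain ⟨j, hj⟩ := IsPGroup.iff_orderOf.mp P.isPGroup' h
        exact ⟨j, by rw [Subgroup.orderOf_coe, hj]⟩)
      show ((lam (h ^ k) : ℂˣ) : ℂ) = (lam h : ℂ)
      rw [hh, map_pow, pow_succ, pow_two, hlam2, one_mul]
    have := Fintype.ofFinite (IrrCharacter G)
    obtain ⟨χ, hχB, hχo, hχk, hχη⟩ := exists_fixed_over hM P hk₁ hk₂ η (hall η)
      (by show ((lam 1 : ℂˣ) : ℂ) = 1; rw [map_one, Units.val_one]) hηk
    have hχ1 : (χ : G → ℂ) 1 = 1 := by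
      rw [(charDegree_eq χ).1, hlin χ hχB hχo hχk, Nat.cast_one]
    obtain ⟨μ, hμ⟩ := Char.exists_hom_of_linear (Char.isCharacter_irr χ) hχ1
    have hres : ∀ y : (P : Subgroup G), μ (y : G) = lam y := by
      have hc : classInner ((⟨_, Char.isIrrCharacter_lin (μ.comp (P : Subgroup G).subtype)⟩ :
          IrrCharacter (P : Subgroup G)) : ↥(P : Subgroup G) → ℂ) (η : ↥(P : Subgroup G) → ℂ) ≠ 0 := by
        refine fun h => hχη (Eq.trans ?_ h)
        rw [hμ]
        rfl
      rw [Char.classInner_irr] at hc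
      have he := (ite_ne_right_iff.mp hc).1
      exact fun y => Units.ext (congrFun (congrArg Subtype.val he) y)
    refine ⟨μ, fun h => ?_⟩
    rw [map_pow, hres x, hlx, hmo.neg_one_pow] at h
    have h' := congrArg (fun u : ℂˣ => (u : ℂ)) h
    norm_num at h'
  choose μ hμ using hext
  set K : Subgroup G := ⨅ (x : (P : Subgroup G)) (hx : x ∉ frattini (P : Subgroup G)),
    ((powMonoidHom m).comp (μ x hx)).ker with hK
  have hKmem : ∀ g : G, g ∈ K ↔ ∀ (x : (P : Subgroup G)) (hx : x ∉ frattini (P : Subgroup G)),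
      μ x hx g ^ m = 1 := fun g => by simp [hK, Subgroup.mem_iInf]
  have hKn : K.Normal := ⟨fun a ha g => by
    rw [hKmem] at ha ⊢
    intro x hx
    rw [map_mul, map_mul, map_inv, mul_pow, mul_pow, ha x hx, mul_one, inv_pow, mul_inv_cancel]⟩
  have hKC : Cfsg.HasNormalPComplement 2 K := by
    refine CfsgLib.Fusion.hasNormalPComplement_of_inf_le_frattini P K ?_
    rintro g ⟨hgK, hgP⟩
    refine ⟨⟨g, hgP⟩, ?_, rfl⟩
    by_contra hx
    exact hμ _ hx (by rw [map_pow]; exact (hKmem g).mp hgK _ hx)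
  rw [CfsgLib.Fusion.hasNormalPComplement_iff_coprime] at hKC ⊢
  intro g hg
  have hle : Cfsg.pResidual 2 G ≤ (Cfsg.pResidual 2 K).map K.subtype := by
    rw [Cfsg.pResidual, Subgroup.closure_le]
    intro y (hy : Nat.Coprime (orderOf y) 2)
    have hyK : y ∈ K := by
      rw [hKmem]
      intro x hx
      rw [← orderOf_eq_one_iff]
      refine Nat.eq_one_of_dvd_coprimes (hy.pow_right N) ?_ (orderOf_dvd_of_pow_eq_one ?_)
      · exact (orderOf_pow_dvd _).trans (orderOf_map_dvd _ y)
      · rw [← pow_mul, mul_comm, hm, hN, Nat.ordProj_mul_ordCompl_eq_self, ← map_pow, pow_card_eq_one',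
          map_one]
    exact ⟨⟨y, hyK⟩, CfsgLib.Fusion.mem_pResidual (by rwa [Subgroup.orderOf_mk]), rfl⟩
  obtain ⟨⟨y, hyK⟩, hy, rfl⟩ := hle hg
  have := hKC _ hy
  rwa [Subgroup.orderOf_mk] at this

end CfsgLib.Block.SigmaFixed
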