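import Cfsg.Agent.Lib.Coprime.KVSolvable.Group
import Cfsg.Agent.Lib.Block.FongReynolds
import Cfsg.Agent.Lib.Block.PSolvableFullDefect
import Cfsg.Agent.Lib.Block.BlockCountBound
import Cfsg.Agent.Lib.Block.CyclicCoset
import Cfsg.Agent.Lib.Block.FongSwan.Basic
import Cfsg.Agent.Lib.PGroup.MaxPNilpotent

/-!
# The number of characters in a block of a solvable group
-/

set_option autoImplicit false
set_option linter.unusedSectionVars false
set_option linter.style.haveILetI false

namespace CfsgLib.Block.SolvableSize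

open scoped ComplexConjugate
open Cfsg CfsgLib.Char CfsgLib.Block

universe u

variable {G : Type u} [Group G] [Fintype G] [DecidableEq G]

/-- on every coset all characters over an invariant character are proportional -/
theorem coset_proportional (N : Subgroup G) [hN : N.Normal] [Fintype N] (θ : IrrCharacter N)
    (hinv : ∀ g : G, cjN g θ = θ) (g : G) :
    ∃ a : N → ℂ, ∀ χ : IrrCharacter G,
      (∀ θ' : IrrCharacter N, θ' ≠ θ → classInner (fun n : N => (χ : G → ℂ) n) (θ' : N → ℂ) = 0) →
      ∃ c : ℂ, ∀ n : N, (χ : G → ℂ) ((n : G) * g) = c * a n := by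
  classical
  set Γ : Subgroup G := N ⊔ Subgroup.zpowers g with hΓ
  have hNΓ : N ≤ Γ := le_sup_left
  have hgΓ : g ∈ Γ := le_sup_right (a := N) (Subgroup.mem_zpowers g)
  haveI := Fintype.ofFinite Γ
  set K := N.subgroupOf Γ with hK
  haveI := Fintype.ofFinite K
  haveI := Fintype.ofFinite (IrrCharacter Γ)
  set x : Γ := ⟨g, hgΓ⟩ with hx
  have hgen : K ⊔ Subgroup.zpowers x = ⊤ := by
    apply Subgroup.map_injective Γ.subtype_injective
    rw [Subgroup.map_sup, hK, Subgroup.map_subgroupOf_eq_of_le hNΓ, MonoidHom.map_zpowers,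
      ← MonoidHom.range_eq_map, Subgroup.range_subtype]
    rfl
  set e : K ≃* N := Subgroup.subgroupOfEquivOfLe hNΓ with he
  set θK : IrrCharacter K := irrEquiv e.symm θ with hθK
  have hθK1 : ∀ k : K, (θK : K → ℂ) k = (θ : N → ℂ) (e k) := fun k => rfl
  obtain ⟨α, hα⟩ := CyclicCoset.exists_extension hgen θK (fun k => by
    rw [hθK1, hθK1]
    have h := congrFun (congrArg Subtype.val (hinv g⁻¹)) (e k)
    rw [cjN_apply] at h
    exact (congrArg _ (Subtype.ext (by simp [e, hx]; rfl))).trans h)
  have hαK : IsIrrCharacter K (fun k : K => (α : Γ → ℂ) k) := by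
    rw [show (fun k : K => (α : Γ → ℂ) k) = (θK : K → ℂ) from funext hα]
    exact θK.2
  refine ⟨fun n => (α : Γ → ℂ) (⟨(n : G), hNΓ n.2⟩ * x), fun χ hχ => ?_⟩
  set cη : IrrCharacter Γ → ℂ := fun η =>
    cosetAvg K (fun y => (η : Γ → ℂ) y * conj ((α : Γ → ℂ) y)) x with hcη
  have hexp := Char.classFun_expand (f := fun a : Γ => (χ : G → ℂ) a)
    fun a b => Char.isClassFunction_irr χ (a : G) (b : G)
  refine ⟨∑ η : IrrCharacter Γ, classInner (fun a : Γ => (χ : G → ℂ) a) (η : Γ → ℂ) * cη η, fun n => ?_⟩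
  have h1 := congrFun hexp (⟨(n : G), hNΓ n.2⟩ * x)
  simp only [Finset.sum_apply, Pi.smul_apply, smul_eq_mul] at h1
  show (χ : G → ℂ) ((⟨(n : G), hNΓ n.2⟩ * x : Γ) : G) = _
  rw [h1, Finset.sum_mul]
  refine Finset.sum_congr rfl fun η _ => ?_
  by_cases h0 : classInner (fun a : Γ => (χ : G → ℂ) a) (η : Γ → ℂ) = 0
  · rw [h0, zero_mul, zero_mul, zero_mul]
  have h2 : classInner (fun k : K => (η : Γ → ℂ) k) (fun k : K => (α : Γ → ℂ) k) ≠ 0 := by
    rw [show (fun k : K => (α : Γ → ℂ) k) = (θK : K → ℂ) from funext hα]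
    refine FongSwan.constituent_under Γ.subtype K.subtype (isCharacter_irr χ) η θK h0 fun θ' hθ' => ?_
    have h3 : irrEquiv e θ' ≠ θ := fun h => hθ' (Subtype.ext (funext fun k => by
      rw [hθK1, ← h]
      show _ = (θ' : K → ℂ) (e.symm (e k))
      rw [MulEquiv.symm_apply_apply]))
    refine Eq.trans ?_ (hχ _ h3)
    simp only [classInner]
    rw [Nat.card_congr e.toEquiv]
    congr 1
    refine Fintype.sum_equiv e.toEquiv _ _ fun k => ?_
    show _ = (χ : G → ℂ) ((e k : N) : G) * conj ((θ' : K → ℂ) (e.symm (e k)))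
    rw [MulEquiv.symm_apply_apply]
    rfl
  have hg := congrFun (gallagher K α hαK η h2).2 (⟨(n : G), hNΓ n.2⟩ * x)
  rw [Pi.mul_apply] at hg
  have hm : cosetAvg K (fun y => (η : Γ → ℂ) y * conj ((α : Γ → ℂ) y)) (⟨(n : G), hNΓ n.2⟩ * x) = cη η :=
    cosetAvg_mul_left K _ (⟨⟨(n : G), hNΓ n.2⟩, Subgroup.mem_subgroupOf.2 n.2⟩ : K) x
  rw [hg, hm]
  ring

/-- at most `k(G/N)` characters lie over an invariant character -/
theorem card_over_le (N : Subgroup G) [hN : N.Normal] [Fintype N] (θ : IrrCharacter N) (hinv : ∀ g : G, cjN g θ = θ)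
    (S : Set (IrrCharacter G)) (hS : ∀ χ ∈ S, ∀ θ' : IrrCharacter N, θ' ≠ θ →
      classInner (fun n : N => (χ : G → ℂ) n) (θ' : N → ℂ) = 0) :
    Nat.card S ≤ Nat.card (ConjClasses (G ⧸ N)) := by
  classical
  haveI := Fintype.ofFinite (ConjClasses (G ⧸ N))
  haveI := Fintype.ofFinite S
  have hrep : ∀ C : ConjClasses (G ⧸ N), ∃ g : G, ConjClasses.mk (g : G ⧸ N) = C := fun C => by
    obtain ⟨q, rfl⟩ := ConjClasses.mk_surjective C
    obtain ⟨g, rfl⟩ := QuotientGroup.mk_surjective q
    exact ⟨g, rfl⟩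
  choose r hr using hrep
  choose a ha using fun C => coset_proportional N θ hinv (r C)
  have hc : ∀ (χ : S) C, ∃ c : ℂ, ∀ n : N, ((χ : IrrCharacter G) : G → ℂ) ((n : G) * r C) = c * a C n :=
    fun χ C => ha C χ (hS χ χ.2)
  choose c hc using hc
  let Φ : (S → ℂ) →ₗ[ℂ] (ConjClasses (G ⧸ N) → ℂ) :=
    { toFun := fun w C => ∑ χ : S, w χ * c χ C
      map_add' := fun v w => funext fun C => by
        simp only [Pi.add_apply, add_mul, Finset.sum_add_distrib]
      map_smul' := fun t w => funext fun C => by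
        simp only [Pi.smul_apply, smul_eq_mul, RingHom.id_apply, Finset.mul_sum, mul_assoc] }
  have hΦ : Function.Injective Φ := (injective_iff_map_eq_zero Φ).2 fun w hw => by
    have hzero : ∀ y : G, ∑ χ : S, w χ * ((χ : IrrCharacter G) : G → ℂ) y = 0 := by
      intro y
      set C := ConjClasses.mk (y : G ⧸ N) with hC
      obtain ⟨q, hq⟩ := isConj_iff.1 (ConjClasses.mk_eq_mk_iff_isConj.1 ((hr C).symm : ConjClasses.mk (y : G ⧸ N) = _))
      obtain ⟨z, rfl⟩ := QuotientGroup.mk_surjective q
      have hn : z * y * z⁻¹ * (r C)⁻¹ ∈ N := by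
        rw [← QuotientGroup.eq_one_iff]
        simp only [QuotientGroup.mk_mul, QuotientGroup.mk_inv, hq, mul_inv_cancel]
      have e1 : ∀ χ : S, ((χ : IrrCharacter G) : G → ℂ) y = c χ C * a C ⟨_, hn⟩ := fun χ => by
        rw [← hc χ C ⟨_, hn⟩, inv_mul_cancel_right]
        exact (Char.isClassFunction_irr (χ : IrrCharacter G) y z).symm
      have h0 : ∑ χ : S, w χ * c χ C = 0 := congrFun hw C
      rw [Finset.sum_congr rfl fun χ _ => by rw [e1 χ, ← mul_assoc], ← Finset.sum_mul, h0, zero_mul]
    have hli : LinearIndependent ℂ (fun χ : S => ((χ : IrrCharacter G) : G → ℂ)) :=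
      linearIndependent_irr.comp Subtype.val Subtype.val_injective
    exact funext fun χ => Fintype.linearIndependent_iff.1 hli w
      (funext fun y => by simpa [Finset.sum_apply] using hzero y) χ
  have h := LinearMap.finrank_le_finrank_of_injective hΦ
  rwa [Module.finrank_pi, Module.finrank_pi, ← Nat.card_eq_fintype_card, ← Nat.card_eq_fintype_card] at h

variable {p : ℕ} {M : Ideal AlgInt} [M.IsMaximal]

/-- **solvable groups, large primes** -/
theorem card_le_of_five_le (hM : IsPModular p M) (hp5 : 5 ≤ p) : ∀ (n : ℕ) (G : Type u) [Group G] [Finite G],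
    Nat.card G = n → Group.IsSolvable G → ∀ B : Set (IrrCharacter G), IsPBlock M B →
      Nat.card B ≤ 3 ^ (blockDefect p B - 1) * p ^ blockDefect p B := by
  intro n
  induction n using Nat.strong_induction_on with
  | _ n ih =>
  intro G _ _ hn hsolv B hB
  classical
  haveI : Fact p.Prime := ⟨hM.1⟩
  haveI := hsolv
  let _ := Fintype.ofFinite G
  let _ := Fintype.ofFinite (IrrCharacter G)
  set N := pPrimeCore p G with hNdef
  haveI : N.Normal := Subgroup.sSup_normal _ (fun _ h => h.1)
  haveI := Fintype.ofFinite N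
  have hNp : ¬ p ∣ Nat.card N := hNdef ▸ CfsgLib.Coprime.pPrimeCore_not_dvd hM.1
  obtain ⟨χ₀, hχ₀⟩ := isPBlock_nonempty hB
  obtain ⟨θ, hθ⟩ := exists_constituent (N := N) χ₀
  have hb : IsPBlock M ({θ} : Set (IrrCharacter N)) := Glauberman.singleton_isPBlock hM hNp θ
  have hcov : Covers B ({θ} : Set (IrrCharacter N)) := ⟨χ₀, hχ₀, θ, rfl, hθ⟩
  by_cases hinv : ∀ g : G, cjN g θ = θ
  · -- invariant
    obtain ⟨D, hD⟩ := exists_defectGroup hM hB
    have hd : blockDefect p B = (Nat.card G).factorization p := by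
      refine Nat.pow_right_injective hM.1.two_le ?_
      show p ^ blockDefect p B = p ^ (Nat.card G).factorization p
      rw [← defectGroup_card hM hB hD, card_defectGroup_of_invariant hM
        (CfsgLib.PGroup.MaxPNilpotent.isPSolvable_of_solvable hM.1 _ G rfl hsolv) hNdef hinv hB hχ₀ hθ hD]
    have h1 : Nat.card B ≤ Nat.card (ConjClasses (G ⧸ N)) := by
      refine card_over_le N θ hinv B fun χ hχ θ' hθ' => by_contra fun hne => hθ' ?_
      obtain ⟨g, hg⟩ := hcov.constituent_mem hM hB hb hχ hne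
      rw [Set.mem_singleton_iff] at hg
      rw [← cjN_one θ', ← inv_mul_cancel g, ← cjN_cjN, hg, hinv]
    haveI : Group.IsSolvable (G ⧸ N) := Group.isSolvable_of_surjective (QuotientGroup.mk'_surjective N)
    have h2 := CfsgLib.Coprime.KVSolvable.card_classes_le_of_pPrimeCore_eq_bot hp5 (G ⧸ N)
      (CfsgLib.Coprime.pPrimeCore_quotient_eq_bot hM.1)
    have h3 : (Nat.card G).factorization p = (Nat.card (G ⧸ N)).factorization p := by
      rw [Subgroup.card_eq_card_quotient_mul_card_subgroup N, Nat.factorization_mul Nat.card_pos.ne' Nat.card_pos.ne',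
        Finsupp.add_apply, Nat.factorization_eq_zero_of_not_dvd hNp, add_zero]
    rw [hd, h3]
    exact h1.trans h2
  · -- not invariant
    let T : Subgroup G :=
      { carrier := {g | cjN g θ = θ}
        one_mem' := cjN_one θ
        mul_mem' := fun {a b} ha hb => by
          show cjN (a * b) θ = θ
          rw [← cjN_cjN, hb, ha]
        inv_mem' := fun {a} ha => by
          show cjN a⁻¹ θ = θ
          conv_lhs => rw [← ha]
          rw [cjN_cjN, inv_mul_cancel, cjN_one] }
    have hT : ∀ g : G, g ∈ T ↔ cjN g '' ({θ} : Set (IrrCharacter N)) = {θ} := fun g => by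
      rw [Set.image_singleton, Set.singleton_eq_singleton_iff]
      rfl
    have hNT : N ≤ T := fun m hm => Subtype.ext (funext fun k => by
      rw [cjN_apply]
      refine Eq.trans (congrArg (θ : N → ℂ) ?_) (Char.isClassFunction_irr θ k (⟨m, hm⟩ : N)⁻¹)
      exact Subtype.ext (by simp only [Subgroup.coe_mul, Subgroup.coe_inv, inv_inv]))
    have hTlt : Nat.card T < n := by
      refine hn ▸ lt_of_le_of_ne (Subgroup.card_le_card_group T) fun h => hinv fun g => ?_
      have := Subgroup.eq_top_of_card_eq T h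
      exact (this ▸ Subgroup.mem_top g : g ∈ T)
    haveI := Fintype.ofFinite T
    let _ := Fintype.ofFinite (IrrCharacter T)
    haveI : Group.IsSolvable T := inferInstance
    obtain ⟨B', hB', hov, hind⟩ := fongReynolds_surjective hNT hM hb hT hB hcov
    obtain ⟨C, hC, -, hirr, hmem⟩ := fongReynolds_block hNT hM hb hT hB' hov
    obtain rfl : C = B := inducedBlock_unique hC hind
    have hψ : ∀ χ : C, ∃ ψ ∈ B', ((χ : IrrCharacter G) : G → ℂ) = indFun T (ψ : T → ℂ) := fun χ => (hmem χ).1 χ.2
    choose ψ hψ hψe using hψ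
    have h1 : Nat.card C ≤ Nat.card B' := Nat.card_le_card_of_injective (fun χ => ⟨ψ χ, hψ χ⟩) fun a b h =>
      Subtype.ext (Subtype.ext ((hψe a).trans ((congrArg (fun z : B' => indFun T ((z : IrrCharacter T) : T → ℂ)) h).trans
        (hψe b).symm)))
    have hval : ∀ χ : C, degVal p (χ : IrrCharacter G) = T.index.factorization p + degVal p (ψ χ) :=
      fun χ => fongReynolds_degree hM (hψe χ)
    have hd : blockDefect p C = blockDefect p B' := by
      have hne : ((fun η : IrrCharacter T => (charDegree (η : T → ℂ)).factorization p) '' B').Nonempty :=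
        (isPBlock_nonempty hB').image _
      obtain ⟨η₀, hη₀, hmin⟩ := Nat.sInf_mem hne
      have hs : sInf ((fun χ : IrrCharacter G => (charDegree (χ : G → ℂ)).factorization p) '' C) =
          T.index.factorization p + sInf ((fun η : IrrCharacter T => (charDegree (η : T → ℂ)).factorization p) '' B') := by
        refine le_antisymm ?_ (le_csInf ((isPBlock_nonempty hB).image _) ?_)
        · refine Nat.sInf_le ⟨⟨_, (hirr η₀ hη₀).2⟩, (hmem _).2 ⟨η₀, hη₀, rfl⟩, ?_⟩
          rw [← hmin]
          exact fongReynolds_degree hM rfl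
        · rintro _ ⟨χ, hχ, rfl⟩
          show _ ≤ degVal p χ
          rw [hval ⟨χ, hχ⟩]
          exact Nat.add_le_add_left (Nat.sInf_le (show degVal p (ψ ⟨χ, hχ⟩) ∈ (fun η : IrrCharacter T => (charDegree (η : T → ℂ)).factorization p) '' B'
            from ⟨_, hψ _, rfl⟩)) _
      rw [blockDefect, blockDefect, hs, ← T.card_mul_index,
        Nat.factorization_mul Nat.card_pos.ne' Subgroup.index_ne_zero_of_finite, Finsupp.add_apply]
      omega
    rw [hd]
    exact h1.trans (ih _ hTlt T rfl inferInstance B' hB')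

/-- **the bound** -/
theorem card_le (hM : IsPModular p M) (G : Type u) [Group G] [Finite G] (hsolv : Group.IsSolvable G)
    (B : Set (IrrCharacter G)) (hB : IsPBlock M B) :
    Nat.card B ≤ 3 ^ (blockDefect p B - 1) * p ^ blockDefect p B := by
  haveI : Fact p.Prime := ⟨hM.1⟩
  rcases Nat.lt_or_ge p 5 with hp | hp
  · refine (card_le_bfBound hM _ G B hB rfl).trans ?_
    set d := blockDefect p B
    have hp3 : p ≤ 3 := by
      rcases Nat.lt_or_ge p 4 with h | h
      · omega
      · obtain rfl : p = 4 := by omega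
        exact absurd hM.1 (by norm_num)
    unfold bfBound
    split_ifs with h2
    · exact Nat.le_mul_of_pos_left _ (by positivity)
    · calc p ^ (2 * d - 2) = p ^ (d - 2) * p ^ d := by rw [← pow_add]; congr 1; omega
        _ ≤ 3 ^ (d - 1) * p ^ d := Nat.mul_le_mul_right _
          ((Nat.pow_le_pow_left hp3 _).trans (Nat.pow_le_pow_right (by norm_num) (by omega)))
  · exact card_le_of_five_le hM hp _ G rfl hsolv B hB

end CfsgLib.Block.SolvableSize
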