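import Cfsg.Agent.Lib.Block.Contributions

/-!
# Source idempotents and the blocks of their Brauer truncations

For a maximal pair `(P, e)` of `B` and a height zero `χ ∈ B` there is a `P`-fixed idempotent `i`
with `trB χ i ≠ 0` whose truncation at every `Q ≤ P` lies in the block of the pair at `Q`.
-/

open Finset MonoidAlgebra Polynomial
open scoped ComplexConjugate

set_option linter.unusedSectionVars false

namespace CfsgLib.Block

open Cfsg
open scoped Pair

universe u v

section alg

variable {k : Type*} [Field k] {S : Type v} [Ring S] [Algebra k S] [FiniteDimensional k S]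

/-- An element is nilpotent or has a non-zero idempotent polynomial multiple without constant. -/
theorem exists_idem_aeval (y : S) :
    ∃ q : Polynomial k, aeval y (X * q) * aeval y (X * q) = aeval y (X * q) ∧
      (aeval y (X * q) = 0 → IsNilpotent y) := by
  obtain ⟨f, hfm, hfy⟩ := IsIntegral.of_finite k y
  obtain ⟨g, hfg, hg⟩ := f.exists_eq_pow_rootMultiplicity_mul_and_not_dvd hfm.ne_zero 0
  rw [C_0, sub_zero] at hfg hg
  set m := f.rootMultiplicity 0
  have hcop : IsCoprime (X ^ (m + 1)) g :=
    ((Polynomial.prime_X.coprime_iff_not_dvd).mpr hg).pow_left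
  obtain ⟨u, v, huv⟩ := hcop
  have h0 : aeval y (X ^ (m + 1) * g) = 0 := by
    rw [pow_succ', mul_assoc, ← hfg, map_mul, show aeval y f = 0 from hfy, mul_zero]
  refine ⟨u * X ^ m, ?_, fun h => ⟨m + 1, ?_⟩⟩
  · rw [← map_mul, show X * (u * X ^ m) * (X * (u * X ^ m)) =
      X * (u * X ^ m) - u * v * (X ^ (m + 1) * g) from by
        linear_combination (u * X ^ (m + 1)) * huv,
      map_sub, map_mul (aeval y) (u * v), h0, mul_zero, sub_zero]
  · have e : X ^ (m + 1) = X * (u * X ^ m) * X ^ (m + 1) + v * (X ^ (m + 1) * g) := by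
      linear_combination -(X ^ (m + 1)) * huv
    have := congrArg (aeval y) e
    rwa [map_pow, aeval_X, map_add, map_mul, h, zero_mul, map_mul, h0, mul_zero, add_zero] at this

end alg

variable {p : ℕ} {M : Ideal AlgInt} [M.IsMaximal] {G : Type u} [Group G] [Fintype G] [DecidableEq G]
  {P Q : Subgroup G} {e : Set (IrrCharacter (CQ P))}

theorem trB_sub (χ : IrrCharacter G) (a b : MonoidAlgebra (ResField M) G) :
    trB M χ (a - b) = trB M χ a - trB M χ b := by
  simp only [trB, MonoidAlgebra.coeff_sub, Finsupp.sub_apply, sub_mul, Finset.sum_sub_distrib]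

theorem cinv_aeval {y : MonoidAlgebra (ResField M) G} (hy : CInv P y)
    (q : Polynomial (ResField M)) : CInv P (aeval y q) := by
  refine cinv_of_commute fun s hs => ?_
  induction q using Polynomial.induction_on' with
  | add q r hq hr => rw [map_add]; exact hq.add_right hr
  | monomial n c =>
    rw [aeval_monomial, ← Algebra.smul_def]
    exact ((hy.commute hs).pow_right n).smul_right c

theorem cinv_sub {S : Type*} [CommRing S] {K : Subgroup G} {a b : MonoidAlgebra S G}
    (ha : CInv K a) (hb : CInv K b) : CInv K (a - b) :=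
  cinv_of_commute fun _ hs => (ha.commute hs).sub_right (hb.commute hs)

theorem suppIn_sub {S : Type*} [CommRing S] {K : Subgroup G} {a b : MonoidAlgebra S G}
    (ha : SuppIn K a) (hb : SuppIn K b) : SuppIn K (a - b) := fun g hg => by
  simp [ha g hg, hb g hg]

theorem eG_commute {K : Subgroup G} [Fintype K] (f : Set (IrrCharacter K))
    {y : MonoidAlgebra (ResField M) G} (hy : SuppIn K y) : Commute (eG M f) y := by
  conv => arg 2; rw [ga_eq_sum_single y]
  refine Commute.sum_right _ _ _ fun d _ => ?_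
  by_cases hd : d ∈ K
  · exact ((cinv_eG f).commute hd).symm.smul_right _
  · simp [hy d hd]

/-- The truncation of a lower pair fixes the idempotent of the upper pair. -/
theorem NSub.trC_mul_eG (hM : IsPModular p M) {f : Set (IrrCharacter (CQ Q))} {R : Subgroup G}
    {g : Set (IrrCharacter (CQ R))} (h : NSub p M Q f R g) :
    trC R (eG M f) * eG M g = eG M g := by
  classical
  have hR := h.pairR.1
  have hyR : CInv (CQ R) (trC R (eG M f)) :=
    (cinv_cq_eG h.le f).trC (centralizer_le_normalizer' R)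
  set z := cenOf M (trC R (eG M f)) hyR with hz
  have hzemb : emb (z : MonoidAlgebra (ResField M) (CQ R)) = trC R (eG M f) :=
    (eq_emb_of_suppIn (suppIn_trC (eG M f))).symm
  have hzz : z * z = z := by
    refine Subtype.ext (ga_ext fun k => ?_)
    have e := congrArg (fun y => trC R y) (eG_mul_self hM h.pairL.2)
    simp only [trC_mul hM hR h.stab h.stab] at e
    rw [← hzemb, ← emb_mul] at e
    rw [MulMemClass.coe_mul, ← coeff_emb_coe (H := CQ R) (R := ResField M), e, coeff_emb_coe]
  have heq : z * blockBar M g = blockBar M g := by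
    refine eq_of_omegaBar_eq_of_idem hM ?_ (blockBar_mul_self hM (.of_isPBlock h.pairR.2)) fun ξ => ?_
    · rw [mul_mul_mul_comm, hzz, blockBar_mul_self hM (.of_isPBlock h.pairR.2)]
    · rw [map_mul, omegaBar_blockBar hM (.of_isPBlock h.pairR.2)]
      split_ifs with hξ
      · rw [mul_one, omG_cenOf ξ _ hyR, omG_congr ξ (y' := eG M f) fun x hx => coeff_trC _ hx,
          h.one ξ hξ]
      · rw [mul_zero]
  rw [← hzemb, eG, ← emb_mul, ← MulMemClass.coe_mul, heq]

variable [Fintype (IrrCharacter G)]

/-- The multiplicities are the inner products with the restriction. -/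
theorem classInner_res {C : Subgroup G} [Fintype C] [Fintype (IrrCharacter C)] (χ : IrrCharacter G)
    (η : IrrCharacter C) :
    classInner (fun t : C => (χ : G → ℂ) (t : G)) (η : C → ℂ) = (resMult χ η : ℂ) := by
  classical
  have h : (fun t : C => (χ : G → ℂ) (t : G)) =
      ∑ θ : IrrCharacter C, (resMult χ θ : ℂ) • (θ : C → ℂ) := by
    funext t
    simp only [Finset.sum_apply, Pi.smul_apply, smul_eq_mul]
    exact res_eq_sum_resMult χ t
  rw [h, Char.classInner_sum_left, Finset.sum_eq_single η]
  · rw [Char.classInner_smul_left, Char.classInner_irr_self, mul_one]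
  · intro θ _ hθ
    rw [Char.classInner_smul_left, Char.classInner_irr_ne hθ, mul_zero]
  · simp

/-- The functional on the part of a block of a centralizer, through the multiplicities. -/
theorem trB_eG_mul_single (hM : IsPModular p M) {C : Subgroup G} [Fintype C]
    [Fintype (IrrCharacter C)] {b : Set (IrrCharacter C)} [DecidablePred (· ∈ b)]
    (hb : IsPBlock M b) (χ : IrrCharacter G) (c : C) :
    trB M χ (eG M b * single (c : G) 1) =
      res M (∑ η ∈ Finset.univ.filter (· ∈ b), (resMult χ η : locRing M) * irrLoc M η c) := by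
  classical
  have hexp : trB M χ (eG M b * single (c : G) 1) =
      ∑ t : C, coeffRes M b t * res M (irrLoc M χ ((t : G) * c)) := by
    rw [trB]
    simp only [coeff_mul_single', mul_one]
    refine (Fintype.sum_equiv (Equiv.mulRight (c : G)⁻¹) _
      (fun g => (eG M b).coeff g * res M (irrLoc M χ (g * c))) fun g => by simp).trans ?_
    rw [← Finset.sum_subset (Finset.subset_univ (Finset.univ.filter (fun g : G => g ∈ C)))
      fun g _ hg => by rw [suppIn_eG b g (by simpa using hg), zero_mul],
      Finset.sum_subtype (p := fun g => g ∈ C) _ (fun g => by simp)]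
    exact Finset.sum_congr rfl fun t _ => by rw [coeff_eG]
  have hθc : IsCharacter _ (fun t : C => (χ : G → ℂ) (t : G)) :=
    Char.isCharacter_comp (Char.isCharacter_irr χ) C.subtype
  rw [hexp]
  have e : (∑ t : C, (blockIdem M b : MonoidAlgebra (locRing M) _).coeff t * irrLoc M χ ((t : G) * c)) =
      ∑ η ∈ Finset.univ.filter (· ∈ b), (resMult χ η : locRing M) * irrLoc M η c := by
    apply Subtype.ext
    rw [AddSubmonoidClass.coe_finsetSum, AddSubmonoidClass.coe_finsetSum]
    simp only [Subring.coe_mul, coe_irrLoc, Subring.coe_natCast,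
      coe_coeff_blockIdem hM (IsBlockUnion.of_isPBlock hb)]
    refine Eq.trans (blockPart_eq_sum b (Char.isClassFunction_of_isCharacter hθc) c).symm ?_
    rw [blockPart_eq]
    refine Finset.sum_congr rfl fun η _ => ?_
    exact congrArg (fun z : ℂ => z * _) (classInner_res χ η)
  rw [← e, map_sum]
  simp only [map_mul, coeffRes]

/-- A non-vanishing functional has an idempotent witness inside the centralizer. -/
theorem exists_idem_nv (hM : IsPModular p M) (he : IsPBlock M e) {χ : IrrCharacter G}
    (hnv : NV M χ P e) :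
    ∃ i : MonoidAlgebra (ResField M) G, i * i = i ∧ SuppIn (CQ P) i ∧ eG M e * i = i ∧
      trB M χ i ≠ 0 := by
  classical
  have := Fintype.ofFinite (IrrCharacter (CQ P))
  obtain ⟨c, hc, hne⟩ := hnv
  obtain ⟨a, y, hay, hcomm, ⟨j, hj⟩, hy⟩ := exists_isPPart hM.1 (⟨c, hc⟩ : CQ P)
  have haj : a ^ p ^ j = 1 := by rw [← hj, pow_orderOf_eq_one]
  have hne' : trB M χ (eG M e * single (y : G) 1) ≠ 0 := by
    rw [trB_eG_mul_single hM he χ y]
    rw [show c = (((⟨c, hc⟩ : CQ P)) : G) from rfl, trB_eG_mul_single hM he χ ⟨c, hc⟩, ← hay] at hne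
    simp only [map_sum, map_mul] at hne ⊢
    simp only [res_irr_regularPart hM _ hcomm haj] at hne
    exact hne
  set m := orderOf y with hm'
  have hm : ¬ p ∣ m := hy
  have hm0 : m ≠ 0 := (orderOf_pos y).ne'
  have hpf : Fact p.Prime := ⟨hM.1⟩
  obtain ⟨ζ, hζ⟩ := exists_primitiveRoot_locRing M m hm0
  set r := invNat hM hm with hr
  have hr1 : r * (m : locRing M) = 1 := invNat_mul hM hm
  have hr1' : res M r * (m : ResField M) = 1 := by rw [← map_natCast (res M), ← map_mul, hr1, map_one]
  have hζ' : IsPrimitiveRoot (res M ζ) m := by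
    refine IsPrimitiveRoot.iff hm0.bot_lt |>.mpr ⟨by rw [← map_pow, hζ.pow_eq_one, map_one], fun l hl0 hlm h => ?_⟩
    refine hζ.pow_ne_one_of_pos_of_lt hl0.ne' hlm (res_rootOfUnity_injective hM hm ?_ (one_pow m) ?_)
    · rw [← pow_mul, mul_comm, pow_mul, hζ.pow_eq_one, one_pow]
    · rw [map_pow, h, map_one]
  set w : ℕ → MonoidAlgebra (ResField M) G := fun i => res M ζ ^ i • single (y : G) 1
  have hym : (y : G) ^ m = 1 := by rw [← Subgroup.coe_pow, hm', pow_orderOf_eq_one, Subgroup.coe_one]
  have hw : ∀ i, w i ^ m = 1 := fun i => by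
    simp only [w, _root_.smul_pow, ← pow_mul, MonoidAlgebra.single_pow, one_pow, hym]
    rw [mul_comm, pow_mul, hζ'.pow_eq_one, one_pow, one_smul, MonoidAlgebra.one_def]
  have hdec := sum_smul_avgPow hr1' hζ' (w := single (y : G) (1 : ResField M)) (by
    simp [MonoidAlgebra.single_pow, hym, MonoidAlgebra.one_def])
  rw [← hdec, Finset.mul_sum, trB_sum] at hne'
  obtain ⟨i, -, hi⟩ := Finset.exists_ne_zero_of_sum_ne_zero hne'
  rw [Algebra.mul_smul_comm, trB_smul] at hi
  have hs : SuppIn (CQ P) (avgPow (res M r) m (w i)) :=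
    SuppIn.avgPow (SuppIn.smul (suppIn_single (H := CQ P) y.2 _) _) _ _
  refine ⟨eG M e * avgPow (res M r) m (w i), ?_, (suppIn_eG e).mul hs, ?_, right_ne_zero_of_mul hi⟩
  · rw [(eG_commute e hs).symm.mul_mul_mul_comm, eG_mul_self hM he, avgPow_mul_self hr1' (hw i)]
  · rw [← mul_assoc, eG_mul_self hM he]

variable (M) in
/-- A source idempotent for the pair and the character. -/
structure IsSourceIdem (P : Subgroup G) (e : Set (IrrCharacter (CQ P))) (χ : IrrCharacter G)
    (i : MonoidAlgebra (ResField M) G) : Prop where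
  idem : i * i = i
  cinv : CInv P i
  br : trC P i * eG M e = trC P i
  trB_ne : trB M χ i ≠ 0
  prim : ∀ ε, ε * ε = ε → CInv P ε → ε * i = ε → i * ε = ε → ε = 0 ∨ ε = i

/-- Source idempotents exist, below the idempotent of the block. -/
theorem exists_sourceIdem (hM : IsPModular p M) {B : Set (IrrCharacter G)}
    (hmax : IsMaximalBrauerPair p M B P e) {χ : IrrCharacter G} (hχ : χ ∈ B)
    (h0 : blockHeight p B (χ : G → ℂ) = 0) :
    ∃ i, IsSourceIdem M P e χ i ∧ (blockBar M B : MonoidAlgebra (ResField M) G) * i = i := by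
  classical
  have hP := hmax.1.1.1
  have hB := hmax.1.2.1
  obtain ⟨i0, hi0, hs0, he0, hne0⟩ := exists_idem_nv hM hmax.1.1.2 (nv_maximal hM hχ h0 hmax)
  set b := (blockBar M B : MonoidAlgebra (ResField M) G) with hb
  have hbb : b * b = b := congrArg Subtype.val (blockBar_mul_self hM (IsBlockUnion.of_isPBlock hB))
  have hbc : ∀ a, Commute b a := fun a => (mem_center_iff_isClassElt.mp (blockBar M B).2).commute a
  set i1 := b * i0
  let Good : MonoidAlgebra (ResField M) G → Prop := fun i =>
    i * i = i ∧ CInv P i ∧ i1 * i = i ∧ i * i1 = i ∧ trB M χ i ≠ 0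
  let dim : MonoidAlgebra (ResField M) G → ℕ := fun i =>
    Module.finrank (ResField M) (LinearMap.range (LinearMap.mulLeft (ResField M) i))
  have hi1 : i1 * i1 = i1 := by
    rw [((hbc i0).symm).mul_mul_mul_comm, hbb, hi0]
  have hgood : Good i1 := ⟨hi1, (cinv_of_central _ _).mul (cinv_of_suppIn hs0), hi1, hi1, by
    rw [show trB M χ i1 = trB M χ i0 from trB_blockBar_mul hM hB hχ i0]; exact hne0⟩
  have hex : ∃ n, ∃ i, Good i ∧ dim i = n := ⟨_, i1, hgood, rfl⟩
  obtain ⟨i, ⟨hii, hci, h1i, hi1', hne⟩, hdim⟩ := Nat.find_spec hex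
  refine ⟨i, ⟨hii, hci, ?_, hne, fun ε hεε hcε hεi hiε => ?_⟩, ?_⟩
  · have hci1 : CInv P i1 := hgood.2.1
    have h := congrArg (trC P) h1i
    rw [trC_mul hM hP hci1 hci, trC_mul hM hP (cinv_of_central _ _) (cinv_of_suppIn hs0),
      trC_eq_self hs0] at h
    have hcomm : Commute (eG M e) (trC P b) := eG_commute e (suppIn_trC b)
    rw [(eG_commute e (suppIn_trC i)).eq.symm, ← h, mul_assoc (trC P b), ← mul_assoc, hcomm.eq,
      mul_assoc, ← mul_assoc (eG M e) i0, he0]
  · -- minimality
    have key : ∀ δ, δ * δ = δ → CInv P δ → δ * i = δ → i * δ = δ → trB M χ δ ≠ 0 → δ = i := by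
      intro δ hδ hcδ hδi hiδ hδne
      have hle : LinearMap.range (LinearMap.mulLeft (ResField M) δ) ≤
          LinearMap.range (LinearMap.mulLeft (ResField M) i) := by
        rintro _ ⟨z, rfl⟩
        exact ⟨δ * z, by simp only [LinearMap.mulLeft_apply, ← mul_assoc, hiδ]⟩
      have hge : dim i ≤ dim δ := by
        rw [hdim]
        exact Nat.find_min' hex ⟨δ, ⟨hδ, hcδ, by rw [← hiδ, ← mul_assoc, h1i],
          by rw [← hδi, mul_assoc, hi1'], hδne⟩, rfl⟩
      obtain ⟨z, hz⟩ : i ∈ LinearMap.range (LinearMap.mulLeft (ResField M) δ) := by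
        rw [Submodule.eq_of_le_of_finrank_le hle hge]
        exact ⟨i, hii⟩
      simp only [LinearMap.mulLeft_apply] at hz
      rw [← hδi, ← hz, ← mul_assoc, hδ]
    by_cases h : trB M χ ε = 0
    · left
      have h2 := key (i - ε) (by rw [mul_sub, sub_mul, sub_mul, hii, hεi, hiε, hεε]; abel)
        (cinv_sub hci hcε) (by rw [sub_mul, hii, hεi]) (by rw [mul_sub, hii, hiε])
        (by rw [trB_sub, h, sub_zero]; exact hne)
      exact sub_eq_self.mp h2
    · exact Or.inr (key ε hεε hcε hεi hiε h)
  · rw [← h1i, ← mul_assoc, show b * i1 = i1 from by rw [← mul_assoc, hbb]]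

variable {χ : IrrCharacter G} {i : MonoidAlgebra (ResField M) G}

theorem IsSourceIdem.trC_ne_zero (hM : IsPModular p M) (h : IsSourceIdem M P e χ i)
    (hP : IsPGroup p P) : trC P i ≠ 0 := fun h0 => h.trB_ne (by
  rw [← trB_trC hM hP χ h.cinv, h0]; simp [trB])

/-- Elements of the corner killed by the Brauer map are nilpotent. -/
theorem IsSourceIdem.isNilpotent (hM : IsPModular p M) (h : IsSourceIdem M P e χ i)
    (hP : IsPGroup p P) {y : MonoidAlgebra (ResField M) G} (hy : CInv P y) (hiy : i * y = y)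
    (hyi : y * i = y) (hbr : trC P y = 0) : IsNilpotent y := by
  obtain ⟨q, hq, hnil⟩ := exists_idem_aeval (k := ResField M) y
  have hε : aeval y (X * q) = y * aeval y q := by rw [map_mul, aeval_X]
  have hcomm : y * aeval y q = aeval y q * y := by
    rw [← hε, mul_comm X q, map_mul, aeval_X]
  rcases h.prim _ hq (cinv_aeval hy _) (by rw [hε, hcomm, mul_assoc, hyi])
    (by rw [hε, ← mul_assoc, hiy]) with h0 | h0
  · exact hnil h0
  · refine absurd ?_ (h.trC_ne_zero hM hP)
    rw [← h0, hε, trC_mul hM hP hy (cinv_aeval hy q), hbr, zero_mul]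

/-- The truncation of a source idempotent at a subgroup lies in the block of the pair below. -/
theorem IsSourceIdem.br_block (hM : IsPModular p M) (h : IsSourceIdem M P e χ i)
    (he : IsBrauerPair p M P e) :
    ∀ {Q : Subgroup G} {f : Set (IrrCharacter (CQ Q))}, SubpairLE p M Q f P e →
      trC Q i * eG M f = trC Q i := by
  classical
  have hpf : Fact p.Prime := ⟨hM.1⟩
  intro Q f hle
  induction hn : Nat.card P - Nat.card Q using Nat.strong_induction_on generalizing Q with
  | _ n ih =>
  have hQP := SubpairLE.le hle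
  rcases hQP.eq_or_lt with rfl | hlt
  · rw [SubpairLE.eq_of_eq hM hle]; exact h.br
  have hQ : IsPGroup p Q := he.1.to_le hQP
  set N := Subgroup.normalizer (Q : Set G) ⊓ P
  obtain ⟨gN, hgN, -⟩ := SubpairLE.exists_nSub_mid hM he hle
    (le_inf Subgroup.le_normalizer hQP) inf_le_right inf_le_left
  have hiN : CInv N (trC Q i) := (h.cinv.mono inf_le_right).trC inf_le_left
  have hfN : CInv N (eG M f) := hgN.stab
  set b := trC Q i with hbdef
  have hbb : b * b = b := by
    rw [hbdef, ← trC_mul hM hQ (h.cinv.mono hQP) (h.cinv.mono hQP), h.idem]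
  have hcomm : Commute b (eG M f) := (eG_commute f (suppIn_trC i)).symm
  have hff : eG M f * eG M f = eG M f := eG_mul_self hM hgN.pairL.2
  set a := b - b * eG M f with hadef
  suffices a = 0 from (sub_eq_zero.mp this).symm
  have hasupp : SuppIn (CQ Q) a := suppIn_sub (suppIn_trC i) ((suppIn_trC i).mul (suppIn_eG f))
  have haN : CInv N a := cinv_sub hiN (hiN.mul hfN)
  have hba : b * a = a := by rw [hadef, mul_sub, hbb, ← mul_assoc, hbb]
  have hab : a * b = a := by rw [hadef, sub_mul, hbb, mul_assoc, ← hcomm.eq, ← mul_assoc, hbb]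
  have haa : a * a = a := by
    have hfb : b * eG M f * a = 0 := by
      rw [hadef, mul_sub, mul_assoc b, hcomm.symm.eq, ← mul_assoc, hbb, ← mul_assoc,
        mul_assoc b (eG M f), hcomm.symm.eq, ← mul_assoc b, hbb, mul_assoc b, hff, sub_self]
    rw [hadef, sub_mul, ← hadef, hba, hfb, sub_zero]
  -- the truncations at larger subgroups vanish
  have hvanish : ∀ S : Subgroup G, Q < S → S ≤ N → trC S a = 0 := by
    intro S hQS hSN
    obtain ⟨gS, hgS, hgSle⟩ := SubpairLE.exists_nSub_mid hM he hle hQS.le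
      (hSN.trans inf_le_right) (hSN.trans inf_le_left)
    have hS : IsPGroup p S := hgS.pairR.1
    have hcard : Nat.card Q < Nat.card S :=
      (Subgroup.card_le_of_le hQS.le).lt_of_ne fun heq =>
        hQS.ne (Subgroup.eq_of_le_of_card_ge hQS.le heq.ge)
    have hSP : Nat.card S ≤ Nat.card P := Subgroup.card_le_of_le (hSN.trans inf_le_right)
    have h1 : trC S i * eG M gS = trC S i := ih (Nat.card P - Nat.card S) (by omega) hgSle rfl
    have htr : trC S b = trC S i := by
      refine ga_ext fun x => ?_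
      by_cases hx : x ∈ CQ S
      · rw [coeff_trC _ hx, coeff_trC _ hx, hbdef, coeff_trC _ (cq_mono hQS.le hx)]
      · rw [suppIn_trC _ x hx, suppIn_trC _ x hx]
    have h2 : trC S i * trC S (eG M f) = trC S i := by
      conv_lhs => rw [← h1]
      rw [mul_assoc, (eG_commute gS (suppIn_trC (eG M f))).eq, hgS.trC_mul_eG hM, h1]
    have hsub : trC S (b - b * eG M f) = trC S b - trC S (b * eG M f) := by
      refine ga_ext fun x => ?_
      by_cases hx : x ∈ CQ S <;> simp [coeff_trC, suppIn_trC _ _, hx]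
    rw [hadef, hsub, trC_mul hM hS (hiN.mono hSN) hgS.stab, htr, h2, sub_self]
  -- elements of the support have stabilizer `Q`
  have hstab : ∀ g, a.coeff g ≠ 0 → P ⊓ Subgroup.centralizer ({g} : Set G) = Q := by
    intro g hg
    have hgQ : g ∈ CQ Q := by_contra fun h' => hg (hasupp g h')
    have hQle : Q ≤ P ⊓ Subgroup.centralizer ({g} : Set G) := le_inf hQP fun u hu =>
      Subgroup.mem_centralizer_singleton_iff.mpr (Subgroup.mem_centralizer_iff.mp hgQ u hu)
    refine le_antisymm ?_ hQle
    by_contra hnot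
    have hlt' : Q < P ⊓ Subgroup.centralizer ({g} : Set G) := lt_of_le_not_ge hQle hnot
    have hS := lt_normalizer_inf (he.1.to_le inf_le_left) hlt'
    refine hg ?_
    have hgS : g ∈ CQ (Subgroup.normalizer (Q : Set G) ⊓ (P ⊓ Subgroup.centralizer ({g} : Set G))) :=
      Subgroup.mem_centralizer_iff.mpr fun u hu =>
        Subgroup.mem_centralizer_singleton_iff.mp hu.2.2
    have := congrArg (fun w : MonoidAlgebra (ResField M) G => w.coeff g)
      (hvanish _ hS (inf_le_inf_left _ inf_le_left))
    rwa [coeff_trC _ hgS] at this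
  -- the orbit extension of `a`
  let T : MonoidAlgebra (ResField M) G := gaOfFun fun x =>
    if hx : ∃ n ∈ P, a.coeff (n⁻¹ * x * n) ≠ 0 then a.coeff (hx.choose⁻¹ * x * hx.choose) else 0
  have hN : ∀ {g g' m : G}, a.coeff g ≠ 0 → a.coeff g' ≠ 0 → m ∈ P → m * g * m⁻¹ = g' → m ∈ N := by
    intro g g' m hg hg' hm hgg
    refine ⟨Subgroup.mem_normalizer_iff.mpr fun u => ?_, hm⟩
    have e1 := SetLike.ext_iff.mp (hstab g hg) u
    have e2 := SetLike.ext_iff.mp (hstab g' hg') (m * u * m⁻¹)
    rw [← e1, ← e2, Subgroup.mem_inf, Subgroup.mem_inf, Subgroup.mem_centralizer_singleton_iff,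
      Subgroup.mem_centralizer_singleton_iff]
    refine and_congr ⟨fun hu => P.mul_mem (P.mul_mem hm hu) (P.inv_mem hm), fun hu => ?_⟩ ?_
    · have := P.mul_mem (P.mul_mem (P.inv_mem hm) hu) hm
      simpa [mul_assoc] using this
    · rw [← hgg]
      constructor
      · intro hu
        calc m * u * m⁻¹ * (m * g * m⁻¹) = m * (u * g) * m⁻¹ := by group
          _ = m * (g * u) * m⁻¹ := by rw [hu]
          _ = m * g * m⁻¹ * (m * u * m⁻¹) := by group
      · intro hu
        have := congrArg (fun w => m⁻¹ * w * m) hu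
        simpa [mul_assoc] using this
  have hT : ∀ x n, n ∈ P → a.coeff (n⁻¹ * x * n) ≠ 0 → T.coeff x = a.coeff (n⁻¹ * x * n) := by
    intro x n hn' hne
    have hx : ∃ n ∈ P, a.coeff (n⁻¹ * x * n) ≠ 0 := ⟨n, hn', hne⟩
    simp only [T, coeff_gaOfFun, dif_pos hx]
    have hm := hN hne hx.choose_spec.2 (m := hx.choose⁻¹ * n)
      (P.mul_mem (P.inv_mem hx.choose_spec.1) hn') (by group)
    have := haN _ hm (n⁻¹ * x * n)
    rw [← this]
    congr 1
    group
  have hT0 : ∀ x, (∀ n ∈ P, a.coeff (n⁻¹ * x * n) = 0) → T.coeff x = 0 := by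
    intro x hall
    simp only [T, coeff_gaOfFun]
    exact dif_neg fun ⟨n, hn', hne⟩ => hne (hall n hn')
  have hTP : CInv P T := by
    intro s hs x
    by_cases hx : ∃ n ∈ P, a.coeff (n⁻¹ * x * n) ≠ 0
    · obtain ⟨n, hn', hne⟩ := hx
      have e : (s * n)⁻¹ * (s * x * s⁻¹) * (s * n) = n⁻¹ * x * n := by group
      rw [hT x n hn' hne, hT _ (s * n) (P.mul_mem hs hn') (by rwa [e]), e]
    · push Not at hx
      rw [hT0 x hx, hT0]
      intro n hn'
      rw [show n⁻¹ * (s * x * s⁻¹) * n = (s⁻¹ * n)⁻¹ * x * (s⁻¹ * n) by group]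
      exact hx _ (P.mul_mem (P.inv_mem hs) hn')
  have hTQ : trC Q T = a := by
    refine ga_ext fun x => ?_
    by_cases hxQ : x ∈ CQ Q
    swap
    · rw [suppIn_trC _ x hxQ, hasupp x hxQ]
    rw [coeff_trC _ hxQ]
    by_cases hax : a.coeff x = 0
    · rw [hax]
      by_cases hx : ∃ n ∈ P, a.coeff (n⁻¹ * x * n) ≠ 0
      · obtain ⟨n, hn', hne⟩ := hx
        exfalso
        apply hne
        -- `Q` and `n⁻¹ Q n` both fix the element of the support
        have hsub : cjS n⁻¹ Q ≤ Q := by
          intro u hu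
          rw [mem_cjS, inv_inv] at hu
          rw [← hstab _ hne]
          refine ⟨?_, Subgroup.mem_centralizer_singleton_iff.mpr ?_⟩
          · have := P.mul_mem (P.mul_mem (P.inv_mem hn') (hQP hu)) hn'
            simpa [mul_assoc] using this
          · have h1 := Subgroup.mem_centralizer_iff.mp hxQ _ hu
            calc u * (n⁻¹ * x * n) = n⁻¹ * ((n * u * n⁻¹) * x) * n := by group
              _ = n⁻¹ * (x * (n * u * n⁻¹)) * n := by rw [h1]
              _ = n⁻¹ * x * n * u := by group
        have heq : cjS n⁻¹ Q = Q := Subgroup.eq_of_le_of_card_ge hsub (card_cjS _ _).ge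
        have hnN : n⁻¹ ∈ N := ⟨mem_normalizer_of_cjS_eq heq, P.inv_mem hn'⟩
        have := haN _ hnN x
        rw [inv_inv] at this
        rw [this, hax]
      · push Not at hx
        exact hT0 x hx
    · have := hT x 1 P.one_mem (by simpa using hax)
      simpa using this
  have hTbr : trC P T = 0 := by
    refine ga_ext fun x => ?_
    by_cases hxP : x ∈ CQ P
    swap
    · rw [suppIn_trC _ x hxP]; simp
    rw [coeff_trC _ hxP, hT0 x]
    · simp
    intro n hn'
    by_contra hne
    refine hlt.ne ((hstab _ hne).symm.trans (inf_eq_left.mpr fun u hu => ?_))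
    rw [Subgroup.mem_centralizer_singleton_iff, show n⁻¹ * x * n = x by
      rw [mul_assoc, ← Subgroup.mem_centralizer_iff.mp hxP n hn', inv_mul_cancel_left]]
    exact Subgroup.mem_centralizer_iff.mp hxP u hu
  set y := i * T * i with hy
  have hyP : CInv P y := (h.cinv.mul hTP).mul h.cinv
  obtain ⟨m, hm⟩ := h.isNilpotent hM he.1 hyP (by rw [hy, ← mul_assoc, ← mul_assoc, h.idem])
    (by rw [hy, mul_assoc, h.idem]) (by
      rw [hy, trC_mul hM he.1 (h.cinv.mul hTP) h.cinv, trC_mul hM he.1 h.cinv hTP, hTbr, mul_zero,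
        zero_mul])
  have hyQ : trC Q y = a := by
    rw [hy, trC_mul hM hQ ((h.cinv.mul hTP).mono hQP) (h.cinv.mono hQP),
      trC_mul hM hQ (h.cinv.mono hQP) (hTP.mono hQP), hTQ, hba, hab]
  have hpow : ∀ l, trC Q (y ^ (l + 1)) = a := by
    intro l
    induction l with
    | zero => rw [pow_one, hyQ]
    | succ l ihl =>
      have hyl : CInv Q (y ^ (l + 1)) :=
        cinv_of_commute fun s hs => ((hyP.mono hQP).commute hs).pow_right _
      rw [pow_succ, trC_mul hM hQ hyl (hyP.mono hQP), ihl, hyQ, haa]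
  rw [← hpow m, pow_succ, hm, zero_mul]
  exact ga_ext fun x => by by_cases hx : x ∈ CQ Q <;> simp [coeff_trC, suppIn_trC _ _, hx]

end CfsgLib.Block
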