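import Cfsg.Agent.Lib.Block.StarLocal
import Cfsg.Agent.Lib.Char.Brauer
import Cfsg.Agent.Lib.Char.DefectZero
import Cfsg.Agent.Lib.Char.NilMonomial
import Cfsg.Agent.Lib.Char.Induction

/-!
# The weighted expansion of a character along its subsections

For weights `w` on the pairs at cyclic `p`-subgroups, `starFun w χ` weights the parts of `χ` in the
subsections.  It is a generalized character when the weights are equivariant and linear below every
pair (after Broué and Puig); with weights of absolute value one it is irreducible.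
-/

open Finset MonoidAlgebra
open scoped ComplexConjugate

set_option linter.unusedSectionVars false

namespace CfsgLib.Block

open Cfsg
open scoped Pair

universe u

variable {p : ℕ} {M : Ideal AlgInt} [M.IsMaximal] {G : Type u} [Group G] [Fintype G] [DecidableEq G]

/-- The `p`-part. -/
noncomputable def pPt (hM : IsPModular p M) (g : G) : G :=
  (exists_isPPart (p := p) hM.1 g).choose

theorem isPPart_pPt (hM : IsPModular p M) (g : G) : IsPPart p g (pPt hM g) :=
  (exists_isPPart (p := p) hM.1 g).choose_spec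

theorem pPow_pPt (hM : IsPModular p M) (g : G) : ∃ k : ℕ, orderOf (pPt hM g) = p ^ k := by
  obtain ⟨y, -, -, hk, -⟩ := isPPart_pPt hM g
  exact hk

open scoped Classical in
/-- The `p`-regular elements of the centralizer. -/
noncomputable def regC (p : ℕ) (u : G) : Finset G :=
  Finset.univ.filter fun s => s ∈ CQ (Subgroup.zpowers u) ∧ ¬ p ∣ orderOf s

theorem mem_regC {u s : G} : s ∈ regC p u ↔ s ∈ CQ (Subgroup.zpowers u) ∧ ¬ p ∣ orderOf s := by
  simp [regC]

theorem pPt_mul (hM : IsPModular p M) {u s : G} (hu : ∃ k : ℕ, orderOf u = p ^ k)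
    (hs : s ∈ regC p u) : pPt hM (u * s) = u :=
  isPPart_unique hM.1 (isPPart_pPt hM _)
    ⟨s, rfl, (mem_cq_zpowers_iff.mp (mem_regC.mp hs).1).symm, hu, (mem_regC.mp hs).2⟩

theorem exists_regC (hM : IsPModular p M) (g : G) :
    ∃ s ∈ regC p (pPt hM g), pPt hM g * s = g := by
  obtain ⟨y, hy, hc, -, hyp⟩ := isPPart_pPt hM g
  exact ⟨y, mem_regC.mpr ⟨mem_cq_zpowers_iff.mpr hc.symm, hyp⟩, hy⟩

open scoped Classical in
/-- Sums over the group by `p`-parts. -/
theorem sum_by_pPart (hM : IsPModular p M) (F : G → ℂ) :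
    ∑ g, F g = ∑ u ∈ Finset.univ.filter (fun u : G => ∃ k : ℕ, orderOf u = p ^ k),
      ∑ s ∈ regC p u, F (u * s) := by
  rw [← Finset.sum_fiberwise_of_maps_to (s := Finset.univ) (g := pPt hM)
    (t := Finset.univ.filter (fun u : G => ∃ k : ℕ, orderOf u = p ^ k))
    fun g _ => Finset.mem_filter.mpr ⟨Finset.mem_univ _, pPow_pPt hM g⟩]
  refine Finset.sum_congr rfl fun u hu => ?_
  have hset : Finset.univ.filter (fun g => pPt hM g = u) = (regC p u).image fun s => u * s := by
    ext g
    simp only [Finset.mem_filter, Finset.mem_univ, true_and, Finset.mem_image]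
    constructor
    · rintro rfl
      exact exists_regC hM g
    · rintro ⟨s, hs, rfl⟩
      exact pPt_mul hM (Finset.mem_filter.mp hu).2 hs
  rw [hset, Finset.sum_image fun a _ b _ h => mul_left_cancel h]

/-- The weighted expansion. -/
noncomputable def starFun (hM : IsPModular p M) (w : G → BrauerPairIdx G → ℂ) (χ : IrrCharacter G)
    (g : G) : ℂ :=
  ∑ a ∈ pairsAt M (pPt hM g), w (pPt hM g) a * secPart χ (pPt hM g) a ((pPt hM g)⁻¹ * g)

theorem starFun_apply (hM : IsPModular p M) (w : G → BrauerPairIdx G → ℂ) (χ : IrrCharacter G)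
    {u s : G} (hu : ∃ k : ℕ, orderOf u = p ^ k) (hs : s ∈ regC p u) :
    starFun hM w χ (u * s) = ∑ a ∈ pairsAt M u, w u a * secPart χ u a s := by
  rw [starFun, pPt_mul hM hu hs, inv_mul_cancel_left]

variable {w w' : G → BrauerPairIdx G → ℂ}

theorem isClassFunction_starFun (hM : IsPModular p M) (hw : IsWeight p M w) (χ : IrrCharacter G) :
    IsClassFunction G (starFun hM w χ) := by
  intro g n
  obtain ⟨s, hs, hg⟩ := exists_regC hM g
  set u := pPt hM g with hu0
  have hu := pPow_pPt hM g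
  rw [← hu0] at hu
  obtain ⟨hsC, hsp⟩ := mem_regC.mp hs
  have hu' : ∃ k : ℕ, orderOf (n * u * n⁻¹) = p ^ k := by
    rw [orderOf_conj_eq]; exact hu
  have hs' : n * s * n⁻¹ ∈ regC p (n * u * n⁻¹) := mem_regC.mpr ⟨by
    rw [← cjS_zpowers]
    exact inv_conj_mem_cq_iff.mpr (by simpa [mul_assoc] using hsC), by rwa [orderOf_conj_eq]⟩
  rw [← hg, show n * (u * s) * n⁻¹ = n * u * n⁻¹ * (n * s * n⁻¹) by group,
    starFun_apply hM w χ hu' hs', starFun_apply hM w χ hu hs]
  refine (Finset.sum_nbij' (fun a => cjP n a) (fun a => cjP n⁻¹ a) (fun a ha => ?_) (fun a ha => ?_)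
    (fun a ha => ?_) (fun a ha => ?_) fun a ha => ?_).symm
  · obtain ⟨h1, h2⟩ := mem_pairsAt.mp ha
    refine mem_pairsAt.mpr ⟨?_, isPBlock_conjBlock n h2⟩
    show cjS n a.1 = _
    rw [h1, cjS_zpowers]
  · obtain ⟨h1, h2⟩ := mem_pairsAt.mp ha
    refine mem_pairsAt.mpr ⟨?_, isPBlock_conjBlock n⁻¹ h2⟩
    show cjS n⁻¹ a.1 = _
    rw [h1, cjS_zpowers]
    congr 1
    group
  · exact conjBlock_inv hM n (mem_pairsAt.mp ha).2
  · show cjP n (cjP n⁻¹ a) = a
    rw [cjP_mul hM _ _ (mem_pairsAt.mp ha).2, mul_inv_cancel]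
    exact cjP_one hM (mem_pairsAt.mp ha).2
  · obtain ⟨h1, h2⟩ := mem_pairsAt.mp ha
    show w u a * _ = w (n * u * n⁻¹) (cjP n a) * _
    rw [hw.equivariant n u a h1 h2, secPart_cjP]

/-- The weights at the identity are trivial. -/
theorem IsWeight.one_left (hM : IsPModular p M) (hw : IsWeight p M w) {a : BrauerPairIdx G}
    (ha : a ∈ pairsAt M (1 : G)) : w 1 a = 1 := by
  have hpf : Fact p.Prime := ⟨hM.1⟩
  obtain ⟨h1, h2⟩ := mem_pairsAt.mp ha
  obtain ⟨b, rfl⟩ := exists_eq_pairMk h1
  obtain ⟨μ, hμ⟩ := hw.lin _ b ⟨isPGroup_zpowers (p := p) ⟨0, by simp⟩, h2⟩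
  have h := hμ 1 ⟨_, b⟩ rfl Relation.ReflTransGen.refl
  rw [OneMemClass.coe_one, map_one, Units.val_one] at h
  exact h

/-- Trivial weights give the character. -/
theorem starFun_one (hM : IsPModular p M) (χ : IrrCharacter G) :
    starFun hM (fun _ _ => (1 : ℂ)) χ = (χ : G → ℂ) := by
  classical
  have := Fintype.ofFinite (IrrCharacter G)
  funext g
  obtain ⟨s, hs, hg⟩ := exists_regC hM g
  set u := pPt hM g with hu0
  have hu := pPow_pPt hM g
  rw [← hu0] at hu
  obtain ⟨hsC, hsp⟩ := mem_regC.mp hs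
  rw [← hg, starFun_apply hM _ χ hu hs]
  have := Fintype.ofFinite (IrrCharacter (CQ (Subgroup.zpowers u)))
  have hC : ∀ t : CQ (Subgroup.zpowers u), Commute (t : G) u := fun t => mem_cq_zpowers_iff.mp t.2
  rw [show (χ : G → ℂ) (u * s) = secFun u (CQ (Subgroup.zpowers u)) χ ⟨s, hsC⟩ from rfl,
    secFun_eq_sum_blockPart hM hC χ ⟨s, hsC⟩
      (Finset.univ.filter fun b : Set (IrrCharacter (CQ (Subgroup.zpowers u))) => IsPBlock M b)
      (by simp)]
  symm
  refine Finset.sum_bij (fun b _ => (⟨Subgroup.zpowers u, b⟩ : BrauerPairIdx G)) (fun b hb => ?_)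
    (fun b _ b' _ h => eq_of_heq (Sigma.mk.inj_iff.mp h).2) (fun a ha => ?_) fun b _ => ?_
  · exact mem_pairsAt.mpr ⟨rfl, (Finset.mem_filter.mp hb).2⟩
  · obtain ⟨h1, h2⟩ := mem_pairsAt.mp ha
    obtain ⟨b, rfl⟩ := exists_eq_pairMk h1
    exact ⟨b, Finset.mem_filter.mpr ⟨Finset.mem_univ _, h2⟩, rfl⟩
  · rw [one_mul, ← secPart_eq_blockPart b hC χ ⟨s, hsC⟩]

theorem starFun_regular (hM : IsPModular p M) (hw : IsWeight p M w) (χ : IrrCharacter G) {g : G}
    (hg : ¬ p ∣ orderOf g) : starFun hM w χ g = (χ : G → ℂ) g := by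
  have h1 : pPt hM g = 1 := isPPart_unique hM.1 (isPPart_pPt hM g)
    ⟨g, one_mul g, Commute.one_left g, ⟨0, by simp⟩, hg⟩
  rw [← starFun_one hM χ, starFun, starFun, h1]
  exact Finset.sum_congr rfl fun a ha => by rw [hw.one_left hM ha]

/-! ### Orthogonality -/

theorem secSum_eq_sum_regC {u : G} {a : BrauerPairIdx G} (ha : a.1 = Subgroup.zpowers u)
    (χ ψ : IrrCharacter G) :
    secSum p χ ψ u a = ∑ s ∈ regC p u, secPart χ u a s * conj (secPart ψ u a s) := by
  classical
  obtain ⟨b, rfl⟩ := exists_eq_pairMk ha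
  rfl

/-- The parts in two subsections at one element are orthogonal. -/
theorem sum_secPart_mul_conj_of_ne (hM : IsPModular p M) {u : G} {a a' : BrauerPairIdx G}
    (ha : a ∈ pairsAt M u) (ha' : a' ∈ pairsAt M u) (hne : a ≠ a') (χ ψ : IrrCharacter G) :
    ∑ s ∈ regC p u, secPart χ u a s * conj (secPart ψ u a' s) = 0 := by
  classical
  obtain ⟨h1, hbb⟩ := mem_pairsAt.mp ha
  obtain ⟨b, rfl⟩ := exists_eq_pairMk h1
  obtain ⟨h1', hbb'⟩ := mem_pairsAt.mp ha'
  obtain ⟨b', rfl⟩ := exists_eq_pairMk h1'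
  dsimp only at hbb hbb'
  have hne' : b' ≠ b := fun h => hne (by rw [h])
  have := Fintype.ofFinite (IrrCharacter (CQ (Subgroup.zpowers u)))
  have hC : ∀ t : CQ (Subgroup.zpowers u), Commute (t : G) u := fun t => mem_cq_zpowers_iff.mp t.2
  have hbij : ∑ w ∈ (Finset.univ : Finset (CQ (Subgroup.zpowers u))).filter (fun y => ¬ p ∣ orderOf y),
      blockPart b (secFun u _ χ) w * conj (blockPart b' (secFun u _ ψ) w) =
      ∑ s ∈ regC p u, secPart χ u ⟨_, b⟩ s * conj (secPart ψ u ⟨_, b'⟩ s) := by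
    refine Finset.sum_bij (fun w _ => (w : G)) (fun w hw => ?_) (fun w _ w' _ h => Subtype.ext h)
      (fun s hs => ?_) fun w _ => by rw [secPart_eq_blockPart b hC, secPart_eq_blockPart b' hC]
    · exact mem_regC.mpr ⟨w.2, by rw [Subgroup.orderOf_coe]; exact (Finset.mem_filter.mp hw).2⟩
    · obtain ⟨hs1, hs2⟩ := mem_regC.mp hs
      exact ⟨⟨s, hs1⟩, Finset.mem_filter.mpr ⟨Finset.mem_univ _, by
        rwa [← Subgroup.orderOf_coe]⟩, rfl⟩
  rw [← hbij]
  have hterm : ∀ w ∈ (Finset.univ : Finset (CQ (Subgroup.zpowers u))).filter (fun y => ¬ p ∣ orderOf y),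
      blockPart b (secFun u _ χ) w * conj (blockPart b' (secFun u _ ψ) w) =
      ∑ η ∈ Finset.univ.filter (· ∈ b), ∑ η' ∈ Finset.univ.filter (· ∈ b'),
        classInner (regFun p (secFun u (CQ (Subgroup.zpowers u)) χ)) (η : CQ (Subgroup.zpowers u) → ℂ) *
          conj (classInner (regFun p (secFun u (CQ (Subgroup.zpowers u)) ψ))
            (η' : CQ (Subgroup.zpowers u) → ℂ)) *
            ((η : CQ (Subgroup.zpowers u) → ℂ) w * (η' : CQ (Subgroup.zpowers u) → ℂ) w⁻¹) := by
    intro w hw
    have hw' := (Finset.mem_filter.mp hw).2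
    rw [blockPart_regular hM hbb (isClassFunction_secFun hC χ) hw',
      blockPart_regular hM hbb' (isClassFunction_secFun hC ψ) hw', map_sum, Finset.sum_mul_sum]
    refine Finset.sum_congr rfl fun η _ => Finset.sum_congr rfl fun η' _ => ?_
    rw [map_mul, Char.irr_inv]
    ring
  rw [Finset.sum_congr rfl hterm, Finset.sum_comm]
  refine Finset.sum_eq_zero fun η hη => ?_
  rw [Finset.sum_comm]
  refine Finset.sum_eq_zero fun η' hη' => ?_
  rw [← Finset.mul_sum, ← card_mul_regInner,
    regInner_eq_zero_of_not_mem hM (.of_isPBlock hbb) (Finset.mem_filter.mp hη).2 (fun h => hne'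
      (isPBlock_eq_of_mem hbb' hbb (Finset.mem_filter.mp hη').2 h)), mul_zero, mul_zero]

variable [Fintype (IrrCharacter G)]

open scoped Classical in
/-- The inner product of two expansions, by subsections. -/
theorem classInner_starFun (hM : IsPModular p M) (w w' : G → BrauerPairIdx G → ℂ)
    (χ ψ : IrrCharacter G) :
    classInner (starFun hM w χ) (starFun hM w' ψ) = (Nat.card G : ℂ)⁻¹ *
      ∑ u ∈ Finset.univ.filter (fun u : G => ∃ k : ℕ, orderOf u = p ^ k),
        ∑ a ∈ pairsAt M u, w u a * conj (w' u a) * secSum p χ ψ u a := by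
  rw [classInner, sum_by_pPart hM]
  congr 1
  refine Finset.sum_congr rfl fun u hu => ?_
  rw [Finset.sum_congr rfl fun s hs => by
    rw [starFun_apply hM w χ (Finset.mem_filter.mp hu).2 hs,
      starFun_apply hM w' ψ (Finset.mem_filter.mp hu).2 hs, map_sum, Finset.sum_mul_sum],
    Finset.sum_comm]
  refine Finset.sum_congr rfl fun a ha => ?_
  rw [Finset.sum_comm, Finset.sum_eq_single a (fun a' ha' hne => ?_) (fun h => absurd ha h),
    secSum_eq_sum_regC (mem_pairsAt.mp ha).1, Finset.mul_sum]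
  · refine Finset.sum_congr rfl fun s _ => ?_
    rw [map_mul]
    ring
  · rw [Finset.sum_congr rfl (g := fun s => w u a * conj (w' u a') *
      (secPart χ u a s * conj (secPart ψ u a' s))) fun s _ => by rw [map_mul]; ring, ← Finset.mul_sum,
      sum_secPart_mul_conj_of_ne hM ha ha' (Ne.symm hne), mul_zero]

/-- Weights of absolute value one. -/
theorem classInner_starFun_self (hM : IsPModular p M)
    (h1 : ∀ (u : G) (a : BrauerPairIdx G), w u a * conj (w u a) = 1) (χ : IrrCharacter G) :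
    classInner (starFun hM w χ) (starFun hM w χ) = 1 := by
  classical
  rw [classInner_starFun, ← Char.classInner_irr_self χ, ← starFun_one hM χ, classInner_starFun]
  congr 1
  exact Finset.sum_congr rfl fun u _ => Finset.sum_congr rfl fun a _ => by simp [h1]

/-- The contributions between two blocks vanish. -/
theorem secSum_eq_zero_of_not_mem (hM : IsPModular p M) {B : Set (IrrCharacter G)} {χ θ : IrrCharacter G}
    (hB : IsPBlock M B) (hχ : χ ∈ B) (hθ : θ ∉ B) {u : G} (hu : ∃ k : ℕ, orderOf u = p ^ k)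
    {a : BrauerPairIdx G} (ha : a ∈ pairsAt M u) : secSum p χ θ u a = 0 := by
  classical
  obtain ⟨h1, hb⟩ := mem_pairsAt.mp ha
  obtain ⟨b, rfl⟩ := exists_eq_pairMk h1
  dsimp only at hb
  have := Fintype.ofFinite (IrrCharacter (CQ (Subgroup.zpowers u)))
  have hC : ∀ t : G, t ∈ CQ (Subgroup.zpowers u) ↔ Commute t u := fun t => mem_cq_zpowers_iff
  have hC' : ∀ t : CQ (Subgroup.zpowers u), Commute (t : G) u := fun t => (hC t).mp t.2
  obtain ⟨B', hB'⟩ := exists_induced_centralizer hM hu hC hb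
  rw [secSum]
  refine Finset.sum_eq_zero fun s hs => ?_
  obtain ⟨-, hs1, hs2⟩ := Finset.mem_filter.mp hs
  have key : ∀ φ : IrrCharacter G, φ ∉ B' → secPart φ u ⟨_, b⟩ s = 0 := fun φ hφ => by
    rw [show s = ((⟨s, hs1⟩ : CQ (Subgroup.zpowers u)) : G) from rfl, secPart_eq_blockPart b hC']
    exact blockPart_secFun_eq_zero hM hu hC hB' hφ (by rwa [← Subgroup.orderOf_coe])
  by_cases hθ' : θ ∈ B'
  · rw [key χ fun h => hθ (isPBlock_eq_of_mem hB hB'.2.1 hχ h ▸ hθ'), zero_mul]
  · rw [key θ hθ', map_zero, mul_zero]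

/-! ### Generalized characters -/

/-- A weighted expansion is a generalized character. -/
theorem isGeneralized_starFun (hM : IsPModular p M) (hw : IsWeight p M w) (χ : IrrCharacter G) :
    IsGeneralizedCharacter G (starFun hM w χ) := by
  classical
  have hp : Fact p.Prime := ⟨hM.1⟩
  refine Char.isGeneralizedCharacter_of_elementary (isClassFunction_starFun hM hw χ)
    fun E q hq hE => ?_
  have := Fintype.ofFinite E
  have := Fintype.ofFinite (IrrCharacter E)
  have := Char.isNilpotent_of_isElementary hq hE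
  have hfE : IsClassFunction E (fun e : E => starFun hM w χ (e : G)) := fun a b => by
    simp only [Subgroup.coe_mul, InvMemClass.coe_inv]
    exact isClassFunction_starFun hM hw χ _ _
  obtain ⟨R, Pp, hR, hcard, ⟨j, hj⟩, hRp, hcomm⟩ := Char.exists_pparts_elementary (p := p) hq hE
  refine Char.isGeneralizedCharacter_of_int_inner hfE fun ψ => ?_
  obtain ⟨U, lam, hU⟩ := Char.nilpotent_monomial E (ψ : E → ℂ) ψ.2
  have := Fintype.ofFinite U
  rw [hU, Char.classInner_indFun_right _ _ _ hfE]
  -- every `p`-element lies in the `p`-part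
  have hPmem : ∀ x : E, (∃ i : ℕ, orderOf x = p ^ i) → x ∈ Pp := by
    rintro x ⟨i, hi⟩
    let F : R × Pp → E := fun t => (t.1 : E) * t.2
    have hinj : Function.Injective F := by
      rintro ⟨r, v⟩ ⟨r', v'⟩ (h : (r : E) * v = r' * v')
      have h1 : (r' : E)⁻¹ * r = v' * (v : E)⁻¹ := by
        rw [eq_mul_inv_iff_mul_eq, mul_assoc, h, inv_mul_cancel_left]
      have h2 : (r' : E)⁻¹ * r = 1 := by
        have hr : (r' : E)⁻¹ * r ∈ R := R.mul_mem (R.inv_mem r'.2) r.2
        have hv : (r' : E)⁻¹ * r ∈ Pp := h1 ▸ Pp.mul_mem v'.2 (Pp.inv_mem v.2)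
        refine orderOf_eq_one_iff.mp (Nat.eq_one_of_dvd_coprimes ?_
          (Subgroup.orderOf_mk _ hv ▸ hj ▸ orderOf_dvd_natCard (⟨_, hv⟩ : Pp)) dvd_rfl)
        exact ((hp.out.coprime_iff_not_dvd.mpr ((hR _).mp hr)).pow_left j)
      have e1 : r = r' := Subtype.ext (inv_mul_eq_one.mp h2).symm
      subst e1
      exact Prod.ext rfl (Subtype.ext (mul_left_cancel h))
    obtain ⟨⟨r, v⟩, hrv⟩ := ((Nat.bijective_iff_injective_and_card F).mpr
      ⟨hinj, by rw [Nat.card_prod, hcard]⟩).2 x
    have hrv' : (r : E) * v = x := hrv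
    have hv1 : (v : E) ^ p ^ j = 1 := by rw [← hj]; exact congrArg Subtype.val (pow_card_eq_one' (x := v))
    have hr1 : (r : E) ^ p ^ (i + j) = 1 := by
      have h1 : x ^ p ^ (i + j) = 1 := by rw [pow_add, pow_mul, ← hi, pow_orderOf_eq_one, one_pow]
      rw [← hrv', (Commute.mul_pow (hcomm r r.2 v v.2).symm), pow_add, mul_comm (p ^ i), pow_mul (v : E),
        hv1, one_pow, mul_one, mul_comm, ← pow_add] at h1
      exact h1
    have : (r : E) = 1 := orderOf_eq_one_iff.mp (Nat.eq_one_of_dvd_coprimes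
      ((hp.out.coprime_iff_not_dvd.mpr ((hR _).mp r.2)).pow_left (i + j))
      (orderOf_dvd_of_pow_eq_one hr1) dvd_rfl)
    rw [← hrv', this, one_mul]
    exact v.2
  let ι : U →* G := E.subtype.comp U.subtype
  have hι : Function.Injective ι := E.subtype_injective.comp U.subtype_injective
  set RU : Subgroup U := R.comap U.subtype with hRU
  set QU : Subgroup U := Pp.comap U.subtype with hQU
  have := Fintype.ofFinite RU
  have := Fintype.ofFinite QU
  have hordι : ∀ u : U, orderOf (ι u) = orderOf u := fun u => orderOf_injective ι hι u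
  have hRU' : ∀ r : RU, ¬ p ∣ orderOf (ι (r : U)) := fun r => by
    rw [hordι, ← Subgroup.orderOf_coe]
    exact (hR _).mp r.2
  have hQU' : ∀ v : QU, ∃ i : ℕ, orderOf (ι (v : U)) = p ^ i := fun v => by
    obtain ⟨i, -, hi⟩ := (Nat.dvd_prime_pow hp.out).mp
      (show orderOf ((v : U) : E) ∣ p ^ j from
        Subgroup.orderOf_mk _ (show ((v : U) : E) ∈ Pp from v.2) ▸ hj ▸ orderOf_dvd_natCard _)
    exact ⟨i, by rw [hordι, ← Subgroup.orderOf_coe]; exact hi⟩
  have hcommU : ∀ (v : QU) (r : RU), Commute (ι (v : U)) (ι (r : U)) := fun v r =>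
    congrArg Subtype.val (hcomm _ r.2 _ v.2)
  let F : QU × RU → U := fun t => (t.1 : U) * t.2
  have hF : Function.Bijective F := by
    constructor
    · rintro ⟨v, r⟩ ⟨v', r'⟩ (h : (v : U) * r = v' * r')
      have key : ∀ (a : QU) (b : RU), IsPPart p (ι ((a : U) * b)) (ι (a : U)) := fun a b =>
        ⟨ι (b : U), (map_mul ι _ _).symm, hcommU a b, hQU' a, hRU' b⟩
      have h1 : v = v' := Subtype.ext (hι (isPPart_unique hp.out (key v r) (h ▸ key v' r')))
      subst h1
      exact Prod.ext rfl (Subtype.ext (mul_left_cancel h))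
    · intro x
      obtain ⟨a, b, hab, -, ha, hb⟩ := exists_isPPart (p := p) hp.out x
      refine ⟨(⟨a, hPmem _ (ha.imp fun i hi => by rw [Subgroup.coe_subtype, Subgroup.orderOf_coe, hi])⟩,
        ⟨b, (hR _).mpr (by rwa [Subgroup.coe_subtype, Subgroup.orderOf_coe])⟩), hab⟩
  -- the averaging idempotent
  have hnd : ¬ p ∣ Nat.card RU := fun h => hRp (h.trans
    (Subgroup.card_comap_dvd_of_injective R U.subtype U.subtype_injective))
  have hmem : ∀ r : RU, conj ((lam (r : U) : ℂˣ) : ℂ) ∈ locRing M := fun r =>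
    integral_mem M (Char.isIntegral_of_pow_eq_one (n := Nat.card RU) Nat.card_pos.ne' (by
      rw [← map_pow, ← Units.val_pow_eq_pow_val, ← map_pow,
        show (r : U) ^ Nat.card RU = 1 from congrArg Subtype.val (pow_card_eq_one' (x := r)), map_one,
        Units.val_one, map_one]))
  set kk : RU → locRing M := fun r => invNat hM hnd * ⟨_, hmem r⟩ with hkk
  set c0 : MonoidAlgebra (locRing M) G := ∑ r : RU, single (ι (r : U)) (kk r) with hc0
  have hc0s : ∀ r : RU, single (ι (r : U)) (⟨_, hmem r⟩ : locRing M) * c0 = c0 := by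
    intro r
    rw [hc0, Finset.mul_sum]
    refine Fintype.sum_equiv (Equiv.mulLeft r) _ _ fun s => ?_
    rw [MonoidAlgebra.single_mul_single, Equiv.coe_mulLeft, Subgroup.coe_mul, map_mul]
    congr 1
    refine Subtype.ext ?_
    simp only [hkk, Subring.coe_mul, Subgroup.coe_mul, map_mul, Units.val_mul]
    ring
  have hcc : c0 * c0 = c0 := by
    conv_lhs => arg 1; rw [hc0]
    rw [Finset.sum_mul, Finset.sum_congr rfl (g := fun _ : RU => invNat hM hnd • c0) fun r _ => by
      rw [show single (ι (r : U)) (kk r) = invNat hM hnd • single (ι (r : U)) (⟨_, hmem r⟩ : locRing M) by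
        rw [MonoidAlgebra.smul_single, smul_eq_mul], smul_mul_assoc, hc0s r],
      Finset.sum_const, Finset.card_univ, ← Nat.card_eq_fintype_card, ← Nat.cast_smul_eq_nsmul (locRing M),
      smul_smul, mul_comm, invNat_mul hM hnd, one_smul]
  have hc0comm : ∀ x : G, (∀ r : RU, Commute x (ι (r : U))) → Commute (single x (1 : locRing M)) c0 := by
    intro x hx
    refine Commute.sum_right _ _ _ fun r _ => ?_
    rw [commute_iff_eq, MonoidAlgebra.single_mul_single, MonoidAlgebra.single_mul_single, (hx r).eq,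
      one_mul, mul_one]
  set z : MonoidAlgebra (ResField M) G := toK M c0 with hz
  set Qg : Subgroup G := QU.map ι with hQg
  have hQgp : IsPGroup p Qg := by
    refine IsPGroup.map ?_ ι
    exact IsPGroup.comap_of_injective (IsPGroup.of_card (n := j) hj) U.subtype U.subtype_injective
  have hzz : z * z = z := by rw [hz, ← map_mul, hcc]
  have hzQ : CInv Qg z := by
    refine cinv_of_commute ?_
    rintro _ ⟨v, hv, rfl⟩
    have h := (hc0comm (ι v) fun r => hcommU ⟨v, hv⟩ r).map (toK M)
    rwa [show toK M (single (ι v) (1 : locRing M)) = single (ι v) (1 : ResField M) from ga_ext fun y => by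
      rw [coeff_toK, MonoidAlgebra.coeff_single, MonoidAlgebra.coeff_single, Finsupp.single_apply,
        Finsupp.single_apply]
      split_ifs <;> simp] at h
  have hval : ∀ v : QU, locVal w χ (ι (v : U)) z =
      ∑ r : RU, (kk r : ℂ) * starFun hM w χ (ι (v : U) * ι (r : U)) := by
    intro v
    set x := ι (v : U) with hx
    have hxu := hQU' v
    have hrC : ∀ r : RU, ι (r : U) ∈ CQ (Subgroup.zpowers x) := fun r =>
      mem_cq_zpowers_iff.mpr (hcommU v r).symm
    rw [Finset.sum_congr rfl fun r _ => by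
      rw [starFun_apply hM w χ hxu (mem_regC.mpr ⟨hrC r, hRU' r⟩), Finset.mul_sum], Finset.sum_comm,
      locVal]
    refine Finset.sum_congr rfl fun a ha => ?_
    rw [Finset.sum_congr rfl (g := fun r : RU => w x a * ((kk r : ℂ) * secPart χ x a (ι (r : U))))
      fun r _ => by ring, ← Finset.mul_sum]
    congr 1
    obtain ⟨h1, hb⟩ := mem_pairsAt.mp ha
    obtain ⟨b, rfl⟩ := exists_eq_pairMk h1
    dsimp only at hb ⊢
    have hbS := IsBlockUnion.of_isPBlock (M := M) hb
    set eb : MonoidAlgebra (locRing M) G :=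
      emb (blockIdem M b : MonoidAlgebra (locRing M) (CQ (Subgroup.zpowers x))) with heb
    have hebK : toK M eb = eG M b := ga_ext fun g => by
      rw [coeff_toK, heb]
      by_cases hg : g ∈ CQ (Subgroup.zpowers x)
      · rw [show g = ((⟨g, hg⟩ : CQ (Subgroup.zpowers x)) : G) from rfl, coeff_emb_coe, coeff_eG]
        rfl
      · rw [suppIn_emb _ g hg, suppIn_eG b g hg, map_zero]
    have hebsupp : SuppIn (CQ (Subgroup.zpowers x)) eb := suppIn_emb _
    have hzsupp : SuppIn (CQ (Subgroup.zpowers x)) z := by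
      intro g hg
      rw [hz, coeff_toK, hc0, coeff_sum_apply, Finset.sum_eq_zero fun r _ => ?_, map_zero]
      rw [MonoidAlgebra.coeff_single, Finsupp.single_apply, if_neg fun e => hg (by rw [← e]; exact hrC r)]
    have hc0eb : Commute eb c0 := by
      rw [hc0]
      refine Commute.sum_right _ _ _ fun r _ => ?_
      rw [show single (ι (r : U)) (kk r) = kk r • single (ι (r : U)) (1 : locRing M) by
        rw [MonoidAlgebra.smul_single, smul_eq_mul, mul_one]]
      refine Commute.smul_right ?_ _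
      exact (commute_single_emb (mem_center_iff_isClassElt.mp (blockIdem M b).2) ⟨_, hrC r⟩).symm
    have hee : eb * eb = eb := by
      rw [heb, ← emb_mul, show (blockIdem M b : MonoidAlgebra (locRing M) (CQ (Subgroup.zpowers x))) *
        (blockIdem M b : MonoidAlgebra (locRing M) (CQ (Subgroup.zpowers x))) = _ from
          congrArg Subtype.val (blockIdem_mul_self hM hbS)]
    have hcx : Commute (single x (1 : locRing M)) (c0 * eb) :=
      (hc0comm x fun r => hcommU v r).mul_right
        (commute_single_emb (mem_center_iff_isClassElt.mp (blockIdem M b).2)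
          ⟨x, mem_cq_zpowers_iff.mpr (Commute.refl x)⟩)
    have hidem : c0 * eb * (c0 * eb) = c0 * eb := by rw [hc0eb.mul_mul_mul_comm, hcc, hee]
    rw [trC_eq_self hzsupp, hz, ← hebK, ← map_mul, liftVal_eq hM hxu hidem hcx, sval]
    simp only [hc0, Finset.sum_mul, coeff_sum_apply, coeff_single_mul', AddSubmonoidClass.coe_finsetSum,
      Subring.coe_mul]
    rw [Finset.sum_comm]
    refine Finset.sum_congr rfl fun r _ => ?_
    rw [secPart, Finset.mul_sum]
    refine Fintype.sum_equiv (Equiv.mulLeft (ι (r : U))⁻¹) _ _ fun t => ?_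
    simp only [Equiv.coe_mulLeft]
    rw [heb]
    by_cases ht : (ι (r : U))⁻¹ * t ∈ CQ (Subgroup.zpowers x)
    · obtain ⟨c, hc⟩ : ∃ c : CQ (Subgroup.zpowers x), (c : G) = (ι (r : U))⁻¹ * t := ⟨⟨_, ht⟩, rfl⟩
      rw [← hc, coeff_emb_coe, coe_coeff_blockIdem hM hbS, subgroupBlockCoeff_coe, mul_assoc]
      congr 2
      have hxr : Commute x (ι (r : U)) := hcommU v r
      have ht' : t = ι (r : U) * (c : G) := by rw [hc, mul_inv_cancel_left]
      rw [ht', ← Char.isClassFunction_irr χ (x * ((c : G) * ι (r : U))) (ι (r : U))]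
      congr 1
      rw [← mul_assoc (ι (r : U)) x, ← hxr.eq]
      simp only [hx]
      group
    · rw [suppIn_emb _ _ ht, subgroupBlockCoeff_of_notMem _ ht]
      simp
  -- integrality
  obtain ⟨m, hm⟩ := Char.classInner_generalized_int
    (Char.isGeneralizedCharacter_comp (isGeneralized_locVal hM hw χ Qg hQgp z hzz hzQ)
      (ι.subgroupMap QU))
    (Char.isGeneralizedCharacter_of_isCharacter (Char.isCharacter_hom (lam.comp QU.subtype)))
  refine ⟨m, ?_⟩
  rw [← hm]
  simp only [classInner]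
  have hcardU : (Nat.card U : ℂ) = Nat.card QU * Nat.card RU := by
    rw [← Nat.cast_mul, ← Nat.card_prod, Nat.card_congr (Equiv.ofBijective F hF)]
  rw [hcardU, mul_inv, mul_assoc]
  congr 1
  rw [← Fintype.sum_bijective F hF (fun t => starFun hM w χ (((F t : U) : E) : G) *
    conj ((lam (F t) : ℂˣ) : ℂ)) _ (fun t => rfl), Fintype.sum_prod_type, Finset.mul_sum]
  refine Finset.sum_congr rfl fun v _ => ?_
  show _ = locVal w χ (ι (v : U)) z * conj ((lam (v : U) : ℂˣ) : ℂ)
  rw [hval v, Finset.sum_mul, Finset.mul_sum]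
  refine Finset.sum_congr rfl fun r _ => ?_
  simp only [F, hkk, Subring.coe_mul, invNat, map_mul, Units.val_mul, Subgroup.coe_mul]
  show _ = _ * starFun hM w χ (((v : U) : E) * ((r : U) : E) : G) * _
  ring

end CfsgLib.Block
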