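import Cfsg.Agent.Lib.Block.Transport
import Cfsg.Agent.Lib.Block.SecondMain

/-!
# Elements of the group algebra seen from subgroups

`omG ξ y` : the reduced central character of a subgroup applied to the part of `y` in the subgroup,
`trC R` : truncation to the centralizer of `R`, `eG f` : the reduced idempotent of a block of a
subgroup inside the group algebra of the group, `cj n` : conjugation, `conjSet`.
-/

open Finset MonoidAlgebra
open scoped ComplexConjugate

set_option linter.unusedSectionVars false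

namespace CfsgLib.Block

open Cfsg

universe u

variable {p : ℕ} {M : Ideal AlgInt} [M.IsMaximal] {G : Type u} [Group G] [Fintype G] [DecidableEq G]

/-- Invariance of the coefficients under conjugation by a subgroup. -/
def CInv {R : Type*} [CommRing R] (K : Subgroup G) (y : MonoidAlgebra R G) : Prop :=
  ∀ s ∈ K, ∀ g, y.coeff (s * g * s⁻¹) = y.coeff g

theorem CInv.commute {R : Type*} [CommRing R] {K : Subgroup G} {y : MonoidAlgebra R G}
    (hy : CInv K y) {s : G} (hs : s ∈ K) : Commute (single s 1) y :=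
  (commute_single_iff y s).mpr (hy s hs)

theorem cinv_of_commute {R : Type*} [CommRing R] {K : Subgroup G} {y : MonoidAlgebra R G}
    (hy : ∀ s ∈ K, Commute (single s 1) y) : CInv K y :=
  fun s hs => (commute_single_iff y s).mp (hy s hs)

theorem CInv.mul {R : Type*} [CommRing R] {K : Subgroup G} {a b : MonoidAlgebra R G}
    (ha : CInv K a) (hb : CInv K b) : CInv K (a * b) :=
  cinv_of_commute fun _ hs => (ha.commute hs).mul_right (hb.commute hs)

theorem CInv.mono {R : Type*} [CommRing R] {K K' : Subgroup G} {y : MonoidAlgebra R G}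
    (hy : CInv K y) (h : K' ≤ K) : CInv K' y := fun s hs => hy s (h hs)

theorem cinv_of_central (z : ZK M G) (K : Subgroup G) :
    CInv K (z : MonoidAlgebra (ResField M) G) :=
  fun s _ g => mem_center_iff_isClassElt.mp z.2 g s

variable {K : Subgroup G}

theorem cinv_one {R : Type*} [CommRing R] : CInv K (1 : MonoidAlgebra R G) :=
  cinv_of_commute fun _ _ => Commute.one_right _

theorem suppIn_one {R : Type*} [CommRing R] : SuppIn K (1 : MonoidAlgebra R G) := by
  rw [MonoidAlgebra.one_def]
  exact suppIn_single K.one_mem 1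

section cen

variable [Fintype K]

theorem isClassElt_resTo {R : Type*} [CommRing R] {y : MonoidAlgebra R G} (hy : CInv K y) :
    IsClassElt (resTo K y) := fun g h => by
  simpa using hy (h : G) h.2 (g : G)

variable (M) in
/-- An invariant element restricted to the subgroup, in the centre. -/
noncomputable def cenOf (y : MonoidAlgebra (ResField M) G) (hy : CInv K y) : ZK M K :=
  ⟨resTo K y, mem_center_iff_isClassElt.mpr (isClassElt_resTo hy)⟩

theorem coeff_cenOf (y : MonoidAlgebra (ResField M) G) (hy : CInv K y) (k : K) :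
    (cenOf M y hy : MonoidAlgebra (ResField M) K).coeff k = y.coeff (k : G) := rfl

variable [Fintype (ConjClasses K)]

variable (M) in
/-- The reduced central character of a subgroup on the part of an element in the subgroup. -/
noncomputable def omG (ξ : IrrCharacter K) (y : MonoidAlgebra (ResField M) G) : ResField M :=
  ∑ C : ConjClasses K, y.coeff ((rep C : K) : G) * centralRes M ξ (rep C)

theorem omG_eq (ξ : IrrCharacter K) (y : MonoidAlgebra (ResField M) G) (z : ZK M K)
    (h : ∀ k : K, (z : MonoidAlgebra (ResField M) K).coeff k = y.coeff (k : G)) :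
    omG M ξ y = omegaBar M ξ z := by
  classical
  rw [zk_eq_sum z, map_sum, omG]
  exact Finset.sum_congr rfl fun C _ => by rw [omegaBar_smul, omegaBar_classBar, h]

theorem omG_cenOf (ξ : IrrCharacter K) (y : MonoidAlgebra (ResField M) G) (hy : CInv K y) :
    omegaBar M ξ (cenOf M y hy) = omG M ξ y :=
  (omG_eq ξ y _ fun _ => rfl).symm

theorem omG_congr (ξ : IrrCharacter K) {y y' : MonoidAlgebra (ResField M) G}
    (h : ∀ g ∈ K, y.coeff g = y'.coeff g) : omG M ξ y = omG M ξ y' :=
  Finset.sum_congr rfl fun C _ => by rw [h _ (rep C).2]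

theorem omG_add (ξ : IrrCharacter K) (y y' : MonoidAlgebra (ResField M) G) :
    omG M ξ (y + y') = omG M ξ y + omG M ξ y' := by
  simp only [omG, MonoidAlgebra.coeff_add, Finsupp.add_apply, add_mul, Finset.sum_add_distrib]

theorem omG_zero (ξ : IrrCharacter K) : omG M ξ (0 : MonoidAlgebra (ResField M) G) = 0 := by
  simp [omG]

theorem omG_sum {ι : Type*} (s : Finset ι) (ξ : IrrCharacter K)
    (y : ι → MonoidAlgebra (ResField M) G) : omG M ξ (∑ i ∈ s, y i) = ∑ i ∈ s, omG M ξ (y i) := by
  simp only [omG, coeff_sum_apply, Finset.sum_mul]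
  exact Finset.sum_comm

theorem omG_smul (ξ : IrrCharacter K) (c : ResField M) (y : MonoidAlgebra (ResField M) G) :
    omG M ξ (c • y) = c * omG M ξ y := by
  simp only [omG, MonoidAlgebra.coeff_smul, Finsupp.smul_apply, smul_eq_mul, Finset.mul_sum, mul_assoc]

theorem omG_sub (ξ : IrrCharacter K) (y y' : MonoidAlgebra (ResField M) G) :
    omG M ξ (y - y') = omG M ξ y - omG M ξ y' := by
  simp only [omG, MonoidAlgebra.coeff_sub, Finsupp.sub_apply, sub_mul, Finset.sum_sub_distrib]

theorem omG_emb (ξ : IrrCharacter K) (z : ZK M K) :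
    omG M ξ (emb (z : MonoidAlgebra (ResField M) K) : MonoidAlgebra (ResField M) G) = omegaBar M ξ z :=
  omG_eq ξ _ z fun k => (coeff_emb_coe _ k).symm

theorem omG_one (ξ : IrrCharacter K) : omG M ξ (1 : MonoidAlgebra (ResField M) G) = 1 := by
  rw [omG_eq ξ _ 1 fun k => ?_, map_one]
  simp only [OneMemClass.coe_one, MonoidAlgebra.one_def, MonoidAlgebra.coeff_single]
  simp only [Finsupp.single_apply]
  by_cases hk : (1 : K) = k
  · subst hk; simp
  · have : ¬ (1 : G) = (k : G) := fun e => hk (Subtype.ext e)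
    simp [hk, this]

theorem eq_emb_of_suppIn {R : Type*} [CommRing R] {y : MonoidAlgebra R G} (hy : SuppIn K y) :
    y = emb (resTo K y) := by
  refine ga_ext fun g => ?_
  by_cases hg : g ∈ K
  · exact (coeff_emb_coe (resTo K y) ⟨g, hg⟩).symm
  · rw [hy g hg, suppIn_emb _ g hg]

theorem omG_mul (ξ : IrrCharacter K) {a b : MonoidAlgebra (ResField M) G} (ha : SuppIn K a)
    (hb : SuppIn K b) (ha' : CInv K a) (hb' : CInv K b) :
    omG M ξ (a * b) = omG M ξ a * omG M ξ b := by
  rw [← omG_cenOf ξ a ha', ← omG_cenOf ξ b hb', ← map_mul]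
  refine omG_eq ξ _ _ fun k => ?_
  conv_rhs => rw [eq_emb_of_suppIn ha, eq_emb_of_suppIn hb, ← emb_mul, coeff_emb_coe]
  rfl

theorem omG_congr_block {f : Set (IrrCharacter K)} (hf : IsPBlock M f) {ξ ξ' : IrrCharacter K}
    (hξ : ξ ∈ f) (hξ' : ξ' ∈ f) (y : MonoidAlgebra (ResField M) G) : omG M ξ y = omG M ξ' y :=
  Finset.sum_congr rfl fun C _ => by rw [centralRes_eq_of_mem hf hξ hξ']

end cen

/-! ### Truncation to a centralizer -/

section trC

variable {R : Subgroup G}

/-- Truncation to the centralizer of `R`. -/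
noncomputable def trC {S : Type*} [CommRing S] (R : Subgroup G) (y : MonoidAlgebra S G) :
    MonoidAlgebra S G :=
  gaOfFun fun g => @ite _ (g ∈ Subgroup.centralizer (R : Set G)) (Classical.propDecidable _)
    (y.coeff g) 0

theorem coeff_trC {S : Type*} [CommRing S] (y : MonoidAlgebra S G) {g : G}
    (hg : g ∈ Subgroup.centralizer (R : Set G)) : (trC R y).coeff g = y.coeff g := by
  simp only [trC, coeff_gaOfFun, if_pos hg]

theorem suppIn_trC {S : Type*} [CommRing S] (y : MonoidAlgebra S G) :
    SuppIn (Subgroup.centralizer (R : Set G)) (trC R y) := fun g hg => by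
  simp only [trC, coeff_gaOfFun, if_neg hg]

theorem mem_centralizer_conj_iff {s g : G} (hs : s ∈ Subgroup.normalizer (R : Set G)) :
    s * g * s⁻¹ ∈ Subgroup.centralizer (R : Set G) ↔ g ∈ Subgroup.centralizer (R : Set G) := by
  have key : ∀ {a b : G}, a ∈ Subgroup.normalizer (R : Set G) →
      b ∈ Subgroup.centralizer (R : Set G) → a * b * a⁻¹ ∈ Subgroup.centralizer (R : Set G) := by
    intro a b ha hb
    rw [Subgroup.mem_centralizer_iff] at hb ⊢
    intro u hu
    have h1 := hb _ ((Subgroup.mem_normalizer_iff''.mp ha u).mp hu)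
    calc u * (a * b * a⁻¹) = a * ((a⁻¹ * u * a) * b) * a⁻¹ := by group
      _ = a * (b * (a⁻¹ * u * a)) * a⁻¹ := by rw [h1]
      _ = a * b * a⁻¹ * u := by group
  refine ⟨fun h => ?_, key hs⟩
  simpa [mul_assoc] using key (inv_mem hs) h

theorem CInv.trC {S : Type*} [CommRing S] {L : Subgroup G} {y : MonoidAlgebra S G}
    (hy : CInv L y) (hL : L ≤ Subgroup.normalizer (R : Set G)) : CInv L (trC R y) := by
  intro s hs g
  by_cases hg : g ∈ Subgroup.centralizer (R : Set G)
  · rw [coeff_trC _ hg, coeff_trC _ ((mem_centralizer_conj_iff (hL hs)).mpr hg), hy s hs]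
  · rw [suppIn_trC _ g hg, suppIn_trC _ _ (mt (mem_centralizer_conj_iff (hL hs)).mp hg)]

theorem trC_mul (hM : IsPModular p M) (hR : IsPGroup p R) {a b : MonoidAlgebra (ResField M) G}
    (ha : CInv R a) (hb : CInv R b) : trC R (a * b) = trC R a * trC R b := by
  classical
  have hpf : Fact p.Prime := ⟨hM.1⟩
  have := charP_resField hM
  refine ga_ext fun g => ?_
  by_cases hg : g ∈ Subgroup.centralizer (R : Set G)
  · rw [coeff_trC _ hg, coeff_mul_brauer (p := p) hR (fun u hu => ha u hu) (fun u hu => hb u hu) hg,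
      coeff_mul_sum, Finset.sum_filter]
    refine Finset.sum_congr rfl fun h _ => ?_
    by_cases hh : h ∈ Subgroup.centralizer (R : Set G)
    · rw [if_pos hh, coeff_trC _ hh,
        coeff_trC _ ((Subgroup.centralizer (R : Set G)).mul_mem (inv_mem hh) hg)]
    · rw [if_neg hh, suppIn_trC _ h hh, zero_mul]
  · rw [suppIn_trC _ g hg, (suppIn_trC a).mul (suppIn_trC b) g hg]

end trC

/-! ### Block idempotents of subgroups inside the group algebra -/

section eG

variable [Fintype K]

variable (M) in
/-- The reduced idempotent of a block of a subgroup, inside the group algebra of the group. -/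
noncomputable def eG (f : Set (IrrCharacter K)) : MonoidAlgebra (ResField M) G :=
  emb (blockBar M f : MonoidAlgebra (ResField M) K)

theorem suppIn_eG (f : Set (IrrCharacter K)) : SuppIn K (eG M f) := suppIn_emb _

theorem coeff_eG (f : Set (IrrCharacter K)) (k : K) :
    (eG M f).coeff (k : G) = coeffRes M f k := by
  rw [eG, coeff_emb_coe, coeff_blockBar]

theorem cinv_eG (f : Set (IrrCharacter K)) : CInv K (eG M f) :=
  cinv_of_commute fun s hs =>
    commute_single_emb (mem_center_iff_isClassElt.mp (blockBar M f).2) ⟨s, hs⟩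

theorem eG_mul_self (hM : IsPModular p M) {f : Set (IrrCharacter K)} (hf : IsPBlock M f) :
    eG M f * eG M f = eG M f := by
  rw [eG, ← emb_mul, ← MulMemClass.coe_mul, blockBar_mul_self hM (.of_isPBlock hf)]

variable [Fintype (ConjClasses K)]

theorem omG_eG (hM : IsPModular p M) {f : Set (IrrCharacter K)} (hf : IsPBlock M f)
    (ξ : IrrCharacter K) :
    omG M ξ (eG M f) = @ite _ (ξ ∈ f) (Classical.propDecidable _) 1 0 := by
  rw [eG, omG_emb, omegaBar_blockBar hM (.of_isPBlock hf)]

theorem eG_inj (hM : IsPModular p M) {f f' : Set (IrrCharacter K)} (hf : IsPBlock M f)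
    (hf' : IsPBlock M f') (h : eG M f = eG M f') : f = f' := by
  classical
  obtain ⟨ξ, hξ⟩ := isPBlock_nonempty hf
  have h1 := omG_eG hM hf' ξ
  rw [← h, omG_eG hM hf ξ, if_pos hξ] at h1
  split_ifs at h1 with hξ'
  · exact isPBlock_eq_of_mem hf hf' hξ hξ'
  · exact absurd h1 one_ne_zero

theorem eG_mul_eq_zero (hM : IsPModular p M) {f f' : Set (IrrCharacter K)} (hf : IsPBlock M f)
    (hf' : IsPBlock M f') (hne : f ≠ f') : eG M f * eG M f' = 0 := by
  classical
  have h : blockBar M f * blockBar M f' = 0 := by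
    refine eq_of_omegaBar_eq_of_idem hM ?_ (mul_zero 0) fun ξ => ?_
    · rw [mul_mul_mul_comm, blockBar_mul_self hM (.of_isPBlock hf),
        blockBar_mul_self hM (.of_isPBlock hf')]
    · rw [map_mul, map_zero, omegaBar_blockBar hM (.of_isPBlock hf),
        omegaBar_blockBar hM (.of_isPBlock hf')]
      split_ifs with h1 h2 <;> try simp
      exact hne (isPBlock_eq_of_mem hf hf' h1 h2)
  rw [eG, eG, ← emb_mul, ← MulMemClass.coe_mul, h]
  exact ga_ext fun g => by simp [emb]

end eG

/-! ### Conjugation -/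

/-- Conjugation of an element of the group algebra. -/
noncomputable def cj {S : Type*} [CommRing S] (n : G) (y : MonoidAlgebra S G) : MonoidAlgebra S G :=
  gaOfFun fun g => y.coeff (n⁻¹ * g * n)

@[simp] theorem coeff_cj {S : Type*} [CommRing S] (n : G) (y : MonoidAlgebra S G) (g : G) :
    (cj n y).coeff g = y.coeff (n⁻¹ * g * n) := rfl

theorem cj_cj {S : Type*} [CommRing S] (n m : G) (y : MonoidAlgebra S G) :
    cj n (cj m y) = cj (n * m) y := ga_ext fun g => by simp [mul_assoc]

theorem cj_one {S : Type*} [CommRing S] (y : MonoidAlgebra S G) : cj 1 y = y :=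
  ga_ext fun g => by simp

variable {K' : Subgroup G}

/-- The conjugate by `n` of a set of characters of `K`, as characters of `K'`. -/
def conjSet (n : G) (K K' : Subgroup G) (f : Set (IrrCharacter K)) : Set (IrrCharacter K') :=
  {ξ' | ∃ ξ ∈ f, ∀ (c : K) (c' : K'), (c' : G) = n * (c : G) * n⁻¹ →
    (ξ' : K' → ℂ) c' = (ξ : K → ℂ) c}

/-- Conjugation as an isomorphism of subgroups. -/
noncomputable def cjHom {n : G} (h : ∀ g, g ∈ K ↔ n * g * n⁻¹ ∈ K') : K ≃* K' where
  toFun c := ⟨n * c * n⁻¹, (h _).mp c.2⟩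
  invFun c := ⟨n⁻¹ * c * n, (h _).mpr (by simpa [mul_assoc] using c.2)⟩
  left_inv c := Subtype.ext (by simp [mul_assoc])
  right_inv c := Subtype.ext (by simp [mul_assoc])
  map_mul' a b := Subtype.ext (by simp [mul_assoc])

theorem conjSet_eq_image {n : G} (h : ∀ g, g ∈ K ↔ n * g * n⁻¹ ∈ K')
    (f : Set (IrrCharacter K)) : conjSet n K K' f = irrEquiv (cjHom h) '' f := by
  ext ξ'
  refine ⟨fun ⟨ξ, hξ, hc⟩ => ⟨ξ, hξ, Subtype.ext (funext fun c' => ?_)⟩, ?_⟩
  · rw [irrEquiv_apply]
    exact (hc _ c' (by simp [cjHom, mul_assoc])).symm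
  · rintro ⟨ξ, hξ, rfl⟩
    refine ⟨ξ, hξ, fun c c' hcc => ?_⟩
    rw [irrEquiv_apply, show c' = cjHom h c from Subtype.ext hcc, MulEquiv.symm_apply_apply]

variable [Fintype K] [Fintype K']

theorem isPBlock_conjSet {n : G} (h : ∀ g, g ∈ K ↔ n * g * n⁻¹ ∈ K')
    {f : Set (IrrCharacter K)} (hf : IsPBlock M f) : IsPBlock M (conjSet n K K' f) :=
  conjSet_eq_image h f ▸ isPBlock_image_irrEquiv _ hf

theorem eG_conjSet {n : G} (h : ∀ g, g ∈ K ↔ n * g * n⁻¹ ∈ K') (f : Set (IrrCharacter K)) :
    eG M (conjSet n K K' f) = cj n (eG M f) := by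
  refine ga_ext fun g => ?_
  rw [coeff_cj]
  by_cases hg : n⁻¹ * g * n ∈ K
  · obtain ⟨c, hc⟩ : ∃ c : K, (c : G) = n⁻¹ * g * n := ⟨⟨_, hg⟩, rfl⟩
    rw [← hc, coeff_eG, show g = ((cjHom h c : K') : G) by simp [cjHom, hc, mul_assoc], coeff_eG,
      conjSet_eq_image h, coeffRes_image_irrEquiv]
  · have hg' : g ∉ K' := fun h' => hg ((h _).mpr (by simpa [mul_assoc] using h'))
    rw [suppIn_eG _ g hg', suppIn_eG _ _ hg]

theorem omG_cj [Fintype (ConjClasses K)] [Fintype (ConjClasses K')] {n : G}
    (h : ∀ g, g ∈ K ↔ n * g * n⁻¹ ∈ K') (ξ : IrrCharacter K) {y : MonoidAlgebra (ResField M) G}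
    (hy : CInv K y) : omG M (irrEquiv (cjHom h) ξ) (cj n y) = omG M ξ y := by
  classical
  let F : ConjClasses K → ConjClasses K' :=
    fun C => ConjClasses.mk (cjHom h (rep C))
  have hF : Function.Bijective F := by
    constructor
    · intro C D e
      rw [← mk_rep C, ← mk_rep D, ConjClasses.mk_eq_mk_iff_isConj]
      have := ConjClasses.mk_eq_mk_iff_isConj.mp e
      simpa using (cjHom h).symm.toMonoidHom.map_isConj this
    · intro C'
      refine ⟨ConjClasses.mk ((cjHom h).symm (rep C')), ?_⟩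
      rw [← mk_rep C', ConjClasses.mk_eq_mk_iff_isConj]
      simpa [mk_rep] using (cjHom h).toMonoidHom.map_isConj (isConj_rep ((cjHom h).symm (rep C')))
  rw [omG, omG]
  refine (Fintype.sum_bijective F hF _ _ fun C => ?_).symm
  obtain ⟨v, hv⟩ := isConj_iff.mp (isConj_rep (cjHom h (rep C))).symm
  rw [← centralRes_irrEquiv (cjHom h) ξ (rep C)]
  congr 1
  · rw [coeff_cj]
    have hv' := congrArg (fun c => (((cjHom h).symm c : K) : G)) hv
    simp only [map_mul, map_inv, MulEquiv.symm_apply_apply, Subgroup.coe_mul, InvMemClass.coe_inv] at hv'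
    rw [show n⁻¹ * ((rep (F C) : K') : G) * n = (((cjHom h).symm (rep (F C)) : K) : G) from rfl,
      ← hv', hy _ ((cjHom h).symm v).2]
  · simp only [centralRes]
    refine congrArg (res M) (Subtype.ext ?_)
    simp only [F, ← hv]
    rw [centralChar, centralChar, Char.isClassFunction_irr,
      ← show (MulAut.conj v) (cjHom h (rep C)) = v * cjHom h (rep C) * v⁻¹ from rfl,
      ← centralizer_map_singleton (MulAut.conj v),
      show (Subgroup.map (MulAut.conj v).toMonoidHom (Subgroup.centralizer ({cjHom h (rep C)} : Set K'))).index = _ from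
        Subgroup.index_map_equiv _ (MulAut.conj v)]

end CfsgLib.Block
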