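import Cfsg.Agent.Lib.Block.SylowNormalCyclic
import Cfsg.Agent.Lib.Block.GroupAlg
import Cfsg.Agent.Lib.Block.SubAlg
import Mathlib.GroupTheory.Nilpotent

/-!
# A `p`-group acting on a group with a normal Sylow `p`-subgroup

The correspondence of the fixed characters, by induction along a maximal subgroup of the acting group.
-/

set_option autoImplicit false
set_option linter.unusedSectionVars false
set_option linter.style.haveILetI false

namespace CfsgLib.Block.SylowNormal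

open scoped ComplexConjugate
open Cfsg CfsgLib.Char CfsgLib.Block

universe u

variable {G : Type u} [Group G] [Finite G] {p : ℕ} [hp : Fact p.Prime]

/-- Invariance under a group of conjugations. -/
def PInv (P : Subgroup G) {H : Subgroup G} (χ : H → ℂ) : Prop :=
  ∀ a ∈ P, ∀ k k' : H, (k' : G) = a * k * a⁻¹ → χ k' = χ k

/-- The normalized inner product on a finite subgroup. -/
noncomputable def mult {K C : Subgroup G} (hCK : C ≤ K) (χ : IrrCharacter K) (ξ : IrrCharacter C) : ℕ :=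
  haveI := Fintype.ofFinite C
  (classInner_isCharacter (G := C)
    (isCharacter_comp (isCharacter_irr χ) (Subgroup.inclusion hCK)) (isCharacter_irr ξ)).choose

theorem mult_spec {K C : Subgroup G} [i : Fintype C] (hCK : C ≤ K) (χ : IrrCharacter K) (ξ : IrrCharacter C) :
    classInner (fun c : C => (χ : K → ℂ) ⟨c, hCK c.2⟩) (ξ : C → ℂ) = (mult hCK χ ξ : ℂ) := by
  obtain rfl : i = Fintype.ofFinite C := Subsingleton.elim _ _
  exact (@classInner_isCharacter C _ (Fintype.ofFinite C) _ _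
    (isCharacter_comp (isCharacter_irr χ) (Subgroup.inclusion hCK)) (isCharacter_irr ξ)).choose_spec

omit [Finite G] in
theorem mem_conj_iff {H : Subgroup G} {S : Subgroup G} (h : ∀ s ∈ S, ∀ g ∈ H, s * g * s⁻¹ ∈ H) (u : S)
    (g : G) : g ∈ H ↔ (u : G) * g * (u : G)⁻¹ ∈ H :=
  ⟨h u u.2 g, fun hg => by simpa [mul_assoc] using h (u : G)⁻¹ (inv_mem u.2) _ hg⟩

/-- Conjugation on the irreducible characters of a normalized subgroup. -/
@[reducible] noncomputable def conjAct {H : Subgroup G} (S : Subgroup G)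
    (h : ∀ s ∈ S, ∀ g ∈ H, s * g * s⁻¹ ∈ H) : MulAction S (IrrCharacter H) where
  smul s θ := irrEquiv (cjHom (mem_conj_iff h s)) θ
  one_smul θ := Subtype.ext (funext fun g => by
    show (θ : H → ℂ) _ = _
    exact congrArg _ (Subtype.ext (by simp [cjHom])))
  mul_smul s t θ := Subtype.ext (funext fun g => by
    show (θ : H → ℂ) _ = (θ : H → ℂ) _
    exact congrArg _ (Subtype.ext (by simp [cjHom, mul_assoc])))

theorem fixed_iff {H : Subgroup G} (S : Subgroup G) (h : ∀ s ∈ S, ∀ g ∈ H, s * g * s⁻¹ ∈ H)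
    (θ : IrrCharacter H) :
    letI := conjAct S h
    (∀ u : S, u • θ = θ) ↔ PInv S (θ : H → ℂ) := by
  letI := conjAct S h
  constructor
  · intro hfix s hs k k' he
    conv_lhs => rw [← hfix ⟨s, hs⟩]
    show (θ : H → ℂ) _ = _
    exact congrArg _ (Subtype.ext (by simp [cjHom, he, mul_assoc]))
  · intro hinv u
    refine Subtype.ext (funext fun g => ?_)
    show (θ : H → ℂ) _ = _
    exact (hinv u u.2 _ g (by simp [cjHom, mul_assoc])).symm

/-- Only fixed characters count, mod `p`, in an invariant sum. -/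
theorem sum_inv {H : Subgroup G} [Fintype (IrrCharacter H)] (S : Subgroup G) (hS : IsPGroup p S)
    (h : ∀ s ∈ S, ∀ g ∈ H, s * g * s⁻¹ ∈ H) (f : IrrCharacter H → ZMod p)
    (hf : ∀ (θ θ' : IrrCharacter H) (s : G), s ∈ S →
      (∀ k k' : H, (k' : G) = s * k * s⁻¹ → (θ' : H → ℂ) k' = (θ : H → ℂ) k) → f θ' = f θ)
    [DecidablePred fun θ : IrrCharacter H => PInv S (θ : H → ℂ)] :
    ∑ θ, f θ = ∑ θ ∈ Finset.univ.filter (fun θ : IrrCharacter H => PInv S (θ : H → ℂ)), f θ := by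
  classical
  letI := conjAct S h
  rw [sum_eq_sum_fixedPoints hS f fun u θ => hf θ _ u u.2 fun k k' he => by
    show (θ : H → ℂ) _ = _
    exact congrArg _ (Subtype.ext (by simp [cjHom, he, mul_assoc]))]
  exact Finset.sum_congr (Finset.filter_congr fun θ _ => fixed_iff S h θ) fun _ _ => rfl

/-- The multiplicities are invariant under conjugation. -/
theorem mult_conj {K C : Subgroup G} (hCK : C ≤ K) {a : G} (hC : ∀ g, g ∈ C ↔ a * g * a⁻¹ ∈ C)
    (χ χ' : IrrCharacter K) (ξ ξ' : IrrCharacter C)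
    (hχ : ∀ k k' : K, (k' : G) = a * k * a⁻¹ → (χ' : K → ℂ) k' = (χ : K → ℂ) k)
    (hξ : ∀ k k' : C, (k' : G) = a * k * a⁻¹ → (ξ' : C → ℂ) k' = (ξ : C → ℂ) k) :
    mult hCK χ' ξ' = mult hCK χ ξ := by
  haveI := Fintype.ofFinite C
  have h := mult_spec hCK χ' ξ'
  rw [← classInner_equiv (cjHom hC), funext fun c => hξ c (cjHom hC c) rfl,
    funext fun c : C => hχ ⟨c, hCK c.2⟩ ⟨(cjHom hC c : C), hCK (cjHom hC c).2⟩ rfl, mult_spec hCK χ ξ] at h
  exact_mod_cast h.symm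

/-- The conjugate of a character by an element normalizing the subgroup. -/
theorem exists_conj {H : Subgroup G} {a : G} (hH : ∀ g, g ∈ H ↔ a * g * a⁻¹ ∈ H) (θ : IrrCharacter H) :
    ∃ θ' : IrrCharacter H, ∀ k k' : H, (k' : G) = a * k * a⁻¹ → (θ' : H → ℂ) k' = (θ : H → ℂ) k :=
  ⟨irrEquiv (cjHom hH) θ, fun k k' he => by
    rw [irrEquiv_apply, show k' = cjHom hH k from Subtype.ext he, MulEquiv.symm_apply_apply]⟩

/-- The correspondence. -/
def Corr (p : ℕ) (P K C : Subgroup G) (hCK : C ≤ K) : Prop :=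
  (∀ χ : IrrCharacter K, PInv P (χ : K → ℂ) → ∃ ξ : IrrCharacter C, PInv P (ξ : C → ℂ) ∧
    (mult hCK χ ξ : ZMod p) * mult hCK χ ξ = 1 ∧
    ∀ ξ' : IrrCharacter C, PInv P (ξ' : C → ℂ) → ξ' ≠ ξ → p ∣ mult hCK χ ξ') ∧
  (∀ (χ χ' : IrrCharacter K) (ξ : IrrCharacter C), PInv P (χ : K → ℂ) → PInv P (χ' : K → ℂ) →
    PInv P (ξ : C → ℂ) → ¬ p ∣ mult hCK χ ξ → ¬ p ∣ mult hCK χ' ξ → χ = χ') ∧
  (∀ ξ : IrrCharacter C, PInv P (ξ : C → ℂ) →
    ∃ χ : IrrCharacter K, PInv P (χ : K → ℂ) ∧ ¬ p ∣ mult hCK χ ξ)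

theorem not_dvd_of_mul_self {m : ℕ} (h : (m : ZMod p) * m = 1) : ¬ p ∣ m := fun hd => by
  rw [(CharP.cast_eq_zero_iff (ZMod p) p m).mpr hd, zero_mul] at h
  exact zero_ne_one h

/-- A Sylow subgroup that is normal is stable under every conjugation preserving the group. -/
theorem conj_mem_Q {K Q : Subgroup G} (hQK : Q ≤ K) (hQn : ∀ k ∈ K, ∀ q ∈ Q, k * q * k⁻¹ ∈ Q)
    (hQp : IsPGroup p Q) (hcop : ¬ p ∣ Q.relIndex K) {a : G} (ha : ∀ g ∈ K, a * g * a⁻¹ ∈ K) {q : G}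
    (hq : q ∈ Q) : a * q * a⁻¹ ∈ Q := by
  haveI : (Q.subgroupOf K).Normal := ⟨fun n hn g => hQn g g.2 n hn⟩
  obtain ⟨j, hj⟩ := hQp ⟨q, hq⟩
  have hj' : q ^ p ^ j = 1 := congrArg Subtype.val hj
  set y : K := ⟨a * q * a⁻¹, ha q (hQK hq)⟩ with hy
  have hy1 : y ^ p ^ j = 1 := Subtype.ext (by
    show (a * q * a⁻¹) ^ p ^ j = 1
    rw [conj_pow, hj', mul_one, mul_inv_cancel])
  have h1 : orderOf (y : K ⧸ Q.subgroupOf K) ∣ p ^ j :=
    orderOf_dvd_of_pow_eq_one (by rw [← QuotientGroup.mk_pow, hy1, QuotientGroup.mk_one])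
  have h2 : orderOf (y : K ⧸ Q.subgroupOf K) ∣ Q.relIndex K := by
    rw [Subgroup.relIndex, Subgroup.index_eq_card]
    exact orderOf_dvd_natCard _
  have h3 := Nat.eq_one_of_dvd_coprimes (((Nat.Prime.coprime_iff_not_dvd hp.out).mpr hcop).pow_left j) h1 h2
  rw [orderOf_eq_one_iff, QuotientGroup.eq_one_iff] at h3
  exact h3

/-- The cyclic step inside `G`. -/
theorem corr_cyclic {K Q C : Subgroup G} {x : G} (hxK : ∀ g ∈ K, x * g * x⁻¹ ∈ K) (hQK : Q ≤ K)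
    (hQn : ∀ k ∈ K, ∀ q ∈ Q, k * q * k⁻¹ ∈ Q) (hQp : IsPGroup p Q) (hcop : ¬ p ∣ Q.relIndex K)
    (hx : ∃ b : ℕ, x ^ p ^ b = 1) (hC : ∀ k : G, k ∈ C ↔ k ∈ K ∧ x * k * x⁻¹ * k⁻¹ ∈ Q) (hCK : C ≤ K) :
    Corr p (Subgroup.zpowers x) K C hCK := by
  classical
  obtain ⟨M, hM⟩ := exists_pModular hp.out
  haveI := hM.2.1
  set Γ : Subgroup G := K ⊔ Subgroup.zpowers x with hΓ
  haveI := Fintype.ofFinite Γ
  have hKΓ : K ≤ Γ := le_sup_left
  have hCΓ : C ≤ Γ := hCK.trans hKΓ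
  have hxΓ : x ∈ Γ := Subgroup.mem_sup_right (Subgroup.mem_zpowers x)
  set x' : Γ := ⟨x, hxΓ⟩ with hx'
  set K' := K.subgroupOf Γ with hK'
  set Q' := Q.subgroupOf Γ with hQ'
  set C' := C.subgroupOf Γ with hC'
  obtain ⟨b, hb⟩ := hx
  have hfin : ∀ g ∈ K, x⁻¹ * g * x ∈ K := by
    intro g hg
    have hpow : ∀ n : ℕ, x ^ n * g * (x ^ n)⁻¹ ∈ K := by
      intro n
      induction n with
      | zero => simpa using hg
      | succ n ih =>
        rw [show x ^ (n + 1) * g * (x ^ (n + 1))⁻¹ = x * (x ^ n * g * (x ^ n)⁻¹) * x⁻¹ by rw [pow_succ']; group]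
        exact hxK _ ih
    have e : x⁻¹ = x ^ (p ^ b - 1) := inv_eq_of_mul_eq_one_right (by
      rw [← pow_succ', Nat.sub_add_cancel (Nat.one_le_pow _ _ hp.out.pos), hb])
    have := hpow (p ^ b - 1)
    rwa [← e, inv_inv] at this
  have hxnorm : x ∈ Subgroup.normalizer (K : Set G) := Subgroup.mem_normalizer_iff.mpr fun g =>
    ⟨hxK g, fun h => by simpa [mul_assoc] using hfin _ h⟩
  haveI hK'n : K'.Normal := (Subgroup.normal_subgroupOf_iff_le_normalizer hKΓ).mpr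
    (sup_le Subgroup.le_normalizer (Subgroup.zpowers_le.mpr hxnorm))
  haveI hQ'n : Q'.Normal := by
    refine ⟨fun n hn g => ?_⟩
    have hg : (g : G) ∈ ((K ⊔ Subgroup.zpowers x : Subgroup G) : Set G) := g.2
    have hgn : ∀ q ∈ Q, (g : G) * q * (g : G)⁻¹ ∈ Q := fun q hq =>
      conj_mem_Q hQK hQn hQp hcop (fun k hk => (Subgroup.mem_normalizer_iff.mp
        ((sup_le Subgroup.le_normalizer (Subgroup.zpowers_le.mpr hxnorm)) g.2) k).mp hk) hq
    exact hgn _ hn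
  haveI := Fintype.ofFinite K'
  haveI := Fintype.ofFinite C'
  haveI := Fintype.ofFinite C
  let eK : K' ≃* K := Subgroup.subgroupOfEquivOfLe hKΓ
  let eC : C' ≃* C := Subgroup.subgroupOfEquivOfLe hCΓ
  have S : Setting p K' Q' C' x' :=
    { gen := by
        refine Subgroup.map_injective Γ.subtype_injective ?_
        rw [Subgroup.map_sup, MonoidHom.map_zpowers, Subgroup.map_subgroupOf_eq_of_le hKΓ,
          ← MonoidHom.range_eq_map, Subgroup.range_subtype]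
        rfl
      le := fun g hg => hQK hg
      coprime := by
        rw [Subgroup.relIndex_subgroupOf hKΓ]
        exact hcop
      ppow := ⟨b, Subtype.ext hb⟩
      memC := fun k => hC k }
  let uK : IrrCharacter K ≃ IrrCharacter K' := irrEquiv eK.symm
  let uC : IrrCharacter C ≃ IrrCharacter C' := irrEquiv eC.symm
  have hm : ∀ χ ξ, classInner (fun c : C' => (uK χ : K' → ℂ) ⟨c, C_le S c.2⟩) (uC ξ : C' → ℂ) =
      (mult hCK χ ξ : ℂ) := by
    intro χ ξ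
    rw [← mult_spec hCK χ ξ, ← classInner_equiv eC (fun c : C => (χ : K → ℂ) ⟨c, hCK c.2⟩) (ξ : C → ℂ)]
    rfl
  have hzp : ∀ {H : Subgroup G} (θ : H → ℂ), (∀ g, g ∈ H → x * g * x⁻¹ ∈ H) →
      (∀ k k' : H, (k' : G) = x * k * x⁻¹ → θ k' = θ k) → PInv (Subgroup.zpowers x) θ := by
    intro H θ hH h a ha
    obtain ⟨n, rfl⟩ : ∃ n : ℕ, x ^ n = a := by
      have hfo : IsOfFinOrder x := isOfFinOrder_of_finite x
      exact (Submonoid.mem_powers_iff _ _).mp (hfo.mem_powers_iff_mem_zpowers.mpr ha)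
    induction n with
    | zero => intro k k' he; rw [show k' = k from Subtype.ext (by simpa using he)]
    | succ n ih =>
      intro k k' he
      have hn : ∀ n : ℕ, x ^ n * (k : G) * (x ^ n)⁻¹ ∈ H := by
        intro n
        induction n with
        | zero => simp
        | succ n ihn =>
          rw [show x ^ (n + 1) * (k : G) * (x ^ (n + 1))⁻¹ = x * (x ^ n * (k : G) * (x ^ n)⁻¹) * x⁻¹ by
            rw [pow_succ']; group]
          exact hH _ ihn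
      rw [h ⟨_, hn n⟩ k' (by rw [he, pow_succ']; group)]
      exact ih (pow_mem (Subgroup.mem_zpowers x) n) k ⟨_, hn n⟩ rfl
  have hiK : ∀ χ : IrrCharacter K, PInv (Subgroup.zpowers x) (χ : K → ℂ) → Inv x' (uK χ : K' → ℂ) :=
    fun χ h k k' he => h x (Subgroup.mem_zpowers x) _ _ (congrArg Subtype.val he)
  have hiC : ∀ ξ : IrrCharacter C, PInv (Subgroup.zpowers x) (ξ : C → ℂ) → Inv x' (uC ξ : C' → ℂ) :=
    fun ξ h k k' he => h x (Subgroup.mem_zpowers x) _ _ (congrArg Subtype.val he)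
  have hxC : ∀ g, g ∈ C → x * g * x⁻¹ ∈ C := fun g hg => by
    have h := conj_mem S (c := (⟨g, hCΓ hg⟩ : Γ)) hg 1
    rw [zpow_one] at h
    exact h
  refine ⟨fun χ hχ => ?_, fun χ χ' ξ hχ hχ' hξ h h' => ?_, fun ξ hξ => ?_⟩
  · obtain ⟨ξ₀, hξ₀, hspec⟩ := exists_match S hM (uK χ) (hiK χ hχ)
    have hinv : PInv (Subgroup.zpowers x) ((uC.symm ξ₀ : IrrCharacter C) : C → ℂ) :=
      hzp _ hxC fun k k' he => hξ₀ (eC.symm k) (eC.symm k') (Subtype.ext he)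
    refine ⟨uC.symm ξ₀, hinv, ?_, fun ξ' hξ' hne => ?_⟩
    · exact (hspec ξ₀ hξ₀ _ (by simpa using hm χ (uC.symm ξ₀))).1 rfl
    · exact (hspec (uC ξ') (hiC ξ' hξ') _ (hm χ ξ')).2 fun e => hne (by rw [← e, Equiv.symm_apply_apply])
  · exact uK.injective (match_injective S hM _ _ (hiK χ hχ) (hiK χ' hχ') _ (hiC ξ hξ) (hm χ ξ) (hm χ' ξ) h h')
  · obtain ⟨χ', hχ', hspec⟩ := match_surjective S hM (uC ξ) (hiC ξ hξ)
    refine ⟨uK.symm χ', hzp _ hxK fun k k' he => hχ' (eK.symm k) (eK.symm k') (Subtype.ext he), ?_⟩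
    exact hspec _ (by simpa using hm (uK.symm χ') ξ)

/-- The fixed elements modulo `Q` of a subgroup of the normalizer. -/
theorem exists_fixed_mod {K Q : Subgroup G} (hQK : Q ≤ K) (hQn : ∀ k ∈ K, ∀ q ∈ Q, k * q * k⁻¹ ∈ Q)
    (P : Subgroup G) : ∃ C : Subgroup G, ∀ k, k ∈ C ↔ k ∈ K ∧ ∀ a ∈ P, a * k * a⁻¹ * k⁻¹ ∈ Q := by
  refine ⟨{ carrier := {k | k ∈ K ∧ ∀ a ∈ P, a * k * a⁻¹ * k⁻¹ ∈ Q}
            one_mem' := ⟨one_mem _, fun a _ => by simp⟩
            mul_mem' := fun {k l} hk hl => ⟨mul_mem hk.1 hl.1, fun a ha => ?_⟩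
            inv_mem' := fun {k} hk => ⟨inv_mem hk.1, fun a ha => ?_⟩ }, fun k => Iff.rfl⟩
  · rw [show a * (k * l) * a⁻¹ * (k * l)⁻¹ =
      (a * k * a⁻¹ * k⁻¹) * (k * (a * l * a⁻¹ * l⁻¹) * k⁻¹) by group]
    exact mul_mem (hk.2 a ha) (hQn k hk.1 _ (hl.2 a ha))
  · rw [show a * k⁻¹ * a⁻¹ * k⁻¹⁻¹ = k⁻¹ * (a * k * a⁻¹ * k⁻¹)⁻¹ * (k⁻¹)⁻¹ by group]
    exact hQn _ (inv_mem hk.1) _ (inv_mem (hk.2 a ha))

/-- Composition of two steps. -/
theorem corr_comp {P P₀ : Subgroup G} {x : G} {K C₁ C : Subgroup G} (hC₁K : C₁ ≤ K) (hCC₁ : C ≤ C₁)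
    (hP : IsPGroup p P) (hP₀ : P₀ ≤ P) (hx : x ∈ P) (hgen : P₀ ⊔ Subgroup.zpowers x = P)
    (hP₀n : ∀ a ∈ P, ∀ c ∈ P₀, a * c * a⁻¹ ∈ P₀)
    (hK : ∀ a ∈ P, ∀ g ∈ K, a * g * a⁻¹ ∈ K) (hC₁ : ∀ a ∈ P, ∀ g ∈ C₁, a * g * a⁻¹ ∈ C₁)
    (hC : ∀ a ∈ P, ∀ g ∈ C, a * g * a⁻¹ ∈ C)
    (h1 : Corr p P₀ K C₁ hC₁K) (h2 : Corr p (Subgroup.zpowers x) C₁ C hCC₁) :
    Corr p P K C (hCC₁.trans hC₁K) := by
  classical
  obtain ⟨h1e, h1i, h1s⟩ := h1
  obtain ⟨h2e, h2i, h2s⟩ := h2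
  haveI := Fintype.ofFinite (IrrCharacter C₁)
  haveI := Fintype.ofFinite (IrrCharacter C)
  haveI := Fintype.ofFinite C
  haveI := Fintype.ofFinite C₁
  have hxp : Subgroup.zpowers x ≤ P := Subgroup.zpowers_le.mpr hx
  have hXp : IsPGroup p (Subgroup.zpowers x) := hP.to_le hxp
  have hmono : ∀ {H S T : Subgroup G} (θ : H → ℂ), S ≤ T → PInv T θ → PInv S θ :=
    fun θ hST h a ha => h a (hST ha)
  have hgenInv : ∀ {H : Subgroup G} (θ : H → ℂ), (∀ a ∈ P, ∀ g ∈ H, a * g * a⁻¹ ∈ H) →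
      PInv P₀ θ → PInv (Subgroup.zpowers x) θ → PInv P θ := by
    intro H θ hH hi hix a ha k k' he
    have hiff := mem_conj_iff hH
    have hgen' : a ∈ ((P₀ ⊔ Subgroup.zpowers x : Subgroup G) : Set G) := hgen.symm ▸ ha
    rw [Subgroup.coe_mul_of_right_le_normalizer_left P₀ (Subgroup.zpowers x) (Subgroup.zpowers_le.mpr
      (Subgroup.mem_normalizer_iff.mpr fun c => ⟨hP₀n x hx c, fun hc => by
        simpa [mul_assoc] using hP₀n x⁻¹ (inv_mem hx) _ hc⟩))] at hgen'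
    obtain ⟨c, hc, z, hz, rfl⟩ := hgen'
    have hm : z * (k : G) * z⁻¹ ∈ H := hH z (hxp hz) _ k.2
    rw [hi c hc ⟨_, hm⟩ k' (by rw [he]; group)]
    exact hix z hz k ⟨_, hm⟩ rfl
  -- the middle character is invariant
  have hmid : ∀ χ : IrrCharacter K, PInv P (χ : K → ℂ) → ∀ μ : IrrCharacter C₁, PInv P₀ (μ : C₁ → ℂ) →
      ¬ p ∣ mult hC₁K χ μ → PInv P (μ : C₁ → ℂ) := by
    intro χ hχ μ hμ hn a ha
    obtain ⟨μ', hμ'⟩ := exists_conj (mem_conj_iff hC₁ ⟨a, ha⟩) μ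
    have hμ'inv : PInv P₀ (μ' : C₁ → ℂ) := fun c hc k k' he => by
      have hk : a⁻¹ * (k : G) * a ∈ C₁ := by simpa using hC₁ a⁻¹ (inv_mem ha) _ k.2
      have hk' : a⁻¹ * (k' : G) * a ∈ C₁ := by simpa using hC₁ a⁻¹ (inv_mem ha) _ k'.2
      rw [hμ' ⟨_, hk'⟩ k' (by group), hμ' ⟨_, hk⟩ k (by group)]
      refine hμ (a⁻¹ * c * a) ?_ ⟨_, hk⟩ ⟨_, hk'⟩ (by show a⁻¹ * (k' : G) * a = _; rw [he]; group)
      simpa using hP₀n a⁻¹ (inv_mem ha) c hc
    have hmm : mult hC₁K χ μ' = mult hC₁K χ μ :=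
      mult_conj hC₁K (mem_conj_iff hC₁ ⟨a, ha⟩) χ χ μ μ' (fun k k' he => hχ a ha k k' he) hμ'
    obtain ⟨ξ, -, -, huniq⟩ := h1e χ (hmono _ hP₀ hχ)
    have e1 : μ = ξ := by_contra fun h => hn (huniq μ hμ h)
    have e2 : μ' = ξ := by_contra fun h => hn (hmm ▸ huniq μ' hμ'inv h)
    intro k k' he
    have := hμ' k k' he
    rwa [e2, ← e1] at this
  -- the second step keeps invariance
  have hdown : ∀ μ : IrrCharacter C₁, PInv P (μ : C₁ → ℂ) → ∀ ξ : IrrCharacter C,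
      PInv (Subgroup.zpowers x) (ξ : C → ℂ) → ¬ p ∣ mult hCC₁ μ ξ → PInv P (ξ : C → ℂ) := by
    intro μ hμ ξ hξ hn
    obtain ⟨ξ₀, hξ₀, hξ₀m, huniq⟩ := h2e μ (hmono _ hxp hμ)
    have e : ξ = ξ₀ := by_contra fun h => hn (huniq ξ hξ h)
    subst e
    set f : IrrCharacter C → ZMod p := fun η => (mult hCC₁ μ η : ZMod p) * mult hCC₁ μ η with hf
    have hfinv : ∀ (η η' : IrrCharacter C) (a : G), a ∈ P →
        (∀ k k' : C, (k' : G) = a * k * a⁻¹ → (η' : C → ℂ) k' = (η : C → ℂ) k) → f η' = f η := fun η η' a ha he => by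
      simp only [hf, mult_conj hCC₁ (mem_conj_iff hC ⟨a, ha⟩) μ μ η η' (fun k k' h => hμ a ha k k' h) he]
    have hx1 : ∑ η, f η = 1 := by
      rw [sum_inv (Subgroup.zpowers x) hXp (fun a ha => hC a (hxp ha)) f fun η η' a ha => hfinv η η' a (hxp ha),
        Finset.sum_eq_single ξ (fun η hη hne => ?_) (fun h => (h (Finset.mem_filter.mpr ⟨Finset.mem_univ _, hξ⟩)).elim)]
      · exact hξ₀m
      · simp only [hf, (CharP.cast_eq_zero_iff (ZMod p) p _).mpr (huniq η (Finset.mem_filter.mp hη).2 hne), mul_zero]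
    rw [sum_inv P hP hC f hfinv] at hx1
    obtain ⟨η, hη, hη0⟩ := Finset.exists_ne_zero_of_sum_ne_zero (hx1.trans_ne one_ne_zero)
    have hηP := (Finset.mem_filter.mp hη).2
    have : η = ξ := by_contra fun h => hη0 (by
      simp only [hf, (CharP.cast_eq_zero_iff (ZMod p) p _).mpr (huniq η (hmono _ hxp hηP) h), mul_zero])
    exact this ▸ hηP
  have hup : ∀ ξ : IrrCharacter C, PInv P (ξ : C → ℂ) → ∀ μ : IrrCharacter C₁,
      PInv (Subgroup.zpowers x) (μ : C₁ → ℂ) → ¬ p ∣ mult hCC₁ μ ξ → PInv P (μ : C₁ → ℂ) := by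
    intro ξ hξ μ hμ hn
    set f : IrrCharacter C₁ → ZMod p := fun ν => (mult hCC₁ ν ξ : ZMod p) * mult hCC₁ ν ξ with hf
    have hfinv : ∀ (ν ν' : IrrCharacter C₁) (a : G), a ∈ P →
        (∀ k k' : C₁, (k' : G) = a * k * a⁻¹ → (ν' : C₁ → ℂ) k' = (ν : C₁ → ℂ) k) → f ν' = f ν := fun ν ν' a ha he => by
      simp only [hf, mult_conj hCC₁ (mem_conj_iff hC ⟨a, ha⟩) ν ν' ξ ξ he (fun k k' h => hξ a ha k k' h)]
    have hzero : ∀ ν : IrrCharacter C₁, PInv (Subgroup.zpowers x) (ν : C₁ → ℂ) → ν ≠ μ → f ν = 0 := fun ν hν hne => by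
      have : p ∣ mult hCC₁ ν ξ := by_contra fun h => hne (h2i ν μ ξ hν hμ (hmono _ hxp hξ) h hn)
      simp only [hf, (CharP.cast_eq_zero_iff (ZMod p) p _).mpr this, mul_zero]
    have hx1 : ∑ ν, f ν ≠ 0 := by
      rw [sum_inv (Subgroup.zpowers x) hXp (fun a ha => hC₁ a (hxp ha)) f fun ν ν' a ha => hfinv ν ν' a (hxp ha),
        Finset.sum_eq_single μ (fun ν hν hne => hzero ν (Finset.mem_filter.mp hν).2 hne)
          (fun h => (h (Finset.mem_filter.mpr ⟨Finset.mem_univ _, hμ⟩)).elim)]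
      exact mul_self_ne_zero.mpr fun h0 => hn ((CharP.cast_eq_zero_iff (ZMod p) p _).mp h0)
    rw [sum_inv P hP hC₁ f hfinv] at hx1
    obtain ⟨ν, hν, hν0⟩ := Finset.exists_ne_zero_of_sum_ne_zero hx1
    have hνP := (Finset.mem_filter.mp hν).2
    have : ν = μ := by_contra fun h => hν0 (hzero ν (hmono _ hxp hνP) h)
    exact this ▸ hνP
  -- the multiplicity is the product
  have hprod : ∀ (χ : IrrCharacter K) (μ : IrrCharacter C₁) (ξ : IrrCharacter C), PInv P (χ : K → ℂ) →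
      PInv P₀ (μ : C₁ → ℂ) → PInv P (ξ : C → ℂ) → ¬ p ∣ mult hC₁K χ μ →
      (mult (hCC₁.trans hC₁K) χ ξ : ZMod p) = (mult hC₁K χ μ : ZMod p) * mult hCC₁ μ ξ := by
    intro χ μ ξ hχ hμ hξ hn
    have hres : IsCharacter C₁ (fun c : C₁ => (χ : K → ℂ) ⟨c, hC₁K c.2⟩) :=
      isCharacter_comp (isCharacter_irr χ) (Subgroup.inclusion hC₁K)
    have hexp := classFun_expand (isClassFunction_of_isCharacter hres)
    have hC' : (fun c : C => (χ : K → ℂ) ⟨c, hC₁K (hCC₁ c.2)⟩) =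
        ∑ ν : IrrCharacter C₁, (mult hC₁K χ ν : ℂ) • fun c : C => (ν : C₁ → ℂ) ⟨c, hCC₁ c.2⟩ := funext fun c => by
      have := congrFun hexp ⟨c, hCC₁ c.2⟩
      rw [Finset.sum_apply] at this ⊢
      exact this.trans (Finset.sum_congr rfl fun ν _ => by rw [Pi.smul_apply, Pi.smul_apply, mult_spec hC₁K])
    have hsum : mult (hCC₁.trans hC₁K) χ ξ = ∑ ν : IrrCharacter C₁, mult hC₁K χ ν * mult hCC₁ ν ξ := by
      have e := mult_spec (hCC₁.trans hC₁K) χ ξ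
      rw [hC', classInner_sum_left, Finset.sum_congr rfl fun ν _ => by
        rw [classInner_smul_left, mult_spec hCC₁, ← Nat.cast_mul], ← Nat.cast_sum, Nat.cast_inj] at e
      exact e.symm
    obtain ⟨μ₀, hμ₀, -, huniq⟩ := h1e χ (hmono _ hP₀ hχ)
    have e1 : μ = μ₀ := by_contra fun h => hn (huniq μ hμ h)
    subst e1
    rw [hsum, Nat.cast_sum, sum_inv P hP hC₁ _ fun ν ν' a ha he => by
      rw [mult_conj hC₁K (mem_conj_iff hC₁ ⟨a, ha⟩) χ χ ν ν' (fun k k' h => hχ a ha k k' h) he,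
        mult_conj hCC₁ (mem_conj_iff hC ⟨a, ha⟩) ν ν' ξ ξ he (fun k k' h => hξ a ha k k' h)]]
    rw [Finset.sum_eq_single μ (fun ν hν hne => ?_)
      (fun h => (h (Finset.mem_filter.mpr ⟨Finset.mem_univ _, hmid χ hχ μ hμ hn⟩)).elim), Nat.cast_mul]
    rw [Nat.cast_mul, (CharP.cast_eq_zero_iff (ZMod p) p _).mpr
      (huniq ν (hmono _ hP₀ (Finset.mem_filter.mp hν).2) hne), zero_mul]
  refine ⟨fun χ hχ => ?_, fun χ χ' ξ hχ hχ' hξ h h' => ?_, fun ξ hξ => ?_⟩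
  · obtain ⟨μ, hμ, hμm, -⟩ := h1e χ (hmono _ hP₀ hχ)
    have hμP := hmid χ hχ μ hμ (not_dvd_of_mul_self hμm)
    obtain ⟨ξ, hξ, hξm, huniq⟩ := h2e μ (hmono _ hxp hμP)
    have hξP := hdown μ hμP ξ hξ (not_dvd_of_mul_self hξm)
    refine ⟨ξ, hξP, ?_, fun ξ' hξ' hne => ?_⟩
    · rw [hprod χ μ ξ hχ hμ hξP (not_dvd_of_mul_self hμm), mul_mul_mul_comm, hμm, hξm, mul_one]
    · rw [← CharP.cast_eq_zero_iff (ZMod p) p, hprod χ μ ξ' hχ hμ hξ' (not_dvd_of_mul_self hμm),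
        (CharP.cast_eq_zero_iff (ZMod p) p _).mpr (huniq ξ' (hmono _ hxp hξ') hne), mul_zero]
  · obtain ⟨μ, hμ, hμm, -⟩ := h1e χ (hmono _ hP₀ hχ)
    obtain ⟨μ', hμ', hμm', -⟩ := h1e χ' (hmono _ hP₀ hχ')
    have a1 := not_dvd_of_mul_self hμm
    have a2 := not_dvd_of_mul_self hμm'
    have h3 : ¬ p ∣ mult hCC₁ μ ξ := fun hd => h ((CharP.cast_eq_zero_iff (ZMod p) p _).mp (by
      rw [hprod χ μ ξ hχ hμ hξ a1, (CharP.cast_eq_zero_iff (ZMod p) p _).mpr hd, mul_zero]))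
    have h4 : ¬ p ∣ mult hCC₁ μ' ξ := fun hd => h' ((CharP.cast_eq_zero_iff (ZMod p) p _).mp (by
      rw [hprod χ' μ' ξ hχ' hμ' hξ a2, (CharP.cast_eq_zero_iff (ZMod p) p _).mpr hd, mul_zero]))
    have e := h2i μ μ' ξ (hmono _ hxp (hmid χ hχ μ hμ a1)) (hmono _ hxp (hmid χ' hχ' μ' hμ' a2)) (hmono _ hxp hξ) h3 h4
    subst e
    exact h1i χ χ' μ (hmono _ hP₀ hχ) (hmono _ hP₀ hχ') hμ a1 a2
  · obtain ⟨μ, hμ, hμn⟩ := h2s ξ (hmono _ hxp hξ)
    have hμP := hup ξ hξ μ hμ hμn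
    obtain ⟨χ, hχ, hχn⟩ := h1s μ (hmono _ hP₀ hμP)
    have hχP : PInv P (χ : K → ℂ) := by
      intro a ha
      obtain ⟨χ', hχ'⟩ := exists_conj (mem_conj_iff hK ⟨a, ha⟩) χ
      have hχ'inv : PInv P₀ (χ' : K → ℂ) := fun c hc k k' he => by
        have hk : a⁻¹ * (k : G) * a ∈ K := by simpa using hK a⁻¹ (inv_mem ha) _ k.2
        have hk' : a⁻¹ * (k' : G) * a ∈ K := by simpa using hK a⁻¹ (inv_mem ha) _ k'.2
        rw [hχ' ⟨_, hk'⟩ k' (by group), hχ' ⟨_, hk⟩ k (by group)]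
        refine hχ (a⁻¹ * c * a) ?_ ⟨_, hk⟩ ⟨_, hk'⟩ (by show a⁻¹ * (k' : G) * a = _; rw [he]; group)
        simpa using hP₀n a⁻¹ (inv_mem ha) c hc
      have hmm : mult hC₁K χ' μ = mult hC₁K χ μ :=
        mult_conj hC₁K (mem_conj_iff hC₁ ⟨a, ha⟩) χ χ' μ μ hχ' (fun k k' h => hμP a ha k k' h)
      have e := h1i χ χ' μ hχ hχ'inv (hmono _ hP₀ hμP) hχn (hmm.symm ▸ hχn)
      intro k k' he
      have := hχ' k k' he
      rwa [← e] at this
    refine ⟨χ, hχP, fun hd => ?_⟩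
    have e := hprod χ μ ξ hχP (hmono _ hP₀ hμP) hξ hχn
    rw [(CharP.cast_eq_zero_iff (ZMod p) p _).mpr hd] at e
    rcases mul_eq_zero.mp e.symm with h0 | h0
    · exact hχn ((CharP.cast_eq_zero_iff (ZMod p) p _).mp h0)
    · exact hμn ((CharP.cast_eq_zero_iff (ZMod p) p _).mp h0)

/-- The correspondence for every acting `p`-group. -/
theorem corr_all {K Q : Subgroup G} (hQK : Q ≤ K) (hQn : ∀ k ∈ K, ∀ q ∈ Q, k * q * k⁻¹ ∈ Q)
    (hQp : IsPGroup p Q) (hcop : ¬ p ∣ Q.relIndex K) (P : Subgroup G) (hP : IsPGroup p P)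
    (hPK : ∀ a ∈ P, ∀ g ∈ K, a * g * a⁻¹ ∈ K) (C : Subgroup G)
    (hC : ∀ k, k ∈ C ↔ k ∈ K ∧ ∀ a ∈ P, a * k * a⁻¹ * k⁻¹ ∈ Q) (hCK : C ≤ K) :
    Corr p P K C hCK := by
  classical
  induction hn : Nat.card P using Nat.strong_induction_on generalizing P C with
  | _ n ih =>
    subst hn
    rcases eq_or_ne P ⊥ with rfl | hP1
    · have hCK' : C = K := le_antisymm hCK fun k hk => (hC k).mpr ⟨hk, fun a ha => by
        rw [Subgroup.mem_bot.mp ha]; simp⟩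
      subst hCK'
      haveI := Fintype.ofFinite C
      have hm : ∀ χ ξ : IrrCharacter C, mult hCK χ ξ = if χ = ξ then 1 else 0 := fun χ ξ => by
        have e := mult_spec hCK χ ξ
        rw [show (fun c : C => (χ : C → ℂ) ⟨c, hCK c.2⟩) = (χ : C → ℂ) from rfl, classInner_irr] at e
        by_cases h : χ = ξ
        · subst h
          rw [if_pos rfl] at e ⊢
          exact_mod_cast e.symm
        · rw [if_neg h] at e ⊢
          exact_mod_cast e.symm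
      have hinv : ∀ θ : IrrCharacter C, PInv (⊥ : Subgroup G) (θ : C → ℂ) := fun θ a ha k k' he => by
        rw [Subgroup.mem_bot.mp ha, one_mul, inv_one, mul_one] at he
        rw [Subtype.ext he]
      refine ⟨fun χ _ => ⟨χ, hinv χ, by simp [hm], fun ξ' _ hne => by simp [hm, Ne.symm hne]⟩,
        fun χ χ' ξ _ _ _ h h' => ?_, fun ξ _ => ⟨ξ, hinv ξ, by simp [hm, hp.out.ne_one]⟩⟩
      rw [hm] at h h'
      have e1 : χ = ξ := by_contra fun e => h (by rw [if_neg e]; exact dvd_zero p)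
      have e2 : χ' = ξ := by_contra fun e => h' (by rw [if_neg e]; exact dvd_zero p)
      rw [e1, e2]
    · haveI : Nontrivial P := (Subgroup.nontrivial_iff_ne_bot P).mpr hP1
      haveI := hP.isNilpotent
      obtain ⟨Mx, hMx, -⟩ := (eq_top_or_exists_le_coatom (⊥ : Subgroup P)).resolve_left bot_ne_top
      haveI hMn : Mx.Normal := Subgroup.NormalizerCondition.normal_of_coatom Mx Group.normalizerCondition_of_isNilpotent hMx
      obtain ⟨xP, -, hxM⟩ := SetLike.exists_of_lt hMx.lt_top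
      set P₀ : Subgroup G := Mx.map P.subtype with hP₀def
      have hP₀ : P₀ ≤ P := Subgroup.map_subtype_le Mx
      set x : G := (xP : G) with hxdef
      have hP₀n : ∀ a ∈ P, ∀ c ∈ P₀, a * c * a⁻¹ ∈ P₀ := by
        rintro a ha _ ⟨c, hc, rfl⟩
        exact ⟨⟨a, ha⟩ * c * ⟨a, ha⟩⁻¹, hMn.conj_mem c hc _, rfl⟩
      have hgen : P₀ ⊔ Subgroup.zpowers x = P := by
        have h1 : Mx ⊔ Subgroup.zpowers xP = ⊤ := by
          refine (hMx.2 _ (lt_of_le_of_ne le_sup_left fun e => hxM ?_))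
          rw [e]; exact Subgroup.mem_sup_right (Subgroup.mem_zpowers xP)
        rw [hP₀def, show Subgroup.zpowers x = (Subgroup.zpowers xP).map P.subtype from
          (MonoidHom.map_zpowers P.subtype xP).symm, ← Subgroup.map_sup, h1, ← MonoidHom.range_eq_map,
          Subgroup.range_subtype]
      obtain ⟨C₁, hC₁⟩ := exists_fixed_mod hQK hQn P₀
      have hC₁K : C₁ ≤ K := fun k hk => ((hC₁ k).mp hk).1
      have hQnorm : ∀ a ∈ P, ∀ q ∈ Q, a * q * a⁻¹ ∈ Q := fun a ha q hq =>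
        conj_mem_Q hQK hQn hQp hcop (hPK a ha) hq
      have hconj : ∀ a ∈ P, ∀ g ∈ C₁, a * g * a⁻¹ ∈ C₁ := fun a ha g hg =>
        (hC₁ _).mpr ⟨hPK a ha g (hC₁K hg), fun c hc => by
          rw [show c * (a * g * a⁻¹) * c⁻¹ * (a * g * a⁻¹)⁻¹ =
            a * ((a⁻¹ * c * a) * g * (a⁻¹ * c * a)⁻¹ * g⁻¹) * a⁻¹ by group]
          refine hQnorm a ha _ (((hC₁ g).mp hg).2 _ ?_)
          simpa using hP₀n a⁻¹ (inv_mem ha) c hc⟩
      have hconjC : ∀ a ∈ P, ∀ g ∈ C, a * g * a⁻¹ ∈ C := fun a ha g hg =>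
        (hC _).mpr ⟨hPK a ha g (hCK hg), fun c hc => by
          rw [show c * (a * g * a⁻¹) * c⁻¹ * (a * g * a⁻¹)⁻¹ =
            a * ((a⁻¹ * c * a) * g * (a⁻¹ * c * a)⁻¹ * g⁻¹) * a⁻¹ by group]
          exact hQnorm a ha _ (((hC g).mp hg).2 _ (mul_mem (mul_mem (inv_mem ha) hc) ha))⟩
      have hCC₁ : C ≤ C₁ := fun k hk => (hC₁ k).mpr ⟨hCK hk, fun c hc => ((hC k).mp hk).2 c (hP₀ hc)⟩
      have hQC₁ : Q ≤ C₁ := fun q hq => (hC₁ q).mpr ⟨hQK hq, fun c hc =>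
        mul_mem (hQnorm c (hP₀ hc) q hq) (inv_mem hq)⟩
      have hCiff : ∀ k : G, k ∈ C ↔ k ∈ C₁ ∧ x * k * x⁻¹ * k⁻¹ ∈ Q := by
        intro k
        refine ⟨fun hk => ⟨hCC₁ hk, ((hC k).mp hk).2 x xP.2⟩, fun ⟨hk1, hkx⟩ => ?_⟩
        refine (hC k).mpr ⟨hC₁K hk1, fun a ha => ?_⟩
        let W : Subgroup G :=
          { carrier := {a | a ∈ P ∧ a * k * a⁻¹ * k⁻¹ ∈ Q}
            one_mem' := ⟨one_mem _, by simp⟩
            mul_mem' := fun {a b} ha hb => ⟨mul_mem ha.1 hb.1, by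
              rw [show a * b * k * (a * b)⁻¹ * k⁻¹ = a * (b * k * b⁻¹ * k⁻¹) * a⁻¹ * (a * k * a⁻¹ * k⁻¹) by group]
              exact mul_mem (hQnorm a ha.1 _ hb.2) ha.2⟩
            inv_mem' := fun {a} ha => ⟨inv_mem ha.1, by
              rw [show a⁻¹ * k * a⁻¹⁻¹ * k⁻¹ = a⁻¹ * (a * k * a⁻¹ * k⁻¹)⁻¹ * (a⁻¹)⁻¹ by group]
              exact hQnorm _ (inv_mem ha.1) _ (inv_mem ha.2)⟩ }
        have hle : P ≤ W := hgen ▸ sup_le (fun c hc => ⟨hP₀ hc, ((hC₁ k).mp hk1).2 c hc⟩)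
          (Subgroup.zpowers_le.mpr ⟨xP.2, hkx⟩)
        exact (hle ha).2
      have hlt : Nat.card P₀ < Nat.card P := by
        rw [hP₀def, Nat.card_congr (Subgroup.equivMapOfInjective Mx P.subtype P.subtype_injective).toEquiv.symm]
        refine lt_of_le_of_ne (Subgroup.card_le_card_group Mx) fun e => hMx.1 ?_
        exact Subgroup.eq_top_of_card_eq Mx e
      have h1 := ih _ hlt P₀ (hP.to_le hP₀) (fun a ha => hPK a (hP₀ ha)) C₁ hC₁ hC₁K rfl
      obtain ⟨b, hb⟩ := hP xP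
      have hcop₁ : ¬ p ∣ Q.relIndex C₁ := fun h => hcop (h.trans
        ⟨C₁.relIndex K, (Subgroup.relIndex_mul_relIndex Q C₁ K hQC₁ hC₁K).symm⟩)
      have h2 := corr_cyclic (fun g hg => hconj x xP.2 g hg) hQC₁ (fun k hk => hQn k (hC₁K hk)) hQp hcop₁
        ⟨b, congrArg Subtype.val hb⟩ hCiff hCC₁
      exact corr_comp hC₁K hCC₁ hP hP₀ xP.2 hgen hP₀n hPK hconj hconjC h1 h2

/-- The degrees agree up to sign modulo `p`. -/
theorem degree_congr {K C : Subgroup G} (hCK : C ≤ K) {P : Subgroup G} (hP : IsPGroup p P)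
    (hC : ∀ a ∈ P, ∀ g ∈ C, a * g * a⁻¹ ∈ C) (χ : IrrCharacter K) (hχ : PInv P (χ : K → ℂ))
    (ξ : IrrCharacter C) (hξ : PInv P (ξ : C → ℂ))
    (huniq : ∀ ξ' : IrrCharacter C, PInv P (ξ' : C → ℂ) → ξ' ≠ ξ → p ∣ mult hCK χ ξ') :
    (charDegree (χ : K → ℂ) : ZMod p) = (mult hCK χ ξ : ZMod p) * charDegree (ξ : C → ℂ) := by
  classical
  haveI := Fintype.ofFinite C
  haveI := Fintype.ofFinite (IrrCharacter C)
  have e := congrFun (classFun_expand (isClassFunction_of_isCharacter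
    (isCharacter_comp (isCharacter_irr χ) (Subgroup.inclusion hCK)))) 1
  have htot : charDegree (χ : K → ℂ) = ∑ η : IrrCharacter C, mult hCK χ η * charDegree (η : C → ℂ) := by
    rw [Finset.sum_apply, Finset.sum_congr rfl fun η _ => by
      rw [Pi.smul_apply, smul_eq_mul, (charDegree_eq η).1,
        show classInner (fun h => (χ : K → ℂ) (Subgroup.inclusion hCK h)) (η : C → ℂ) = (mult hCK χ η : ℂ) from
          mult_spec hCK χ η, ← Nat.cast_mul],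
      ← Nat.cast_sum, show (χ : K → ℂ) (Subgroup.inclusion hCK 1) = (χ : K → ℂ) 1 by rw [map_one],
      (charDegree_eq χ).1, Nat.cast_inj] at e
    exact e
  rw [htot, Nat.cast_sum, sum_inv P hP hC (fun η => ((mult hCK χ η * charDegree (η : C → ℂ) : ℕ) : ZMod p))
    fun η η' a ha he => by
      have hd : charDegree (η' : C → ℂ) = charDegree (η : C → ℂ) := by
        have h1 := he 1 1 (by simp)
        rw [(charDegree_eq η').1, (charDegree_eq η).1] at h1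
        exact_mod_cast h1
      simp only [hd, mult_conj hCK (mem_conj_iff hC ⟨a, ha⟩) χ χ η η' (fun k k' h => hχ a ha k k' h) he]]
  rw [Finset.sum_eq_single ξ (fun η hη hne => ?_)
    (fun h => (h (Finset.mem_filter.mpr ⟨Finset.mem_univ _, hξ⟩)).elim), Nat.cast_mul]
  rw [Nat.cast_mul, (CharP.cast_eq_zero_iff (ZMod p) p _).mpr (huniq η (Finset.mem_filter.mp hη).2 hne), zero_mul]

end CfsgLib.Block.SylowNormal
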