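import Cfsg.Agent.Lib.Block.CyclicCoset
import Cfsg.Agent.Lib.Char.Inertia

/-!
# A `p`-element acting on a group with a normal subgroup of index prime to `p`

For `x` normalizing `K` and `Q` let `C` consist of the elements of `K` centralized by `x` modulo `Q`.
The characters of `K` and of `C` fixed by `x` correspond through the multiplicities modulo `p`.
-/

set_option autoImplicit false
set_option linter.unusedSectionVars false
set_option linter.style.haveILetI false

namespace CfsgLib.Block.SylowNormal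

open scoped ComplexConjugate
open Cfsg CfsgLib.Char CfsgLib.Block CfsgLib.Block.CyclicCoset

universe u

variable {Γ : Type u} [Group Γ]

/-- Invariance of a function on a subgroup under conjugation by one element. -/
def Inv (x : Γ) {H : Subgroup Γ} (χ : H → ℂ) : Prop :=
  ∀ k k' : H, (k' : Γ) = x * k * x⁻¹ → χ k' = χ k

/-- The hypotheses of the cyclic step. -/
structure Setting (p : ℕ) (K Q C : Subgroup Γ) (x : Γ) : Prop where
  gen : K ⊔ Subgroup.zpowers x = ⊤
  le : Q ≤ K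
  coprime : ¬ p ∣ Q.relIndex K
  ppow : ∃ b : ℕ, x ^ p ^ b = 1
  memC : ∀ k : Γ, k ∈ C ↔ k ∈ K ∧ x * k * x⁻¹ * k⁻¹ ∈ Q

variable {p : ℕ} [hp : Fact p.Prime] {K Q C : Subgroup Γ} {x : Γ} [hKn : K.Normal] [hQn : Q.Normal]
  (S : Setting p K Q C x)
include S

theorem C_le : C ≤ K := fun _ hc => ((S.memC _).mp hc).1

theorem mk_commute {c : Γ} (hc : c ∈ C) : Commute (x : Γ ⧸ Q) (c : Γ ⧸ Q) := by
  have h := (QuotientGroup.eq_one_iff _).mpr ((S.memC c).mp hc).2
  simp only [QuotientGroup.mk_mul, QuotientGroup.mk_inv] at h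
  exact mul_inv_eq_iff_eq_mul.mp (mul_inv_eq_one.mp h)

theorem mem_C_of_commute {k : Γ} (hk : k ∈ K) (h : Commute (x : Γ ⧸ Q) (k : Γ ⧸ Q)) : k ∈ C := by
  refine (S.memC k).mpr ⟨hk, (QuotientGroup.eq_one_iff _).mp ?_⟩
  simp only [QuotientGroup.mk_mul, QuotientGroup.mk_inv]
  rw [h.eq, mul_inv_cancel_right, mul_inv_cancel]

theorem conj_mem {c : Γ} (hc : c ∈ C) (i : ℤ) : x ^ i * c * (x ^ i)⁻¹ ∈ C := by
  refine mem_C_of_commute S (hKn.conj_mem c (C_le S hc) _) ?_
  simp only [QuotientGroup.mk_mul, QuotientGroup.mk_inv, QuotientGroup.mk_zpow]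
  have h := mk_commute S hc
  rw [(h.zpow_left i).eq, mul_inv_cancel_right]
  exact h

theorem le_normalizer : C ⊔ Subgroup.zpowers x ≤ Subgroup.normalizer (C : Set Γ) := by
  refine sup_le Subgroup.le_normalizer (Subgroup.zpowers_le.mpr ?_)
  refine Subgroup.mem_normalizer_iff.mpr fun c => ⟨fun hc => by simpa using conj_mem S hc 1, fun hc => ?_⟩
  simpa [mul_assoc] using conj_mem S hc (-1)

/-- The coset of `x` in `C⟨x⟩` meets its conjugates only inside `C⟨x⟩`. -/
theorem eq_of_conj {t : Γ} (ht : t ∈ K) {c c' : C} (h : t * ((c : Γ) * x) * t⁻¹ = (c' : Γ) * x) : t ∈ C := by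
  obtain ⟨b, hb⟩ := S.ppow
  have hcop : Nat.Coprime (Q.relIndex K) (p ^ b) :=
    ((Nat.Prime.coprime_iff_not_dvd hp.out).mpr S.coprime).symm.pow_right _
  obtain ⟨n, hn1, hn2⟩ := Nat.chineseRemainder hcop 0 1
  have hC1 : ∀ d : C, ((d : Γ) : Γ ⧸ Q) ^ n = 1 := by
    intro d
    obtain ⟨r, hr⟩ := Nat.modEq_zero_iff_dvd.mp hn1
    have h1 : (d : Γ) ^ Q.relIndex K ∈ Q := by
      haveI : (Q.subgroupOf K).Normal := hQn.subgroupOf K
      have := Subgroup.pow_index_mem (Q.subgroupOf K) (⟨d, C_le S d.2⟩ : K)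
      show (d : Γ) ^ (Q.subgroupOf K).index ∈ Q
      simpa [Subgroup.mem_subgroupOf] using this
    rw [hr, pow_mul, ← QuotientGroup.mk_pow, (QuotientGroup.eq_one_iff _).mpr h1, one_pow]
  have hx1 : (x : Γ ⧸ Q) ^ n = (x : Γ ⧸ Q) := by
    have hd : orderOf (x : Γ ⧸ Q) ∣ p ^ b := orderOf_dvd_of_pow_eq_one (by
      rw [← QuotientGroup.mk_pow, hb, QuotientGroup.mk_one])
    rw [← pow_mod_orderOf, (hn2.of_dvd hd : n % _ = 1 % _), pow_mod_orderOf, pow_one]
  have hpow : ∀ d : C, (((d : Γ) * x : Γ) : Γ ⧸ Q) ^ n = (x : Γ ⧸ Q) := fun d => by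
    rw [QuotientGroup.mk_mul, (mk_commute S d.2).symm.mul_pow, hC1, one_mul, hx1]
  have h' := congrArg (fun y : Γ => (y : Γ ⧸ Q) ^ n) h
  rw [hpow c', QuotientGroup.mk_mul, QuotientGroup.mk_mul, QuotientGroup.mk_inv, conj_pow, hpow c] at h'
  exact mem_C_of_commute S ht (mul_inv_eq_iff_eq_mul.mp h').symm

variable [Fintype Γ]

/-- A class function summed over the coset. -/
theorem sum_coset [Fintype K] [Fintype C] (f : Γ → ℂ) (hf : IsClassFunction Γ f) :
    (Nat.card C : ℂ) * ∑ g : K, f ((g : Γ) * x) = (Nat.card K : ℂ) * ∑ c : C, f ((c : Γ) * x) := by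
  classical
  let C' : Subgroup K := C.subgroupOf K
  let F : (K ⧸ C') × C → K := fun y => ⟨(y.1.out : Γ) * (y.2 : Γ) * (x * (y.1.out : Γ)⁻¹ * x⁻¹),
    mul_mem (mul_mem y.1.out.2 (C_le S y.2.2)) (hKn.conj_mem _ (inv_mem y.1.out.2) x)⟩
  have hF : ∀ y, (F y : Γ) * x = (y.1.out : Γ) * ((y.2 : Γ) * x) * (y.1.out : Γ)⁻¹ := fun y => by
    simp only [F]; group
  have hinj : Function.Injective F := by
    rintro ⟨q, c⟩ ⟨q', c'⟩ h
    have h1 : (q.out : Γ) * ((c : Γ) * x) * (q.out : Γ)⁻¹ =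
        (q'.out : Γ) * ((c' : Γ) * x) * (q'.out : Γ)⁻¹ := by rw [← hF ⟨q, c⟩, ← hF ⟨q', c'⟩, h]
    have h2 : ((q'.out⁻¹ * q.out : K) : Γ) * ((c : Γ) * x) * ((q'.out⁻¹ * q.out : K) : Γ)⁻¹ =
        (c' : Γ) * x := by
      simp only [Subgroup.coe_mul, InvMemClass.coe_inv]
      calc _ = (q'.out : Γ)⁻¹ * ((q.out : Γ) * ((c : Γ) * x) * (q.out : Γ)⁻¹) * (q'.out : Γ) := by group
        _ = _ := by rw [h1]; group
    have hq : q' = q := by
      rw [← q.out_eq', ← q'.out_eq', QuotientGroup.eq]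
      exact Subgroup.mem_subgroupOf.mpr (eq_of_conj S (q'.out⁻¹ * q.out : K).2 h2)
    subst hq
    rw [inv_mul_cancel, OneMemClass.coe_one, one_mul, inv_one, mul_one] at h2
    exact Prod.ext rfl (Subtype.ext (mul_right_cancel h2))
  have hcard : Fintype.card ((K ⧸ C') × C) = Fintype.card K := by
    rw [← Nat.card_eq_fintype_card, ← Nat.card_eq_fintype_card, Nat.card_prod,
      ← Nat.card_congr (Subgroup.subgroupOfEquivOfLe (C_le S)).toEquiv]
    exact (Subgroup.card_eq_card_quotient_mul_card_subgroup C').symm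
  have hbij := (Fintype.bijective_iff_injective_and_card F).mpr ⟨hinj, hcard⟩
  rw [← Fintype.sum_bijective F hbij (fun y => f ((F y : Γ) * x)) _ fun _ => rfl,
    Fintype.sum_congr (fun y => f ((F y : Γ) * x)) (fun y => f ((y.2 : Γ) * x))
      (fun y => by rw [hF, hf]),
    Fintype.sum_prod_type, Finset.sum_congr rfl (g := fun _ : K ⧸ C' => ∑ c : C, f ((c : Γ) * x))
      (fun y _ => rfl), Finset.sum_const, Finset.card_univ, nsmul_eq_mul, ← mul_assoc,
    ← Nat.cast_mul, ← Nat.card_eq_fintype_card,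
    ← Nat.card_congr (Subgroup.subgroupOfEquivOfLe (C_le S)).toEquiv,
    Subgroup.card_eq_card_quotient_mul_card_subgroup C']
  push_cast
  ring

omit S in
/-- The value of a character at a `p`-element reduces to the degree, and is a cyclotomic integer. -/
theorem res_value_pElement {M : Ideal AlgInt} [M.IsMaximal] (hM : IsPModular p M) {A : Type u} [Group A]
    [Finite A] {h : A → ℂ} (hh : IsCharacter A h) {d : ℕ} (hd : h 1 = (d : ℂ)) {y : A} {b : ℕ}
    (hy : y ^ p ^ b = 1) :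
    h y ∈ cycInt (orderOf y) ∧ ∃ z : locRing M, (z : ℂ) = h y ∧ res M z = (d : ResField M) := by
  obtain ⟨n, ρ, rfl⟩ := hh
  rw [Representation.char_one, Nat.cast_inj] at hd
  obtain ⟨bb, μ, hμ, -, hval⟩ := exists_eigen_data ρ y
  have hv : ρ.character y = ∑ i, μ i := by simpa using hval 1
  have hint : ∀ i, IsIntegral ℤ (μ i) := fun i => Char.isIntegral_of_pow_eq_one (orderOf_pos y).ne' (hμ i)
  refine ⟨hv ▸ Subring.sum_mem _ fun i _ => mem_cycInt_of_pow (hμ i),
    ∑ i, (⟨μ i, integral_mem M (hint i)⟩ : locRing M), ?_, ?_⟩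
  · rw [hv, AddSubmonoidClass.coe_finsetSum]
  · have h1 : ∀ i, res M (⟨μ i, integral_mem M (hint i)⟩ : locRing M) = 1 := fun i => by
      refine res_rootOfUnity_p hM (n := b) (Subtype.ext ?_)
      rw [SubmonoidClass.coe_pow, OneMemClass.coe_one]
      obtain ⟨r, hr⟩ := orderOf_dvd_of_pow_eq_one hy
      rw [hr, pow_mul, hμ, one_pow]
    rw [map_sum, Finset.sum_congr rfl fun i _ => h1 i, Finset.sum_const, Finset.card_univ,
      Fintype.card_fin, nsmul_one, ← hd]

omit S in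
theorem mul_self_eq_one_zmod {M : Ideal AlgInt} [M.IsMaximal] (hM : IsPModular p M) {m : ℕ}
    (h : (m : ResField M) * (m : ResField M) = 1) : (m : ZMod p) * (m : ZMod p) = 1 := by
  haveI := charP_resField hM
  exact (ZMod.castHom (dvd_refl p) (ResField M)).injective (by rw [map_mul, map_natCast, map_one]; exact h)

section Match

variable [Fintype K] [Fintype C]

omit S in
/-- The subgroup `C⟨x⟩`. -/
abbrev DD (C : Subgroup Γ) (x : Γ) : Subgroup Γ := C ⊔ Subgroup.zpowers x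

omit S in
/-- The element `x` in `C⟨x⟩`. -/
abbrev xx (C : Subgroup Γ) (x : Γ) : DD C x := ⟨x, Subgroup.mem_sup_right (Subgroup.mem_zpowers x)⟩

omit S in
/-- `C` inside `C⟨x⟩`. -/
abbrev CC (C : Subgroup Γ) (x : Γ) : Subgroup (DD C x) := C.subgroupOf (DD C x)

theorem normal_CC : (CC C x).Normal :=
  (Subgroup.normal_subgroupOf_iff_le_normalizer le_sup_left).mpr (le_normalizer S)

theorem gen_CC : CC C x ⊔ Subgroup.zpowers (xx C x) = ⊤ := by
  refine Subgroup.map_injective (DD C x).subtype_injective ?_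
  rw [Subgroup.map_sup, MonoidHom.map_zpowers, Subgroup.map_subgroupOf_eq_of_le le_sup_left,
    ← MonoidHom.range_eq_map, Subgroup.range_subtype]
  rfl

omit S in
/-- The identification of the two copies of `C`. -/
noncomputable def eC (C : Subgroup Γ) (x : Γ) : CC C x ≃* C := Subgroup.subgroupOfEquivOfLe le_sup_left

theorem cinner_res [Fintype (DD C x)] [Fintype (CC C x)] (f h : Γ → ℂ) (hf : IsClassFunction Γ f)
    (hh : IsClassFunction Γ h) :
    haveI := normal_CC S
    cinner (CC C x) (xx C x) (fun d => f d) (fun d => h d) = cinner K x f h := by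
  haveI := normal_CC S
  have hsc := sum_coset S (fun y => f y * conj (h y)) fun a b => by simp only [hf a b, hh a b]
  rw [cinner_def, cinner_def, Nat.card_congr (eC C x).toEquiv, Fintype.sum_equiv (eC C x).toEquiv
    (fun c : CC C x => f (((c : DD C x) * xx C x : DD C x) : Γ) * conj (h (((c : DD C x) * xx C x : DD C x) : Γ)))
    (fun c : C => f ((c : Γ) * x) * conj (h ((c : Γ) * x))) fun c => rfl]
  have hK0 : (Nat.card K : ℂ) ≠ 0 := Nat.cast_ne_zero.mpr Nat.card_pos.ne'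
  have hC0 : (Nat.card C : ℂ) ≠ 0 := Nat.cast_ne_zero.mpr Nat.card_pos.ne'
  rw [inv_mul_eq_iff_eq_mul₀ hC0, ← mul_assoc, mul_comm _ (Nat.card K : ℂ)⁻¹, mul_assoc, hsc,
    inv_mul_cancel_left₀ hK0]

/-- A character of `K⟨x⟩` with irreducible restriction selects one character on the coset `Cx`. -/
theorem coset_data [Fintype (DD C x)] [Fintype (CC C x)] {M : Ideal AlgInt} [M.IsMaximal]
    (hM : IsPModular p M) (α : IrrCharacter Γ) (hα : IsIrrCharacter K (fun k : K => (α : Γ → ℂ) k)) :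
    haveI := normal_CC S
    ∃ η₀ : IrrCharacter (DD C x), IsIrrCharacter (CC C x) (fun k => (η₀ : DD C x → ℂ) k) ∧
      cinner (CC C x) (xx C x) (fun d => (α : Γ → ℂ) d) (η₀ : DD C x → ℂ) *
        conj (cinner (CC C x) (xx C x) (fun d => (α : Γ → ℂ) d) (η₀ : DD C x → ℂ)) = 1 ∧
      (∀ k : CC C x, (α : Γ → ℂ) (((k : DD C x) * xx C x : DD C x) : Γ) =
        cinner (CC C x) (xx C x) (fun d => (α : Γ → ℂ) d) (η₀ : DD C x → ℂ) *
          (η₀ : DD C x → ℂ) ((k : DD C x) * xx C x)) ∧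
      ∀ η : IrrCharacter (DD C x),
        cinner (CC C x) (xx C x) (fun d => (α : Γ → ℂ) d) (η : DD C x → ℂ) ≠ 0 →
        ∀ k : CC C x, (η : DD C x → ℂ) k = (η₀ : DD C x → ℂ) k := by
  haveI := normal_CC S
  have hFchar : IsCharacter (DD C x) (fun d : DD C x => (α : Γ → ℂ) d) :=
    isCharacter_comp (isCharacter_irr α) (DD C x).subtype
  obtain ⟨b, hb⟩ := S.ppow
  have hh : ∀ η : IrrCharacter (DD C x), IsCharacter (DD C x)
      (cosetAvg (CC C x) fun y => (α : Γ → ℂ) y * conj ((η : DD C x → ℂ) y)) := fun η =>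
    isCharacter_cosetAvg (CC C x) (isCharacter_mul hFchar (isCharacter_conj (isCharacter_irr η)))
  exact coset_norm_one (gen_CC S) (isClassFunction_of_isCharacter hFchar) (orderOf_pos (xx C x)).ne'
    (fun η => by
      obtain ⟨d, hd⟩ := isCharacter_degree (hh η)
      exact (res_value_pElement hM (hh η) hd (b := b) (Subtype.ext hb)).1)
    ((cinner_res S _ _ (isClassFunction_irr α) (isClassFunction_irr α)).trans (cinner_self hα))

omit S in
/-- A character of `C` seen on the copy of `C`. -/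
noncomputable def upC (C : Subgroup Γ) (x : Γ) (ξ : IrrCharacter C) : IrrCharacter (CC C x) :=
  ⟨fun c => (ξ : C → ℂ) (eC C x c),
    isIrrCharacter_comp_surjective ξ.2 (eC C x).toMonoidHom (eC C x).surjective⟩

/-- An invariant character of `C` extends to `C⟨x⟩`. -/
theorem exists_ext [Fintype (DD C x)] [Fintype (CC C x)] (ξ : IrrCharacter C) (hξ : Inv x (ξ : C → ℂ)) :
    ∃ η : IrrCharacter (DD C x), ∀ k : CC C x, (η : DD C x → ℂ) k = (upC C x ξ : CC C x → ℂ) k := by
  haveI := normal_CC S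
  exact exists_extension (gen_CC S) (upC C x ξ) fun k => hξ _ _ rfl

/-- An invariant character of `K` selects one invariant character of `C`. -/
theorem exists_match_data [Fintype (DD C x)] [Fintype (CC C x)] {M : Ideal AlgInt} [M.IsMaximal]
    (hM : IsPModular p M) (χ : IrrCharacter K) (α : IrrCharacter Γ)
    (hα : ∀ k : K, (α : Γ → ℂ) k = (χ : K → ℂ) k) (ξ : IrrCharacter C) (η : IrrCharacter (DD C x))
    (hη : ∀ k : CC C x, (η : DD C x → ℂ) k = (upC C x ξ : CC C x → ℂ) k) (m : ℕ)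
    (hm : classInner (fun c : C => (χ : K → ℂ) ⟨c, C_le S c.2⟩) (ξ : C → ℂ) = (m : ℂ)) :
    haveI := normal_CC S
    (cinner (CC C x) (xx C x) (fun d => (α : Γ → ℂ) d) (η : DD C x → ℂ) = 0 → p ∣ m) ∧
    (cinner (CC C x) (xx C x) (fun d => (α : Γ → ℂ) d) (η : DD C x → ℂ) *
        conj (cinner (CC C x) (xx C x) (fun d => (α : Γ → ℂ) d) (η : DD C x → ℂ)) = 1 →
      (m : ZMod p) * m = 1) := by
  haveI := normal_CC S
  obtain ⟨b, hb⟩ := S.ppow
  have hb' : xx C x ^ p ^ b = 1 := Subtype.ext hb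
  set h : DD C x → ℂ := cosetAvg (CC C x) fun y => (α : Γ → ℂ) y * conj ((η : DD C x → ℂ) y) with hhdef
  have hh : IsCharacter (DD C x) h := isCharacter_cosetAvg (CC C x)
    (isCharacter_mul (isCharacter_comp (isCharacter_irr α) (DD C x).subtype) (isCharacter_conj (isCharacter_irr η)))
  have h1 : h 1 = (m : ℂ) := by
    rw [hhdef, cosetAvg_one_eq, ← hm,
      ← classInner_equiv (eC C x) (fun c : C => (χ : K → ℂ) ⟨c, C_le S c.2⟩) (ξ : C → ℂ)]
    exact congrArg₂ classInner (funext fun c => hα ⟨((c : DD C x) : Γ), C_le S c.2⟩) (funext hη)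
  obtain ⟨-, z, hz, hzres⟩ := res_value_pElement hM hh h1 hb'
  refine ⟨fun ha => ?_, fun ha => ?_⟩
  · haveI := charP_resField hM
    rw [← CharP.cast_eq_zero_iff (ResField M) p, ← hzres, ← map_zero (res M)]
    exact congrArg _ (Subtype.ext (hz.trans ha))
  · obtain ⟨-, w, hw, hwres⟩ := res_value_pElement hM (isCharacter_conj hh) (d := m) (by
      show conj (h 1) = _; rw [h1, map_natCast]) hb'
    refine mul_self_eq_one_zmod hM ?_
    rw [← hzres]
    nth_rewrite 2 [← hwres.trans hzres.symm]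
    rw [← map_mul, ← map_one (res M)]
    refine congrArg _ (Subtype.ext ?_)
    rw [MulMemClass.coe_mul, hz, hw, OneMemClass.coe_one]
    exact ha

/-- An invariant character of `K` selects one invariant character of `C`. -/
theorem exists_match {M : Ideal AlgInt} [M.IsMaximal] (hM : IsPModular p M) (χ : IrrCharacter K)
    (hχ : Inv x (χ : K → ℂ)) :
    ∃ ξ₀ : IrrCharacter C, Inv x (ξ₀ : C → ℂ) ∧
      ∀ (ξ : IrrCharacter C), Inv x (ξ : C → ℂ) → ∀ m : ℕ,
        classInner (fun c : C => (χ : K → ℂ) ⟨c, C_le S c.2⟩) (ξ : C → ℂ) = (m : ℂ) →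
        (ξ = ξ₀ → (m : ZMod p) * m = 1) ∧ (ξ ≠ ξ₀ → p ∣ m) := by
  classical
  haveI := normal_CC S
  haveI := Fintype.ofFinite (DD C x)
  haveI := Fintype.ofFinite (CC C x)
  obtain ⟨α, hα⟩ := exists_extension S.gen χ fun k => hχ k _ rfl
  have hαirr : IsIrrCharacter K (fun k : K => (α : Γ → ℂ) k) := by rw [funext hα]; exact χ.2
  obtain ⟨η₀, hirr, hunit, -, huniq⟩ := coset_data S hM α hαirr
  set ξ₀ : IrrCharacter C := ⟨fun c => (η₀ : DD C x → ℂ) (((eC C x).symm c : CC C x) : DD C x),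
    isIrrCharacter_comp_surjective hirr (eC C x).symm.toMonoidHom (eC C x).symm.surjective⟩ with hξ₀
  have hξinv : Inv x (ξ₀ : C → ℂ) := fun k k' hk => by
    show (η₀ : DD C x → ℂ) (((eC C x).symm k' : CC C x) : DD C x) =
      (η₀ : DD C x → ℂ) (((eC C x).symm k : CC C x) : DD C x)
    rw [← isClassFunction_irr η₀ (((eC C x).symm k : CC C x) : DD C x) (xx C x)]
    exact congrArg _ (Subtype.ext hk)
  have hup : ∀ k : CC C x, (η₀ : DD C x → ℂ) k = (upC C x ξ₀ : CC C x → ℂ) k := fun k => by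
    show _ = (η₀ : DD C x → ℂ) (((eC C x).symm (eC C x k) : CC C x) : DD C x)
    rw [MulEquiv.symm_apply_apply]
  refine ⟨ξ₀, hξinv, fun ξ hξ m hm => ⟨fun e => ?_, fun hne => ?_⟩⟩
  · subst e
    exact (exists_match_data S hM χ α hα ξ₀ η₀ hup m hm).2 hunit
  · obtain ⟨η, hη⟩ := exists_ext S ξ hξ
    refine (exists_match_data S hM χ α hα ξ η hη m hm).1 (by_contra fun ha => hne (Subtype.ext (funext fun c => ?_)))
    show (ξ : C → ℂ) c = (η₀ : DD C x → ℂ) (((eC C x).symm c : CC C x) : DD C x)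
    rw [← huniq η ha ((eC C x).symm c), hη]
    exact congrArg (ξ : C → ℂ) ((eC C x).apply_symm_apply c).symm

/-- Different characters of `K` select different characters of `C`. -/
theorem match_injective {M : Ideal AlgInt} [M.IsMaximal] (hM : IsPModular p M) (χ χ' : IrrCharacter K)
    (hχ : Inv x (χ : K → ℂ)) (hχ' : Inv x (χ' : K → ℂ)) (ξ : IrrCharacter C) (hξ : Inv x (ξ : C → ℂ))
    {m m' : ℕ} (hm : classInner (fun c : C => (χ : K → ℂ) ⟨c, C_le S c.2⟩) (ξ : C → ℂ) = (m : ℂ))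
    (hm' : classInner (fun c : C => (χ' : K → ℂ) ⟨c, C_le S c.2⟩) (ξ : C → ℂ) = (m' : ℂ))
    (hp : ¬ p ∣ m) (hp' : ¬ p ∣ m') : χ = χ' := by
  classical
  by_contra hne
  haveI := normal_CC S
  haveI := Fintype.ofFinite (DD C x)
  haveI := Fintype.ofFinite (CC C x)
  obtain ⟨α, hα⟩ := exists_extension S.gen χ fun k => hχ k _ rfl
  obtain ⟨α', hα'⟩ := exists_extension S.gen χ' fun k => hχ' k _ rfl
  have hzero : cinner K x (α : Γ → ℂ) (α' : Γ → ℂ) = 0 := cinner_eq_zero (by
    rw [funext hα, funext hα']; exact classInner_irr_ne hne)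
  rw [← cinner_res S _ _ (isClassFunction_irr α) (isClassFunction_irr α')] at hzero
  obtain ⟨η, hη⟩ := exists_ext S ξ hξ
  have hηirr : IsIrrCharacter (CC C x) (fun k => (η : DD C x → ℂ) k) := by rw [funext hη]; exact (upC C x ξ).2
  -- each restriction to the coset is a multiple of `η`
  have hmul : ∀ (β : IrrCharacter Γ) (θ : IrrCharacter K) (n : ℕ), (∀ k : K, (β : Γ → ℂ) k = (θ : K → ℂ) k) →
      classInner (fun c : C => (θ : K → ℂ) ⟨c, C_le S c.2⟩) (ξ : C → ℂ) = (n : ℂ) → ¬ p ∣ n →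
      ∃ a : ℂ, a ≠ 0 ∧ ∀ k : CC C x, (β : Γ → ℂ) (((k : DD C x) * xx C x : DD C x) : Γ) =
        a * (η : DD C x → ℂ) ((k : DD C x) * xx C x) := by
    intro β θ n hβ hn hpn
    obtain ⟨η₀, hirr, hunit, hval, huniq⟩ := coset_data S hM β (by rw [funext hβ]; exact θ.2)
    have ha : cinner (CC C x) (xx C x) (fun d => (β : Γ → ℂ) d) (η : DD C x → ℂ) ≠ 0 := fun h0 =>
      hpn ((exists_match_data S hM θ β hβ ξ η hη n hn).1 h0)
    have hres : (fun k : CC C x => (η₀ : DD C x → ℂ) k) = fun k : CC C x => (η : DD C x → ℂ) k :=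
      funext fun k => (huniq η ha k).symm
    obtain ⟨f, hf, hfe⟩ := exists_linMul_eq (CC C x) (comm_mem (gen_CC S)) (χ := η) (χ' := η₀) (θ := ⟨_, hηirr⟩)
      (by rw [classInner_irr_self (⟨_, hηirr⟩ : IrrCharacter (CC C x))]; exact one_ne_zero)
      (by rw [hres, classInner_irr_self (⟨_, hηirr⟩ : IrrCharacter (CC C x))]; exact one_ne_zero)
    refine ⟨cinner (CC C x) (xx C x) (fun d => (β : Γ → ℂ) d) (η₀ : DD C x → ℂ) * (f (xx C x) : ℂ),
      mul_ne_zero (left_ne_zero_of_mul_eq_one hunit) (Units.ne_zero _), fun k => ?_⟩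
    rw [hval k]
    conv_lhs => arg 2; rw [← hfe]
    show _ * ((f ((k : DD C x) * xx C x) : ℂ) * _) = _
    rw [lin_apply_coset hf, mul_assoc]
  obtain ⟨a, ha, hva⟩ := hmul α χ m hα hm hp
  obtain ⟨a', ha', hva'⟩ := hmul α' χ' m' hα' hm' hp'
  refine mul_ne_zero (mul_ne_zero ha (star_ne_zero.mpr ha')) (one_ne_zero (α := ℂ)) ?_
  rw [← cinner_self (x := xx C x) hηirr, ← hzero, cinner_def, cinner_def, Finset.mul_sum, Finset.mul_sum,
    Finset.mul_sum]
  refine Finset.sum_congr rfl fun k _ => ?_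
  rw [hva k, hva' k, map_mul]
  simp only [RCLike.star_def]
  ring

/-- Every invariant character of `C` is selected. -/
theorem match_surjective {M : Ideal AlgInt} [M.IsMaximal] (hM : IsPModular p M) (ξ : IrrCharacter C)
    (hξ : Inv x (ξ : C → ℂ)) :
    ∃ χ : IrrCharacter K, Inv x (χ : K → ℂ) ∧
      ∀ m : ℕ, classInner (fun c : C => (χ : K → ℂ) ⟨c, C_le S c.2⟩) (ξ : C → ℂ) = (m : ℂ) → ¬ p ∣ m := by
  classical
  by_contra hno
  push Not at hno
  haveI := normal_CC S
  haveI := Fintype.ofFinite (DD C x)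
  haveI := Fintype.ofFinite (CC C x)
  haveI := Fintype.ofFinite (IrrCharacter Γ)
  obtain ⟨η, hη⟩ := exists_ext S ξ hξ
  set f₀ : DD C x → ℂ := fun d => if d * (xx C x)⁻¹ ∈ CC C x then (η : DD C x → ℂ) d else 0 with hf₀
  set f : Γ → ℂ := indFun (DD C x) f₀ with hf
  have hfz : f = 0 := by
    refine classFun_eq_zero_of_perp (isClassFunction_indFun _ _) fun α => ?_
    rw [hf, classInner_indFun _ _ _ (isClassFunction_irr α), hf₀, classInner_coset_ite, mul_eq_zero]
    right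
    by_cases hvan : ∃ k : K, (α : Γ → ℂ) ((k : Γ) * x) ≠ 0
    · obtain ⟨k₀, hk₀⟩ := hvan
      obtain ⟨hirr, -⟩ := irr_restrict_of_ne_zero S.gen hk₀
      set χ : IrrCharacter K := ⟨_, hirr⟩ with hχdef
      have hχ : Inv x (χ : K → ℂ) := fun k k' hk => by
        show (α : Γ → ℂ) k' = (α : Γ → ℂ) k
        rw [hk, isClassFunction_irr α]
      obtain ⟨m, hm, hpm⟩ := hno χ hχ
      obtain ⟨η₀, hirr₀, hunit, -, huniq⟩ := coset_data S hM α hirr
      rw [← conj_cinner]
      refine (map_eq_zero _).mpr (by_contra fun ha => ?_)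
      have hup : ∀ k : CC C x, (η₀ : DD C x → ℂ) k = (upC C x ξ : CC C x → ℂ) k := fun k => by
        rw [← huniq η ha k, hη]
      have h1 := (exists_match_data S hM χ α (fun _ => rfl) ξ η₀ hup m hm).2 hunit
      rw [(CharP.cast_eq_zero_iff (ZMod p) p m).mpr hpm, mul_zero] at h1
      exact zero_ne_one h1
    · push Not at hvan
      rw [cinner_def, Finset.sum_eq_zero fun c _ => ?_, mul_zero]
      have hc : ((c : DD C x) : Γ) ∈ K := C_le S c.2
      rw [show (α : Γ → ℂ) (((c : DD C x) * xx C x : DD C x) : Γ) = 0 from hvan ⟨_, hc⟩, map_zero, mul_zero]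
  have hD0 : (Nat.card (DD C x) : ℂ) ≠ 0 := Nat.cast_ne_zero.mpr Nat.card_pos.ne'
  have hval : ∀ c : CC C x, (η : DD C x → ℂ) ((c : DD C x) * xx C x) = 0 := by
    intro c
    have e := congrFun hfz (((c : DD C x) * xx C x : DD C x) : Γ)
    rw [hf, indFun, Pi.zero_apply, mul_eq_zero, or_iff_right (inv_ne_zero hD0)] at e
    rw [← Finset.sum_subset (Finset.subset_univ (Finset.univ.filter fun y : Γ => y ∈ DD C x)) fun y _ hy => ?_] at e
    · rw [Finset.sum_congr rfl (g := fun _ => (η : DD C x → ℂ) ((c : DD C x) * xx C x)) fun y hy => ?_,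
        Finset.sum_const, nsmul_eq_mul, mul_eq_zero] at e
      · rcases e with e | e
        · exfalso
          rw [Nat.cast_eq_zero, Finset.card_eq_zero] at e
          exact Finset.notMem_empty 1 (e ▸ Finset.mem_filter.mpr ⟨Finset.mem_univ _, one_mem _⟩)
        · exact e
      · obtain ⟨-, hyD⟩ := Finset.mem_filter.mp hy
        set y' : DD C x := ⟨y, hyD⟩
        have hconj : ((y'⁻¹ * ((c : DD C x) * xx C x) * y' : DD C x) : Γ) =
            y⁻¹ * (((c : DD C x) * xx C x : DD C x) : Γ) * y := rfl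
        rw [← hconj, extendByZero_mem _ _ (SetLike.coe_mem _)]
        show f₀ (y'⁻¹ * ((c : DD C x) * xx C x) * y') = _
        have hmem : y'⁻¹ * ((c : DD C x) * xx C x) * y' * (xx C x)⁻¹ ∈ CC C x := by
          rw [← QuotientGroup.eq_one_iff]
          have hc := (QuotientGroup.eq_one_iff _).mpr (comm_mem (gen_CC S) y'⁻¹ (xx C x))
          simp only [QuotientGroup.mk_mul, QuotientGroup.mk_inv, inv_inv] at hc ⊢
          rw [(QuotientGroup.eq_one_iff (c : DD C x)).mpr c.2, one_mul]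
          exact hc
        simp only [hf₀, if_pos hmem]
        have := isClassFunction_irr η ((c : DD C x) * xx C x) y'⁻¹
        rwa [inv_inv] at this
    · have hyD : y ∉ DD C x := fun h => hy (Finset.mem_filter.mpr ⟨Finset.mem_univ y, h⟩)
      by_cases hmem : y⁻¹ * (((c : DD C x) * xx C x : DD C x) : Γ) * y ∈ DD C x
      · rw [extendByZero_mem _ _ hmem]
        simp only [hf₀]
        rw [if_neg]
        intro h
        refine hyD ?_
        rw [← inv_mem_iff]
        obtain ⟨k, hk, i, hki⟩ := exists_rep S.gen y⁻¹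
        rw [hki]
        refine mul_mem (Subgroup.mem_sup_left ?_) (Subgroup.mem_sup_right ⟨i, rfl⟩)
        refine eq_of_conj S hk (c := ⟨_, conj_mem S c.2 i⟩) (c' := ⟨_, h⟩) ?_
        show k * (x ^ i * ((c : DD C x) : Γ) * (x ^ i)⁻¹ * x) * k⁻¹ =
          y⁻¹ * (((c : DD C x) : Γ) * x) * y * x⁻¹ * x
        rw [inv_mul_cancel_right, show y = (y⁻¹)⁻¹ from (inv_inv y).symm, hki]
        group
      · exact extendByZero_not_mem _ _ hmem
  have hηirr : IsIrrCharacter (CC C x) (fun k => (η : DD C x → ℂ) k) := by rw [funext hη]; exact (upC C x ξ).2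
  refine one_ne_zero (α := ℂ) ?_
  rw [← cinner_self (x := xx C x) hηirr, cinner_def, Finset.sum_eq_zero fun c _ => by rw [hval c, zero_mul], mul_zero]

end Match

end CfsgLib.Block.SylowNormal
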