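import Cfsg.Agent.Lib.Block.Local
import Cfsg.Agent.Lib.Block.Defect
import Cfsg.Agent.Lib.Char.ClassMul
import Mathlib.GroupTheory.PGroup
import Mathlib.LinearAlgebra.FiniteDimensional.Lemmas
import Mathlib.Algebra.CharP.Two

/-!
# Characters of 2-defect zero and classes of elements of order three

For elements of order three that normalize no nontrivial 2-subgroup the reductions of the columns of
the characters of 2-defect zero are independent: a dependent combination `w` of class sums would
have `w * w = 0`, but the coefficient of `w * w` at `y` is the square of the coefficient of `w` at `y⁻¹`.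
-/

set_option autoImplicit false
set_option linter.unusedSectionVars false

namespace CfsgLib.Block.ThreeClasses

open scoped ComplexConjugate
open Cfsg CfsgLib.Char CfsgLib.Block

universe u

variable {G : Type u} [Group G] [Finite G]

/-- An element of order three normalizing no nontrivial 2-subgroup. -/
def IsFree (g : G) : Prop :=
  orderOf g = 3 ∧ ∀ Q : Subgroup G, IsPGroup 2 ↥Q → g ∈ Subgroup.normalizer (Q : Set G) → Q = ⊥

theorem IsFree.inv {g : G} (h : IsFree g) : IsFree g⁻¹ :=
  ⟨(orderOf_inv g).trans h.1, fun Q hQ hn => h.2 Q hQ (inv_inv g ▸ inv_mem hn)⟩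

theorem IsFree.card_centralizer_odd {g : G} (h : IsFree g) :
    ¬ 2 ∣ Nat.card (Subgroup.centralizer ({g} : Set G)) := by
  intro hd
  obtain ⟨⟨t, ht⟩, hto⟩ := exists_prime_orderOf_dvd_card' 2 hd
  rw [Subgroup.orderOf_mk] at hto
  have hp : IsPGroup 2 (Subgroup.zpowers t) := IsPGroup.of_card (n := 1) (by rw [Nat.card_zpowers, hto, pow_one])
  have hc : t * g = g * t := Subgroup.mem_centralizer_singleton_iff.mp ht
  have hn : g ∈ Subgroup.normalizer (Subgroup.zpowers t : Set G) := by
    rw [Subgroup.mem_normalizer_iff]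
    intro x
    have hfix : ∀ z ∈ Subgroup.zpowers t, g * z * g⁻¹ = z := by
      rintro _ ⟨i, rfl⟩
      rw [(Commute.zpow_right (show Commute g t from hc.symm) i).eq, mul_inv_cancel_right]
    refine ⟨fun hx => by rw [hfix x hx]; exact hx, fun hx => ?_⟩
    have := hfix _ hx
    rw [mul_right_cancel_iff, mul_right_inj] at this
    exact this ▸ hx
  have := h.2 _ hp hn
  rw [Subgroup.zpowers_eq_bot] at this
  rw [this, orderOf_one] at hto
  exact absurd hto (by decide)

open scoped Classical in
/-- The parity of the number of factorisations of `y` inside one class. -/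
theorem classConst_mod_two {x y : G} (hx : orderOf x = 3) (hy : IsFree y) :
    classConst x x y % 2 = if IsConj x y⁻¹ then 1 else 0 := by
  classical
  have hy3 : y ^ 3 = 1 := hy.1 ▸ pow_orderOf_eq_one y
  let S := {a : G // IsConj x a ∧ IsConj x (a⁻¹ * y)}
  have hS : classConst x x y = Nat.card S := Nat.card_congr
    { toFun := fun q => ⟨q.1.1, q.2.1, by
        have h := q.2.2.2
        rw [show q.1.1⁻¹ * y = q.1.2 from inv_mul_eq_iff_eq_mul.mpr h.symm]
        exact q.2.2.1⟩
      invFun := fun a => ⟨(a.1, a.1⁻¹ * y), a.2.1, a.2.2, mul_inv_cancel_left _ _⟩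
      left_inv := fun q => Subtype.ext (Prod.ext rfl (inv_mul_eq_iff_eq_mul.mpr q.2.2.2.symm))
      right_inv := fun a => rfl }
  have hstep : ∀ a : G, IsConj x a → IsConj x (a⁻¹ * y) →
      IsConj x (y⁻¹ * a⁻¹ * y * y) ∧ IsConj x ((y⁻¹ * a⁻¹ * y * y)⁻¹ * y) := by
    intro a ha hb
    refine ⟨hb.trans (isConj_iff.mpr ⟨y⁻¹, by group⟩), ha.trans (isConj_iff.mpr ⟨y⁻¹ * y⁻¹, by simp [mul_assoc]⟩)⟩
  let f : S → S := fun a => ⟨y⁻¹ * a.1⁻¹ * y * y, hstep a.1 a.2.1 a.2.2⟩
  have hinv : Function.Involutive f := fun a => Subtype.ext (by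
    show y⁻¹ * (y⁻¹ * a.1⁻¹ * y * y)⁻¹ * y * y = a.1
    rw [show y⁻¹ * (y⁻¹ * a.1⁻¹ * y * y)⁻¹ * y * y = (y ^ 3)⁻¹ * a.1 * y ^ 3 by simp [pow_succ, mul_assoc], hy3]
    simp)
  let σ : Equiv.Perm S := hinv.toPerm f
  have hσ : IsPGroup 2 (Subgroup.zpowers σ) := by
    intro g
    obtain ⟨i, hi⟩ := g.2
    refine ⟨1, Subtype.ext ?_⟩
    have hσ2 : σ * σ = 1 := Equiv.ext fun a => hinv a
    rw [SubgroupClass.coe_pow, pow_one, ← hi, sq, ← (Commute.refl σ).mul_zpow, hσ2, one_zpow]
    rfl
  have hmod := hσ.card_modEq_card_fixedPoints S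
  have hfixed : ∀ a : S, f a = a → a.1 = y⁻¹ := by
    intro a ha
    have e : y⁻¹ * a.1⁻¹ * y * y = a.1 := congrArg Subtype.val ha
    set t := a.1 * y with ht
    have hyy : y * y = y⁻¹ := eq_inv_of_mul_eq_one_left (by rw [← pow_two, ← pow_succ]; exact hy3)
    have hay : a.1 * y * a.1 = y * y := by
      have e2 : a.1⁻¹ * y * y = y * a.1 := by
        have := congrArg (y * ·) e
        simpa [mul_assoc] using this
      calc a.1 * y * a.1 = a.1 * (y * a.1) := by group
        _ = y * y := by rw [← e2]; group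
    have ht2 : t * t = 1 := by
      calc t * t = a.1 * y * a.1 * y := by rw [ht]; group
        _ = y ^ 3 := by rw [hay]; simp [pow_succ]
        _ = 1 := hy3
    by_contra hne
    have ht1 : t ≠ 1 := fun h => hne (eq_inv_of_mul_eq_one_left h)
    have ha3 : a.1 ^ 3 = 1 := by
      obtain ⟨k, hk⟩ := isConj_iff.mp a.2.1
      rw [← hk, conj_pow, ← hx, pow_orderOf_eq_one]
      simp
    set t1 := y⁻¹ * t * y with ht1'
    set t2 := y⁻¹ * t1 * y with ht2'
    have hprod : t * t1 * t2 = 1 := by
      rw [ht1', ht2', ht1', show t * (y⁻¹ * t * y) * (y⁻¹ * (y⁻¹ * t * y) * y) =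
        (t * y⁻¹) ^ 3 * y ^ 3 by simp [pow_succ, mul_assoc], show t * y⁻¹ = a.1 by rw [ht]; group, ha3, hy3, one_mul]
    have h11 : t1 * t1 = 1 := by rw [ht1', show y⁻¹ * t * y * (y⁻¹ * t * y) = y⁻¹ * (t * t) * y by group, ht2]; group
    have h22 : t2 * t2 = 1 := by rw [ht2', show y⁻¹ * t1 * y * (y⁻¹ * t1 * y) = y⁻¹ * (t1 * t1) * y by group, h11]; group
    have e12 : t * t1 = t2 := (eq_inv_of_mul_eq_one_left hprod).trans (inv_eq_of_mul_eq_one_right h22)
    have e21 : t1 * t = t2 := by
      rw [← inv_eq_of_mul_eq_one_right h22, ← e12, mul_inv_rev, inv_eq_of_mul_eq_one_right h11,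
        inv_eq_of_mul_eq_one_right ht2]
    have hc : Commute t t1 := e12.trans e21.symm
    let Q : Subgroup G := Subgroup.closure {t, t1}
    have hQp : IsPGroup 2 Q := by
      have hcomm : ∀ u ∈ ({t, t1} : Set G), ∀ v ∈ ({t, t1} : Set G), u * v = v * u := by
        rintro u (rfl | rfl) v (rfl | rfl)
        · rfl
        · exact hc.eq
        · exact hc.symm.eq
        · rfl
      have hQc := Subgroup.isMulCommutative_closure hcomm
      intro z
      refine ⟨1, Subtype.ext ?_⟩
      rw [SubgroupClass.coe_pow, pow_one, OneMemClass.coe_one]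
      obtain ⟨z, hz⟩ := z
      show z ^ 2 = 1
      induction hz using Subgroup.closure_induction with
      | mem u hu =>
        rw [sq]
        rcases hu with rfl | rfl
        · exact ht2
        · exact h11
      | one => exact one_pow 2
      | mul u v hu hv iu iv =>
        have huv : Commute u v := congrArg Subtype.val (hQc.is_comm.comm (⟨u, hu⟩ : Q) ⟨v, hv⟩)
        rw [huv.mul_pow, iu, iv, mul_one]
      | inv u _ iu => rw [inv_pow, iu, inv_one]
    have htQ : t ∈ Q := Subgroup.subset_closure (Or.inl rfl)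
    have ht1Q : t1 ∈ Q := Subgroup.subset_closure (Or.inr rfl)
    have hmap : ∀ q ∈ Q, y⁻¹ * q * y ∈ Q := by
      intro q hq
      have : (MulAut.conj y⁻¹).toMonoidHom q ∈ Q.map (MulAut.conj y⁻¹).toMonoidHom :=
        Subgroup.mem_map_of_mem _ hq
      rw [MonoidHom.map_closure] at this
      have hle : Subgroup.closure ((MulAut.conj y⁻¹).toMonoidHom '' {t, t1}) ≤ Q :=
        (Subgroup.closure_le _).mpr (by
          rintro _ ⟨u, (rfl | rfl), rfl⟩
          · simpa [ht1'] using ht1Q
          · have h2 : t2 ∈ Q := e12 ▸ Q.mul_mem htQ ht1Q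
            simpa [ht2'] using h2)
      simpa using hle this
    have hn : y ∈ Subgroup.normalizer (Q : Set G) := by
      have h2 : y⁻¹ ∈ Subgroup.normalizer (Q : Set G) := by
        rw [Subgroup.mem_normalizer_iff]
        intro q
        refine ⟨fun hq => by simpa using hmap q hq, fun hq => ?_⟩
        have := hmap _ (hmap _ (by simpa using hq : y⁻¹ * q * y ∈ Q))
        rwa [show y⁻¹ * (y⁻¹ * (y⁻¹ * q * y) * y) * y = (y ^ 3)⁻¹ * q * y ^ 3 by simp [pow_succ, mul_assoc], hy3, inv_one,
          one_mul, mul_one] at this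
      simpa using inv_mem h2
    exact ht1 (Subgroup.mem_bot.mp (hy.2 Q hQp hn ▸ htQ))
  have hcardfix : Nat.card (MulAction.fixedPoints (Subgroup.zpowers σ) S) = if IsConj x y⁻¹ then 1 else 0 := by
    have hmem : ∀ a : S, a ∈ MulAction.fixedPoints (Subgroup.zpowers σ) S ↔ f a = a := by
      intro a
      refine ⟨fun h => h ⟨σ, Subgroup.mem_zpowers σ⟩, fun h g => ?_⟩
      obtain ⟨i, hi⟩ := g.2
      show (g : Equiv.Perm S) a = a
      rw [← hi]
      exact Equiv.Perm.zpow_apply_eq_self_of_apply_eq_self h i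
    split_ifs with h
    · have hb : IsConj x (y⁻¹⁻¹ * y) := by
        rw [inv_inv, show y * y = y⁻¹ from eq_inv_of_mul_eq_one_left (by rw [← pow_two, ← pow_succ]; exact hy3)]
        exact h
      rw [Nat.card_eq_one_iff_unique]
      refine ⟨⟨fun a b => Subtype.ext (Subtype.ext ((hfixed _ ((hmem _).mp a.2)).trans
        (hfixed _ ((hmem _).mp b.2)).symm))⟩, ⟨⟨⟨y⁻¹, h, hb⟩, (hmem _).mpr (Subtype.ext ?_)⟩⟩⟩
      show y⁻¹ * y⁻¹⁻¹ * y * y = y⁻¹
      rw [inv_inv, inv_mul_cancel, one_mul]
      exact eq_inv_of_mul_eq_one_left (by rw [← pow_two, ← pow_succ]; exact hy3)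
    · rw [Nat.card_eq_zero]
      refine Or.inl ⟨fun a => h ?_⟩
      have := a.1.2.1
      rwa [hfixed _ ((hmem _).mp a.2)] at this
  rw [hS]
  have h2 : Nat.card S % 2 = _ % 2 := hmod
  rw [h2, hcardfix]
  split_ifs <;> rfl

/-- Robinson: characters of 2-defect zero are at least as many as these classes. -/
theorem card_classes_le :
    Nat.card {C : ConjClasses G // ∃ g ∈ C.carrier, orderOf g = 3 ∧ ∀ Q : Subgroup G, IsPGroup 2 ↥Q →
        g ∈ Subgroup.normalizer (Q : Set G) → Q = ⊥} ≤
      Nat.card {χ : IrrCharacter G //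
        (charDegree (χ : G → ℂ)).factorization 2 = (Nat.card G).factorization 2} := by
  classical
  haveI := Fintype.ofFinite G
  haveI := Fintype.ofFinite (IrrCharacter G)
  obtain ⟨M, hM⟩ := exists_pModular Nat.prime_two
  haveI : M.IsMaximal := hM.2.1
  haveI := charP_resField hM
  set ι := {C : ConjClasses G // ∃ g ∈ C.carrier, orderOf g = 3 ∧ ∀ Q : Subgroup G, IsPGroup 2 ↥Q →
    g ∈ Subgroup.normalizer (Q : Set G) → Q = ⊥}
  set Z := {χ : IrrCharacter G // (charDegree (χ : G → ℂ)).factorization 2 = (Nat.card G).factorization 2}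
  haveI := Fintype.ofFinite ι
  haveI := Fintype.ofFinite Z
  by_contra hlt
  rw [not_le, Nat.card_eq_fintype_card, Nat.card_eq_fintype_card] at hlt
  choose g hgC hg using fun C : ι => C.2
  have hval : ∀ (χ : IrrCharacter G) (a : G), (χ : G → ℂ) a ∈ locRing M := fun χ a =>
    integral_mem M (isCharacter_isIntegral (isCharacter_irr χ) a)
  let v : IrrCharacter G → G → ResField M := fun χ a => res M ⟨_, hval χ a⟩
  let L : (ι → ResField M) →ₗ[ResField M] (Z → ResField M) :=
    { toFun := fun c χ => ∑ i, c i * v χ.1 (g i)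
      map_add' := fun a b => funext fun χ => by simp [add_mul, Finset.sum_add_distrib]
      map_smul' := fun a b => funext fun χ => by simp [Finset.mul_sum, mul_assoc] }
  have hker : LinearMap.ker L ≠ ⊥ := LinearMap.ker_ne_bot_of_finrank_lt (by
    rw [Module.finrank_fintype_fun_eq_card, Module.finrank_fintype_fun_eq_card]; exact hlt)
  obtain ⟨c, hc, hc0⟩ := Submodule.exists_mem_ne_zero_of_ne_bot hker
  obtain ⟨i₀, hi₀⟩ := Function.ne_iff.mp hc0
  have hfree : ∀ i, IsFree (g i) := fun i => hg i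
  have hy : IsFree (g i₀)⁻¹ := (hfree i₀).inv
  set y := (g i₀)⁻¹
  -- the residue of the class multiplication coefficient
  have key : ∀ i, (classConst (g i) (g i) y : ResField M) =
      ∑ χ : Z, v χ.1 (g i) ^ 2 * v χ.1 y⁻¹ := by
    intro i
    have hi := (hfree i).card_centralizer_odd
    set ca := Nat.card (Subgroup.centralizer ({g i} : Set G)) with hca
    have hcl : (Nat.card {z : G // IsConj (g i) z} : ℂ) = (Nat.card G : ℂ) / ca := by
      rw [card_isConj, eq_div_iff (by exact_mod_cast Nat.card_pos.ne'), ← Nat.cast_mul, Subgroup.index_mul_card]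
    have hdvd : ∀ χ : IrrCharacter G, charDegree (χ : G → ℂ) ∣ Nat.card G := fun χ =>
      degree_dvd_card χ (CfsgLib.Block.charDegree_eq χ).1
    have hconj : ∀ χ : IrrCharacter G, conj ((χ : G → ℂ) y) = (χ : G → ℂ) y⁻¹ := fun χ =>
      (irr_inv χ y).symm
    have heq : (classConst (g i) (g i) y : locRing M) = ∑ χ : IrrCharacter G,
        ((Nat.card G / charDegree (χ : G → ℂ) : ℕ) : locRing M) * invNat hM hi * invNat hM hi *
          (⟨_, hval χ (g i)⟩ ^ 2 * ⟨_, hval χ y⁻¹⟩) := by
      refine Subtype.ext ?_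
      push_cast
      rw [classConst_formula, finsum_eq_sum_of_fintype, Finset.mul_sum]
      refine Finset.sum_congr rfl fun χ _ => ?_
      rw [hcl, hconj χ, Nat.cast_div (hdvd χ) (by exact_mod_cast (CfsgLib.Block.charDegree_eq χ).2),
        (CfsgLib.Block.charDegree_eq χ).1]
      simp only [invNat]
      have h1 : (Nat.card G : ℂ) ≠ 0 := by exact_mod_cast Nat.card_pos.ne'
      field_simp
    have h2 := congrArg (res M) heq
    rw [map_natCast, map_sum] at h2
    rw [h2]
    have hone : res M (invNat hM hi) = 1 := by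
      have h3 := congrArg (res M) (invNat_mul hM hi)
      rwa [map_mul, map_natCast, map_one, CharTwo.natCast_eq_mod, Nat.two_dvd_ne_zero.mp hi, Nat.cast_one,
        mul_one] at h3
    have hterm : ∀ χ : IrrCharacter G, res M (((Nat.card G / charDegree (χ : G → ℂ) : ℕ) : locRing M) *
        invNat hM hi * invNat hM hi * (⟨_, hval χ (g i)⟩ ^ 2 * ⟨_, hval χ y⁻¹⟩)) =
        if (charDegree (χ : G → ℂ)).factorization 2 = (Nat.card G).factorization 2 then
          v χ (g i) ^ 2 * v χ y⁻¹ else 0 := by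
      intro χ
      simp only [map_mul, map_pow, map_natCast, hone, mul_one]
      set m := Nat.card G / charDegree (χ : G → ℂ) with hm
      have hfac : m.factorization 2 =
          (Nat.card G).factorization 2 - (charDegree (χ : G → ℂ)).factorization 2 := by
        rw [hm, Nat.factorization_div (hdvd χ)]
        rfl
      have hm0 : m ≠ 0 := Nat.ne_of_gt (Nat.div_pos (Nat.le_of_dvd Nat.card_pos (hdvd χ))
        (Nat.pos_of_ne_zero (CfsgLib.Block.charDegree_eq χ).2))
      split_ifs with h
      · have hmodd : ¬ 2 ∣ m := fun hd => by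
          have := Nat.prime_two.factorization_pos_of_dvd hm0 hd
          omega
        rw [CharTwo.natCast_eq_mod, Nat.two_dvd_ne_zero.mp hmodd, Nat.cast_one, one_mul]
      · have hev : 2 ∣ m := by
          refine Nat.dvd_of_factorization_pos ?_
          have := (Nat.factorization_le_iff_dvd (CfsgLib.Block.charDegree_eq χ).2 Nat.card_pos.ne').mpr
            (hdvd χ) 2
          omega
        rw [CharTwo.natCast_eq_mod, Nat.mod_eq_zero_of_dvd hev, Nat.cast_zero, zero_mul]
    rw [Finset.sum_congr rfl fun χ _ => hterm χ, ← Finset.sum_filter]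
    exact Finset.sum_subtype _ (fun χ => by simp) (fun χ : IrrCharacter G => v χ (g i) ^ 2 * v χ y⁻¹)
  have hdiag : ∀ i, (classConst (g i) (g i) y : ResField M) = if i = i₀ then 1 else 0 := by
    intro i
    rw [CharTwo.natCast_eq_mod, classConst_mod_two (hfree i).1 hy, show y⁻¹ = g i₀ from inv_inv _]
    have hiff : IsConj (g i) (g i₀) ↔ i = i₀ := by
      rw [← ConjClasses.mk_eq_mk_iff_isConj, ConjClasses.mem_carrier_iff_mk_eq.mp (hgC i),
        ConjClasses.mem_carrier_iff_mk_eq.mp (hgC i₀)]
      exact Subtype.ext_iff.symm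
    simp only [hiff]
    split_ifs <;> simp
  have hzero : ∑ i, c i ^ 2 * (classConst (g i) (g i) y : ResField M) = 0 := by
    simp only [key, Finset.mul_sum]
    rw [Finset.sum_comm]
    refine Finset.sum_eq_zero fun χ _ => ?_
    have hLc : ∑ i, c i * v χ.1 (g i) = 0 := congrFun (LinearMap.mem_ker.mp hc) χ
    calc ∑ i, c i ^ 2 * (v χ.1 (g i) ^ 2 * v χ.1 y⁻¹)
        = (∑ i, c i * v χ.1 (g i)) ^ 2 * v χ.1 y⁻¹ := by
          rw [CharTwo.sum_sq, Finset.sum_mul]
          exact Finset.sum_congr rfl fun i _ => by rw [mul_pow, mul_assoc]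
      _ = 0 := by rw [hLc]; simp
  rw [Finset.sum_eq_single i₀ (fun i _ hi => by rw [hdiag, if_neg hi, mul_zero])
    (fun h => absurd (Finset.mem_univ _) h), hdiag, if_pos rfl, mul_one] at hzero
  exact hi₀ (eq_zero_of_pow_eq_zero hzero)

end CfsgLib.Block.ThreeClasses
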