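import Cfsg.Agent.Lib.Block.LocalTracial
import Cfsg.Agent.Lib.Block.Transfer
import Cfsg.Agent.Lib.Block.Separated
import Cfsg.Agent.Lib.Block.Reduced
import Cfsg.Agent.Lib.Block.Cyclic.CoprimeModule

/-!
# Blocks with two irreducible characters

The residue algebra of such a block has primitive idempotents with corners of dimension at most two;
`exists_both`: some nonnegative combination with coefficient square sum at most two vanishes at the singular elements.
-/

open Finset MonoidAlgebra
open scoped ComplexConjugate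

set_option autoImplicit false
set_option linter.unusedSectionVars false

namespace CfsgLib.Block.TwoChar

open Cfsg CfsgLib.Char CfsgLib.Block CfsgLib.Block.LocalAlg

universe u

section algebra

variable {k : Type*} [Field k] {A : Type*} [Ring A] [Algebra k A] [FiniteDimensional k A]

theorem exists_primitive (I : Submodule k A) (g : A) (hg : g * g = g) (hgI : g ∉ I) :
    ∃ f : A, f * f = f ∧ g * f = f ∧ f * g = f ∧ f ∉ I ∧
      ∀ a : A, a * a = a → f * a = a → a * f = a → a = 0 ∨ a = f := by
  classical
  let R : A → Submodule k A := fun a =>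
    LinearMap.range ((LinearMap.mulLeft k a).comp (LinearMap.mulRight k a))
  have hR : ∀ a y, y ∈ R a ↔ ∃ z, a * (z * a) = y := fun a y => Iff.rfl
  induction hn : Module.finrank k (R g) using Nat.strong_induction_on generalizing g with
  | _ n ih =>
    subst hn
    by_cases hp : ∀ a : A, a * a = a → g * a = a → a * g = a → a = 0 ∨ a = g
    · exact ⟨g, hg, hg, hg, hgI, hp⟩
    push Not at hp
    obtain ⟨a, ha, hga, hag, ha0, hag'⟩ := hp
    have key : ∀ b : A, b * b = b → g * b = b → b * g = b → b ≠ g → b ∉ I →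
        ∃ f : A, f * f = f ∧ g * f = f ∧ f * g = f ∧ f ∉ I ∧
          ∀ a : A, a * a = a → f * a = a → a * f = a → a = 0 ∨ a = f := by
      intro b hb hgb hbg hne hbI
      have hlt : R b < R g := by
        refine lt_of_le_of_ne (fun y hy => ?_) fun e => hne ?_
        · obtain ⟨z, rfl⟩ := (hR b y).mp hy
          refine (hR g _).mpr ⟨b * (z * b), ?_⟩
          rw [mul_assoc b, mul_assoc z, hbg, ← mul_assoc g, hgb]
        · have hgR : g ∈ R b := e.symm ▸ (hR g g).mpr ⟨1, by rw [one_mul, hg]⟩
          obtain ⟨z, hz⟩ := (hR b g).mp hgR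
          rw [← hbg]
          conv_lhs => rw [← hz, ← mul_assoc b b, hb]
          exact hz
      obtain ⟨f, hf, hbf, hfb, hfI, hfp⟩ := ih _ (Submodule.finrank_lt_finrank_of_lt hlt) b hb hbI rfl
      refine ⟨f, hf, ?_, ?_, hfI, hfp⟩
      · rw [← hbf, ← mul_assoc, hgb]
      · rw [← hfb, mul_assoc, hbg]
    by_cases haI : a ∈ I
    · refine key (g - a) ?_ ?_ ?_ (fun e => ha0 (by simpa using e)) fun h => hgI ?_
      · rw [sub_mul, mul_sub, mul_sub, hg, hga, hag, ha]; abel
      · rw [mul_sub, hg, hga]
      · rw [sub_mul, hg, hag]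
      · simpa using add_mem h haI
    · exact key a ha hga hag hag' haI

end algebra

variable {p : ℕ} {M : Ideal AlgInt} [M.IsMaximal] {G : Type u} [Group G] [Fintype G] [DecidableEq G]
  [Fintype (IrrCharacter G)]

theorem evalGA_add (f : G → ℂ) (c d : MonoidAlgebra (locRing M) G) :
    evalGA f (c + d) = evalGA f c + evalGA f d := by
  simp [evalGA, add_mul, Finset.sum_add_distrib]

/-- Values at multiples of a block idempotent. -/
theorem evalGA_mul_blockIdem (hM : IsPModular p M) {S : Set (IrrCharacter G)} (hS : IsBlockUnion M S)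
    [DecidablePred (· ∈ S)] (ψ : IrrCharacter G) (z : MonoidAlgebra (locRing M) G) :
    evalGA (ψ : G → ℂ) (z * (blockIdem M S : MonoidAlgebra (locRing M) G)) =
      if ψ ∈ S then evalGA (ψ : G → ℂ) z else 0 := by
  obtain ⟨n, ρ, hρ, hψ⟩ := ψ.2
  have htr : ∀ w : MonoidAlgebra (locRing M) G,
      evalGA (ψ : G → ℂ) w = LinearMap.trace ℂ _ (ρ.asAlgebraHom (toC M w)) := fun w => by
    rw [Representation.asAlgebraHom_def, MonoidAlgebra.lift_apply,
      Finsupp.sum_fintype _ _ (fun g => by simp), map_sum, evalGA]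
    exact Finset.sum_congr rfl fun t _ => by rw [map_smul, smul_eq_mul, coeff_toC, ← hψ]; rfl
  have he := rho_classElt ρ (isClassElt_toC (blockIdem M S))
  rw [hψ, toC_blockIdem hM hS, omega_gaOfFun_blockCoeff] at he
  rw [htr, map_mul, map_mul, toC_blockIdem hM hS, he, htr]
  by_cases h : ψ ∈ S <;> simp [h]

/-- The value of a tracial functional lift at a multiple of a block idempotent. -/
theorem evalGA_classFun_mul_blockIdem (hM : IsPModular p M) {S : Set (IrrCharacter G)}
    (hS : IsBlockUnion M S) [DecidablePred (· ∈ S)] {F : G → ℂ} (hF : IsClassFunction G F)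
    (z : MonoidAlgebra (locRing M) G) :
    evalGA F (z * (blockIdem M S : MonoidAlgebra (locRing M) G)) =
      ∑ ψ ∈ Finset.univ.filter (· ∈ S), classInner F (ψ : G → ℂ) * evalGA (ψ : G → ℂ) z := by
  have hlin : ∀ w : MonoidAlgebra (locRing M) G,
      evalGA F w = ∑ ψ : IrrCharacter G, classInner F (ψ : G → ℂ) * evalGA (ψ : G → ℂ) w := fun w => by
    conv_lhs => rw [Char.classFun_expand hF]
    simp only [evalGA, Finset.sum_apply, Pi.smul_apply, smul_eq_mul, Finset.mul_sum]
    rw [Finset.sum_comm]
    exact Finset.sum_congr rfl fun ψ _ => Finset.sum_congr rfl fun t _ => by ring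
  rw [hlin, Finset.sum_filter]
  refine Finset.sum_congr rfl fun ψ _ => ?_
  rw [evalGA_mul_blockIdem hM hS]
  split_ifs <;> simp

theorem linMap_apply (φ : MonoidAlgebra (ResField M) G →ₗ[ResField M] ResField M)
    (y : MonoidAlgebra (ResField M) G) : φ y = ∑ t, y.coeff t * φ (single t 1) := by
  conv_lhs => rw [show y = ∑ t, single t (y.coeff t) from ga_ext fun t => by
    rw [coeff_sum_apply, Finset.sum_eq_single t] <;> simp +contextual]
  rw [map_sum]
  refine Finset.sum_congr rfl fun t _ => ?_
  rw [show single t (y.coeff t) = y.coeff t • single t (1 : ResField M) by simp, map_smul, smul_eq_mul]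

theorem single_conj {R : Type*} [CommRing R] (g h : G) :
    single (h * g * h⁻¹) (1 : R) = single h 1 * (single g 1 * single h⁻¹ 1) := by
  simp [MonoidAlgebra.single_mul_single, mul_assoc]

/-- At most two independent tracial functionals live on a block with two characters. -/
theorem not_linearIndependent_of_two (hM : IsPModular p M) {B : Set (IrrCharacter G)} (hB : IsPBlock M B)
    {χ₁ χ₂ : IrrCharacter G} (hne : χ₁ ≠ χ₂) (hBeq : B = {χ₁, χ₂})
    (φ : Fin 3 → MonoidAlgebra (ResField M) G →ₗ[ResField M] ResField M)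
    (htr : ∀ i x y, φ i (x * y) = φ i (y * x))
    (hsupp : ∀ i y, φ i (y * toK M (blockIdem M B : MonoidAlgebra (locRing M) G)) = φ i y) :
    ¬ LinearIndependent (ResField M) φ := by
  classical
  intro hli
  choose l hl using res_surjective (M := M)
  let F : Fin 3 → G → ℂ := fun i g => (l (φ i (single g 1)) : ℂ)
  have hF : ∀ i, IsClassFunction G (F i) := fun i g h => by
    simp only [F]
    rw [single_conj, htr i, mul_assoc, MonoidAlgebra.single_mul_single, inv_mul_cancel, one_mul,
      ← MonoidAlgebra.one_def, mul_one]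
  let FL : Fin 3 → G → locRing M := fun i g =>
    ∑ t, (single g 1 * (blockIdem M B : MonoidAlgebra (locRing M) G)).coeff t * l (φ i (single t 1))
  have hFLres : ∀ i g, res M (FL i g) = φ i (single g 1) := fun i g => by
    rw [← hsupp i (single g 1), linMap_apply, map_sum]
    refine Finset.sum_congr rfl fun t _ => ?_
    rw [map_mul, hl, ← coeff_toK, map_mul]
    congr 2
    simp [toK]
  have hFL : ∀ i g, (FL i g : ℂ) = classInner (F i) (χ₁ : G → ℂ) * (χ₁ : G → ℂ) g +
      classInner (F i) (χ₂ : G → ℂ) * (χ₂ : G → ℂ) g := fun i g => by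
    have e := evalGA_classFun_mul_blockIdem hM (.of_isPBlock hB) (hF i) (single g 1)
    rw [show Finset.univ.filter (· ∈ B) = ({χ₁, χ₂} : Finset (IrrCharacter G)) by ext; simp [hBeq],
      Finset.sum_pair hne] at e
    have h1 : ∀ ψ : IrrCharacter G, evalGA (ψ : G → ℂ) (single g (1 : locRing M)) = (ψ : G → ℂ) g := fun ψ => by
      rw [evalGA, Finset.sum_eq_single g] <;> simp +contextual
    rw [h1, h1] at e
    rw [← e, evalGA]
    simp [FL, F]
  let f : Fin 3 → G → ResField M := fun i g => φ i (single g 1)
  have hinj : LinearMap.ker (Fintype.linearCombination (ResField M) f) = ⊥ := by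
    refine LinearMap.ker_eq_bot'.mpr fun c hc => ?_
    rw [Fintype.linearIndependent_iff] at hli
    refine funext fun i => hli c (LinearMap.ext fun y => ?_) i
    rw [LinearMap.sum_apply, LinearMap.zero_apply]
    simp only [LinearMap.smul_apply, linMap_apply _ y, smul_eq_mul, Finset.mul_sum]
    rw [Finset.sum_comm]
    refine Finset.sum_eq_zero fun t _ => ?_
    have := congrFun hc t
    rw [Fintype.linearCombination_apply, Finset.sum_apply] at this
    simp only [Pi.smul_apply, smul_eq_mul, Pi.zero_apply, f] at this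
    rw [← mul_zero (y.coeff t), ← this, Finset.mul_sum]
  obtain ⟨L, hL⟩ := LinearMap.exists_leftInverse_of_injective _ hinj
  obtain ⟨sel, -, -, hdet⟩ := exists_injective_det_ne_zero (K := ResField M) (Finset.univ : Finset G)
    (fun b i => f i b) (fun b j => L (Pi.single b 1) j) fun i j => by
      have e := congrFun (LinearMap.congr_fun hL (Pi.single i 1)) j
      rw [LinearMap.comp_apply, Fintype.linearCombination_apply_single, one_smul, LinearMap.id_apply,
        pi_eq_sum_univ (f i)] at e
      rw [map_sum, Finset.sum_apply, Pi.single_apply] at e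
      rw [show (if i = j then (1 : ResField M) else 0) = if j = i then 1 else 0 by simp only [eq_comm], ← e]
      refine Finset.sum_congr rfl fun b _ => ?_
      rw [map_smul, Pi.smul_apply, smul_eq_mul]
      rw [show (fun x => if b = x then (1 : ResField M) else 0) = Pi.single b 1 from
        funext fun x => by simp [Pi.single_apply, eq_comm]]
  set D : Matrix (Fin 3) (Fin 3) (locRing M) := Matrix.of fun a j => FL j (sel a) with hD
  have h1 : (Matrix.of fun a j => f j (sel a)) = D.map (res M) := Matrix.ext fun a j => (hFLres j (sel a)).symm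
  rw [h1, ← RingHom.mapMatrix_apply, ← RingHom.map_det] at hdet
  refine hdet ?_
  rw [show D.det = 0 from Subtype.ext ?_, map_zero]
  rw [show ((D.det : locRing M) : ℂ) = (D.map (locRing M).subtype).det from RingHom.map_det (locRing M).subtype D]
  have hfac : D.map (locRing M).subtype =
      Matrix.of (fun a => ![(χ₁ : G → ℂ) (sel a), (χ₂ : G → ℂ) (sel a), 0]) *
        Matrix.of (fun c j => ![classInner (F j) (χ₁ : G → ℂ), classInner (F j) (χ₂ : G → ℂ), 0] c) := by
    refine Matrix.ext fun a j => ?_
    show (FL j (sel a) : ℂ) = _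
    rw [hFL, Matrix.mul_apply, Fin.sum_univ_three]
    simp
    ring
  rw [hfac, Matrix.det_mul, Matrix.det_eq_zero_of_column_eq_zero 2 (fun a => by simp), zero_mul]
  rfl

/-- A primitive idempotent gives a character-like functional. -/
theorem exists_functional (hM : IsPModular p M) [IsAlgClosed (ResField M)]
    {f : MonoidAlgebra (ResField M) G} (hf : IsIdempotentElem f) (hf0 : f ≠ 0)
    (hprim : ∀ a, a * a = a → f * a = a → a * f = a → a = 0 ∨ a = f) :
    ∃ τ : G → ResField M, (∀ g h : G, τ (h * g * h⁻¹) = τ g) ∧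
      (∀ u w : G, Commute u w → (∃ j : ℕ, u ^ p ^ j = 1) → τ (u * w) = τ w) ∧
      ∑ t, f.coeff t * τ t = 1 ∧
      ∀ y : MonoidAlgebra (ResField M) G,
        (∀ a b, f * a * y * b * f ≠ 0 → IsNilpotent (cornerProj (ResField M) hf (a * y * b))) →
          ∑ t, y.coeff t * τ t = 0 := by
  classical
  haveI : Fact p.Prime := ⟨hM.1⟩
  haveI := charP_resField hM
  haveI : Nontrivial hf.Corner := corner_nontrivial hf0
  obtain ⟨ε, hε⟩ := exists_scalar_hom (k := ResField M) (A := hf.Corner) (corner_idem hprim)
  let e : MonoidAlgebra (ResField M) G →ₗ[ResField M] ResField M :=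
    ε.toLinearMap.comp (cornerProj (ResField M) hf)
  have he1 : e f = 1 := by
    show ε (cornerProj (ResField M) hf f) = 1
    rw [← map_one ε]
    exact congrArg ε (Subtype.ext (show f * f * f = f by rw [hf.eq, hf.eq]))
  have hemul : ∀ a b, e (a * f * b) = e a * e b := fun a b => by
    show ε (cornerProj _ hf _) = ε (cornerProj _ hf a) * ε (cornerProj _ hf b)
    rw [← map_mul]
    refine congrArg ε (Subtype.ext ?_)
    show f * (a * f * b) * f = (f * a * f) * (f * b * f)
    rw [show (f * a * f) * (f * b * f) = f * a * (f * f) * b * f by simp only [mul_assoc], hf.eq]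
    simp only [mul_assoc]
  let Ψ : MonoidAlgebra (ResField M) G →ₗ[ResField M] (G → ResField M) :=
    LinearMap.pi fun a => e.comp (LinearMap.mulLeft (ResField M) (single a 1))
  set V : Submodule (ResField M) (G → ResField M) := LinearMap.range Ψ with hV
  have hlin : ∀ (y z : MonoidAlgebra (ResField M) G), e (y * z) = ∑ t, y.coeff t * e (single t 1 * z) :=
    fun y z => linMap_apply (e.comp (LinearMap.mulRight (ResField M) z)) y
  have hΨ : ∀ z a, Ψ z a = e (single a 1 * z) := fun z a => by simp [Ψ]
  have hact : ∀ y z, Cyclic.rightOp y (Ψ z) = Ψ (y * z) := fun y z => funext fun a => by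
    have h := linMap_apply ((e.comp (LinearMap.mulLeft (ResField M) (single a 1))).comp
      (LinearMap.mulRight (ResField M) z)) y
    simp only [LinearMap.comp_apply, LinearMap.mulLeft_apply, LinearMap.mulRight_apply] at h
    rw [Cyclic.rightOp_apply, hΨ, h]
    refine Finset.sum_congr rfl fun g _ => ?_
    rw [hΨ, ← mul_assoc (single a 1), MonoidAlgebra.single_mul_single, one_mul]
  have hinv : ∀ y, ∀ F ∈ V, Cyclic.rightOp y F ∈ V := by
    rintro y _ ⟨z, rfl⟩
    exact ⟨y * z, (hact y z).symm⟩
  let σ : MonoidAlgebra (ResField M) G →ₗ[ResField M] Module.End (ResField M) V :=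
    { toFun := fun y => (Cyclic.rightOp y).restrict (hinv y)
      map_add' := fun y z => LinearMap.ext fun F => Subtype.ext (by simp)
      map_smul' := fun c y => LinearMap.ext fun F => Subtype.ext (by simp) }
  have hσmul : ∀ y z, σ (y * z) = σ y * σ z := fun y z => LinearMap.ext fun F => Subtype.ext (by simp [σ])
  have hσ1 : σ 1 = 1 := LinearMap.ext fun F => Subtype.ext (by simp [σ])
  let tr : MonoidAlgebra (ResField M) G →ₗ[ResField M] ResField M :=
    (LinearMap.trace (ResField M) V).comp σ
  have hσval : ∀ y (F : V), ((σ y F : V) : G → ResField M) = Cyclic.rightOp y (F : G → ResField M) :=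
    fun y F => rfl
  have htrval : ∀ y, tr y = LinearMap.trace (ResField M) V (σ y) := fun y => rfl
  have heval : ∀ y, e y = ε (cornerProj (ResField M) hf y) := fun y => rfl
  refine ⟨fun g => tr (single g 1), fun g h => ?_, fun u w huw ⟨j, hj⟩ => ?_, ?_, fun y hy => ?_⟩
  · show LinearMap.trace _ _ (σ _) = LinearMap.trace _ _ (σ _)
    rw [single_conj, hσmul, LinearMap.trace_mul_comm, ← hσmul, mul_assoc,
      MonoidAlgebra.single_mul_single, inv_mul_cancel, one_mul, ← MonoidAlgebra.one_def, mul_one]
  · show LinearMap.trace _ _ (σ _) = LinearMap.trace _ _ (σ _)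
    rw [show single (u * w) (1 : ResField M) = single u 1 * single w 1 by simp [MonoidAlgebra.single_mul_single],
      hσmul]
    refine trace_mul_unipotent (p := p) (j := j) ?_ ?_
    · have hpow : ∀ n : ℕ, σ (single u 1) ^ n = σ (single (u ^ n) 1) := fun n => by
        induction n with
        | zero => rw [pow_zero, pow_zero, ← MonoidAlgebra.one_def, hσ1]
        | succ n ih => rw [pow_succ, ih, ← hσmul, MonoidAlgebra.single_mul_single, one_mul, pow_succ]
      rw [hpow, hj, ← MonoidAlgebra.one_def, hσ1]
    · show σ _ * σ _ = σ _ * σ _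
      rw [← hσmul, ← hσmul, MonoidAlgebra.single_mul_single, MonoidAlgebra.single_mul_single, huw.eq]
  · rw [← linMap_apply tr f]
    rw [htrval]
    let v0 : V := ⟨Ψ f, f, rfl⟩
    let ℓ : V →ₗ[ResField M] ResField M :=
      { toFun := fun F => ∑ g, f.coeff g * (F : G → ResField M) g
        map_add' := fun F F' => by simp [mul_add, Finset.sum_add_distrib]
        map_smul' := fun c F => by simp [Finset.mul_sum, mul_left_comm] }
    have hℓval : ∀ F, ℓ F = ∑ g, f.coeff g * (F : G → ResField M) g := fun F => rfl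
    have hv0 : (v0 : G → ResField M) = Ψ f := rfl
    have hℓ : σ f = ℓ.smulRight v0 := by
      refine LinearMap.ext fun Z => Subtype.ext ?_
      obtain ⟨z, hz⟩ := Z.2
      rw [hσval, LinearMap.smulRight_apply, Submodule.coe_smul, ← hz, hact]
      funext a
      rw [Pi.smul_apply, smul_eq_mul, hΨ]
      have hl : ℓ Z = e (f * z) := by
        rw [hℓval, ← hz, hlin]
        exact Finset.sum_congr rfl fun g _ => by rw [hΨ]
      rw [hl, hv0, hΨ, mul_comm, ← hemul]
      congr 1
      simp only [mul_assoc]
      rw [← mul_assoc f f, hf.eq, ← mul_assoc f f, hf.eq]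
    rw [hℓ, LinearMap.trace_smulRight, hℓval, hv0,
      Finset.sum_congr rfl fun g _ => by rw [hΨ], ← hlin, hf.eq, he1]
  · rw [← linMap_apply tr y, htrval]
    have : σ y = 0 := by
      refine LinearMap.ext fun Z => Subtype.ext ?_
      obtain ⟨z, hz⟩ := Z.2
      rw [hσval, LinearMap.zero_apply, ZeroMemClass.coe_zero, ← hz, hact]
      funext a
      rw [hΨ, Pi.zero_apply, heval, ← mul_assoc]
      by_cases h0 : f * single a 1 * y * z * f = 0
      · rw [show cornerProj (ResField M) hf (single a 1 * y * z) = 0 from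
          Subtype.ext (show f * (single a 1 * y * z) * f = 0 by simpa only [mul_assoc] using h0), map_zero]
      · obtain ⟨m, hm⟩ := (hy _ _ h0).map ε
        exact (pow_eq_zero_iff'.mp hm).1
    rw [this, map_zero]

/-- Functionals determined on regular elements are combinations of characters at idempotents. -/
theorem exists_combination (hM : IsPModular p M) (τ : G → ResField M)
    (hcl : ∀ g h : G, τ (h * g * h⁻¹) = τ g)
    (hreg : ∀ u w : G, Commute u w → (∃ j : ℕ, u ^ p ^ j = 1) → τ (u * w) = τ w) :
    ∃ a : IrrCharacter G → locRing M, ∀ (c : MonoidAlgebra (locRing M) G) (n : IrrCharacter G → ℕ),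
      c * c = c → (∀ ψ : IrrCharacter G, evalGA (ψ : G → ℂ) c = n ψ) →
        ∑ t, (toK M c).coeff t * τ t = ∑ ψ, res M (a ψ) * (n ψ : ResField M) := by
  classical
  choose l hl using res_surjective (M := M)
  obtain ⟨a, ha⟩ := exists_regular_expand hM (f := fun g => (l (τ g) : ℂ)) (fun y _ => SetLike.coe_mem _)
    (fun y z _ hyz => by
      obtain ⟨h, rfl⟩ := isConj_iff.mp hyz
      show (l (τ y) : ℂ) = (l (τ (h * y * h⁻¹)) : ℂ)
      rw [hcl])
  let F : G → locRing M := fun g => ∑ ψ : IrrCharacter G, a ψ * irrLoc M ψ g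
  have hF : ∀ g, res M (F g) = τ g := by
    intro g
    obtain ⟨x, y, hxy, hc, ⟨j, hj⟩, hy⟩ := exists_isPPart hM.1 g
    have hxj : x ^ p ^ j = 1 := by rw [← hj, pow_orderOf_eq_one]
    have h1 : res M (F g) = res M (F y) := by
      simp only [F, map_sum, map_mul]
      exact Finset.sum_congr rfl fun ψ _ => by rw [← hxy, res_irr_regularPart hM ψ hc hxj]
    have h2 : F y = l (τ y) := Subtype.ext (by rw [ha y hy]; simp [F, irrLoc])
    rw [h1, h2, hl, ← hxy, hreg x y hc ⟨j, hxj⟩]
  refine ⟨a, fun c n hc hn => ?_⟩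
  have e : (∑ t, c.coeff t * F t : locRing M) = ∑ ψ, a ψ * (n ψ : locRing M) := Subtype.ext (by
    push_cast
    simp only [F, AddSubmonoidClass.coe_finsetSum, Subring.coe_mul, irrLoc, Finset.mul_sum]
    rw [Finset.sum_comm]
    refine Finset.sum_congr rfl fun ψ _ => ?_
    rw [← hn, evalGA, Finset.mul_sum]
    exact Finset.sum_congr rfl fun t _ => by ring)
  have e' := congrArg (res M) e
  simp only [map_sum, map_mul, hF, map_natCast] at e'
  rw [← e']
  exact Finset.sum_congr rfl fun t _ => by rw [coeff_toK]

/-- The square sum of the values of an idempotent bounds nothing beyond its corner. -/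
theorem sum_sq_le (hM : IsPModular p M) {c : MonoidAlgebra (locRing M) G} (hc : c * c = c)
    {f : MonoidAlgebra (ResField M) G} (hcf : toK M c = f) (hf : IsIdempotentElem f)
    {n : IrrCharacter G → ℕ} (hn : ∀ ψ : IrrCharacter G, evalGA (ψ : G → ℂ) c = n ψ) :
    ∑ ψ, n ψ ^ 2 ≤ Module.finrank (ResField M) hf.Corner := by
  classical
  haveI := charZero_locRing M
  obtain ⟨r, hdet, htr⟩ := idem_det (biMat c c) (biMat_idem hc hc)
  have htr' : (r : ℂ) = ∑ ψ : IrrCharacter G, ((n ψ : ℕ) : ℂ) ^ 2 := by
    have h1 : (biMat c c).trace = biTrace (∑ s ∈ (Finset.univ : Finset G), c.coeff s • single s (1 : locRing M)) c := by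
      rw [show ∑ s ∈ (Finset.univ : Finset G), c.coeff s • single s (1 : locRing M) = c from ga_ext fun t => by
        rw [coeff_sum_apply, Finset.sum_eq_single t] <;> simp +contextual]
      rfl
    rw [h1, biTrace_sum_left] at htr
    have h2 := congrArg (fun z : locRing M => (z : ℂ)) htr
    simp only [AddSubmonoidClass.coe_finsetSum, Subring.coe_mul, coe_biTrace_single hM, Finset.mul_sum] at h2
    rw [show ((r : locRing M) : ℂ) = r by simp] at h2
    rw [← h2, Finset.sum_comm]
    refine Finset.sum_congr rfl fun ψ _ => ?_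
    rw [sq, ← hn, evalGA, Finset.sum_mul]
    exact Finset.sum_congr rfl fun t _ => by ring
  have hr : r = ∑ ψ, n ψ ^ 2 := by exact_mod_cast htr'
  rw [← hr]
  have h2 := congrArg (Polynomial.map (res M)) hdet
  rw [map_det_one_add_X_smul] at h2
  let ι : hf.Corner →ₗ[ResField M] (G → ResField M) :=
    { toFun := fun x t => x.1.coeff t
      map_add' := fun x y => funext fun t => by simp [show (x + y).1 = x.1 + y.1 from rfl]
      map_smul' := fun d x => funext fun t => by simp [corner_coe_smul] }
  have hle := natDegree_det_le ((biMat c c).map (res M)) (LinearMap.range ι) fun v =>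
    ⟨cornerProj (ResField M) hf (single v 1), funext fun y => by
      show (f * single v 1 * f).coeff y = res M ((c * single v 1 * c).coeff y)
      rw [← coeff_toK, map_mul, map_mul, hcf]
      simp [toK]⟩
  rw [h2] at hle
  simp only [Polynomial.map_pow, Polynomial.map_add, Polynomial.map_one, Polynomial.map_X,
    Polynomial.natDegree_pow] at hle
  rw [show (1 + Polynomial.X : Polynomial (ResField M)).natDegree = 1 by
    rw [add_comm, ← map_one Polynomial.C]; exact Polynomial.natDegree_X_add_C _, mul_one] at hle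
  exact hle.trans (LinearMap.finrank_range_le ι)

/-- A block with two characters, one of them nonzero at a singular element, carries a small projective character. -/
theorem exists_both (hM : IsPModular p M) {B : Set (IrrCharacter G)} (hB : IsPBlock M B)
    {χ₁ χ₂ : IrrCharacter G} (hne : χ₁ ≠ χ₂) (hBeq : B = {χ₁, χ₂}) {x₀ : G} (hx₀ : p ∣ orderOf x₀)
    (hx : (χ₁ : G → ℂ) x₀ ≠ 0 ∨ (χ₂ : G → ℂ) x₀ ≠ 0) :
    ∃ a b : ℕ, a ^ 2 + b ^ 2 ≤ 2 ∧ 0 < a + b ∧
      ∀ g : G, p ∣ orderOf g → (a : ℂ) * (χ₁ : G → ℂ) g + (b : ℂ) * (χ₂ : G → ℂ) g = 0 := by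
  classical
  haveI : IsAlgClosed (ResField M) := isAlgClosed_resField
  have hU := IsBlockUnion.of_isPBlock hB
  set eL : MonoidAlgebra (locRing M) G := (blockIdem M B : MonoidAlgebra (locRing M) G) with heL
  set e : MonoidAlgebra (ResField M) G := toK M eL with he
  have heLc : ∀ z, Commute eL z := (mem_center_iff_isClassElt.mp (blockIdem M B).2).commute
  have hec : ∀ z, Commute e z := ((mem_center_iff_isClassElt.mp (blockIdem M B).2).map _).commute
  have hee : e * e = e := by
    rw [he, ← map_mul]
    exact congrArg (toK M) (congrArg Subtype.val (blockIdem_mul_self hM hU))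
  have he0 : e ≠ 0 := fun h => by
    have h1 : blockBar M B = 0 := Subtype.ext h
    have := omegaBar_blockBar hM hU χ₁
    rw [h1, map_zero, if_pos (by rw [hBeq]; exact Or.inl rfl)] at this
    exact zero_ne_one this
  -- idempotents below `e`
  have hlift : ∀ f, f * f = f → f * e = f → ∃ (c : MonoidAlgebra (locRing M) G) (n : IrrCharacter G → ℕ),
      c * c = c ∧ toK M c = f ∧ (∀ ψ : IrrCharacter G, evalGA (ψ : G → ℂ) c = n ψ) ∧ ∀ ψ, ψ ∉ B → n ψ = 0 := by
    intro f hff hfe
    obtain ⟨c₀, hc₀, hc₀f, -⟩ := exists_lift_idem_commute hff (S := ∅) (fun g hg => hg.elim)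
    have hc : c₀ * eL * (c₀ * eL) = c₀ * eL := by
      rw [mul_assoc c₀ eL, ← mul_assoc eL c₀ eL, (heLc c₀).eq, mul_assoc c₀ eL eL,
        show eL * eL = eL from congrArg Subtype.val (blockIdem_mul_self hM hU), ← mul_assoc, hc₀]
    choose n hn using fun ψ : IrrCharacter G => exists_evalGA_eq_natCast hc ψ
    refine ⟨c₀ * eL, n, hc, by rw [map_mul, hc₀f, ← he, hfe], hn, fun ψ hψ => ?_⟩
    have := hn ψ
    rw [evalGA_mul_blockIdem hM hU, if_neg hψ] at this
    exact_mod_cast this.symm
  have hsumB : ∀ (n : IrrCharacter G → ℕ), (∀ ψ, ψ ∉ B → n ψ = 0) → ∀ {R : Type} [CommRing R] (w : IrrCharacter G → R),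
      ∑ ψ, w ψ * (n ψ : R) = w χ₁ * (n χ₁ : R) + w χ₂ * (n χ₂ : R) := by
    intro n hn R _ w
    rw [← Finset.sum_subset (Finset.subset_univ ({χ₁, χ₂} : Finset (IrrCharacter G))) (fun ψ _ h => by
      rw [hn ψ (by rw [hBeq]; simpa using h), Nat.cast_zero, mul_zero]), Finset.sum_pair hne]
  have hsing : ∀ {c : MonoidAlgebra (locRing M) G} {n : IrrCharacter G → ℕ}, c * c = c →
      (∀ ψ : IrrCharacter G, evalGA (ψ : G → ℂ) c = n ψ) → (∀ ψ, ψ ∉ B → n ψ = 0) → ∀ g : G, p ∣ orderOf g →
      (n χ₁ : ℂ) * (χ₁ : G → ℂ) g + (n χ₂ : ℂ) * (χ₂ : G → ℂ) g = 0 := by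
    intro c n hc hn hn0 g hg
    have h := sum_irr_mul_evalGA_eq_zero hM hc hg
    simp only [hn] at h
    rw [hsumB n hn0 (fun ψ => (ψ : G → ℂ) g)] at h
    rw [← h]; ring
  obtain ⟨f, hff, hef, hfe, hf0, hprim⟩ := exists_primitive (⊥ : Submodule (ResField M) _) e hee
    (fun h => he0 ((Submodule.mem_bot _).mp h))
  have hf0' : f ≠ 0 := fun h => hf0 ((Submodule.mem_bot _).mpr h)
  have hf : IsIdempotentElem f := hff
  obtain ⟨c, n, hc, hcf, hn, hn0⟩ := hlift f hff hfe
  obtain ⟨τ, hτc, hτr, hτf, -⟩ := exists_functional hM hf hf0' hprim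
  obtain ⟨A, hA⟩ := exists_combination hM τ hτc hτr
  have hAf : res M (A χ₁) * (n χ₁ : ResField M) + res M (A χ₂) * (n χ₂ : ResField M) = 1 := by
    rw [← hsumB n hn0 (fun ψ => res M (A ψ)), ← hA c n hc hn, hcf, hτf]
  set I : Submodule (ResField M) (MonoidAlgebra (ResField M) G) :=
    Submodule.span (ResField M) (Set.range fun uv : MonoidAlgebra (ResField M) G × MonoidAlgebra (ResField M) G =>
      uv.1 * f * uv.2) with hI
  have hImul : ∀ (a b z), z ∈ I → a * z * b ∈ I := by
    intro a b z hz
    have hmap : I.map ((LinearMap.mulRight (ResField M) b).comp (LinearMap.mulLeft (ResField M) a)) ≤ I := by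
      rw [hI, Submodule.map_span, Submodule.span_le]
      rintro _ ⟨_, ⟨uv, rfl⟩, rfl⟩
      refine Submodule.subset_span ⟨(a * uv.1, uv.2 * b), ?_⟩
      simp [mul_assoc]
    exact hmap ⟨z, hz, rfl⟩
  have heI : e ∈ I := by
    by_contra heI
    obtain ⟨g, hgg, heg, hge, hgI, hgprim⟩ := exists_primitive I e hee heI
    have hgg' : IsIdempotentElem g := hgg
    obtain ⟨σ, hσc, hσr, hσg, hσ0⟩ := exists_functional hM hgg' (fun h => hgI (h ▸ zero_mem I)) hgprim
    obtain ⟨c', n', hc', hcg, hn', hn0'⟩ := hlift g hgg hge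
    obtain ⟨C, hC⟩ := exists_combination hM σ hσc hσr
    have hCg : res M (C χ₁) * (n' χ₁ : ResField M) + res M (C χ₂) * (n' χ₂ : ResField M) = 1 := by
      rw [← hsumB n' hn0' (fun ψ => res M (C ψ)), ← hC c' n' hc' hn', hcg, hσg]
    have hCf : res M (C χ₁) * (n χ₁ : ResField M) + res M (C χ₂) * (n χ₂ : ResField M) = 0 := by
      rw [← hsumB n hn0 (fun ψ => res M (C ψ)), ← hC c n hc hn, hcf]
      refine hσ0 f fun a b _ => ?_
      haveI : Nontrivial hgg'.Corner := corner_nontrivial fun h => hgI (h ▸ zero_mem I)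
      obtain ⟨ε, hε⟩ := exists_scalar_hom (k := ResField M) (A := hgg'.Corner) (corner_idem hgprim)
      set w := cornerProj (ResField M) hgg' (a * f * b) with hw
      by_cases hw0 : ε w = 0
      · simpa [hw0] using hε w
      · exfalso
        have hu : IsUnit w := by
          have h1 : IsUnit (algebraMap (ResField M) hgg'.Corner (ε w)) := (isUnit_iff_ne_zero.mpr hw0).map _
          have := (hε w).isUnit_add_left_of_commute h1 (Algebra.commute_algebraMap_right _ _)
          rwa [add_sub_cancel] at this
        obtain ⟨v, hv⟩ := hu.exists_right_inv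
        refine hgI ?_
        have h1 : g * (a * f * b) * g * v.1 = g := congrArg Subtype.val hv
        rw [← h1, show g * (a * f * b) * g * v.1 = (g * a) * f * (b * g * v.1) by simp only [mul_assoc]]
        exact Submodule.subset_span ⟨(g * a, b * g * v.1), rfl⟩
    have h1 := hsing hc hn hn0 x₀ hx₀
    have h2 := hsing hc' hn' hn0' x₀ hx₀
    have hprop : (n χ₁ : ℂ) * n' χ₂ = (n χ₂ : ℂ) * n' χ₁ := by
      rcases hx with h | h
      · refine mul_right_cancel₀ h ?_
        linear_combination (n' χ₂ : ℂ) * h1 - (n χ₂ : ℂ) * h2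
      · refine mul_right_cancel₀ h ?_
        linear_combination (n χ₁ : ℂ) * h2 - (n' χ₁ : ℂ) * h1
    have hprop' : (n χ₁ : ResField M) * n' χ₂ = (n χ₂ : ResField M) * n' χ₁ := by
      exact_mod_cast congrArg (Nat.cast : ℕ → ResField M) (show n χ₁ * n' χ₂ = n χ₂ * n' χ₁ by exact_mod_cast hprop)
    refine one_ne_zero (α := ResField M) ?_
    have hid : (res M (A χ₁) * (n χ₁ : ResField M) + res M (A χ₂) * (n χ₂ : ResField M)) *
        (res M (C χ₁) * (n' χ₁ : ResField M) + res M (C χ₂) * (n' χ₂ : ResField M)) =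
      (res M (A χ₁) * (n' χ₁ : ResField M) + res M (A χ₂) * (n' χ₂ : ResField M)) *
        (res M (C χ₁) * (n χ₁ : ResField M) + res M (C χ₂) * (n χ₂ : ResField M)) := by
      linear_combination (res M (A χ₁) * res M (C χ₂) - res M (A χ₂) * res M (C χ₁)) * hprop'
    rwa [hAf, hCg, hCf, mul_zero, mul_one] at hid
  obtain ⟨m, d, s, hs⟩ := (Submodule.mem_span_set' ..).mp heI
  choose uv huv using fun i => (s i).2
  set U : Fin m → MonoidAlgebra (ResField M) G := fun i => e * (d i • (uv i).1) with hUdef
  set W : Fin m → MonoidAlgebra (ResField M) G := fun i => (uv i).2 * e with hWdef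
  have hsum : ∑ i, U i * f * W i = e := by
    have h1 : e = e * e * e := by rw [hee, hee]
    conv_rhs => rw [h1]; arg 1; arg 2; rw [← hs]
    rw [Finset.mul_sum, Finset.sum_mul]
    refine Finset.sum_congr rfl fun i _ => ?_
    rw [← huv i, hUdef, hWdef]
    simp only [Algebra.smul_mul_assoc, Algebra.mul_smul_comm, mul_assoc]
  haveI : Nontrivial hf.Corner := corner_nontrivial hf0'
  have hdim : Module.finrank (ResField M) hf.Corner ≤ 2 := by
    refine finrank_le_two_of_tracial (corner_idem hprim) fun φ hφ hli => ?_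
    let T : MonoidAlgebra (ResField M) G →ₗ[ResField M] hf.Corner :=
      ∑ i, (cornerProj (ResField M) hf).comp
        ((LinearMap.mulRight (ResField M) (U i)).comp (LinearMap.mulLeft (ResField M) (W i)))
    have hT : ∀ y, T y = ∑ i, cornerProj (ResField M) hf (W i * y * U i) := fun y => by simp [T]
    have heU : ∀ i, e * U i = U i := fun i => by rw [hUdef, ← mul_assoc, hee]
    have hprodc : ∀ a b, cornerProj (ResField M) hf a * cornerProj (ResField M) hf b =
        cornerProj (ResField M) hf (a * f * b) := fun a b => Subtype.ext (by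
      show (f * a * f) * (f * b * f) = f * (a * f * b) * f
      rw [show (f * a * f) * (f * b * f) = f * a * (f * f) * b * f by simp only [mul_assoc], hff]
      simp only [mul_assoc])
    have hkey : ∀ i x y, φ i (T (x * y)) = ∑ j, ∑ l, φ i
        (cornerProj (ResField M) hf (W j * x * U l) * cornerProj (ResField M) hf (W l * y * U j)) := by
      intro i x y
      rw [hT, map_sum]
      refine Finset.sum_congr rfl fun j _ => ?_
      rw [← map_sum]
      simp only [hprodc, ← map_sum]
      congr 2
      calc W j * (x * y) * U j = W j * x * e * (y * U j) := by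
            rw [mul_assoc (W j * x) e, ← mul_assoc e y, (hec y).eq, mul_assoc y e, heU]
            simp only [mul_assoc]
        _ = _ := by
            rw [← hsum, Finset.mul_sum, Finset.sum_mul]
            exact Finset.sum_congr rfl fun l _ => by simp only [mul_assoc]
    refine not_linearIndependent_of_two hM hB hne hBeq (fun i => (φ i).comp T) (fun i x y => ?_) (fun i y => ?_) ?_
    · show φ i (T (x * y)) = φ i (T (y * x))
      rw [hkey, hkey, Finset.sum_comm]
      exact Finset.sum_congr rfl fun j _ => Finset.sum_congr rfl fun l _ => hφ i _ _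
    · show φ i (T (y * e)) = φ i (T y)
      rw [hT, hT]
      congr 1
      exact Finset.sum_congr rfl fun j _ => by rw [← mul_assoc (W j), mul_assoc (W j * y), heU]
    · refine LinearIndependent.of_comp (LinearMap.lcomp (ResField M) (ResField M) (cornerVal (ResField M) hf)) ?_
      have hres : (LinearMap.lcomp (ResField M) (ResField M) (cornerVal (ResField M) hf)) ∘
          (fun i => (φ i).comp T) = φ := funext fun i => LinearMap.ext fun a => by
        show φ i (T a.1) = φ i a
        obtain ⟨r, hr⟩ := a.2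
        simp only at hr
        have h1 : f * a.1 * f = a.1 := congrArg Subtype.val (cornerProj_val (k := ResField M) a)
        have hsplit : ∀ j, cornerProj (ResField M) hf (W j * a.1 * U j) =
            cornerProj (ResField M) hf (W j) * a * cornerProj (ResField M) hf (U j) := fun j => by
          conv_rhs => rw [← cornerProj_val (k := ResField M) a, hprodc, hprodc]
          refine congrArg _ ?_
          conv_lhs => rw [← h1]
          simp only [mul_assoc]
        rw [hT, map_sum, Finset.sum_congr rfl fun j _ => show φ i (cornerProj (ResField M) hf (W j * a.1 * U j)) =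
          φ i (a * (cornerProj (ResField M) hf (U j) * cornerProj (ResField M) hf (W j))) by
            rw [hsplit, mul_assoc, hφ, mul_assoc], ← map_sum, ← Finset.mul_sum]
        simp only [hprodc, ← map_sum, hsum]
        rw [show cornerProj (ResField M) hf e = 1 from Subtype.ext (show f * e * f = f by rw [hfe, hff]), mul_one]
      rw [hres]
      exact hli
  refine ⟨n χ₁, n χ₂, ?_, ?_, hsing hc hn hn0⟩
  · refine le_trans ?_ ((sum_sq_le hM hc hcf hf hn).trans hdim)
    rw [← Finset.sum_pair hne (f := fun ψ => n ψ ^ 2)]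
    exact Finset.sum_le_sum_of_subset (Finset.subset_univ _)
  · by_contra h
    have h1 : n χ₁ = 0 := by omega
    have h2 : n χ₂ = 0 := by omega
    rw [h1, h2, Nat.cast_zero, mul_zero, mul_zero, add_zero] at hAf
    exact zero_ne_one hAf

end CfsgLib.Block.TwoChar
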