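import Cfsg.Agent.Lib.Block.BrauerChars
import Cfsg.Agent.Lib.Block.Transport
import Cfsg.Agent.Lib.Block.TwoCharacters

/-!
# Traces of twists on the regular part of a block

`twist_trace_nat`: for an automorphism `σ` and a block `b` the sum of `η (σ y) * conj (η y)` over the
members and the regular elements is a natural multiple of the group order: the automorphism sends
points below the block to idempotents, whose decomposition has natural coefficients.
-/

open Finset MonoidAlgebra
open scoped ComplexConjugate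

set_option autoImplicit false
set_option linter.unusedSectionVars false

namespace CfsgLib.Block.TwistTrace

open Cfsg CfsgLib.Block CfsgLib.Block.Points CfsgLib.Block.CyclicDefect

universe u

variable {p : ℕ} {M : Ideal AlgInt} [M.IsMaximal] {C : Type u} [Group C] [Fintype C] [DecidableEq C]
  [Fintype (IrrCharacter C)]

theorem gaOfFun_comp_mul (σ : C ≃* C) (a b : MonoidAlgebra (locRing M) C) :
    gaOfFun (fun t => (a * b).coeff (σ.symm t)) =
      gaOfFun (fun t => a.coeff (σ.symm t)) * gaOfFun (fun t => b.coeff (σ.symm t)) := by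
  refine ga_ext fun g => ?_
  rw [coeff_gaOfFun, coeff_mul_sum, coeff_mul_sum]
  refine Fintype.sum_equiv σ.toEquiv _ _ fun h => ?_
  simp

theorem twist_trace_nat (hM : IsPModular p M) (σ : C ≃* C) {b : Set (IrrCharacter C)}
    [DecidablePred (· ∈ b)] (hb : IsPBlock M b) :
    ∃ n : ℕ, ∑ η ∈ Finset.univ.filter (· ∈ b), ∑ y ∈ Finset.univ.filter (fun y : C => ¬ p ∣ orderOf y),
      (η : C → ℂ) (σ y) * conj ((η : C → ℂ) y) = (Nat.card C : ℂ) * (n : ℂ) := by
  classical
  have := Fintype.ofFinite (ConjClasses C)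
  obtain ⟨n, j, m, hn, hj, hjB, -, -, hdec⟩ := BrauerChars.exists_points hM hb
  have hloc : ∀ g : C, ∃ x : Fin n → ℂ, ¬ p ∣ orderOf g → ∀ η ∈ b,
      (η : C → ℂ) g = ∑ i, (idemVal η (j i) : ℂ) * x i := by
    intro g
    by_cases hg : p ∣ orderOf g
    · exact ⟨0, fun h => absurd hg h⟩
    letI : CommGroup (Subgroup.zpowers g) := IsCyclic.commGroup
    obtain ⟨θ, -, hθ⟩ := BrauerChars.exists_restrict hM hb hdec (R := Subgroup.zpowers g)
      (by rwa [Nat.card_zpowers]) (Subgroup.zpowers g).subtype
    exact ⟨fun i => θ i ⟨g, Subgroup.mem_zpowers g⟩,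
      fun _ η hη => hθ η hη ⟨g, Subgroup.mem_zpowers g⟩⟩
  choose x hx using hloc
  set R := Finset.univ.filter (fun y : C => ¬ p ∣ orderOf y) with hR
  set bb := Finset.univ.filter (fun η : IrrCharacter C => η ∈ b) with hbb
  let D : IrrCharacter C → Fin n → ℂ := fun χ i => (idemVal χ (j i) : ℂ)
  let W : Submodule ℂ (Fin n → ℂ) := Submodule.span ℂ (D '' b)
  let φ : Fin n → C → ℂ := fun i g => if p ∣ orderOf g then 0 else x g i
  let E : (Fin n → ℂ) →ₗ[ℂ] (C → ℂ) := Fintype.linearCombination ℂ φ
  have hE : ∀ χ ∈ b, pRegularPart p (χ : C → ℂ) = E (D χ) := by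
    intro χ hχ
    funext g
    rw [Fintype.linearCombination_apply, Finset.sum_apply, pRegularPart_eq_regFun, regFun]
    by_cases hg : p ∣ orderOf g
    · simp [hg, φ]
    · simp [hg, φ, D, hx g hg χ hχ]
  have hspan : Submodule.span ℂ ((fun χ : IrrCharacter C => pRegularPart p (χ : C → ℂ)) '' b) =
      W.map E := by
    rw [Submodule.map_span, ← Set.image_comp]
    exact congrArg _ (Set.image_congr fun χ hχ => hE χ hχ)
  have hWtop : W = ⊤ := by
    have h1 : blockRank p b ≤ Module.finrank ℂ W := by
      rw [blockRank, hspan]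
      exact Submodule.finrank_map_le E W
    exact Submodule.eq_top_of_finrank_eq (le_antisymm (Submodule.finrank_le W)
      (by rw [Module.finrank_fin_fun]; omega))
  have huniq : ∀ y : Fin n → ℂ, (∀ χ ∈ b, ∑ i, D χ i * y i = 0) → y = 0 := by
    intro y hy
    let L : (Fin n → ℂ) →ₗ[ℂ] ℂ := ∑ i, y i • LinearMap.proj i
    have hL : ∀ v, L v = ∑ i, v i * y i := fun v => by
      simp [L, LinearMap.sum_apply, mul_comm]
    have hW : W ≤ LinearMap.ker L := Submodule.span_le.2 (by
      rintro _ ⟨χ, hχ, rfl⟩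
      show L (D χ) = 0
      rw [hL]
      exact hy χ hχ)
    funext i
    have := hW (hWtop ▸ Submodule.mem_top : Pi.single i 1 ∈ W)
    rw [LinearMap.mem_ker, hL] at this
    simpa [Pi.single_apply] using this
  set K : Fin n → IrrCharacter C → ℂ := fun i η => ∑ y ∈ R, x y i * conj ((η : C → ℂ) y) with hK
  have hA : ∀ θ ∈ b, ∀ η : IrrCharacter C,
      (Nat.card C : ℂ) * regInner p θ η = ∑ i, D θ i * K i η := by
    intro θ hθ η
    rw [card_mul_regInner, ← hR]
    simp only [hK, Finset.mul_sum]
    rw [Finset.sum_comm]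
    refine Finset.sum_congr rfl fun y hy => ?_
    rw [hx y (Finset.mem_filter.mp hy).2 θ hθ, Char.irr_inv, Finset.sum_mul]
    exact Finset.sum_congr rfl fun i _ => by ring
  -- projectives vanish on singular elements
  have hproj : ∀ θ ∈ b, ∀ l, D θ l = ∑ η ∈ bb, regInner p θ η * D η l := by
    intro θ hθ l
    obtain ⟨c, hc, hcK⟩ := exists_lift (M := M) (hj l).idem
    have h0 := evalGA_eq_zero_of_regular hM hc
      (f := fun t => (θ : C → ℂ) t - regFun p (θ : C → ℂ) t)
      (fun a v => by
        simp only [Char.isClassFunction_irr θ a v,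
          isClassFunction_regFun p (Char.isClassFunction_irr θ) a v])
      fun t ht => by simp [regFun, ht]
    have h1 : evalGA (θ : C → ℂ) c = evalGA (regFun p (θ : C → ℂ)) c := by
      simp only [evalGA, mul_sub, Finset.sum_sub_distrib, sub_eq_zero] at h0
      simpa only [evalGA] using h0
    show (idemVal θ (j l) : ℂ) = _
    rw [← idemVal_spec hM hc hcK θ, h1]
    have h2 : evalGA (regFun p (θ : C → ℂ)) c = ∑ η : IrrCharacter C, regInner p θ η * D η l := by
      simp only [evalGA, D, ← idemVal_spec hM hc hcK, ← sum_regInner_mul, Finset.mul_sum]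
      rw [Finset.sum_comm]
      exact Finset.sum_congr rfl fun η _ => Finset.sum_congr rfl fun t _ => by ring
    rw [h2]
    refine (Finset.sum_subset (Finset.filter_subset _ _) fun η _ hη => ?_).symm
    rw [show D η l = 0 by
      simp [D, idemVal_eq_zero_of_not_mem hM (.of_isPBlock hb) (hj l).idem (hjB l)
        (show η ∉ b by simpa [hbb] using hη)], mul_zero]
  have hKD : ∀ i l, ∑ η ∈ bb, K i η * D η l = if i = l then (Nat.card C : ℂ) else 0 := by
    intro i l
    refine sub_eq_zero.1 (congrFun (huniq (fun i => (∑ η ∈ bb, K i η * D η l) -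
      if i = l then (Nat.card C : ℂ) else 0) fun θ hθ => ?_) i)
    rw [Finset.sum_congr rfl fun i _ => mul_sub (D θ i) _ _, Finset.sum_sub_distrib,
      Finset.sum_congr rfl (g := fun i => if i = l then D θ l * (Nat.card C : ℂ) else 0) fun i _ =>
        show D θ i * (if i = l then (Nat.card C : ℂ) else 0) = _ by split_ifs with h <;> simp [h],
      Finset.sum_ite_eq', if_pos (Finset.mem_univ _), hproj θ hθ l, Finset.sum_mul, sub_eq_zero]
    simp only [Finset.mul_sum]
    rw [Finset.sum_comm]
    refine Finset.sum_congr rfl fun η _ => ?_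
    calc ∑ i, D θ i * (K i η * D η l) = (∑ i, D θ i * K i η) * D η l := by
          rw [Finset.sum_mul]; exact Finset.sum_congr rfl fun i _ => by ring
      _ = regInner p θ η * D η l * (Nat.card C : ℂ) := by rw [← hA θ hθ η]; ring
  -- the twisted points
  set tw : IrrCharacter C → IrrCharacter C := fun η => irrEquiv σ.symm η with htw
  have hcc : ∀ i, ∃ cc : Fin n → ℕ, ∀ η ∈ b, D (tw η) i = ∑ l, (cc l : ℂ) * D η l := by
    intro i
    obtain ⟨c, hc, hcK⟩ := exists_lift (M := M) (hj i).idem
    set c' : MonoidAlgebra (locRing M) C := gaOfFun (fun t => c.coeff (σ.symm t)) with hc'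
    have hcc' : c' * c' = c' := by rw [hc', ← gaOfFun_comp_mul, hc]
    set d := (blockIdem M b : MonoidAlgebra (locRing M) C) with hd
    have hdd : d * d = d := congrArg Subtype.val (blockIdem_mul_self hM (.of_isPBlock hb))
    have hdc : Commute d c' := (mem_center_iff_isClassElt.mp (blockIdem M b).2).commute c'
    have he : (c' * d) * (c' * d) = c' * d := by rw [hdc.mul_mul_mul_comm, hcc', hdd]
    obtain ⟨cc, hcc⟩ := hdec (toK M (c' * d)) (by rw [← map_mul, he])
      (by rw [eK, ← map_mul, mul_assoc, hdd])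
    refine ⟨cc, fun η hη => ?_⟩
    have h3 : idemVal η (toK M (c' * d)) = idemVal (tw η) (j i) := by
      apply Nat.cast_injective (R := ℂ)
      rw [← idemVal_spec hM he rfl η, ← idemVal_spec hM hc hcK, hd,
        TwoChar.evalGA_mul_blockIdem hM (.of_isPBlock hb), if_pos hη, evalGA, evalGA]
      refine Fintype.sum_equiv σ.symm.toEquiv _ _ fun t => ?_
      simp [hc', htw]
    simp only [D, ← h3, hcc η, Nat.cast_sum, Nat.cast_mul]
  choose cc hcc using hcc
  refine ⟨∑ i, cc i i, ?_⟩
  have hterm : ∀ η ∈ bb, ∑ y ∈ R, (η : C → ℂ) (σ y) * conj ((η : C → ℂ) y) =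
      ∑ i, D (tw η) i * K i η := by
    intro η hη
    have hηb : η ∈ b := (Finset.mem_filter.mp hη).2
    have h4 : ∑ y ∈ R, (η : C → ℂ) (σ y) * conj ((η : C → ℂ) y) =
        (Nat.card C : ℂ) * regInner p (tw η) η := by
      rw [card_mul_regInner, ← hR]
      exact Finset.sum_congr rfl fun y _ => by simp [htw, Char.irr_inv]
    rw [h4]
    by_cases ht : tw η ∈ b
    · exact hA _ ht η
    · have h5 : regInner p (tw η) η = 0 := by
        rw [← conj_regInner, regInner_eq_zero_of_not_mem hM (.of_isPBlock hb) hηb ht, map_zero]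
      rw [h5, mul_zero, Finset.sum_eq_zero]
      intro i _
      simp [D, idemVal_eq_zero_of_not_mem hM (.of_isPBlock hb) (hj i).idem (hjB i) ht]
  rw [Finset.sum_congr rfl hterm, Nat.cast_sum, Finset.mul_sum, Finset.sum_comm]
  refine Finset.sum_congr rfl fun i _ => ?_
  calc ∑ η ∈ bb, D (tw η) i * K i η = ∑ η ∈ bb, ∑ l, (cc i l : ℂ) * (K i η * D η l) := by
        refine Finset.sum_congr rfl fun η hη => ?_
        rw [hcc i η (Finset.mem_filter.mp hη).2, Finset.sum_mul]
        exact Finset.sum_congr rfl fun l _ => by ring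
    _ = ∑ l, (cc i l : ℂ) * if i = l then (Nat.card C : ℂ) else 0 := by
        rw [Finset.sum_comm]
        exact Finset.sum_congr rfl fun l _ => by rw [← Finset.mul_sum, hKD]
    _ = (Nat.card C : ℂ) * (cc i i : ℂ) := by simp [mul_comm]

end CfsgLib.Block.TwistTrace
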