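import Cfsg.Agent.Lib.Block.Local
import Cfsg.Agent.Lib.Block.GroupAlg
import Cfsg.Agent.Lib.Char.CliffordOdd
import Cfsg.Agent.Lib.Char.DegreeRatio
import Cfsg.Agent.Lib.Char.LinearTimesExtension
import Cfsg.Agent.Lib.Char.RealPPrime.Induced

/-!
# A defect zero character conjugate to its complex conjugate lies under a real one

`exists_good_element`: for a `2`-defect zero character `φ` of `N` and a `2`-group on top, an element
of `N` with unit value and odd centralizer whose class is fixed by the stabilizer and inverted by the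
semi-stabilizer.  `exists_odd_extension`: the extensions with odd multiplicity on a complement form
an odd set, hence one is compatible with the semilinear symmetry.  `twisted_indicator_eq_one`: such
an extension has twisted indicator one.
-/

open Finset
open scoped ComplexConjugate Matrix

set_option linter.unusedSectionVars false

namespace CfsgLib.Block.TwistedReal

open Cfsg CfsgLib.Char
open Representation Module

universe u v

section Form

variable {H : Type u} [Group H] [Fintype H]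

/-- Twisted Frobenius–Schur: an odd multiplicity of a compatible linear character forces the twisted
indicator to be one. -/
theorem twisted_indicator_eq_one (θ : IrrCharacter H) (e : H ≃* H) (c : H)
    (hee : ∀ t, e (e t) = c * t * c⁻¹) (hec : e c = c)
    (hθ : ∀ t, (θ : H → ℂ) (e t) = conj ((θ : H → ℂ) t))
    {K : Type v} [Group K] [Fintype K] (ι : K →* H) (μ : K →* ℂˣ) (f : K ≃ K)
    (hf : ∀ k, e (ι k) = (ι (f k))⁻¹) (hμf : ∀ k, μ (f k) = μ k)
    (k₀ : K) (hk₀ : ι k₀ = c) (hμ₀ : μ k₀ = 1) {m : ℕ} (hm : Odd m)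
    (hmult : classInner (fun k => (θ : H → ℂ) (ι k)) (fun k => (μ k : ℂ)) = m) :
    (Nat.card H : ℂ)⁻¹ * ∑ t : H, (θ : H → ℂ) (t * (e t * c)) = 1 := by
  classical
  obtain ⟨d, ρ, hρ, hρθ⟩ := θ.2
  set T : H →* Matrix (Fin d) (Fin d) ℂ :=
    { toFun := fun t => LinearMap.toMatrix' (ρ t)
      map_one' := by rw [map_one, LinearMap.toMatrix'_one]
      map_mul' := fun a b => by rw [map_mul, LinearMap.toMatrix'_mul] } with hT
  have htr : ∀ t, (T t).trace = (θ : H → ℂ) t := fun t => by rw [← hρθ]; exact toMatrix'_trace ρ t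
  have hH0 : (Nat.card H : ℂ) ≠ 0 := Nat.cast_ne_zero.mpr Nat.card_pos.ne'
  -- the invariant forms
  set act : H → (Matrix (Fin d) (Fin d) ℂ →ₗ[ℂ] Matrix (Fin d) (Fin d) ℂ) :=
    fun t => LinearTimesExtension.biMul ((T (e t))ᵀ) ((T t)ᵀ) with hact
  have hact' : ∀ t X, act t X = (T (e t))ᵀ * X * T t := fun t X => by
    show (T (e t))ᵀ * X * ((T t)ᵀ)ᵀ = _
    rw [Matrix.transpose_transpose]
  set P := (Nat.card H : ℂ)⁻¹ • ∑ t : H, act t with hP
  have hPfix : ∀ s X, (T (e s))ᵀ * P X * T s = P X := by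
    intro s X
    simp only [hP, LinearMap.smul_apply, LinearMap.sum_apply, Matrix.mul_smul, Matrix.smul_mul,
      Finset.mul_sum, Finset.sum_mul, hact']
    congr 1
    refine Fintype.sum_equiv (Equiv.mulRight s) _ _ fun t => ?_
    show _ = (T (e (t * s)))ᵀ * X * T (t * s)
    rw [map_mul, map_mul, map_mul, Matrix.transpose_mul]
    simp only [Matrix.mul_assoc]
  have hPid : ∀ X, (∀ s, (T (e s))ᵀ * X * T s = X) → P X = X := by
    intro X hX
    simp only [hP, LinearMap.smul_apply, LinearMap.sum_apply, hact', hX, Finset.sum_const,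
      Finset.card_univ, ← Nat.card_eq_fintype_card, ← Nat.cast_smul_eq_nsmul ℂ, smul_smul]
    rw [inv_mul_cancel₀ hH0, one_smul]
  have hPP : IsIdempotentElem P := LinearMap.ext fun X => hPid _ fun s => hPfix s X
  have hproj := (LinearMap.isProj_range_iff_isIdempotentElem P).mpr hPP
  have htrP : LinearMap.trace ℂ _ P = 1 := by
    rw [hP, map_smul, map_sum, smul_eq_mul]
    have h1 := classInner_irr_self θ
    rw [classInner] at h1
    refine Eq.trans ?_ h1
    congr 1
    refine Finset.sum_congr rfl fun t _ => ?_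
    rw [trace_matrix_end, ← mul_comm, ← hθ, ← htr, ← htr, ← Matrix.trace_transpose (T (e t)),
      ← Matrix.trace_transpose (T t), Matrix.trace, Matrix.trace, Finset.sum_mul_sum]
    exact Finset.sum_congr rfl fun i _ => Finset.sum_congr rfl fun j _ =>
      LinearTimesExtension.biMul_single _ _ i j i j
  rw [hproj.trace] at htrP
  have hdim : finrank ℂ (LinearMap.range P) = 1 := by exact_mod_cast htrP
  obtain ⟨⟨B, hBmem⟩, hB0, hspan⟩ := finrank_eq_one_iff'.mp hdim
  have hB0' : B ≠ 0 := fun h => hB0 (Subtype.ext h)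
  have hBinv : ∀ s, (T (e s))ᵀ * B * T s = B := by
    obtain ⟨X, rfl⟩ := hBmem
    exact fun s => hPfix s X
  -- the swap
  set W : Matrix (Fin d) (Fin d) ℂ →ₗ[ℂ] Matrix (Fin d) (Fin d) ℂ :=
    { toFun := fun X => Xᵀ * T c
      map_add' := fun X Y => by rw [Matrix.transpose_add, Matrix.add_mul]
      map_smul' := fun a X => by rw [Matrix.transpose_smul, Matrix.smul_mul, RingHom.id_apply] }
  have hWinv : ∀ X, (∀ s, (T (e s))ᵀ * X * T s = X) →
      ∀ s, (T (e s))ᵀ * W X * T s = W X := by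
    intro X hX s
    have h1 := congrArg Matrix.transpose (hX (e s))
    rw [Matrix.transpose_mul, Matrix.transpose_mul, Matrix.transpose_transpose, hee, map_mul, map_mul,
      ← Matrix.mul_assoc] at h1
    have h2 : T c⁻¹ * T c = 1 := by rw [← map_mul, inv_mul_cancel, map_one]
    show (T (e s))ᵀ * (Xᵀ * T c) * T s = Xᵀ * T c
    conv_rhs => rw [← h1]
    simp only [Matrix.mul_assoc, h2, Matrix.mul_one]
  obtain ⟨ε, hε⟩ := hspan ⟨W B, ⟨W B, hPid _ (hWinv B hBinv)⟩⟩
  have hεv : ε • B = Bᵀ * T c := congrArg Subtype.val hε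
  have hQ : W ∘ₗ P = ε • P := by
    refine LinearMap.ext fun X => ?_
    obtain ⟨a, ha⟩ := hspan ⟨_, LinearMap.mem_range_self P X⟩
    have hav : a • B = P X := congrArg Subtype.val ha
    show W (P X) = ε • P X
    rw [← hav, map_smul]
    show a • (Bᵀ * T c) = _
    rw [← hεv, smul_comm]
  have htrQ : (Nat.card H : ℂ)⁻¹ * ∑ t : H, (θ : H → ℂ) (t * (e t * c)) = ε := by
    have h1 : LinearMap.trace ℂ _ (W ∘ₗ P) = ε := by
      rw [hQ, map_smul, hproj.trace, hdim, Nat.cast_one, smul_eq_mul, mul_one]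
    rw [← h1, hP, LinearMap.comp_smul, map_smul, smul_eq_mul]
    congr 1
    rw [show W ∘ₗ (∑ t : H, act t) = ∑ t : H, W ∘ₗ act t from
      map_sum (LinearMap.llcomp ℂ _ _ _ W) _ _, map_sum]
    refine Finset.sum_congr rfl fun t _ => ?_
    rw [trace_matrix_end, ← htr, map_mul, map_mul, Matrix.trace]
    have hsw : ∀ i j, W (act t (Matrix.single i j 1)) i j = T t j i * (T (e t) * T c) i j := by
      intro i j
      show ((act t (Matrix.single i j 1))ᵀ * T c) i j = _
      rw [hact', Matrix.transpose_mul, Matrix.transpose_mul, Matrix.transpose_transpose,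
        Matrix.transpose_single, ← Matrix.mul_assoc, Matrix.mul_assoc _ (T (e t)),
        transpose_mul_single_mul_apply' (T t) (T (e t) * T c)]
    rw [Finset.sum_comm]
    refine Finset.sum_congr rfl fun j _ => ?_
    rw [Matrix.diag_apply, Matrix.mul_apply]
    exact Finset.sum_congr rfl fun i _ => (hsw i j).symm
  rw [htrQ]
  -- the form is nondegenerate
  have hswapT : ∀ s, B * T s = (T (e s⁻¹))ᵀ * B := fun s => by
    conv_rhs => rw [← hBinv s, ← Matrix.mul_assoc, ← Matrix.mul_assoc, ← Matrix.transpose_mul, ← map_mul,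
      ← map_mul, mul_inv_cancel, map_one, map_one, Matrix.transpose_one, Matrix.one_mul]
  have hBnd : ∀ v, B *ᵥ v = 0 → v = 0 := by
    let S : Subrepresentation ρ := ⟨LinearMap.ker (Matrix.toLin' B), fun g w hw => by
      rw [LinearMap.mem_ker, Matrix.toLin'_apply] at hw ⊢
      rw [← LinearMap.toMatrix'_mulVec, Matrix.mulVec_mulVec]
      show (B * T g) *ᵥ w = 0
      rw [hswapT, ← Matrix.mulVec_mulVec, hw, Matrix.mulVec_zero]⟩
    rcases hρ.eq_bot_or_eq_top S with h | h
    · intro v hv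
      have hmem : v ∈ S.toSubmodule := by
        show v ∈ LinearMap.ker (Matrix.toLin' B)
        rw [LinearMap.mem_ker, Matrix.toLin'_apply, hv]
      rw [h] at hmem
      exact (Submodule.mem_bot ℂ).mp (by exact hmem)
    · have hker : LinearMap.ker (Matrix.toLin' B) = ⊤ := congrArg Subrepresentation.toSubmodule h
      exact absurd (by simpa using LinearMap.ker_eq_top.mp hker) hB0'
  -- the isotypic part
  set R : Matrix (Fin d) (Fin d) ℂ := (Nat.card K : ℂ)⁻¹ • ∑ k : K, conj (μ k : ℂ) • T (ι k) with hR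
  have hμinv : ∀ k, conj (μ k : ℂ) = ((μ k)⁻¹ : ℂˣ) := fun k => by
    have hn : ‖(μ k : ℂ)‖ = 1 := by
      have h1 : (μ k : ℂ) ^ orderOf k = 1 := by
        rw [← Units.val_pow_eq_pow_val, ← map_pow, pow_orderOf_eq_one, map_one, Units.val_one]
      exact Complex.norm_eq_one_of_pow_eq_one h1 (orderOf_pos k).ne'
    rw [Units.val_inv_eq_inv_val, Complex.inv_eq_conj hn]
  have hTR : ∀ l, T (ι l) * R = (μ l : ℂ) • R := by
    intro l
    simp only [hR, Matrix.mul_smul, Finset.mul_sum, ← map_mul, Finset.smul_sum, smul_smul]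
    refine Fintype.sum_equiv (Equiv.mulLeft l) _ _ fun k => ?_
    show _ = _ • T (ι (l * k))
    congr 1
    simp only [hμinv, Equiv.coe_mulLeft, map_mul, mul_inv, Units.val_mul, Units.val_inv_eq_inv_val]
    field_simp
  have hK0 : (Nat.card K : ℂ) ≠ 0 := Nat.cast_ne_zero.mpr Nat.card_pos.ne'
  have hRR : R * R = R := by
    conv_lhs => arg 1; rw [hR]
    rw [Matrix.smul_mul, Finset.sum_mul]
    simp only [Matrix.smul_mul, hTR, smul_smul, hμinv, ← Units.val_mul, inv_mul_cancel, Units.val_one,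
      one_smul, Finset.sum_const, Finset.card_univ, ← Nat.card_eq_fintype_card,
      ← Nat.cast_smul_eq_nsmul ℂ]
    rw [inv_mul_cancel₀ hK0, one_smul]
  have hRtr : R.trace = m := by
    rw [← hmult, hR, Matrix.trace_smul, Matrix.trace_sum, classInner, smul_eq_mul]
    congr 1
    refine Finset.sum_congr rfl fun k _ => ?_
    rw [Matrix.trace_smul, htr, smul_eq_mul, mul_comm]
  have hRB : Rᵀ * B = B * R := by
    rw [hR, Matrix.transpose_smul, Matrix.transpose_sum, Matrix.smul_mul, Matrix.mul_smul,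
      Finset.sum_mul, Finset.mul_sum]
    congr 1
    refine (Fintype.sum_equiv f _ _ fun k => ?_).symm
    rw [Matrix.mul_smul, hswapT, map_inv e, hf, inv_inv, Matrix.transpose_smul, Matrix.smul_mul, hμf]
  have hRid : IsIdempotentElem (Matrix.toLin' R) := by
    show Matrix.toLin' R ∘ₗ Matrix.toLin' R = _
    rw [← Matrix.toLin'_mul, hRR]
  have hrk : finrank ℂ (LinearMap.range (Matrix.toLin' R)) = m := by
    have h := ((LinearMap.isProj_range_iff_isIdempotentElem _).mpr hRid).trace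
    rw [Matrix.trace_toLin'_eq, hRtr] at h
    exact_mod_cast h.symm
  set b := Module.finBasisOfFinrankEq ℂ _ hrk
  set I : Matrix (Fin d) (Fin m) ℂ :=
    LinearMap.toMatrix' ((LinearMap.range (Matrix.toLin' R)).subtype ∘ₗ b.equivFun.symm.toLinearMap) with hI
  set J : Matrix (Fin m) (Fin d) ℂ :=
    LinearMap.toMatrix' (b.equivFun.toLinearMap ∘ₗ (Matrix.toLin' R).rangeRestrict) with hJ
  have hIJ : I * J = R := by
    rw [hI, hJ, ← LinearMap.toMatrix'_comp]
    rw [show ((LinearMap.range (Matrix.toLin' R)).subtype ∘ₗ b.equivFun.symm.toLinearMap) ∘ₗ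
      (b.equivFun.toLinearMap ∘ₗ (Matrix.toLin' R).rangeRestrict) = Matrix.toLin' R from
      LinearMap.ext fun x => by simp]
    exact LinearMap.toMatrix'_toLin' R
  have hRI : R * I = I := by
    rw [hI]
    conv_lhs => arg 1; rw [← LinearMap.toMatrix'_toLin' R]
    rw [← LinearMap.toMatrix'_comp]
    congr 1
    refine LinearMap.ext fun x => ?_
    exact ((LinearMap.isProj_range_iff_isIdempotentElem _).mpr hRid).map_id _ (b.equivFun.symm x).2
  have hIinj : ∀ v, I *ᵥ v = 0 → v = 0 := by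
    intro v hv
    rw [hI, LinearMap.toMatrix'_mulVec] at hv
    have h0 : b.equivFun.symm v = 0 := Subtype.ext hv
    exact b.equivFun.symm.injective (h0.trans (map_zero _).symm)
  set S := Iᵀ * B * I with hS
  have hSinj : ∀ v, S *ᵥ v = 0 → v = 0 := by
    intro v hv
    refine hIinj v (hBnd _ ?_)
    have h1 : (Rᵀ * B * I) *ᵥ v = 0 := by
      rw [← hIJ, Matrix.transpose_mul, Matrix.mul_assoc Jᵀ, Matrix.mul_assoc Jᵀ,
        ← Matrix.mulVec_mulVec, ← hS, hv, Matrix.mulVec_zero]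
    rwa [hRB, Matrix.mul_assoc, hRI, ← Matrix.mulVec_mulVec] at h1
  have hdet : S.det ≠ 0 := fun h => by
    obtain ⟨v, hv0, hv⟩ := Matrix.exists_mulVec_eq_zero_iff.mpr h
    exact hv0 (hSinj v hv)
  have hcI : T c * I = I := by
    have h1 := hTR k₀
    rw [hk₀, hμ₀, Units.val_one, one_smul] at h1
    rw [← hRI, ← Matrix.mul_assoc, h1]
  have hST : Sᵀ = ε • S := by
    rw [hS, Matrix.transpose_mul, Matrix.transpose_mul, Matrix.transpose_transpose, ← Matrix.mul_assoc]
    conv_lhs => arg 2; rw [← hcI]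
    rw [← Matrix.mul_assoc, Matrix.mul_assoc Iᵀ Bᵀ, ← hεv, Matrix.mul_smul, Matrix.smul_mul]
  have h1 : ε ^ m = 1 := by
    have h := congrArg Matrix.det hST
    rw [Matrix.det_transpose, Matrix.det_smul, Fintype.card_fin] at h
    exact mul_right_cancel₀ hdet (h.symm.trans (one_mul _).symm)
  have h2 : ε * ε = 1 := by
    have := Fin.pos_iff_nonempty.mp hm.pos
    have hS0 : S ≠ 0 := fun h => hdet (by rw [h, Matrix.det_zero])
    refine smul_left_injective ℂ hS0 ?_
    show (ε * ε) • S = (1 : ℂ) • S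
    rw [one_smul, mul_smul, ← hST, ← Matrix.transpose_smul, ← hST, Matrix.transpose_transpose]
  obtain ⟨j, rfl⟩ := hm
  rwa [pow_succ, pow_mul, sq, h2, one_pow, one_mul] at h1
where
  transpose_mul_single_mul_apply' {d : ℕ} (A C : Matrix (Fin d) (Fin d) ℂ) (i j : Fin d) :
      ((A)ᵀ * Matrix.single j i (1 : ℂ) * C) i j = A j i * C i j := by
    rw [Matrix.mul_apply, Finset.sum_eq_single i]
    · rw [Matrix.mul_apply, Finset.sum_eq_single j]
      · simp
      · intro x _ hx; simp [Matrix.single, Ne.symm hx]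
      · intro h; exact absurd (Finset.mem_univ _) h
    · intro x _ hx
      rw [Matrix.mul_apply, Finset.sum_eq_zero, zero_mul]
      intro y _
      simp [Matrix.single, Ne.symm hx]
    · intro h; exact absurd (Finset.mem_univ _) h

end Form

section Element

variable {G : Type u} [Group G] [Fintype G] (N : Subgroup G) [N.Normal] [Fintype N]

/-- An element with unit value and odd centralizer, with a class fixed or inverted by the stabilizer
and semi-stabilizer. -/
theorem exists_good_element (h2 : IsPGroup 2 (G ⧸ N)) (φ : IrrCharacter N)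
    (hdef : 2 ^ (Nat.card N).factorization 2 ∣ charDegree (φ : N → ℂ))
    {M : Ideal AlgInt} (hM : IsPModular 2 M) :
    ∃ n : N, (∀ a : AlgInt, (a : ℂ) = (φ : N → ℂ) n → a ∉ M) ∧
      Odd (Nat.card (Subgroup.centralizer ({n} : Set N))) ∧
      (∀ x : G, conjFun N (φ : N → ℂ) x = (φ : N → ℂ) →
        ∃ y ∈ N, y * x * n * (y * x)⁻¹ = (n : G)) ∧
      (∀ x : G, conjFun N (φ : N → ℂ) x = (fun k => conj ((φ : N → ℂ) k)) →
        ∃ y ∈ N, y * x * n * (y * x)⁻¹ = (n : G)⁻¹) := by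
  classical
  haveI : Fact (Nat.Prime 2) := ⟨Nat.prime_two⟩
  haveI : M.IsMaximal := hM.2.1
  haveI hprime : M.IsPrime := Ideal.IsMaximal.isPrime inferInstance
  obtain ⟨d, hd0, hd⟩ := isIrrCharacter_degree φ.2
  have hdd : charDegree (φ : N → ℂ) = d := by simp [charDegree, hd]
  rw [hdd] at hdef
  have hd' : (φ : N → ℂ) 1 ≠ 0 := by rw [hd]; exact Nat.cast_ne_zero.mpr hd0.ne'
  obtain ⟨u, hu⟩ := degree_dvd_card φ hd
  have huodd : ¬ 2 ∣ u := by
    intro h
    have h3 : 2 ^ ((Nat.card N).factorization 2 + 1) ∣ Nat.card N := by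
      conv_rhs => rw [hu]
      exact pow_succ 2 _ ▸ Nat.mul_dvd_mul hdef h
    exact absurd h3 (Nat.pow_succ_factorization_not_dvd Nat.card_pos.ne' Nat.prime_two)
  -- the action
  let act : G × ℤˣ → N → N := fun a n =>
    ⟨a.1 * (n : G) ^ ((a.2 : ℤˣ) : ℤ) * a.1⁻¹, Subgroup.Normal.conj_mem inferInstance _ (zpow_mem n.2 _) _⟩
  have hact1 : ∀ n, act 1 n = n := fun n => Subtype.ext (by simp [act])
  have hactmul : ∀ a b n, act (a * b) n = act a (act b n) := fun a b n => Subtype.ext (by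
    show a.1 * b.1 * (n : G) ^ ((a.2 * b.2 : ℤˣ) : ℤ) * (a.1 * b.1)⁻¹ =
      a.1 * (b.1 * (n : G) ^ ((b.2 : ℤˣ) : ℤ) * b.1⁻¹) ^ ((a.2 : ℤˣ) : ℤ) * a.1⁻¹
    rw [conj_zpow, ← zpow_mul, Units.val_mul, mul_comm ((a.2 : ℤˣ) : ℤ)]
    group)
  have hactC : ∀ (a : G × ℤˣ) (n n' : N), IsConj n n' → IsConj (act a n) (act a n') := by
    intro a n n' h
    obtain ⟨k, hk⟩ := isConj_iff.mp h
    refine isConj_iff.mpr ⟨⟨a.1 * k * a.1⁻¹, Subgroup.Normal.conj_mem inferInstance _ k.2 _⟩, Subtype.ext ?_⟩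
    rw [← hk]
    show a.1 * k * a.1⁻¹ * (a.1 * (n : G) ^ ((a.2 : ℤˣ) : ℤ) * a.1⁻¹) * (a.1 * k * a.1⁻¹)⁻¹ =
      a.1 * ((k : G) * n * (k : G)⁻¹) ^ ((a.2 : ℤˣ) : ℤ) * a.1⁻¹
    rw [conj_zpow]
    group
  letI : MulAction (G × ℤˣ) (ConjClasses N) :=
    { smul := fun a => Quotient.map (act a) (hactC a)
      one_smul := fun C => by
        obtain ⟨n, rfl⟩ := ConjClasses.exists_rep C
        exact congrArg ConjClasses.mk (hact1 n)
      mul_smul := fun a b C => by
        obtain ⟨n, rfl⟩ := ConjClasses.exists_rep C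
        exact congrArg ConjClasses.mk (hactmul a b n) }
  have hsmul : ∀ a n, a • ConjClasses.mk n = ConjClasses.mk (act a n) := fun _ _ => rfl
  let Γ : Subgroup (G × ℤˣ) :=
    { carrier := {a | ∀ n, (φ : N → ℂ) (act a n) = (φ : N → ℂ) n}
      one_mem' := fun n => by rw [hact1]
      mul_mem' := fun {a b} ha hb n => by rw [hactmul, ha, hb]
      inv_mem' := fun {a} ha n => by
        conv_rhs => rw [← hact1 n, ← mul_inv_cancel a, hactmul, ha] }
  let Φ := (MulAction.toPermHom (G × ℤˣ) (ConjClasses N)).comp Γ.subtype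
  have hP : IsPGroup 2 Φ.range := by
    rintro ⟨_, a, rfl⟩
    obtain ⟨k, hk⟩ := h2 ((QuotientGroup.mk' N) a.1.1)
    refine ⟨k + 1, Subtype.ext ?_⟩
    show Φ a ^ 2 ^ (k + 1) = 1
    rw [← map_pow]
    have hy : (a.1.1) ^ 2 ^ (k + 1) ∈ N := by
      rw [← QuotientGroup.eq_one_iff, QuotientGroup.mk_pow, pow_succ, pow_mul]
      rw [QuotientGroup.mk'_apply] at hk
      rw [hk, one_pow]
    refine Equiv.ext fun C => ?_
    obtain ⟨n, rfl⟩ := ConjClasses.exists_rep C
    show ((a : Γ) ^ 2 ^ (k + 1)).1 • ConjClasses.mk n = ConjClasses.mk n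
    rw [hsmul, ConjClasses.mk_eq_mk_iff_isConj]
    refine (isConj_iff.mpr ⟨⟨_, hy⟩, ?_⟩).symm
    refine Subtype.ext ?_
    show a.1.1 ^ 2 ^ (k + 1) * (n : G) * (a.1.1 ^ 2 ^ (k + 1))⁻¹ =
      a.1.1 ^ 2 ^ (k + 1) * (n : G) ^ (((a.1.2 ^ 2 ^ (k + 1) : ℤˣ)) : ℤ) * (a.1.1 ^ 2 ^ (k + 1))⁻¹
    rw [pow_succ' 2 k, pow_mul, pow_mul a.1.2, Int.units_sq, one_pow, Units.val_one, zpow_one]
  -- the weights
  let fib : ConjClasses N → Finset N := fun C => Finset.univ.filter (fun n => ConjClasses.mk n = C)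
  have hw : ∀ C : ConjClasses N, ∀ n, ConjClasses.mk n = C →
      ∑ k ∈ fib C, (φ : N → ℂ) k * conj ((φ : N → ℂ) k) / (φ : N → ℂ) 1 =
        omega (φ : N → ℂ) n * conj ((φ : N → ℂ) n) := by
    rintro C n rfl
    have hval : ∀ k ∈ fib (ConjClasses.mk n), (φ : N → ℂ) k = (φ : N → ℂ) n := fun k hk =>
      classFun_isConj (isClassFunction_irr φ) (ConjClasses.mk_eq_mk_iff_isConj.mp (Finset.mem_filter.mp hk).2)
    rw [Finset.sum_congr rfl fun k hk => by rw [hval k hk], Finset.sum_const, nsmul_eq_mul, omega,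
      Nat.card_eq_fintype_card, Fintype.card_subtype]
    rw [show fib (ConjClasses.mk n) = Finset.univ.filter (fun k => IsConj n k) from Finset.filter_congr fun k _ => by
      rw [ConjClasses.mk_eq_mk_iff_isConj]; exact ⟨IsConj.symm, IsConj.symm⟩]
    ring
  have hint : ∀ C : ConjClasses N,
      IsIntegral ℤ (∑ k ∈ fib C, (φ : N → ℂ) k * conj ((φ : N → ℂ) k) / (φ : N → ℂ) 1) := fun C => by
    obtain ⟨n, rfl⟩ := ConjClasses.exists_rep C
    rw [hw _ n rfl]
    exact (isIntegral_omega φ n).mul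
      (isCharacter_isIntegral (isCharacter_conj (isCharacter_irr φ)) n)
  let t : ConjClasses N → AlgInt ⧸ M := fun C => Ideal.Quotient.mk M ⟨_, hint C⟩
  haveI : CharP (AlgInt ⧸ M) 2 := by
    refine CharTwo.of_one_ne_zero_of_two_eq_zero one_ne_zero ?_
    have h := (Ideal.Quotient.eq_zero_iff_mem).mpr hM.2.2
    rwa [map_natCast, Nat.cast_two] at h
  letI : Fintype Φ.range := Fintype.ofFinite _
  have hinvt : ∀ (π : Φ.range) (C : ConjClasses N), t (π • C) = t C := by
    rintro ⟨_, a, rfl⟩ C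
    refine congrArg (Ideal.Quotient.mk M) (Subtype.ext ?_)
    refine Finset.sum_equiv ((⟨act a.1, act a.1⁻¹, fun n => by rw [← hactmul, inv_mul_cancel, hact1],
      fun n => by rw [← hactmul, mul_inv_cancel, hact1]⟩ : N ≃ N).symm) (fun k => ?_) fun k hk => ?_
    · simp only [fib, Finset.mem_filter, Finset.mem_univ, true_and]
      show _ ↔ ConjClasses.mk (act a.1⁻¹ k) = C
      rw [← hsmul, inv_smul_eq_iff]
      rfl
    · show _ = (φ : N → ℂ) (act a.1⁻¹ k) * conj ((φ : N → ℂ) (act a.1⁻¹ k)) / _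
      rw [show (φ : N → ℂ) (act a.1⁻¹ k) = (φ : N → ℂ) k from (Γ.inv_mem a.2) k]
  have hsum : ∑ C, t C = 1 := by
    rw [← map_sum, show ∑ C : ConjClasses N, (⟨_, hint C⟩ : AlgInt) = ((u : ℕ) : AlgInt) from Subtype.ext ?_,
      map_natCast]
    · rw [← Nat.mod_add_div u 2, Nat.two_dvd_ne_zero.mp huodd]
      push_cast
      rw [CharTwo.two_eq_zero, zero_mul, add_zero]
    · rw [AddSubmonoidClass.coe_finsetSum]
      show _ = ((u : ℕ) : ℂ)
      rw [Finset.sum_fiberwise (g := ConjClasses.mk), ← Finset.sum_div]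
      have h1 := classInner_irr_self φ
      rw [classInner, inv_mul_eq_one₀ card_ne_zero'] at h1
      rw [← h1, hd, hu, Nat.cast_mul, mul_div_cancel_left₀ _ (Nat.cast_ne_zero.mpr hd0.ne')]
  rw [sum_eq_sum_fixedPoints (p := 2) hP t hinvt] at hsum
  obtain ⟨C, hC, htC⟩ := Finset.exists_ne_zero_of_sum_ne_zero (by rw [hsum]; exact one_ne_zero)
  obtain ⟨n, rfl⟩ := ConjClasses.exists_rep C
  have hfix : ∀ a ∈ Γ, IsConj n (act a n) := fun a ha => by
    have h := (Finset.mem_filter.mp hC).2 ⟨_, ⟨a, ha⟩, rfl⟩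
    exact (ConjClasses.mk_eq_mk_iff_isConj.mp h).symm
  have hφint : IsIntegral ℤ ((φ : N → ℂ) n) := isCharacter_isIntegral (isCharacter_irr φ) n
  have homint : IsIntegral ℤ (omega (φ : N → ℂ) n) := isIntegral_omega φ n
  have hoconj : IsIntegral ℤ (conj (omega (φ : N → ℂ) n)) := homint.map (starRingEnd ℂ).toIntAlgHom
  have hφM : (⟨_, hφint⟩ : AlgInt) ∉ M := fun h => htC <| by
    refine Ideal.Quotient.eq_zero_iff_mem.mpr ?_
    have e : (⟨_, hint (ConjClasses.mk n)⟩ : AlgInt) = ⟨_, hoconj⟩ * ⟨_, hφint⟩ := by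
      refine Subtype.ext ?_
      show _ = conj (omega (φ : N → ℂ) n) * (φ : N → ℂ) n
      refine (hw _ n rfl).trans ?_
      simp only [omega, map_div₀, map_mul, map_natCast, hd]
      ring
    rw [e]
    exact M.mul_mem_left _ h
  have homM : (⟨_, homint⟩ : AlgInt) ∉ M := fun h => htC <| by
    refine Ideal.Quotient.eq_zero_iff_mem.mpr ?_
    have e : (⟨_, hint (ConjClasses.mk n)⟩ : AlgInt) = ⟨_, homint⟩ *
        ⟨_, isCharacter_isIntegral (isCharacter_conj (isCharacter_irr φ)) n⟩ := Subtype.ext (hw _ n rfl)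
    rw [e]
    exact M.mul_mem_right _ h
  refine ⟨n, fun a ha => ?_, ?_, fun x hx => ?_, fun x hx => ?_⟩
  · rwa [show a = ⟨_, hφint⟩ from Subtype.ext ha]
  · rw [← Nat.not_even_iff_odd, even_iff_two_dvd]
    intro hdvd
    obtain ⟨c, hc⟩ := hdvd
    set cl := Nat.card {k : N // IsConj n k}
    have hcard : cl * Nat.card (Subgroup.centralizer ({n} : Set N)) = Nat.card N := by
      rw [show cl = _ from card_isConj n, Subgroup.index_mul_card]
    have e : ((2 * c : ℕ) : AlgInt) * ⟨_, homint⟩ = ((u : ℕ) : AlgInt) * ⟨_, hφint⟩ := by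
      refine Subtype.ext ?_
      show ((2 * c : ℕ) : ℂ) * ((cl : ℂ) * (φ : N → ℂ) n / (φ : N → ℂ) 1) = (u : ℂ) * (φ : N → ℂ) n
      have h1 : (cl : ℂ) * ((2 * c : ℕ) : ℂ) = (d : ℂ) * u := by
        rw [← Nat.cast_mul, ← Nat.cast_mul, ← hc, hcard, hu]
      rw [hd]
      have : (d : ℂ) ≠ 0 := Nat.cast_ne_zero.mpr hd0.ne'
      field_simp
      linear_combination ((φ : N → ℂ) n) * h1
    have h2M : ((2 * c : ℕ) : AlgInt) ∈ M := by
      rw [Nat.cast_mul]; exact M.mul_mem_right _ hM.2.2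
    rcases hprime.mem_or_mem (e ▸ M.mul_mem_right _ h2M) with h | h
    · apply huodd
      refine (CharP.cast_eq_zero_iff (AlgInt ⧸ M) 2 u).mp ?_
      rw [← map_natCast (Ideal.Quotient.mk M)]
      exact Ideal.Quotient.eq_zero_iff_mem.mpr h
    · exact hφM h
  · have ha : ((x, 1) : G × ℤˣ) ∈ Γ := fun k => by
      have h := congrFun hx k
      refine Eq.trans (congrArg _ (Subtype.ext ?_)) h
      show x * (k : G) ^ ((1 : ℤˣ) : ℤ) * x⁻¹ = x * k * x⁻¹
      rw [Units.val_one, zpow_one]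
    obtain ⟨y, hy⟩ := isConj_iff.mp (hfix _ ha).symm
    refine ⟨y, y.2, Eq.trans ?_ (congrArg Subtype.val hy)⟩
    show _ = (y : G) * (x * (n : G) ^ ((1 : ℤˣ) : ℤ) * x⁻¹) * (y : G)⁻¹
    rw [Units.val_one, zpow_one]
    group
  · have ha : ((x, -1) : G × ℤˣ) ∈ Γ := fun k => by
      have h := congrFun hx k⁻¹
      rw [irr_inv φ, Complex.conj_conj] at h
      refine Eq.trans (congrArg _ (Subtype.ext ?_)) h
      show x * (k : G) ^ ((-1 : ℤˣ) : ℤ) * x⁻¹ = x * (k : G)⁻¹ * x⁻¹
      simp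
    obtain ⟨y, hy⟩ := isConj_iff.mp (hfix _ ha).symm
    refine ⟨y, y.2, inv_injective ?_⟩
    rw [inv_inv]
    refine Eq.trans ?_ (congrArg Subtype.val hy)
    show _ = (y : G) * (x * (n : G) ^ ((-1 : ℤˣ) : ℤ) * x⁻¹) * (y : G)⁻¹
    simp [mul_assoc]

end Element

section Extension

variable {H : Type u} [Group H] [Fintype H] (N : Subgroup H) [N.Normal] [Fintype N]

/-- A symmetric extension with twisted indicator one. -/
theorem exists_odd_extension {M : Ideal AlgInt} (hM : IsPModular 2 M) (φ : IrrCharacter N)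
    (hinv : ∀ h : H, conjFun N (φ : N → ℂ) h = (φ : N → ℂ)) (D : Subgroup H) [Fintype D]
    (hD : IsPGroup 2 D) (hdisj : ∀ x ∈ N, x ∈ D → x = 1) (hcard : Nat.card N * Nat.card D = Nat.card H)
    (n : N) (hn : ∀ a : AlgInt, (a : ℂ) = (φ : N → ℂ) n → a ∉ M)
    (hcom : ∀ x ∈ D, Commute (n : H) x)
    (e : H ≃* H) (hen : e n = (n : H)⁻¹) (heD : ∀ x ∈ D, e x ∈ D)
    (heφ : ∀ k k' : N, (k' : H) = e k → (φ : N → ℂ) k' = conj ((φ : N → ℂ) k))
    (heN : ∀ x ∈ N, e x ∈ N) (c : H) (hc : c ∈ D) (hee : ∀ t, e (e t) = c * t * c⁻¹) (hec : e c = c) :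
    ∃ θ : IrrCharacter H, (∀ k : N, (θ : H → ℂ) k = (φ : N → ℂ) k) ∧
      (∀ t, (θ : H → ℂ) (e t) = conj ((θ : H → ℂ) t)) ∧
      (Nat.card H : ℂ)⁻¹ * ∑ t : H, (θ : H → ℂ) (t * (e t * c)) = 1 := by
  classical
  haveI : Fact (Nat.Prime 2) := ⟨Nat.prime_two⟩
  haveI : M.IsMaximal := hM.2.1
  set A := Subgroup.zpowers (n : H) with hA
  have hAN : A ≤ N := Subgroup.zpowers_le.mpr n.2
  letI : Fintype A := Fintype.ofFinite _
  letI := Fintype.ofFinite (IrrCharacter A)
  letI := Fintype.ofFinite (IrrCharacter H)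
  -- a linear character of odd multiplicity
  obtain ⟨lam, m, hm, hlam⟩ : ∃ (lam : A →* ℂˣ) (m : ℕ), Odd m ∧
      classInner (fun a => (φ : N → ℂ) (Subgroup.inclusion hAN a)) (fun a => (lam a : ℂ)) = m := by
    have hchar : IsCharacter A (fun a => (φ : N → ℂ) (Subgroup.inclusion hAN a)) :=
      isCharacter_comp (isCharacter_irr φ) _
    choose m hm using classInner_char_irr_nat hchar
    have hex : ∃ χ : IrrCharacter A, Odd (m χ) := by
      by_contra hall
      push Not at hall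
      simp only [Nat.not_odd_iff_even] at hall
      choose j hj using hall
      have hexp := congrFun (classFun_expand (isClassFunction_of_isCharacter hchar)) ⟨n, Subgroup.mem_zpowers _⟩
      simp only [Finset.sum_apply, Pi.smul_apply, smul_eq_mul, hm, hj] at hexp
      have hint : IsIntegral ℤ (∑ χ : IrrCharacter A, (j χ : ℂ) * (χ : A → ℂ) ⟨n, Subgroup.mem_zpowers _⟩) :=
        IsIntegral.sum _ fun χ _ => (isIntegral_algebraMap (x := (j χ : ℤ))).mul
          (isCharacter_isIntegral (isCharacter_irr χ) _)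
      refine hn (((2 : ℕ) : AlgInt) * ⟨_, hint⟩) ?_ (M.mul_mem_right _ hM.2.2)
      show ((2 : ℕ) : ℂ) * _ = _
      refine Eq.trans ?_ hexp.symm
      rw [Finset.mul_sum]
      exact Finset.sum_congr rfl fun χ _ => by push_cast; ring
    obtain ⟨χ, hχ⟩ := hex
    have h1 := degree_one_of_comm (fun a b : A => mul_comm' a b) χ
    obtain ⟨f, hf⟩ := exists_hom_of_linear (isCharacter_irr χ) h1
    exact ⟨f, m χ, hχ, by rw [← hf, hm]⟩
  -- the group `A × D`
  have hAD : ∀ (a : A) (x : D), Commute (a : H) (x : H) := fun a x => by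
    obtain ⟨i, hi⟩ := a.2
    rw [← show (n : H) ^ i = (a : H) from hi]
    exact (hcom _ x.2).zpow_left i
  let ι : A × D →* H := MonoidHom.noncommCoprod A.subtype D.subtype hAD
  have hι : ∀ k : A × D, ι k = (k.1 : H) * (k.2 : H) := fun _ => rfl
  have hιN : ∀ k : A × D, ι k ∈ N ↔ k.2 = 1 := fun k => by
    rw [hι, N.mul_mem_cancel_left (hAN k.1.2)]
    exact ⟨fun h => Subtype.ext (hdisj _ h k.2.2), fun h => by rw [h]; exact N.one_mem⟩
  let μ : A × D →* ℂˣ := lam.comp (MonoidHom.fst A D)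
  have hea : ∀ a : A, e a = (a : H)⁻¹ := fun a => by
    obtain ⟨i, hi⟩ := a.2
    rw [← show (n : H) ^ i = (a : H) from hi, map_zpow, hen, inv_zpow]
  let f : A × D ≃ A × D := Equiv.ofBijective (fun k => (k.1, (⟨e k.2, heD _ k.2.2⟩ : D)⁻¹))
    (Finite.injective_iff_bijective.mp fun k l h => by
      obtain ⟨h1, h2⟩ := Prod.ext_iff.mp h
      exact Prod.ext h1 (Subtype.ext (e.injective (congrArg Subtype.val (inv_injective h2)))))
  have hf : ∀ k, e (ι k) = (ι (f k))⁻¹ := fun k => by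
    show e ((k.1 : H) * (k.2 : H)) = ((k.1 : H) * (e (k.2 : H))⁻¹)⁻¹
    rw [map_mul, hea, mul_inv_rev, inv_inv]
    exact ((hAD k.1 ⟨e k.2, heD _ k.2.2⟩).inv_left).eq
  -- the induced function
  set F : H → ℂ := extendByZero N (fun k => (Nat.card D : ℂ) * (φ : N → ℂ) k) with hF
  have hFc : IsClassFunction H F := by
    intro x h
    by_cases hx : x ∈ N
    · rw [hF, extendByZero_mem N _ hx, extendByZero_mem N _ (Subgroup.Normal.conj_mem inferInstance _ hx h)]
      congr 1
      exact congrFun (hinv h) ⟨x, hx⟩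
    · rw [hF, extendByZero_not_mem N _ hx, extendByZero_not_mem N _ fun hh => hx (by
        simpa [mul_assoc] using Subgroup.Normal.conj_mem (H := N) inferInstance _ hh h⁻¹)]
  choose ee hee' using fun θ : IrrCharacter H =>
    classInner_char_irr_nat (isCharacter_comp (isCharacter_irr θ) N.subtype) φ
  choose aa haa using fun θ : IrrCharacter H =>
    classInner_isCharacter (isCharacter_comp (isCharacter_irr θ) ι) (isCharacter_hom μ)
  have hD0 : (Nat.card D : ℂ) ≠ 0 := Nat.cast_ne_zero.mpr Nat.card_pos.ne'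
  have hFi : ∀ θ : IrrCharacter H, classInner F (θ : H → ℂ) = ee θ := fun θ => by
    have h1 : classInner (φ : N → ℂ) (fun k : N => (θ : H → ℂ) k) = (ee θ : ℂ) := by
      rw [← classInner_conj]
      exact (congrArg conj (hee' θ)).trans (map_natCast _ _)
    rw [← h1, classInner, classInner, ← hcard, hF]
    rw [sum_extendByZero_mul N _ (fun x => conj ((θ : H → ℂ) x))]
    simp only [mul_assoc, ← Finset.mul_sum]
    push_cast
    field_simp
  have hFμ : classInner (fun k => F (ι k)) (fun k => (μ k : ℂ)) = m := by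
    rw [← hlam, classInner, classInner, Nat.card_prod, Fintype.sum_prod_type]
    have hcol : ∀ a : A, ∑ x : D, F (ι (a, x)) * conj (μ (a, x) : ℂ) =
        (Nat.card D : ℂ) * ((φ : N → ℂ) (Subgroup.inclusion hAN a) * conj (lam a : ℂ)) := fun a => by
      rw [Finset.sum_eq_single (1 : D)]
      · rw [hF, extendByZero_mem N _ ((hιN (a, 1)).mpr rfl), mul_assoc,
          show (⟨ι (a, 1), (hιN (a, 1)).mpr rfl⟩ : N) = Subgroup.inclusion hAN a from
            Subtype.ext (mul_one (a : H))]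
        rfl
      · intro x _ hx
        rw [hF, extendByZero_not_mem N _ (fun h => hx ((hιN (a, x)).mp h)), zero_mul]
      · exact fun h => absurd (Finset.mem_univ _) h
    simp only [hcol, ← Finset.mul_sum]
    push_cast
    field_simp
  have htot : (∑ θ : IrrCharacter H, ee θ * aa θ : ℕ) = m := by
    have hexp : (fun k => F (ι k)) = ∑ θ : IrrCharacter H, (ee θ : ℂ) • fun k => (θ : H → ℂ) (ι k) := by
      funext k
      have := congrFun (classFun_expand hFc) (ι k)
      simp only [Finset.sum_apply, Pi.smul_apply, hFi] at this ⊢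
      exact this
    rw [hexp, classInner_sum_left] at hFμ
    simp only [classInner_smul_left, haa] at hFμ
    exact_mod_cast hFμ
  -- constituents of odd multiplicity are extensions
  have hindex : N.index = Nat.card D := by
    refine Nat.eq_of_mul_eq_mul_left (Nat.card_pos (α := N)) ?_
    rw [hcard, ← N.index_mul_card, mul_comm]
  have hres : ∀ θ : IrrCharacter H, Odd (ee θ) → ee θ = 1 ∧ ∀ k : N, (θ : H → ℂ) k = (φ : N → ℂ) k := by
    intro θ ho
    have hne : classInner (fun k : N => (θ : H → ℂ) k) (φ : N → ℂ) ≠ 0 := by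
      rw [show classInner (fun k : N => (θ : H → ℂ) k) (φ : N → ℂ) = (ee θ : ℂ) from hee' θ]
      exact Nat.cast_ne_zero.mpr ho.pos.ne'
    have hset : {ψ : N → ℂ | ∃ g : H, ψ = conjFun N (φ : N → ℂ) g} = {(φ : N → ℂ)} :=
      Set.ext fun ψ => ⟨fun ⟨g, hg⟩ => hg.trans (hinv g), fun h => ⟨1, h.trans (conjFun_one N _).symm⟩⟩
    have hcl := clifford N θ.2 φ.2 hne
    rw [hset, finsum_mem_singleton, show classInner (fun k : N => (θ : H → ℂ) k) (φ : N → ℂ) = (ee θ : ℂ) from hee' θ] at hcl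
    obtain ⟨d, hd0, hd⟩ := isIrrCharacter_degree φ.2
    have h1 : (θ : H → ℂ) 1 = ((ee θ * d : ℕ) : ℂ) := by
      have := congrFun hcl 1
      rw [Pi.smul_apply, hd, smul_eq_mul] at this
      rw [Nat.cast_mul, ← this]
      rfl
    obtain ⟨e', he', hdvd⟩ := ratio_dvd_index_invariant N θ φ.2 hinv hne h1 hd
    have hee1 : e' = ee θ := Nat.eq_of_mul_eq_mul_left hd0 (he'.symm.trans (mul_comm _ _))
    obtain ⟨j, hj⟩ := IsPGroup.iff_card.mp hD
    rw [hindex, hj, hee1] at hdvd
    obtain ⟨i, -, hi⟩ := (Nat.dvd_prime_pow Nat.prime_two).mp hdvd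
    have hone : ee θ = 1 := by
      rw [hi] at ho ⊢
      rcases i with _ | i
      · rfl
      · exact absurd ((Nat.odd_pow_iff i.succ_ne_zero).mp ho) (by decide)
    refine ⟨hone, fun k => ?_⟩
    have := congrFun hcl k
    rw [hone, Nat.cast_one, one_smul] at this
    exact this
  set S := (Finset.univ : Finset (IrrCharacter H)).filter
    (fun θ : IrrCharacter H => (∀ k : N, (θ : H → ℂ) k = (φ : N → ℂ) k) ∧ Odd (aa θ)) with hS
  have hSee : ∀ θ : IrrCharacter H, θ ∈ S ↔ Odd (ee θ * aa θ) := fun θ => by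
    rw [hS, Finset.mem_filter, Nat.odd_mul]
    refine ⟨fun h => ⟨?_, h.2.2⟩, fun h => ⟨Finset.mem_univ _, (hres θ h.1).2, h.2⟩⟩
    have h1 : (ee θ : ℂ) = 1 := by
      rw [← hee' θ, show (fun k => (θ : H → ℂ) (N.subtype k)) = (φ : N → ℂ) from funext h.2.1, classInner_irr_self]
    rw [Nat.cast_eq_one.mp h1]
    exact odd_one
  have hSodd : Odd S.card := by
    rw [← ZMod.natCast_eq_one_iff_odd, show S = Finset.univ.filter (fun θ => Odd (ee θ * aa θ)) from by ext θ; simp [hSee],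
      ← Finset.sum_boole]
    refine Eq.trans ?_ ((ZMod.natCast_eq_one_iff_odd (n := m)).mpr hm)
    rw [← htot, Nat.cast_sum]
    refine Finset.sum_congr rfl fun θ _ => ?_
    split_ifs with h
    · exact ((ZMod.natCast_eq_one_iff_odd (n := _)).mpr h).symm
    · exact ((ZMod.natCast_eq_zero_iff_even (n := _)).mpr (Nat.not_odd_iff_even.mp h)).symm
  -- the symmetry
  let τ : IrrCharacter H → IrrCharacter H := fun θ =>
    ⟨_, isIrrCharacter_conj (isIrrCharacter_comp_surjective θ.2 e.toMonoidHom e.surjective)⟩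
  have hτv : ∀ (θ : IrrCharacter H) t, (τ θ : H → ℂ) t = conj ((θ : H → ℂ) (e t)) := fun _ _ => rfl
  have hττ : ∀ θ, τ (τ θ) = θ := fun θ => Subtype.ext (funext fun t => by
    rw [hτv, hτv, Complex.conj_conj, hee]
    exact isClassFunction_irr θ t c)
  have hτS : ∀ θ ∈ S, τ θ ∈ S := fun θ hθ => by
    obtain ⟨-, hN, ho⟩ := Finset.mem_filter.mp hθ
    refine Finset.mem_filter.mpr ⟨Finset.mem_univ _, fun k => ?_, ?_⟩
    · rw [hτv, show (θ : H → ℂ) (e k) = (φ : N → ℂ) ⟨e k, heN _ k.2⟩ from hN ⟨e k, heN _ k.2⟩,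
        heφ k ⟨e k, heN _ k.2⟩ rfl, Complex.conj_conj]
    · have : (aa (τ θ) : ℂ) = aa θ := by
        rw [← haa, ← haa, classInner, classInner]
        congr 1
        refine Fintype.sum_equiv f _ _ fun k => ?_
        rw [hτv, hf, irr_inv, Complex.conj_conj]
        rfl
      rwa [Nat.cast_inj.mp this]
  obtain ⟨θ, hθS, hθτ⟩ : ∃ θ ∈ S, τ θ = θ := by
    by_contra hno
    push Not at hno
    have h0 : ∑ θ ∈ S, (1 : ZMod 2) = 0 := Finset.sum_involution (fun θ _ => τ θ)
      (fun θ _ => CharTwo.add_self_eq_zero _) (fun θ hθ _ => hno θ hθ) hτS (fun θ _ => hττ θ)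
    rw [Finset.sum_const, nsmul_one, ZMod.natCast_eq_zero_iff_even] at h0
    exact (Nat.not_even_iff_odd.mpr hSodd) h0
  obtain ⟨-, hN, ho⟩ := Finset.mem_filter.mp hθS
  have hθe : ∀ t, (θ : H → ℂ) (e t) = conj ((θ : H → ℂ) t) := fun t => by
    conv_rhs => rw [← hθτ, hτv, Complex.conj_conj]
  exact ⟨θ, hN, hθe, twisted_indicator_eq_one θ e c hee hec hθe ι μ f hf (fun _ => rfl) (1, ⟨c, hc⟩)
    (one_mul c) (map_one lam) ho (haa θ)⟩

end Extension

section Induced

variable {G : Type u} [Group G] [Fintype G] {N : Subgroup G} [N.Normal] [Fintype N]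

/-- The indicator of a character induced from the inertia group, as a twisted indicator. -/
theorem sqInd_indFun_twisted (φ : IrrCharacter N) [Fintype (inertia N (φ : N → ℂ))]
    (hNT : N ≤ inertia N (φ : N → ℂ)) (θ : IrrCharacter (inertia N (φ : N → ℂ)))
    (hθ : ∀ n : N, (θ : inertia N (φ : N → ℂ) → ℂ) (Subgroup.inclusion hNT n) = (φ : N → ℂ) n)
    (g : G) (hg : conjFun N (φ : N → ℂ) g = fun n => conj ((φ : N → ℂ) n)) :
    (Nat.card G : ℂ)⁻¹ * ∑ x : G, indFun (inertia N (φ : N → ℂ)) (θ : inertia N (φ : N → ℂ) → ℂ) (x * x) =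
      (Nat.card (inertia N (φ : N → ℂ)) : ℂ)⁻¹ *
        ∑ t : inertia N (φ : N → ℂ), extendByZero (inertia N (φ : N → ℂ)) (θ : inertia N (φ : N → ℂ) → ℂ)
          ((t : G) * g * ((t : G) * g)) := by
  classical
  have hG0 : (Nat.card G : ℂ) ≠ 0 := Nat.cast_ne_zero.mpr Nat.card_pos.ne'
  set E := extendByZero (inertia N (φ : N → ℂ)) (θ : (inertia N (φ : N → ℂ)) → ℂ) with hE
  have hconj2 : ∀ a : G, conjFun N (fun n => conj ((φ : N → ℂ) n)) a =
      fun n => conj (conjFun N (φ : N → ℂ) a n) := fun a => rfl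
  have hXiff : ∀ x : G, x * g⁻¹ ∈ inertia N (φ : N → ℂ) ↔
      conjFun N (φ : N → ℂ) x = fun n => conj ((φ : N → ℂ) n) := by
    intro x
    rw [mem_inertia, conjFun_mul]
    refine ⟨fun h => ?_, fun h => ?_⟩
    · rw [← hg, ← inv_inv g]
      exact (conjFun_eq_iff N _ _ g⁻¹).mp h |>.symm
    · rw [h, ← hg, ← conjFun_mul, mul_inv_cancel, conjFun_one]
  have houter : ∀ x : G, x * g⁻¹ ∉ (inertia N (φ : N → ℂ)) → ∑ n : N, E (x * n * (x * n)) = 0 := by
    intro x hx
    have hsplit : ∀ n : N, x * (n : G) * (x * n) = x * x * (x⁻¹ * n * x * n) := fun n => by group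
    have hconjN : ∀ n : N, x⁻¹ * (n : G) * x ∈ N := fun n => by
      simpa using Subgroup.Normal.conj_mem (H := N) inferInstance _ n.2 x⁻¹
    by_cases hx2 : x * x ∈ (inertia N (φ : N → ℂ))
    · obtain ⟨m, σ, hσi, hσ⟩ := θ.2
      let M : (inertia N (φ : N → ℂ)) → Matrix (Fin m) (Fin m) ℂ := fun t => LinearMap.toMatrix' (σ t)
      have hM : ∀ a b, M (a * b) = M a * M b := fun a b => by
        show LinearMap.toMatrix' _ = _; rw [map_mul, LinearMap.toMatrix'_mul]
      have hM1 : M 1 = 1 := by show LinearMap.toMatrix' _ = _; rw [map_one, LinearMap.toMatrix'_one]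
      have htr : ∀ t, (M t).trace = (θ : (inertia N (φ : N → ℂ)) → ℂ) t := fun t => by rw [← hσ]; exact toMatrix'_trace σ t
      let a : N →* N :=
        { toFun := fun n => ⟨x⁻¹ * n * x, hconjN n⟩
          map_one' := Subtype.ext (by simp)
          map_mul' := fun p q => Subtype.ext (by simp [mul_assoc]) }
      let M1 : N →* Matrix (Fin m) (Fin m) ℂ :=
        { toFun := fun n => M (Subgroup.inclusion hNT (a n))
          map_one' := by rw [map_one, map_one, hM1]
          map_mul' := fun p q => by rw [map_mul, map_mul, hM] }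
      let M2 : N →* Matrix (Fin m) (Fin m) ℂ :=
        { toFun := fun n => M (Subgroup.inclusion hNT n)
          map_one' := by rw [map_one, hM1]
          map_mul' := fun p q => by rw [map_mul, hM] }
      have hsum : ∑ n : N, (M1 n).trace * (M2 n).trace = 0 := by
        let φ' : IrrCharacter N := ⟨conjFun N (φ : N → ℂ) x⁻¹, isIrrCharacter_conjFun N φ.2 x⁻¹⟩
        let φ'' : IrrCharacter N := ⟨_, isIrrCharacter_conj φ.2⟩
        have hne : φ' ≠ φ'' := fun e => hx ((hXiff x).mpr (by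
          have e' : conjFun N (φ : N → ℂ) x⁻¹ = fun n => conj ((φ : N → ℂ) n) := congrArg Subtype.val e
          have h1 : conjFun N (fun n => conj ((φ : N → ℂ) n)) x = (φ : N → ℂ) := by
            rw [← e', ← conjFun_mul, inv_mul_cancel, conjFun_one]
          funext n
          have h2 := congrFun h1 n
          rw [hconj2] at h2
          exact (Complex.conj_conj _).symm.trans (congrArg conj h2)))
        have h := classInner_irr_ne hne
        rw [classInner, mul_eq_zero] at h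
        refine Eq.trans ?_ (h.resolve_left (inv_ne_zero (Nat.cast_ne_zero.mpr Nat.card_pos.ne')))
        refine Finset.sum_congr rfl fun n _ => ?_
        show (M (Subgroup.inclusion hNT (a n))).trace * (M (Subgroup.inclusion hNT n)).trace = _
        rw [htr, htr, hθ, hθ]
        show _ = conjFun N (φ : N → ℂ) x⁻¹ n * conj (conj ((φ : N → ℂ) n))
        simp [conjFun, a]
      have hterm : ∀ n : N, E (x * n * (x * n)) = (M ⟨x * x, hx2⟩ * (M1 n * M2 n)).trace := fun n => by
        rw [hsplit, show x * x * (x⁻¹ * (n : G) * x * n) =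
          (((⟨x * x, hx2⟩ : (inertia N (φ : N → ℂ))) * (Subgroup.inclusion hNT (a n) * Subgroup.inclusion hNT n) : (inertia N (φ : N → ℂ))) : G) from rfl,
          hE, extendByZero_mem (inertia N (φ : N → ℂ)) (θ : (inertia N (φ : N → ℂ)) → ℂ) (Subtype.coe_prop _), Subtype.coe_eta, ← htr, hM, hM]
        rfl
      rw [Finset.sum_congr rfl fun n _ => hterm n]
      simp only [Matrix.trace, Matrix.diag_apply, Matrix.mul_apply, Finset.mul_sum]
      rw [Finset.sum_comm]
      refine Finset.sum_eq_zero fun i _ => ?_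
      rw [Finset.sum_comm]
      refine Finset.sum_eq_zero fun b _ => ?_
      rw [Finset.sum_comm]
      refine Finset.sum_eq_zero fun c _ => ?_
      rw [← Finset.mul_sum, LinearTimesExtension.schur_pair_zero M1 M2 hsum, mul_zero]
    · refine Finset.sum_eq_zero fun n _ => ?_
      rw [hsplit, hE, extendByZero]
      refine Function.extend_apply' _ _ _ ?_
      rintro ⟨t, ht⟩
      exact hx2 (((inertia N (φ : N → ℂ)).mul_mem_cancel_right (hNT (N.mul_mem (hconjN n) n.2))).mp (ht ▸ t.2))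
  have hmem : ∀ (x : G) (n : N), x * n * g⁻¹ ∈ inertia N (φ : N → ℂ) ↔ x * g⁻¹ ∈ inertia N (φ : N → ℂ) := by
    intro x n
    rw [show x * n * g⁻¹ = x * g⁻¹ * (g * n * g⁻¹) by group]
    exact (inertia N (φ : N → ℂ)).mul_mem_cancel_right (hNT (Subgroup.Normal.conj_mem inferInstance _ n.2 _))
  set Out := Finset.univ.filter (fun x : G => x * g⁻¹ ∉ inertia N (φ : N → ℂ)) with hOut
  have hout : ∑ x ∈ Out, E (x * x) = 0 := by
    have hN0 : (Nat.card N : ℂ) ≠ 0 := Nat.cast_ne_zero.mpr Nat.card_pos.ne'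
    have hshift : ∀ n : N, ∑ x ∈ Out, E (x * n * (x * n)) = ∑ x ∈ Out, E (x * x) := fun n =>
      Finset.sum_equiv (Equiv.mulRight (n : G)) (fun x => by simp [hOut, hmem]) fun x _ => rfl
    have h := Finset.sum_eq_zero (s := Out) (f := fun x => ∑ n : N, E (x * n * (x * n)))
      fun x hx => houter x (Finset.mem_filter.mp hx).2
    rw [Finset.sum_comm, Finset.sum_congr rfl fun n _ => hshift n, Finset.sum_const, Finset.card_univ,
      nsmul_eq_mul, ← Nat.card_eq_fintype_card] at h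
    exact (mul_eq_zero.mp h).resolve_left hN0
  have hfull : ∑ x : G, E (x * x) = ∑ t : inertia N (φ : N → ℂ), E ((t : G) * g * ((t : G) * g)) := by
    rw [← Finset.sum_filter_add_sum_filter_not Finset.univ (fun x => x * g⁻¹ ∉ inertia N (φ : N → ℂ)),
      ← hOut, hout, zero_add]
    simp only [not_not]
    rw [← Fintype.sum_equiv (Equiv.mulRight g) _ (fun x => if x * g⁻¹ ∈ inertia N (φ : N → ℂ) then E (x * x) else 0)
      (fun x => rfl) |>.trans (Finset.sum_filter _ _).symm]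
    simp only [Equiv.coe_mulRight, mul_inv_cancel_right, ← Finset.sum_filter]
    exact Finset.sum_subtype _ (by simp) _
  have hswap : ∀ y : G, ∑ x : G, E (y⁻¹ * (x * x) * y) = ∑ x : G, E (x * x) := fun y =>
    Fintype.sum_equiv (MulAut.conj y⁻¹).toEquiv _ _ fun x => congrArg E (by simp [mul_assoc])
  simp only [indFun, ← Finset.mul_sum]
  rw [Finset.sum_comm]
  simp only [← hE, hswap, hfull, Finset.sum_const, Finset.card_univ, nsmul_eq_mul]
  rw [← Nat.card_eq_fintype_card]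
  field_simp

end Induced

/-- Over a `2`-defect zero character conjugate to its conjugate, with a `2`-group on top, lies an
irreducible character of indicator one with multiplicity one. -/
theorem exists_real_over {G : Type u} [Group G] [Fintype G] (N : Subgroup G) [N.Normal] [Fintype N]
    (h2 : IsPGroup 2 (G ⧸ N)) (φ : IrrCharacter N)
    (hdef : 2 ^ (Nat.card N).factorization 2 ∣ charDegree (φ : N → ℂ)) {g₀ : G}
    (hg₀ : conjFun N (φ : N → ℂ) g₀ = fun n => conj ((φ : N → ℂ) n)) :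
    ∃ χ : IrrCharacter G, (Nat.card G : ℂ)⁻¹ * ∑ g : G, (χ : G → ℂ) (g * g) = 1 ∧
      classInner (fun n : N => (χ : G → ℂ) n) (φ : N → ℂ) = 1 := by
  classical
  haveI : Fact (Nat.Prime 2) := ⟨Nat.prime_two⟩
  obtain ⟨M, hM⟩ := exists_pModular Nat.prime_two
  obtain ⟨n, hn, hodd, hfix, hinv⟩ := exists_good_element N h2 φ hdef hM
  set T := inertia N (φ : N → ℂ) with hT
  have hNT : N ≤ T := le_inertia N (isClassFunction_irr φ)
  obtain ⟨y, hy, hg1n⟩ := hinv g₀ hg₀
  -- the semi-stabilizer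
  set X : G → Prop := fun x => conjFun N (φ : N → ℂ) x = fun k => conj ((φ : N → ℂ) k) with hX
  have hTX : ∀ t x, t ∈ T → X x → X (t * x) := fun t x ht hx => by
    show conjFun N _ (t * x) = _
    rw [conjFun_mul, (mem_inertia N _ t).mp ht]
    exact hx
  have hXT : ∀ t x, t ∈ T → X x → X (x * t) := fun t x ht hx => by
    show conjFun N _ (x * t) = _
    rw [conjFun_mul, hx]
    funext k
    exact congrArg conj (congrFun ((mem_inertia N _ t).mp ht) k)
  have hXX : ∀ x z, X x → X z → x * z ∈ T := fun x z hx hz => by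
    rw [hT, mem_inertia, conjFun_mul, hx]
    funext k
    exact (congrArg conj (congrFun hz k)).trans (Complex.conj_conj _)
  have hXinv : ∀ x, X x → X x⁻¹ := fun x hx => by
    show conjFun N _ x⁻¹ = _
    funext k
    have h := congrFun ((conjFun_eq_iff N _ _ x).mp hx) k
    exact (Complex.conj_conj _).symm.trans (congrArg conj h)
  set HT := T ⊓ Subgroup.centralizer ({(n : G)} : Set G) with hHT
  have hmemHT : ∀ t, t ∈ HT ↔ t ∈ T ∧ t * n * t⁻¹ = (n : G) := fun t => by
    rw [hHT, Subgroup.mem_inf, Subgroup.mem_centralizer_singleton_iff, mul_inv_eq_iff_eq_mul]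
  let P : Sylow 2 HT := default
  set g₁ := y * g₀ with hg₁
  have hg1X : X g₁ := hTX _ _ (hNT hy) hg₀
  have hnorm : ∀ h ∈ HT, g₁ * h * g₁⁻¹ ∈ HT := fun h hh => by
    obtain ⟨hhT, hhn⟩ := (hmemHT h).mp hh
    refine (hmemHT _).mpr ⟨?_, ?_⟩
    · exact hXX _ _ (hXT _ _ hhT hg1X) (hXinv _ hg1X)
    · have h1 : g₁⁻¹ * n * g₁ = (n : G)⁻¹ := by
        conv_lhs => rw [← inv_inv (n : G), ← hg1n]
        group
      calc g₁ * h * g₁⁻¹ * n * (g₁ * h * g₁⁻¹)⁻¹ = g₁ * (h * (g₁⁻¹ * n * g₁) * h⁻¹) * g₁⁻¹ := by group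
        _ = g₁ * (n : G)⁻¹ * g₁⁻¹ := by rw [h1, ← conj_inv, hhn]
        _ = (g₁ * n * g₁⁻¹)⁻¹ := by group
        _ = n := by rw [hg1n, inv_inv]
  let ψ : HT →* HT :=
    { toFun := fun h => ⟨g₁ * h * g₁⁻¹, hnorm h h.2⟩
      map_one' := Subtype.ext (by simp)
      map_mul' := fun a b => Subtype.ext (by simp [mul_assoc]) }
  have hψinj : Function.Injective ψ := fun a b h =>
    Subtype.ext (mul_left_cancel (mul_right_cancel (congrArg Subtype.val h : g₁ * a * g₁⁻¹ = g₁ * b * g₁⁻¹)))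
  let P' : Sylow 2 HT := Sylow.ofCard ((P : Subgroup HT).map ψ) (by
    rw [Subgroup.card_map_of_injective hψinj]; exact P.card_eq_multiplicity)
  obtain ⟨z, hz⟩ := MulAction.exists_smul_eq HT P' P
  set g₂ := (z : G) * g₁ with hg₂
  obtain ⟨hzT, hzn⟩ := (hmemHT z).mp z.2
  have hg2X : X g₂ := hTX _ _ hzT hg1X
  have hg2n : g₂ * n * g₂⁻¹ = (n : G)⁻¹ := by
    calc g₂ * n * g₂⁻¹ = (z : G) * (g₁ * n * g₁⁻¹) * (z : G)⁻¹ := by rw [hg₂]; group
      _ = ((z : G) * n * (z : G)⁻¹)⁻¹ := by rw [hg1n]; group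
      _ = _ := by rw [hzn]
  have hg2P : ∀ h : HT, h ∈ (P : Subgroup HT) → ∀ h' : HT, (h' : G) = g₂ * h * g₂⁻¹ → h' ∈ (P : Subgroup HT) := by
    intro h hh h' he
    have h1 : z * ψ h * z⁻¹ ∈ ((z • P' : Sylow 2 HT) : Subgroup HT) := by
      rw [Sylow.coe_subgroup_smul]
      exact ⟨ψ h, Subgroup.mem_map_of_mem ψ hh, rfl⟩
    rw [hz] at h1
    rwa [show h' = z * ψ h * z⁻¹ from Subtype.ext (by
      rw [he, hg₂]
      show _ = (z : G) * (g₁ * h * g₁⁻¹) * (z : G)⁻¹
      group)]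
  -- the two-part
  have hsq : g₂ * g₂ ∈ HT := (hmemHT _).mpr ⟨hXX _ _ hg2X hg2X, by
    calc g₂ * g₂ * n * (g₂ * g₂)⁻¹ = g₂ * (g₂ * n * g₂⁻¹) * g₂⁻¹ := by group
      _ = (g₂ * n * g₂⁻¹)⁻¹ := by conv_lhs => rw [hg2n]
                                  group
      _ = n := by rw [hg2n, inv_inv]⟩
  obtain ⟨a, b, hb, hab⟩ := Nat.exists_eq_two_pow_mul_odd (orderOf_pos g₂).ne'
  obtain ⟨i, rfl⟩ := hb
  set g := g₂ * (g₂ * g₂) ^ i with hg
  have hgpow : g = g₂ ^ (2 * i + 1) := by rw [hg, ← pow_two, ← pow_mul, ← pow_succ']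
  have hi : (g₂ * g₂) ^ i ∈ HT := HT.pow_mem hsq i
  have hgX : X g := hXT _ _ ((hmemHT _).mp hi).1 hg2X
  have hgn : g * n * g⁻¹ = (n : G)⁻¹ := by
    calc g * n * g⁻¹ = g₂ * ((g₂ * g₂) ^ i * n * ((g₂ * g₂) ^ i)⁻¹) * g₂⁻¹ := by rw [hg]; group
      _ = _ := by rw [((hmemHT _).mp hi).2, hg2n]
  have hgP : ∀ h : HT, h ∈ (P : Subgroup HT) → ∀ h' : HT, (h' : G) = g * h * g⁻¹ → h' ∈ (P : Subgroup HT) := by
    rw [hgpow]
    induction (2 * i + 1) with
    | zero => intro h hh h' he; rwa [show h' = h from Subtype.ext (by simpa using he)]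
    | succ k ih =>
      intro h hh h' he
      have hm : g₂ * h * g₂⁻¹ ∈ HT := by
        obtain ⟨hhT, hhn⟩ := (hmemHT (h : G)).mp h.2
        refine (hmemHT _).mpr ⟨hXX _ _ (hXT _ _ hhT hg2X) (hXinv _ hg2X), ?_⟩
        have h1 : g₂⁻¹ * n * g₂ = (n : G)⁻¹ := by
          conv_lhs => rw [← inv_inv (n : G), ← hg2n]
          group
        calc g₂ * h * g₂⁻¹ * n * (g₂ * h * g₂⁻¹)⁻¹ = g₂ * ((h : G) * (g₂⁻¹ * n * g₂) * (h : G)⁻¹) * g₂⁻¹ := by group
          _ = g₂ * (n : G)⁻¹ * g₂⁻¹ := by rw [h1, ← conj_inv, hhn]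
          _ = (g₂ * n * g₂⁻¹)⁻¹ := by group
          _ = n := by rw [hg2n, inv_inv]
      exact ih _ (hg2P h hh ⟨_, hm⟩ rfl) h' (by rw [he, pow_succ]; show _ = _ * (g₂ * h * g₂⁻¹) * _; group)
  have hg2' : g * g ∈ HT := by
    rw [hgpow, ← pow_add, ← two_mul, pow_mul, sq]
    exact HT.pow_mem hsq _
  set c : HT := ⟨g * g, hg2'⟩
  have hcP : c ∈ (P : Subgroup HT) := by
    have hle : Subgroup.zpowers c ≤ Subgroup.normalizer ((P : Subgroup HT) : Set HT) := by
      refine Subgroup.zpowers_le.mpr (Subgroup.mem_normalizer_iff.mpr fun h => ?_)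
      have hfwd : ∀ h : HT, h ∈ (P : Subgroup HT) → c * h * c⁻¹ ∈ (P : Subgroup HT) := fun h hh => by
        have hm : g * h * g⁻¹ ∈ HT := by
          obtain ⟨hhT, hhn⟩ := (hmemHT (h : G)).mp h.2
          refine (hmemHT _).mpr ⟨hXX _ _ (hXT _ _ hhT hgX) (hXinv _ hgX), ?_⟩
          have h1 : g⁻¹ * n * g = (n : G)⁻¹ := by
            conv_lhs => rw [← inv_inv (n : G), ← hgn]
            group
          calc g * h * g⁻¹ * n * (g * h * g⁻¹)⁻¹ = g * ((h : G) * (g⁻¹ * n * g) * (h : G)⁻¹) * g⁻¹ := by group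
            _ = g * (n : G)⁻¹ * g⁻¹ := by rw [h1, ← conj_inv, hhn]
            _ = (g * n * g⁻¹)⁻¹ := by group
            _ = n := by rw [hgn, inv_inv]
        refine hgP _ (hgP h hh ⟨_, hm⟩ rfl) _ ?_
        show g * g * (h : G) * (g * g)⁻¹ = g * (g * h * g⁻¹) * g⁻¹
        group
      refine ⟨hfwd h, fun hh => ?_⟩
      obtain ⟨h0, hh0, he⟩ : c * h * c⁻¹ ∈ Subgroup.map (MulAut.conj c).toMonoidHom (P : Subgroup HT) := by
        rw [Subgroup.eq_of_le_of_card_ge (K := (P : Subgroup HT)) (H := Subgroup.map (MulAut.conj c).toMonoidHom (P : Subgroup HT))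
          (fun x ⟨w, hw, hwx⟩ => hwx ▸ hfwd w hw)
          (Subgroup.card_map_of_injective (f := (MulAut.conj c).toMonoidHom) (MulAut.conj c).injective).ge]
        exact hh
      rwa [← (MulAut.conj c).injective (he : MulAut.conj c h0 = MulAut.conj c h)]
    have hcp : IsPGroup 2 (Subgroup.zpowers c) := by
      refine IsPGroup.of_card (n := (orderOf c).factorization 2) ?_
      rw [Nat.card_zpowers]
      have hdvd : orderOf c ∣ 2 ^ a := by
        refine orderOf_dvd_of_pow_eq_one (Subtype.ext ?_)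
        show (g * g) ^ 2 ^ a = 1
        rw [hgpow, ← pow_add, ← pow_mul, ← orderOf_dvd_iff_pow_eq_one, hab]
        exact ⟨2, by ring⟩
      obtain ⟨j, -, hj⟩ := (Nat.dvd_prime_pow Nat.prime_two).mp hdvd
      rw [hj, Nat.Prime.factorization_pow Nat.prime_two, Finsupp.single_eq_same]
    have h := IsPGroup.to_sup_of_normal_left' P.isPGroup' hcp hle
    have heq := P.is_maximal' h le_sup_left
    rw [← heq]
    exact Subgroup.mem_sup_right (Subgroup.mem_zpowers c)
  -- orders
  set D := ((P : Subgroup HT).map HT.subtype) with hD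
  have hDmem : ∀ x ∈ D, x ∈ T ∧ x * n * x⁻¹ = (n : G) := fun x hx => by
    obtain ⟨w, -, rfl⟩ := hx; exact (hmemHT _).mp w.2
  have hcn : Odd (Nat.card (N ⊓ HT : Subgroup G)) := by
    obtain ⟨j, hj⟩ := hodd
    refine Nat.not_even_iff_odd.mp fun he => ?_
    have hdvd : Nat.card (N ⊓ HT : Subgroup G) ∣ Nat.card (Subgroup.centralizer ({n} : Set N)) := by
      refine Subgroup.card_dvd_of_injective ((Subgroup.inclusion (inf_le_left : N ⊓ HT ≤ N)).codRestrict
        (Subgroup.centralizer ({n} : Set N)) fun x => Subgroup.mem_centralizer_singleton_iff.mpr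
          (Subtype.ext (mul_inv_eq_iff_eq_mul.mp ((hmemHT _).mp x.2.2).2))) fun x x' h => ?_
      exact Subtype.ext (congrArg (fun w : Subgroup.centralizer ({n} : Set N) => ((w : N) : G)) h)
    have := he.two_dvd.trans hdvd
    omega
  have hdisj : ∀ x ∈ N, x ∈ D → x = 1 := fun x hxN hxD => by
    obtain ⟨w, hw, rfl⟩ := hxD
    obtain ⟨k, hk⟩ := IsPGroup.iff_orderOf.mp P.isPGroup' ⟨w, hw⟩
    rw [Subgroup.orderOf_mk] at hk
    have hd : orderOf ((w : G)) ∣ Nat.card (N ⊓ HT : Subgroup G) :=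
      (Subgroup.orderOf_mk (w : G) (Subgroup.mem_inf.mpr ⟨hxN, w.2⟩ : (w : G) ∈ N ⊓ HT)) ▸ orderOf_dvd_natCard _
    rw [Subgroup.orderOf_coe, hk] at hd
    refine orderOf_eq_one_iff.mp ?_
    show orderOf (w : G) = 1
    rw [Subgroup.orderOf_coe, hk]
    rcases k with _ | k
    · rfl
    · exact absurd ((dvd_pow_self 2 k.succ_ne_zero).trans hd) (fun h => Nat.not_even_iff_odd.mpr hcn (even_iff_two_dvd.mpr h))
  have hDcard : Nat.card N * Nat.card D = Nat.card T := by
    have hrel : N.relIndex HT = N.relIndex T := by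
      refine le_antisymm ?_ ?_
      · refine Subgroup.relIndex_le_of_le_right (inf_le_left : HT ≤ T) ?_
        exact (Nat.card_pos (α := ↥T ⧸ N.subgroupOf T)).ne'
      · show Nat.card (↥T ⧸ N.subgroupOf T) ≤ Nat.card (↥HT ⧸ N.subgroupOf HT)
        refine Nat.card_le_card_of_surjective (Quotient.map' (Subgroup.inclusion (inf_le_left : HT ≤ T)) ?_) ?_
        · intro p q hpq
          rw [QuotientGroup.leftRel_apply] at hpq ⊢
          exact hpq
        · intro q
          obtain ⟨t, rfl⟩ := QuotientGroup.mk_surjective q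
          obtain ⟨k, hk, hkn⟩ := hfix (t : G) ((mem_inertia N _ _).mp t.2)
          refine ⟨QuotientGroup.mk ⟨k * t, (hmemHT _).mpr ⟨T.mul_mem (hNT hk) t.2, hkn⟩⟩, ?_⟩
          refine QuotientGroup.eq.mpr ?_
          show (k * (t : G))⁻¹ * (t : G) ∈ N
          rw [show (k * (t : G))⁻¹ * (t : G) = (t : G)⁻¹ * k⁻¹ * ((t : G)⁻¹)⁻¹ by group]
          exact Subgroup.Normal.conj_mem inferInstance _ (N.inv_mem hk) _
    obtain ⟨j, hj⟩ : ∃ j, N.relIndex T = 2 ^ j := by
      obtain ⟨J, hJ⟩ := IsPGroup.iff_card.mp h2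
      rw [← Subgroup.index_eq_card] at hJ
      obtain ⟨j, -, hj⟩ := (Nat.dvd_prime_pow Nat.prime_two).mp (hJ ▸ Subgroup.relIndex_dvd_index_of_normal N T)
      exact ⟨j, hj⟩
    have hH : Nat.card (N ⊓ HT : Subgroup G) * 2 ^ j = Nat.card HT := by
      rw [← hj, ← hrel, ← Subgroup.card_mul_index ((N ⊓ HT).subgroupOf HT), Subgroup.inf_subgroupOf_right,
        Subgroup.relIndex, ← Subgroup.inf_subgroupOf_right N HT,
        Nat.card_congr (Subgroup.subgroupOfEquivOfLe (inf_le_right : N ⊓ HT ≤ HT)).toEquiv]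
    have hv : (Nat.card HT).factorization 2 = j := by
      rw [← hH, Nat.factorization_mul Nat.card_pos.ne' (pow_ne_zero _ (by norm_num)), Finsupp.add_apply,
        Nat.factorization_eq_zero_of_not_dvd (fun h => Nat.not_even_iff_odd.mpr hcn (even_iff_two_dvd.mpr h)),
        Nat.Prime.factorization_pow Nat.prime_two, Finsupp.single_eq_same, zero_add]
    rw [hD, Subgroup.card_map_of_injective HT.subtype_injective, P.card_eq_multiplicity, hv, ← hj,
      ← Subgroup.card_mul_index (N.subgroupOf T), Subgroup.relIndex,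
      Nat.card_congr (Subgroup.subgroupOfEquivOfLe hNT).toEquiv]
  -- pass to the inertia group
  set N' := N.subgroupOf T with hN'
  let eN : N' ≃* N := Subgroup.subgroupOfEquivOfLe hNT
  have heN : ∀ k : N', ((eN k : N) : G) = ((k : T) : G) := fun k => rfl
  let φ' : IrrCharacter N' := ⟨_, isIrrCharacter_comp_surjective φ.2 eN.toMonoidHom eN.surjective⟩
  have hTg : ∀ t ∈ T, g * t * g⁻¹ ∈ T := fun t ht => hXX _ _ (hXT _ _ ht hgX) (hXinv _ hgX)
  have hTg' : ∀ t ∈ T, g⁻¹ * t * g ∈ T := fun t ht => hXX _ _ (hXT _ _ ht (hXinv _ hgX)) hgX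
  let e : T ≃* T :=
    { toFun := fun t => ⟨g * t * g⁻¹, hTg t t.2⟩
      invFun := fun t => ⟨g⁻¹ * t * g, hTg' t t.2⟩
      left_inv := fun t => Subtype.ext (show g⁻¹ * (g * (t : G) * g⁻¹) * g = t by group)
      right_inv := fun t => Subtype.ext (show g * (g⁻¹ * (t : G) * g) * g⁻¹ = t by group)
      map_mul' := fun t s => Subtype.ext (show g * ((t : G) * s) * g⁻¹ = g * t * g⁻¹ * (g * s * g⁻¹) by group) }
  have hev : ∀ t, ((e t : T) : G) = g * t * g⁻¹ := fun _ => rfl
  obtain ⟨θ, hθN, -, hθind⟩ := exists_odd_extension N' hM φ'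
    (fun h => funext fun k => by
      show (φ : N → ℂ) (eN ⟨h * k * h⁻¹, _⟩) = (φ : N → ℂ) (eN k)
      exact congrFun ((mem_inertia N _ (h : G)).mp h.2) (eN k))
    (D.subgroupOf T)
    ((P.isPGroup'.map HT.subtype).of_injective
      ((Subgroup.subgroupOfEquivOfLe (fun x hx => (hDmem x hx).1 : D ≤ T)).toMonoidHom)
      (Subgroup.subgroupOfEquivOfLe _).injective)
    (fun x hxN hxD => Subtype.ext (hdisj _ hxN hxD))
    (by rw [Nat.card_congr eN.toEquiv, Nat.card_congr (Subgroup.subgroupOfEquivOfLe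
      (fun x hx => (hDmem x hx).1 : D ≤ T)).toEquiv, hDcard])
    ⟨⟨n, hNT n.2⟩, n.2⟩ hn
    (fun x hx => Subtype.ext (mul_inv_eq_iff_eq_mul.mp (hDmem _ hx).2).symm)
    e (Subtype.ext hgn)
    (fun x hx => by
      obtain ⟨w, hw, hwx⟩ := hx
      have hm : g * (w : G) * g⁻¹ ∈ HT := by
        obtain ⟨hhT, hhn⟩ := (hmemHT (w : G)).mp w.2
        refine (hmemHT _).mpr ⟨hTg _ hhT, ?_⟩
        have h1 : g⁻¹ * n * g = (n : G)⁻¹ := by
          conv_lhs => rw [← inv_inv (n : G), ← hgn]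
          group
        calc g * w * g⁻¹ * n * (g * w * g⁻¹)⁻¹ = g * ((w : G) * (g⁻¹ * n * g) * (w : G)⁻¹) * g⁻¹ := by group
          _ = g * (n : G)⁻¹ * g⁻¹ := by rw [h1, ← conj_inv, hhn]
          _ = (g * n * g⁻¹)⁻¹ := by group
          _ = n := by rw [hgn, inv_inv]
      exact ⟨⟨_, hm⟩, hgP w hw _ rfl, by
        show g * (w : G) * g⁻¹ = g * (x : G) * g⁻¹
        rw [show (w : G) = (x : G) from hwx]⟩)
    (fun k k' hk => by
      show (φ : N → ℂ) (eN k') = conj ((φ : N → ℂ) (eN k))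
      rw [show eN k' = ⟨g * (eN k : G) * g⁻¹, Subgroup.Normal.conj_mem inferInstance _ (eN k).2 g⟩ from
        Subtype.ext (show ((k' : T) : G) = _ from congrArg Subtype.val hk)]
      exact congrFun hgX (eN k))
    (fun x hx => (Subgroup.Normal.conj_mem (H := N) inferInstance _ hx g : g * (x : G) * g⁻¹ ∈ N))
    ⟨g * g, ((hmemHT _).mp hg2').1⟩ ⟨c, hcP, rfl⟩
    (fun t => Subtype.ext (show g * (g * (t : G) * g⁻¹) * g⁻¹ = g * g * t * (g * g)⁻¹ by group))
    (Subtype.ext (show g * (g * g) * g⁻¹ = g * g by group))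
  have hθ : ∀ k : N, (θ : T → ℂ) (Subgroup.inclusion hNT k) = (φ : N → ℂ) k := fun k =>
    hθN ⟨Subgroup.inclusion hNT k, k.2⟩
  have hone : classInner (fun k : N => (θ : T → ℂ) (Subgroup.inclusion hNT k)) (φ : N → ℂ) = 1 := by
    rw [show (fun k : N => (θ : T → ℂ) (Subgroup.inclusion hNT k)) = (φ : N → ℂ) from funext hθ, classInner_irr_self]
  refine ⟨⟨_, RealPPrime.isIrrCharacter_indFun_inertia N φ.2 hNT θ (by rw [hone]; exact one_ne_zero)⟩, ?_, ?_⟩
  · show (Nat.card G : ℂ)⁻¹ * ∑ x : G, indFun T (θ : T → ℂ) (x * x) = 1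
    rw [sqInd_indFun_twisted φ hNT θ hθ g hgX, ← hθind]
    congr 1
    refine Finset.sum_congr rfl fun t _ => ?_
    have he : (t : G) * g * ((t : G) * g) = ((t * (e t * ⟨g * g, ((hmemHT _).mp hg2').1⟩) : T) : G) := by
      show _ = (t : G) * (g * t * g⁻¹ * (g * g))
      group
    rw [he, extendByZero_mem T _ (Subtype.coe_prop _)]
  · show classInner (fun k : N => indFun T (θ : T → ℂ) k) (φ : N → ℂ) = 1
    have hval : (fun k : N => indFun T (θ : T → ℂ) k) = (Nat.card T : ℂ)⁻¹ • ∑ x : G, conjFun N (φ : N → ℂ) x⁻¹ := by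
      funext k
      rw [Pi.smul_apply, Finset.sum_apply, smul_eq_mul, indFun]
      congr 1
      refine Finset.sum_congr rfl fun x _ => ?_
      have hk : x⁻¹ * (k : G) * x ∈ N := by simpa using Subgroup.Normal.conj_mem (H := N) inferInstance _ k.2 x⁻¹
      rw [extendByZero_mem T _ (hNT hk)]
      refine (hθ ⟨_, hk⟩).trans (congrArg _ (Subtype.ext ?_))
      simp
    rw [hval, classInner_smul_left, classInner_sum_left]
    have h1 : ∀ x : G, classInner (conjFun N (φ : N → ℂ) x⁻¹) (φ : N → ℂ) = if x ∈ T then (1 : ℂ) else 0 := fun x => by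
      have := classInner_irr (⟨_, isIrrCharacter_conjFun N φ.2 x⁻¹⟩ : IrrCharacter N) φ
      rw [this]
      refine if_congr ?_ rfl rfl
      rw [Subtype.ext_iff, hT, ← inv_mem_iff (x := x), mem_inertia]
    rw [Finset.sum_congr rfl fun x _ => h1 x, Finset.sum_boole, ← Fintype.card_subtype, ← Nat.card_eq_fintype_card]
    exact inv_mul_cancel₀ (Nat.cast_ne_zero.mpr Nat.card_pos.ne')

end CfsgLib.Block.TwistedReal
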